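import Groth.Agent.CBC.Noeth

/-!
# Grauert's theorem and its relatives over locally Noetherian bases
-/

universe u

open CategoryTheory Limits Opposite TopologicalSpace AlgebraicGeometry Function TensorProduct

namespace Groth.Agent.CBC

variable {X S : Scheme.{u}} {f : X ⟶ S} [IsProper f] [IsLocallyNoetherian S] {F : X.Modules}
  (hF : Coh.IsCoh F) (hfl : FlatMod.IsFlatOver f F) (hfin : FinCoh.{u})

include hF hfl hfin

/-- the step from right exactness down -/
theorem lExact_rExact_of_flat_ker [F.IsQuasicoherent] {V : S.Opens} (hV : IsAffineOpen V)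
    (D : Model f V) {k : ℕ}
    (h : ∀ i, k ≤ i → ∀ w : (D.K F).Win i, Module.Flat Γ(S, V) (LinearMap.ker w.u)) :
    ∀ i, k ≤ i → (D.K F).RExact i ∧ (D.K F).LExact i := by
  have : IsNoetherianRing Γ(S, V) := IsLocallyNoetherian.component_noetherian ⟨V, hV⟩
  have hK := fun n => D.flat_K F hV hfl n
  have hL : ∀ i, k ≤ i → (D.K F).RExact i → (D.K F).LExact i := by
    intro i hi hr
    obtain ⟨w⟩ := nonempty_win hV D F hF hfl hfin i
    have := w.fp
    have := w.rExact_iff.1 hr
    have := h i hi w
    exact w.lExact_iff.2 (flat_source_of_flat_ker w.u)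
  have hR : ∀ j i, k ≤ i → Nat.card D.ι ≤ i + j → (D.K F).RExact i := by
    intro j
    induction j with
    | zero =>
      intro i _ hi M N _ _ _ _ g _ y
      have := subsingleton_H hV D F N i (by omega)
      exact ⟨0, Subsingleton.elim _ _⟩
    | succ j ih =>
      intro i hi hij
      exact (SCx.rExact_iff_lExact_succ _ i hK).2
        (hL (i + 1) (by omega) (ih (i + 1) (by omega) (by omega)))
  exact fun i hi => ⟨hR (Nat.card D.ι) i hi (by omega), hL i hi (hR (Nat.card D.ι) i hi (by omega))⟩

/-- all higher direct images from some degree on flat -/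
theorem good_of_flat_ker [F.IsQuasicoherent] {k : ℕ}
    (h : ∀ (V : S.Opens), IsAffineOpen V → ∀ (D : Model f V), ∀ i, k ≤ i →
      ∀ w : (D.K F).Win i, Module.Flat Γ(S, V) (LinearMap.ker w.u))
    {i : ℕ} (hi : k ≤ i) : Good f F i := fun V hV D w =>
  have h' := lExact_rExact_of_flat_ker hF hfl hfin hV D (h V hV D) i hi
  ⟨w.lExact_iff.1 h'.2, w.rExact_iff.1 h'.1⟩

/-- cohomology concentrated in one degree -/
theorem good_of_concentrated [HasInjectiveResolutions X.Modules] (i₀ : ℕ)
    (hconc : ∀ y : S, ∀ i : ℕ, i ≠ i₀ → Subsingleton (CohIII.fiberH f F y i)) :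
    Good f F i₀ := by
  intro V hV D w
  have : F.IsQuasicoherent := hF.1
  have : IsNoetherianRing Γ(S, V) := IsLocallyNoetherian.component_noetherian ⟨V, hV⟩
  have hK := fun n => D.flat_K F hV hfl n
  have hex : ∀ i, i ≠ i₀ → (D.K F).RExact i ∧ (D.K F).LExact i := fun i hi => by
    obtain ⟨w'⟩ := nonempty_win hV D F hF hfl hfin i
    obtain ⟨h1, h2⟩ := good_of_fibres_zero hF (fun y => hconc y i hi) V hV D w'
    exact ⟨w'.rExact_iff.2 h2, w'.lExact_iff.2 h1⟩
  have hL : (D.K F).LExact i₀ := by
    rcases i₀ with _ | j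
    · exact lExact_zero _ hK
    · exact (SCx.rExact_iff_lExact_succ _ j hK).1 (hex j (by omega)).1
  have hR : (D.K F).RExact i₀ :=
    (SCx.rExact_iff_lExact_succ _ i₀ hK).2 (hex (i₀ + 1) (by omega)).2
  exact ⟨w.lExact_iff.1 hL, w.rExact_iff.1 hR⟩

/-- Grauert -/
theorem good_of_isLocallyConstant [IsReduced S] {p : ℕ}
    (hc : IsLocallyConstant (CohIII.fiberRank f F p)) : Good f F p := by
  intro V hV D w
  have : F.IsQuasicoherent := hF.1
  have := w.fp
  exact flat_of_isLocallyConstant w.u (isLocallyConstant_kerRank_of hV D w hc)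

/-- the higher direct images vanish in positive degrees -/
theorem pushforward_of_isZero [HasInjectiveResolutions X.Modules]
    (hR : ∀ i : ℕ, 0 < i → IsZero ((Coh.Rpush f i).obj F)) :
    (∀ y : S, ∀ i : ℕ, 0 < i → Subsingleton (CohIII.fiberH f F y i)) ∧ Good f F 0 := by
  have : F.IsQuasicoherent := hF.1
  have hflat : ∀ (V : S.Opens), IsAffineOpen V → ∀ (D : Model f V), ∀ i, 1 ≤ i →
      ∀ w : (D.K F).Win i, Module.Flat Γ(S, V) (LinearMap.ker w.u) := fun V hV D i hi w => by
    have := subsingleton_ker_of_isZero hV D w (hR i hi)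
    infer_instance
  constructor
  · refine fun y i hi => ?_
    obtain ⟨_, ⟨V, hV, rfl⟩, hy, -⟩ :=
      S.isBasis_affineOpens.exists_subset_of_mem_open (Set.mem_univ y) isOpen_univ
    obtain ⟨D, hD⟩ := exists_model_win hF hfl hfin hV
    obtain ⟨w⟩ := hD i
    have := w.fp
    have := (good_of_flat_ker hF hfl hfin hflat hi V hV D w).2
    let x := hV.primeIdealOf ⟨y, hy⟩
    have := subsingleton_ker_of_isZero hV D w (hR i hi)
    have : Subsingleton (LinearMap.ker (w.u.baseChange x.asIdeal.ResidueField)) :=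
      (kerBC_bijective_of_flat w.u x.asIdeal.ResidueField).2.subsingleton
    rw [subsingleton_fiberH_iff hV y hy D w, fiberRank_eq hV y hy D w]
    exact Module.finrank_zero_of_subsingleton
  · intro V hV D w
    have hK := fun n => D.flat_K F hV hfl n
    have h1 := (lExact_rExact_of_flat_ker hF hfl hfin hV D (hflat V hV D) 1 le_rfl).2
    exact ⟨w.lExact_iff.1 (lExact_zero _ hK),
      w.rExact_iff.1 ((SCx.rExact_iff_lExact_succ _ 0 hK).2 h1)⟩

/-- all higher direct images finite locally free -/
theorem good_of_finLocFree [HasInjectiveResolutions X.Modules]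
    (hlf : ∀ i : ℕ, FlatMod.IsFinLocFree ((Coh.Rpush f i).obj F)) (i : ℕ) : Good f F i := by
  have : F.IsQuasicoherent := hF.1
  refine good_of_flat_ker hF hfl hfin (k := 0) (fun V hV D j _ w => ?_) (Nat.zero_le i)
  have := isQuasicoherent_Rpush f F j
  have := Props.QProj.projective_sections _ (hlf j) hV
  exact Module.Flat.of_linearEquiv (secKer hV D w).symm

end Groth.Agent.CBC
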