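import Groth.Agent.CBC.CechBC
import Groth.Agent.FlatOpen.Descend
import Groth.Agent.LimLib.FGSub
import Groth.Agent.LimLib.Proper
import Groth.Agent.ConsPairLib.ModLoci
import Groth.Agent.Props.QFP
import Groth.Agent.PullStalk.Exact

/-!
# Proper morphisms with flat modules over Noetherian stages
-/

set_option maxHeartbeats 400000

universe u

open CategoryTheory CategoryTheory.Limits Opposite TopologicalSpace AlgebraicGeometry Function
  TensorProduct

namespace Groth.Agent.CBC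

/-- flatness of a base change goes up along a map of algebras -/
theorem flat_tensor_of_algHom {R B B' : Type u} [CommRing R] [CommRing B] [CommRing B'] [Algebra R B]
    [Algebra R B'] (e : B →ₐ[R] B') (M : Type u) [AddCommGroup M] [Module R M]
    (h : Module.Flat B (B ⊗[R] M)) : Module.Flat B' (B' ⊗[R] M) := by
  letI := e.toRingHom.toAlgebra
  haveI : IsScalarTower R B B' := IsScalarTower.of_algebraMap_eq fun a => (e.commutes a).symm
  exact Module.Flat.of_linearEquiv (AlgebraTensorModule.cancelBaseChange R B B' B' M).symm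

/-- flatness over the base is invariant under isomorphisms -/
theorem isFlatOverAt_congr_iso {X S : Scheme.{u}} (f : X ⟶ S) {M N : X.Modules} (e : M ≅ N) (x : X) :
    FlatMod.IsFlatOverAt f M x ↔ FlatMod.IsFlatOverAt f N x := by
  let := FlatMod.moduleStalkOver f M x
  let := FlatMod.moduleStalkOver f N x
  have hbij : Bijective (PullStalk.Exact.stalkLin e.hom x) :=
    haveI : IsIso ((TopCat.Presheaf.stalkFunctor Ab.{u} x).map e.hom.mapPresheaf) :=
      Functor.map_isIso (Scheme.Modules.toPresheaf X ⋙ TopCat.Presheaf.stalkFunctor Ab.{u} x) e.hom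
    ConcreteCategory.bijective_of_isIso ((TopCat.Presheaf.stalkFunctor Ab x).map e.hom.mapPresheaf)
  let l : M.presheaf.stalk x →ₗ[S.presheaf.stalk (f.base x)] N.presheaf.stalk x :=
    { toFun := PullStalk.Exact.stalkLin e.hom x
      map_add' := map_add _
      map_smul' := fun r m => (PullStalk.Exact.stalkLin e.hom x).map_smul ((f.stalkMap x).hom r) m }
  exact Module.Flat.equiv_iff (LinearEquiv.ofBijective l hbij)

section Alg

variable {R R' : Type u} [CommRing R] [CommRing R'] (φ : R →+* R')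

/-- `R'` over the functions of `Spec R` -/
@[reducible] noncomputable def stageAlg :
    Algebra Γ(Spec (CommRingCat.of R), ⊤) R' :=
  (φ.comp (Scheme.ΓSpecIso (CommRingCat.of R)).hom.hom).toAlgebra

lemma spec_appLE_top (a : Γ(Spec (CommRingCat.of R), ⊤)) :
    (Scheme.ΓSpecIso (CommRingCat.of R')).hom ((Spec.map (CommRingCat.ofHom φ)).appLE ⊤ ⊤ le_top a) =
      φ ((Scheme.ΓSpecIso (CommRingCat.of R)).hom a) := by
  rw [Scheme.Hom.appLE, ← ConcreteCategory.comp_apply]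
  exact congr($(show ((Spec.map (CommRingCat.ofHom φ)).app ⊤ ≫ _) ≫ (Scheme.ΓSpecIso _).hom =
    (Scheme.ΓSpecIso _).hom ≫ CommRingCat.ofHom φ by
      rw [← Scheme.ΓSpecIso_naturality (CommRingCat.ofHom φ)]
      simp) a)

/-- flatness of the base change, read on the spectrum -/
theorem flat_spec_tensor_iff (M : Type u) [AddCommGroup M] [Module Γ(Spec (CommRingCat.of R), ⊤) M] :
    letI := stageAlg φ
    letI := ((Spec.map (CommRingCat.ofHom φ)).appLE ⊤ ⊤ le_top).hom.toAlgebra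
    Module.Flat Γ(Spec (CommRingCat.of R'), ⊤)
        (Γ(Spec (CommRingCat.of R'), ⊤) ⊗[Γ(Spec (CommRingCat.of R), ⊤)] M) ↔
      Module.Flat R' (R' ⊗[Γ(Spec (CommRingCat.of R), ⊤)] M) := by
  letI := stageAlg φ
  letI := ((Spec.map (CommRingCat.ofHom φ)).appLE ⊤ ⊤ le_top).hom.toAlgebra
  let e : Γ(Spec (CommRingCat.of R'), ⊤) ≃ₐ[Γ(Spec (CommRingCat.of R), ⊤)] R' :=
    { (Scheme.ΓSpecIso (CommRingCat.of R')).commRingCatIsoToRingEquiv with
      commutes' := spec_appLE_top φ }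
  exact ⟨flat_tensor_of_algHom e.toAlgHom M, flat_tensor_of_algHom e.symm.toAlgHom M⟩

end Alg

section Flat

variable {R R' : Type u} [CommRing R] [CommRing R'] (φ : R →+* R') {X₁ X' : Scheme.{u}}
  (u₁ : X₁ ⟶ Spec (CommRingCat.of R)) (u' : X' ⟶ Spec (CommRingCat.of R')) (q : X' ⟶ X₁)
  (H : IsPullback q u' u₁ (Spec.map (CommRingCat.ofHom φ))) (G : X₁.Modules) [G.IsQuasicoherent]
  {U : X₁.Opens} (hU : IsAffineOpen U)

include H hU in
/-- flatness over a stage, read on an affine chart -/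
theorem flat_tensor_of_isFlatOver
    (h : ∀ x, x ∈ q ⁻¹ᵁ U → FlatMod.IsFlatOverAt u' ((Scheme.Modules.pullback q).obj G) x) :
    letI := stageAlg φ
    Module.Flat R' (R' ⊗[Γ(Spec (CommRingCat.of R), ⊤)]
      Sec (u₁.app ⊤).hom G (le_top : U ≤ u₁ ⁻¹ᵁ ⊤)) := by
  letI := stageAlg φ
  letI := ((Spec.map (CommRingCat.ofHom φ)).appLE ⊤ ⊤ le_top).hom.toAlgebra
  refine (flat_spec_tensor_iff φ _).1 ?_
  have := QCoh.isQuasicoherent_pullback q G
  have hV' : LFDesc.over q u' (⊤ : (Spec (CommRingCat.of R')).Opens) U ≤ u' ⁻¹ᵁ ⊤ := le_top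
  have hp : LFDesc.over q u' (⊤ : (Spec (CommRingCat.of R')).Opens) U ≤ q ⁻¹ᵁ U := inf_le_left
  have haff : IsAffineOpen (LFDesc.over q u' (⊤ : (Spec (CommRingCat.of R')).Opens) U) := by
    haveI : IsAffine _ := hU
    haveI : IsAffine _ := isAffineOpen_top (Spec (CommRingCat.of R))
    haveI : IsAffine _ := isAffineOpen_top (Spec (CommRingCat.of R'))
    exact .of_isIso (Scheme.Hom.isPullback_resLE H (show (⊤ : (Spec (CommRingCat.of R')).Opens) ≤ Spec.map (CommRingCat.ofHom φ) ⁻¹ᵁ ⊤ from le_top) (show U ≤ u₁ ⁻¹ᵁ ⊤ from le_top) rfl).isoPullback.hom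
  have := flat_sec u' (isAffineOpen_top _) ((Scheme.Modules.pullback q).obj G) haff hV'
    fun x hx => h x (hp hx)
  exact Module.Flat.of_linearEquiv (LinearEquiv.ofBijective _
    (kBC_bijective u₁ (Spec.map (CommRingCat.ofHom φ)) q u' le_top rfl G H.w le_top hp hV' H
      (isAffineOpen_top _) (isAffineOpen_top _) hU rfl))

include H hU in
/-- flatness over a stage from an affine chart -/
theorem isFlatOverAt_of_flat_tensor
    (hflat : letI := stageAlg φ
      Module.Flat R' (R' ⊗[Γ(Spec (CommRingCat.of R), ⊤)]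
        Sec (u₁.app ⊤).hom G (le_top : U ≤ u₁ ⁻¹ᵁ ⊤)))
    (x : X') (hx : x ∈ q ⁻¹ᵁ U) :
    FlatMod.IsFlatOverAt u' ((Scheme.Modules.pullback q).obj G) x := by
  letI := stageAlg φ
  letI := ((Spec.map (CommRingCat.ofHom φ)).appLE ⊤ ⊤ le_top).hom.toAlgebra
  have := QCoh.isQuasicoherent_pullback q G
  let O := LFDesc.over q u' (⊤ : (Spec (CommRingCat.of R')).Opens) U
  have hV' : O ≤ u' ⁻¹ᵁ ⊤ := le_top
  have haff : IsAffineOpen O := by
    haveI : IsAffine _ := hU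
    haveI : IsAffine _ := isAffineOpen_top (Spec (CommRingCat.of R))
    haveI : IsAffine _ := isAffineOpen_top (Spec (CommRingCat.of R'))
    exact .of_isIso (Scheme.Hom.isPullback_resLE H (show (⊤ : (Spec (CommRingCat.of R')).Opens) ≤ Spec.map (CommRingCat.ofHom φ) ⁻¹ᵁ ⊤ from le_top) (show U ≤ u₁ ⁻¹ᵁ ⊤ from le_top) rfl).isoPullback.hom
  haveI h0 := (flat_spec_tensor_iff φ _).2 hflat
  have hflat' : Module.Flat Γ(Spec (CommRingCat.of R'), ⊤)
      (Sec (u'.app ⊤).hom ((Scheme.Modules.pullback q).obj G) hV') :=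
    Module.Flat.of_linearEquiv (LinearEquiv.ofBijective _
      (kBC_bijective u₁ (Spec.map (CommRingCat.ofHom φ)) q u' le_top rfl G H.w le_top
        (inf_le_left : O ≤ q ⁻¹ᵁ U) hV' H (isAffineOpen_top _) (isAffineOpen_top _) hU rfl)).symm
  have hxO : x ∈ O := ⟨hx, trivial⟩
  refine (FlatOpen.Scheme.isFlatOverAt_iff u' (isAffineOpen_top _) haff hV' x hxO _).2 ?_
  letI := (u'.appLE ⊤ O hV').hom.toAlgebra
  letI : Module Γ(Spec (CommRingCat.of R'), ⊤) Γ((Scheme.Modules.pullback q).obj G, O) :=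
    Module.compHom _ (u'.appLE ⊤ O hV').hom
  haveI : IsScalarTower Γ(Spec (CommRingCat.of R'), ⊤) Γ(X', O)
      Γ((Scheme.Modules.pullback q).obj G, O) :=
    IsScalarTower.of_algebraMap_smul fun _ _ => rfl
  haveI : Module.Flat Γ(Spec (CommRingCat.of R'), ⊤) Γ((Scheme.Modules.pullback q).obj G, O) := hflat'
  exact FlatMor.FlatAtBC.flat_localizedModule _ (AssSch.Stalk.primeOf haff x hxO).primeCompl _

end Flat

section Stage

variable {A : Type u} [CommRing A]

/-- inclusions of finitely generated subalgebras -/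
noncomputable abbrev incl {A₁ A₂ : Subalgebra ℤ A} (h : A₁ ≤ A₂) : A₁ →+* A₂ :=
  (Subalgebra.inclusion h).toRingHom

/-- flatness is reached at a finitely generated stage, on one chart -/
theorem exists_flat_stage_chart (A₁ : Subalgebra ℤ A) (hA₁ : A₁.FG) {X₁ : Scheme.{u}}
    (u₁ : X₁ ⟶ Spec (CommRingCat.of A₁)) [LocallyOfFinitePresentation u₁] (G : X₁.Modules)
    [G.IsQuasicoherent] (hG : CohB1.IsFP G) {U : X₁.Opens} (hU : IsAffineOpen U)
    (h : letI := stageAlg A₁.val.toRingHom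
      Module.Flat A (A ⊗[Γ(Spec (CommRingCat.of A₁), ⊤)]
        Sec (u₁.app ⊤).hom G (le_top : U ≤ u₁ ⁻¹ᵁ ⊤))) :
    ∃ A₂ : Subalgebra ℤ A, A₂.FG ∧ ∃ hle : A₁ ≤ A₂,
      letI := stageAlg (incl hle)
      Module.Flat A₂ (A₂ ⊗[Γ(Spec (CommRingCat.of A₁), ⊤)]
        Sec (u₁.app ⊤).hom G (le_top : U ≤ u₁ ⁻¹ᵁ ⊤)) := by
  let ι := {A₂ : Subalgebra ℤ A // A₂.FG ∧ A₁ ≤ A₂}
  let R := Γ(Spec (CommRingCat.of A₁), ⊤)
  letI := stageAlg A₁.val.toRingHom
  letI : ∀ i : ι, Algebra R i.1 := fun i => stageAlg (incl i.2.2)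
  haveI : ∀ i : ι, IsScalarTower R i.1 A := fun i => IsScalarTower.of_algebraMap_eq fun _ => rfl
  let B := Γ(X₁, U)
  letI : Algebra R B := (u₁.appLE ⊤ U le_top).hom.toAlgebra
  haveI : Algebra.FinitePresentation R B :=
    u₁.finitePresentation_appLE (isAffineOpen_top _) hU le_top
  have hFP : SheafOfModules.IsFinitePresentation.{u} G := hG
  let M := Sec (u₁.app ⊤).hom G (le_top : U ≤ u₁ ⁻¹ᵁ ⊤)
  letI : Module B M := show Module Γ(X₁, U) Γ(G, U) from inferInstance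
  haveI : IsScalarTower R B M := IsScalarTower.of_algebraMap_smul fun _ _ => rfl
  haveI : Module.FinitePresentation B M := Props.QFP.finitePresentation_sections_of_isFP G hU
  haveI := h
  obtain ⟨⟨A₂, hA₂, hle⟩, hflat⟩ := FlatOpen.exists_stage_flat (A₀ := R) (fun i : ι => i.1)
    (fun _ _ hij => incl hij) (fun _ _ _ => rfl) A
    (by
      refine ⟨⟨fun i j => ⟨⟨i.1 ⊔ j.1, i.2.1.sup j.2.1, i.2.2.trans le_sup_left⟩,
        le_sup_left (a := i.1) (b := j.1), le_sup_right (a := i.1) (b := j.1)⟩⟩,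
        ⟨⟨A₁, hA₁, le_rfl⟩⟩, fun _ => rfl, fun _ _ _ _ _ => rfl, fun _ _ _ => rfl, fun a => ?_,
        fun i x hx => ⟨i, le_rfl, ?_⟩⟩
      · exact ⟨⟨A₁ ⊔ Algebra.adjoin ℤ {a}, hA₁.sup ⟨{a}, by simp⟩, le_sup_left⟩,
          ⟨a, (le_sup_right : _ ≤ A₁ ⊔ Algebra.adjoin ℤ {a}) (Algebra.subset_adjoin rfl)⟩, rfl⟩
      · have : x = 0 := Subtype.ext hx
        simp [this])
    (B₀ := B) M
  exact ⟨A₂, hA₂, hle, hflat⟩

/-- flatness is reached at a finitely generated stage -/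
theorem exists_flat_stage (A₁ : Subalgebra ℤ A) (hA₁ : A₁.FG) {X₁ X : Scheme.{u}}
    (u₁ : X₁ ⟶ Spec (CommRingCat.of A₁)) [LocallyOfFinitePresentation u₁] [QuasiCompact u₁]
    (u : X ⟶ Spec (CommRingCat.of A)) (q : X ⟶ X₁)
    (H : IsPullback q u u₁ (Spec.map (CommRingCat.ofHom A₁.val.toRingHom))) (G : X₁.Modules)
    [G.IsQuasicoherent] (hG : CohB1.IsFP G)
    (hfl : FlatMod.IsFlatOver u ((Scheme.Modules.pullback q).obj G)) :
    ∃ A₂ : Subalgebra ℤ A, A₂.FG ∧ ∃ hle : A₁ ≤ A₂,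
      FlatMod.IsFlatOver (pullback.snd u₁ (Spec.map (CommRingCat.ofHom (incl hle))))
        ((Scheme.Modules.pullback (pullback.fst u₁ _)).obj G) := by
  classical
  have : CompactSpace X₁ := QuasiCompact.compactSpace_of_compactSpace u₁
  let 𝒰 := X₁.affineCover.finiteSubcover
  let U := fun j : 𝒰.I₀ => (𝒰.f j).opensRange
  have hU : ∀ j, IsAffineOpen (U j) := fun j => isAffineOpen_opensRange _
  haveI : Finite 𝒰.I₀ := inferInstance
  cases nonempty_fintype 𝒰.I₀
  choose B hB hle hflat using fun j => exists_flat_stage_chart A₁ hA₁ u₁ G hG (hU j)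
    (flat_tensor_of_isFlatOver A₁.val.toRingHom u₁ u q H G (hU j) fun x _ => hfl x)
  have hA₂ : (A₁ ⊔ Finset.univ.sup B).FG :=
    hA₁.sup (Finset.sup_induction (p := fun S : Subalgebra ℤ A => S.FG) Subalgebra.fg_bot
      (fun _ ha _ hb => ha.sup hb) fun j _ => hB j)
  refine ⟨_, hA₂, le_sup_left, fun x => ?_⟩
  obtain ⟨j, y, hy⟩ : ∃ j y, (𝒰.f j) y = pullback.fst u₁ _ x :=
    ⟨_, 𝒰.covers (pullback.fst u₁ _ x)⟩
  refine isFlatOverAt_of_flat_tensor _ u₁ _ _ (IsPullback.of_hasPullback _ _) G (hU j) ?_ x ⟨y, hy⟩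
  letI := stageAlg (incl (hle j))
  letI := stageAlg (incl (le_sup_left : A₁ ≤ A₁ ⊔ Finset.univ.sup B))
  exact flat_tensor_of_algHom
    (AlgHom.mk (incl ((Finset.le_sup (f := B) (Finset.mem_univ j)).trans le_sup_right))
      fun _ => rfl) _ (hflat j)

/-- a proper morphism of finite presentation with a flat module comes from a Noetherian base -/
theorem exists_noetherian_model {X : Scheme.{u}} (u : X ⟶ Spec (CommRingCat.of A)) [IsProper u]
    [LocallyOfFinitePresentation u] (F : X.Modules) [F.IsQuasicoherent] (hF : CohB1.IsFP F)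
    (hfl : FlatMod.IsFlatOver u F) :
    ∃ (A₀ : Subalgebra ℤ A) (X₀ : Scheme.{u}) (u₀ : X₀ ⟶ Spec (CommRingCat.of A₀)) (q : X ⟶ X₀)
      (F₀ : X₀.Modules), A₀.FG ∧ IsProper u₀ ∧
        IsPullback q u u₀ (Spec.map (CommRingCat.ofHom A₀.val.toRingHom)) ∧ Coh.IsCoh F₀ ∧
        FlatMod.IsFlatOver u₀ F₀ ∧ Nonempty ((Scheme.Modules.pullback q).obj F₀ ≅ F) := by
  classical
  let D := LimLib.fgDiagram ℤ A
  let c := LimLib.fgCone ℤ A
  have hc : IsLimit c := LimLib.isLimitFgCone ℤ A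
  have : CompactSpace X := QuasiCompact.compactSpace_of_compactSpace u
  have : QuasiSeparatedSpace X := quasiSeparatedSpace_of_quasiSeparated u
  obtain ⟨k, Xk, uk, g, h₁, h₂, h₃, sq⟩ := @LimLib.hasModel _ _ _ _ _ hc _ _ _ X u ‹LocallyOfFinitePresentation u› ‹_› ‹_›
  obtain ⟨m, φ, hm⟩ := LimLib.descends_isProper D c hc (fun _ _ _ => inferInstance)
    (fun _ => inferInstance) (fun _ => inferInstance) k Xk uk h₂ h₃ inferInstance X g u sq ‹_›
  obtain ⟨a₁, a₂, a₃, sqm⟩ := LimLib.HasModel.at_finer (c := c) (f := (u : X ⟶ c.pt)) h₁ h₂ h₃ sq φ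
  let cm := LimLib.bcCone (D := D) (c := c) (i₀ := m) (g₀ := pullback.snd uk (D.map φ)) sqm
  let Fm : cm.pt.Modules := F
  haveI : Fm.IsQuasicoherent := ‹F.IsQuasicoherent›
  obtain ⟨j, -, G, hGq, hG, ⟨e⟩⟩ := LimTop.exists_model
    (D := LimLib.bcDiag D m (pullback.snd uk (D.map φ))) (c := cm)
    (LimLib.isLimitBcCone (D := D) (c := c) (i₀ := m) (g₀ := pullback.snd uk (D.map φ)) hc sqm) (i₀ := Over.mk (𝟙 m)) Fm hF
  let A₁ : Subalgebra ℤ A := Algebra.adjoin ℤ (j.left.unop : Set A)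
  have hA₁ : A₁.FG := ⟨j.left.unop, rfl⟩
  let X₁ := (LimLib.bcDiag D m (pullback.snd uk (D.map φ))).obj j
  let u₁ : X₁ ⟶ Spec (CommRingCat.of A₁) :=
    (LimLib.bcι D m (pullback.snd uk (D.map φ))).app j
  haveI : IsProper u₁ := MorphismProperty.pullback_snd (P := @IsProper) _ _ hm
  haveI : LocallyOfFinitePresentation u₁ :=
    MorphismProperty.pullback_snd (P := @LocallyOfFinitePresentation) _ _ a₁
  let q₁ : X ⟶ X₁ := (LimLib.bcCone (D := D) (c := c) (i₀ := m) (g₀ := pullback.snd uk (D.map φ)) sqm).π.app j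
  have H₁ : IsPullback q₁ u u₁ (Spec.map (CommRingCat.ofHom A₁.val.toRingHom)) :=
    LimLib.isPullback_bcCone (D := D) (c := c) (i₀ := m) (g₀ := pullback.snd uk (D.map φ)) sqm j
  have hfl₁ : FlatMod.IsFlatOver u ((Scheme.Modules.pullback q₁).obj G) :=
    fun x => (isFlatOverAt_congr_iso u e x).2 (hfl x)
  obtain ⟨A₂, hA₂, hle, hfl₂⟩ := exists_flat_stage A₁ hA₁ u₁ u q₁ H₁ G hG hfl₁
  let T := Spec.map (CommRingCat.ofHom (incl hle))
  let q : X ⟶ pullback u₁ T :=
    pullback.lift q₁ (u ≫ Spec.map (CommRingCat.ofHom A₂.val.toRingHom)) (by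
      rw [H₁.w, Category.assoc, ← Spec.map_comp]
      rfl)
  obtain ⟨hGq', hGfp'⟩ := ConsPairLib.isFP_pullback (pullback.fst u₁ T) G hG
  refine ⟨A₂, _, pullback.snd u₁ T, q, _, hA₂, inferInstance, ?_,
    ConsPairLib.isCoh_of_isFP _ hGfp', hfl₂,
    ⟨(Scheme.Modules.pullbackComp q (pullback.fst u₁ T)).app G ≪≫
      (Scheme.Modules.pullbackCongr (pullback.lift_fst _ _ _)).app G ≪≫ e⟩⟩
  refine IsPullback.of_right (h₁₂ := pullback.fst u₁ T) (v₁₃ := u₁) (h₂₂ := T) ?_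
    (pullback.lift_snd _ _ _) (IsPullback.of_hasPullback _ _)
  rw [pullback.lift_fst, ← Spec.map_comp]
  exact H₁

end Stage

end Groth.Agent.CBC
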