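import Groth.Agent.CBC.Rel

/-!
# Fibres through Čech models
-/

universe u

open CategoryTheory Limits Opposite TopologicalSpace AlgebraicGeometry Function TensorProduct

namespace Groth.Agent.CBC

variable {X S : Scheme.{u}} (f : X ⟶ S) {V : S.Opens} (hV : IsAffineOpen V) (y : S) (hy : y ∈ V)

/-- the residue field as an algebra over the sections -/
@[reducible] noncomputable def evalAlg : Algebra Γ(S, V) (S.residueField y) :=
  (S.evaluation V y hy).hom.toAlgebra

lemma inv_map_appLE' {A B : CommRingCat.{u}} (φ : A ⟶ B) (W : (Spec A).Opens) (hW : W ≤ ⊤)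
    (e : ⊤ ≤ Spec.map φ ⁻¹ᵁ W) (hW' : W = ⊤) :
    (Scheme.ΓSpecIso A).inv ≫ (Spec A).presheaf.map (homOfLE hW).op ≫
      (Spec.map φ).appLE W ⊤ e = φ ≫ (Scheme.ΓSpecIso B).inv := by
  subst hW'
  rw [Scheme.Hom.map_appLE, Scheme.ΓSpecIso_inv_naturality]
  congr 1

include hy in
lemma fromSpecResidueField_le : ⊤ ≤ S.fromSpecResidueField y ⁻¹ᵁ V := fun z _ => by
  change S.fromSpecResidueField y z ∈ V
  rw [Scheme.fromSpecResidueField_apply]
  exact hy

lemma fromSpecResidueField_appLE :
    (S.fromSpecResidueField y).appLE V ⊤ (fromSpecResidueField_le y hy) =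
      S.evaluation V y hy ≫ (Scheme.ΓSpecIso (S.residueField y)).inv := by
  have h : ∀ e, (Spec.map (S.residue y) ≫ S.fromSpecStalk y).appLE V ⊤ e =
      S.evaluation V y hy ≫ (Scheme.ΓSpecIso (S.residueField y)).inv := by
    intro e
    rw [Scheme.Hom.comp_appLE, Scheme.fromSpecStalk_app hy, Category.assoc, Category.assoc,
      ← Scheme.germ_residue, Category.assoc]
    congr 1
    refine inv_map_appLE' _ _ _ _ (top_unique fun z _ => ?_)
    obtain ⟨w, hw⟩ : ∃ w, w = z := ⟨z, rfl⟩
    exact (Scheme.range_fromSpecStalk.le ⟨z, rfl⟩ : S.fromSpecStalk y z ⤳ y).mem_open V.2 hy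
  exact h (fromSpecResidueField_le y hy)

lemma fromSpecResidueField_appLE_apply (a : Γ(S, V)) :
    letI := evalAlg y hy
    (S.fromSpecResidueField y).appLE V ⊤ (fromSpecResidueField_le y hy) a =
      (Scheme.ΓSpecIso (CommRingCat.of (S.residueField y))).inv
        (algebraMap Γ(S, V) (S.residueField y) a) := by
  rw [fromSpecResidueField_appLE]
  rfl

include hV in
lemma ker_eval :
    RingHom.ker (S.evaluation V y hy).hom = (hV.primeIdealOf ⟨y, hy⟩).asIdeal := by
  ext a
  rw [RingHom.mem_ker]
  refine (S.evaluation_eq_zero_iff_notMem_basicOpen y hy a).trans ?_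
  have : y ∈ S.basicOpen a ↔ hV.primeIdealOf ⟨y, hy⟩ ∈ PrimeSpectrum.basicOpen a := by
    rw [← hV.fromSpec_preimage_basicOpen]
    change _ ↔ hV.fromSpec (hV.primeIdealOf ⟨y, hy⟩) ∈ S.basicOpen a
    rw [hV.fromSpec_primeIdealOf]
  rw [this, PrimeSpectrum.mem_basicOpen, not_not]

variable {f} (D : Model f V) (F : X.Modules) [F.IsQuasicoherent]

/-- `ringEquiv` for a bundled ring -/
noncomputable def ringEquivCat {X' : Scheme.{u}} {R : CommRingCat.{u}} (g : Spec R ⟶ S) (p : X' ⟶ X)
    (q : X' ⟶ Spec R) (H : IsPullback p q f g) (hT : ⊤ ≤ g ⁻¹ᵁ V) [Algebra Γ(S, V) R]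
    (halg : ∀ a, g.appLE V ⊤ hT a =
      (Scheme.ΓSpecIso (CommRingCat.of R)).inv (algebraMap Γ(S, V) R a)) (n : ℕ) :
    (D.K F).H R n ≃+ Coh.HH X' ((Scheme.Modules.pullback p).obj F) n :=
  ringEquiv (R := R) g p q hV D F H hT halg n

lemma ringEquivCat_smul {X' : Scheme.{u}} {R : CommRingCat.{u}} (g : Spec R ⟶ S) (p : X' ⟶ X)
    (q : X' ⟶ Spec R) (H : IsPullback p q f g) (hT : ⊤ ≤ g ⁻¹ᵁ V) [Algebra Γ(S, V) R]
    (halg : ∀ a, g.appLE V ⊤ hT a =
      (Scheme.ΓSpecIso (CommRingCat.of R)).inv (algebraMap Γ(S, V) R a)) (n : ℕ) (r : R)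
    (x : (D.K F).H R n) :
    ringEquivCat hV D F g p q H hT halg n
        ((D.K F).Hmap (LinearMap.mulLeft Γ(S, V) r) n x) =
      Coh.toGlobal (A := R) q r • ringEquivCat hV D F g p q H hT halg n x :=
  ringEquiv_smul (R := R) g p q hV D F H hT halg n r x

/-- cohomology of the fibre through the complex -/
noncomputable def fibEquiv (n : ℕ) :
    letI := evalAlg y hy
    (D.K F).H (S.residueField y) n ≃+ CohIII.fiberH f F y n :=
  letI := evalAlg y hy
  ringEquivCat hV D F (S.fromSpecResidueField y) (f.fiberι y) (f.fiberToSpecResidueField y)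
    (IsPullback.of_hasPullback f (S.fromSpecResidueField y))
    (fromSpecResidueField_le y hy) (fromSpecResidueField_appLE_apply y hy) n

lemma fibEquiv_smul (n : ℕ) (r : S.residueField y) :
    letI := evalAlg y hy
    ∀ x : (D.K F).H (S.residueField y) n,
      fibEquiv hV y hy D F n ((D.K F).Hmap (LinearMap.mulLeft Γ(S, V) r) n x) =
        r • fibEquiv hV y hy D F n x :=
  letI := evalAlg y hy
  fun x => ringEquivCat_smul hV D F (S.fromSpecResidueField y) (f.fiberι y)
    (f.fiberToSpecResidueField y) (IsPullback.of_hasPullback f (S.fromSpecResidueField y))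
    (fromSpecResidueField_le y hy) (fromSpecResidueField_appLE_apply y hy) n r x

variable {F}
variable {p : ℕ} (w : (D.K F).Win p)

/-- cohomology of the fibre as a kernel -/
noncomputable def fibKer :
    letI := evalAlg y hy
    CohIII.fiberH f F y p ≃ₗ[S.residueField y]
      LinearMap.ker (w.u.baseChange (S.residueField y)) :=
  letI := evalAlg y hy
  { ((fibEquiv hV y hy D F p).symm.trans (w.eAlg (S.residueField y)).toAddEquiv) with
    map_smul' := fun r x => by
      refine Subtype.ext ?_
      obtain ⟨z, rfl⟩ := (fibEquiv hV y hy D F p).surjective x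
      change (w.eAlg (S.residueField y) ((fibEquiv hV y hy D F p).symm (r • fibEquiv hV y hy D F p z))).1 =
        r • (w.eAlg (S.residueField y) ((fibEquiv hV y hy D F p).symm (fibEquiv hV y hy D F p z))).1
      rw [← fibEquiv_smul hV y hy D F p r z, AddEquiv.symm_apply_apply, AddEquiv.symm_apply_apply]
      exact w.eAlg_smul (S.residueField y) r z }

include hV in
/-- the dimension of the fibre cohomology is the dimension of the kernel -/
theorem fiberRank_eq :
    haveI := w.fp
    CohIII.fiberRank f F p y = kerRank w.u (hV.primeIdealOf ⟨y, hy⟩) := by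
  letI := evalAlg y hy
  haveI := w.fp
  rw [kerRank_eq_finrank w.u (hV.primeIdealOf ⟨y, hy⟩) (K := S.residueField y) (ker_eval hV y hy)]
  exact (fibKer hV y hy D w).finrank_eq

include hV hy D w in
/-- the fibre cohomology vanishes iff the kernel does -/
theorem subsingleton_fiberH_iff :
    Subsingleton (CohIII.fiberH f F y p) ↔
      CohIII.fiberRank f F p y = 0 := by
  letI := evalAlg y hy
  haveI := w.fp
  have : Module.Finite (S.residueField y) (CohIII.fiberH f F y p) := by
    have : Module.Finite (S.residueField y) (LinearMap.ker (w.u.baseChange (S.residueField y))) :=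
      Module.Finite.iff_fg.2 (IsNoetherian.noetherian _)
    exact Module.Finite.equiv (fibKer hV y hy D w).symm
  exact Module.finrank_zero_iff.symm

end Groth.Agent.CBC
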