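import Groth.Agent.CBC.Crit
import Mathlib.RingTheory.Flat.Localization
import Mathlib.RingTheory.LocalRing.Module
import Mathlib.RingTheory.Support

/-!
# Global consequences of the pointwise criteria for kernels
-/

universe u

open TensorProduct Function LinearMap

namespace Groth.Agent.CBC

set_option linter.unusedSectionVars false

variable {A : Type u} [CommRing A] {G L : Type u} [AddCommGroup G] [Module A G]
  [AddCommGroup L] [Module A L] [Module.Free A L] [Module.Finite A L]
  [Module.FinitePresentation A G] (f : G →ₗ[A] L)

/-- surjectivity at all points makes the cokernel flat -/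
theorem flat_cok_of_forall_surjective
    (h : ∀ x : PrimeSpectrum A, Surjective (kerBC f x.asIdeal.ResidueField)) :
    Module.Flat A (Cok f) := by
  refine Module.flat_of_localized_maximal (Cok f) fun P hP => ?_
  have hfree := free_cok_atPrime_of_surjective f P (h ⟨P, hP.isPrime⟩)
  have h1 : Module.Flat A (Localization.AtPrime P ⊗[A] Cok f) :=
    Module.Flat.trans A (Localization.AtPrime P) _
  exact Module.Flat.of_linearEquiv
    ((LocalizedModule.equivTensorProduct P.primeCompl (Cok f)).restrictScalars A)

/-- injective fibre maps give a flat cokernel, a flat source and no kernel -/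
theorem of_forall_ker_eq_bot
    (h : ∀ x : PrimeSpectrum A, Subsingleton (LinearMap.ker (f.baseChange x.asIdeal.ResidueField))) :
    Module.Flat A (Cok f) ∧ Subsingleton (LinearMap.ker f) ∧ Module.Flat A G := by
  have hC : Module.Flat A (Cok f) :=
    flat_cok_of_forall_surjective f fun x y => ⟨0, (h x).elim _ _⟩
  have := finite_ker f
  have hk : Subsingleton (LinearMap.ker f) := by
    rw [← Module.support_eq_empty_iff (R := A), Set.eq_empty_iff_forall_notMem]
    intro x hx
    rw [Module.mem_support_iff_nontrivial_residueField_tensorProduct] at hx
    have := h x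
    have : Subsingleton (x.asIdeal.ResidueField ⊗[A] LinearMap.ker f) :=
      (kerBC_bijective_of_flat f x.asIdeal.ResidueField).1.subsingleton
    exact not_nontrivial _ hx
  have : Module.Flat A (LinearMap.ker f) := inferInstance
  exact ⟨hC, hk, flat_source_of_flat_ker f⟩

end Groth.Agent.CBC
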