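import Groth.Agent.CBC.Setup
import Groth.Agent.CBC.Fibre
import Groth.Agent.CBC.Flatness
import Groth.Agent.Props.QProj

/-!
# Cohomology and base change over locally Noetherian bases
-/

universe u

open CategoryTheory Limits Opposite TopologicalSpace AlgebraicGeometry Function TensorProduct

namespace Groth.Agent.CBC

/-- finiteness of cohomology over affine Noetherian bases, for all schemes -/
def FinCoh : Prop :=
  ∀ (A : Type u) [CommRing A] [IsNoetherianRing A] (Z : Scheme.{u})
    [Z.Over (Spec (CommRingCat.of A))] [IsProper (Z ↘ Spec (CommRingCat.of A))]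
    (M : Z.Modules), Coh.IsCoh M → ∀ n : ℕ, Module.Finite A (Coh.HH Z M n)

lemma isQuasicoherent_Rpush {X S : Scheme.{u}} (f : X ⟶ S) [QuasiCompact f] [QuasiSeparated f]
    [HasInjectiveResolutions X.Modules] (F : X.Modules) [F.IsQuasicoherent] :
    ∀ p : ℕ, ((Coh.Rpush f p).obj F).IsQuasicoherent
  | 0 =>
    haveI := QCoh.isQuasicoherent_pushforward f F
    QCoh.isQuasicoherent_of_iso
      ((Scheme.Modules.pushforward f).rightDerivedZeroIsoSelf.app F).symm
  | p + 1 =>
    haveI := (CohAff.FRes.ofMod F).isQuasicoherent_Rc f p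
    QCoh.isQuasicoherent_of_iso ((CohAff.FRes.ofMod F).rpushIsoRc f p).symm

section SCx

variable {A : Type u} [CommRing A] (K : SCx A)

lemma lExact_zero (hK : ∀ n, Module.Flat A (K.X n)) : K.LExact 0 := by
  intro M N _ _ _ _ g hg
  rw [injective_iff_map_eq_zero]
  intro x hx
  obtain ⟨z, rfl⟩ := Submodule.Quotient.mk_surjective _ x
  rw [SCx.Hmap_mk, Submodule.Quotient.mk_eq_zero] at hx
  have := hK 0
  have h0 : z.1 = 0 :=
    Module.Flat.lTensor_preserves_injective_linearMap g hg
      ((show g.lTensor (K.X 0) z.1 = 0 from hx).trans (map_zero _).symm)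
  rw [show z = 0 from Subtype.ext h0]
  exact Submodule.Quotient.mk_zero _

end SCx

section Affine

variable {X S : Scheme.{u}} {f : X ⟶ S} [IsProper f] {V : S.Opens} (hV : IsAffineOpen V)
  (D : Model f V) {F : X.Modules} [F.IsQuasicoherent] {p : ℕ} (w : (D.K F).Win p)

/-- the point of `S` attached to a prime -/
noncomputable def pt (x : PrimeSpectrum Γ(S, V)) : S := hV.fromSpec x

lemma pt_mem (x : PrimeSpectrum Γ(S, V)) : pt hV x ∈ V := by
  have : hV.fromSpec x ∈ (V : Set S) := by
    rw [← hV.range_fromSpec]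
    exact ⟨x, rfl⟩
  exact this

lemma primeIdealOf_pt (x : PrimeSpectrum Γ(S, V)) : hV.primeIdealOf ⟨pt hV x, pt_mem hV x⟩ = x :=
  hV.fromSpec.isOpenEmbedding.injective (hV.fromSpec_primeIdealOf _)

lemma kerRank_pt (x : PrimeSpectrum Γ(S, V)) :
    haveI := w.fp
    kerRank w.u x = CohIII.fiberRank f F p (pt hV x) := by
  haveI := w.fp
  rw [fiberRank_eq hV (pt hV x) (pt_mem hV x) D w, primeIdealOf_pt]

include hV in
/-- locally constant fibre dimension gives locally constant kernel dimension -/
lemma isLocallyConstant_kerRank_of (h : IsLocallyConstant (CohIII.fiberRank f F p)) :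
    haveI := w.fp
    IsLocallyConstant (kerRank w.u) := by
  haveI := w.fp
  rw [show kerRank w.u = CohIII.fiberRank f F p ∘ pt hV from funext (kerRank_pt hV D w)]
  exact h.comp_continuous hV.fromSpec.continuous

/-- sections of the higher direct image as a kernel -/
noncomputable def secKer [HasInjectiveResolutions X.Modules] :
    Γ((Coh.Rpush f p).obj F, V) ≃ₗ[Γ(S, V)] LinearMap.ker w.u :=
  (rpushEquiv D F hV p).symm ≪≫ₗ ((D.K F).hA p).symm ≪≫ₗ w.e₀

include hV D in
lemma subsingleton_ker_of_isZero [HasInjectiveResolutions X.Modules]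
    (h : IsZero ((Coh.Rpush f p).obj F)) : Subsingleton (LinearMap.ker w.u) := by
  refine (secKer hV D w).symm.toEquiv.subsingleton_congr.2 ?_
  refine subsingleton_of_forall_eq 0 fun x => ?_
  have := congr($((IsZero.iff_id_eq_zero _).1 h))
  exact congr($(congrArg (fun φ => Scheme.Modules.Hom.app φ V) this) x)

end Affine

section Global

variable {X S : Scheme.{u}} {f : X ⟶ S} [IsProper f] [IsLocallyNoetherian S] {F : X.Modules}
  (hF : Coh.IsCoh F) (hfl : FlatMod.IsFlatOver f F) (hfin : FinCoh.{u})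

include hF hfl hfin in
/-- windows over every affine open -/
theorem exists_model_win {V : S.Opens} (hV : IsAffineOpen V) :
    ∃ D : Model f V, ∀ p, Nonempty ((D.K F).Win p) := by
  have : F.IsQuasicoherent := hF.1
  obtain ⟨D⟩ := nonempty_model f hV
  have : IsNoetherianRing Γ(S, V) := IsLocallyNoetherian.component_noetherian ⟨V, hV⟩
  exact ⟨D, fun p => nonempty_win hV D F hF hfl hfin p⟩

omit [IsProper f] [IsLocallyNoetherian S] in
lemma isOpen_eq_of_nhds {P : S → Prop} (h : ∀ (V : S.Opens), IsAffineOpen V → ∀ y ∈ V, P y) :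
    ∀ y, P y := fun y => by
  obtain ⟨_, ⟨V, hV, rfl⟩, hy, -⟩ :=
    S.isBasis_affineOpens.exists_subset_of_mem_open (Set.mem_univ y) isOpen_univ
  exact h V hV y hy

/-- both flatness properties of the windows over all affine opens -/
def Good (f : X ⟶ S) (F : X.Modules) (p : ℕ) : Prop :=
  ∀ (V : S.Opens) (_ : IsAffineOpen V) (D : Model f V) (w : (D.K F).Win p),
    Module.Flat Γ(S, V) w.G ∧ Module.Flat Γ(S, V) (Cok w.u)

include hF hfl hfin in
/-- good windows give local freeness of the expected rank -/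
theorem finLocFree_of_good [HasInjectiveResolutions X.Modules] {p : ℕ} (hg : Good f F p) :
    FlatMod.IsFinLocFree ((Coh.Rpush f p).obj F) ∧
      ∀ y : S, ∃ U : S.Opens, y ∈ U ∧
        Nonempty (((Coh.Rpush f p).obj F).restrict U.ι ≅
          FlatMod.freeMod U (CohIII.fiberRank f F p y)) := by
  have : F.IsQuasicoherent := hF.1
  let M := (Coh.Rpush f p).obj F
  have : M.IsQuasicoherent := isQuasicoherent_Rpush f F p
  have hmain : ∀ y : S, ∃ (U : S.Opens) (n : ℕ), y ∈ U ∧
      Nonempty (M.restrict U.ι ≅ FlatMod.freeMod U n) := by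
    refine isOpen_eq_of_nhds fun V hV y hy => ?_
    obtain ⟨D, hD⟩ := exists_model_win hF hfl hfin hV
    obtain ⟨w⟩ := hD p
    obtain ⟨hG, hC⟩ := hg V hV D w
    have := w.fp
    have := finite_ker w.u
    have := projective_ker w.u
    have : Module.Finite Γ(S, V) Γ(M, V) := Module.Finite.equiv (secKer hV D w).symm
    have : Module.Projective Γ(S, V) Γ(M, V) := Module.Projective.of_equiv (secKer hV D w).symm
    exact Props.QProj.exists_free_nhd M hV hy (Module.finitePresentation_of_projective _ _)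
      (Props.QProj.free_stalk_of_flat M hV hy)
  refine ⟨hmain, fun y => ?_⟩
  obtain ⟨U, n, hy, ⟨e⟩⟩ := hmain y
  obtain ⟨_, ⟨W, hW, rfl⟩, hyW, hWU⟩ := S.isBasis_affineOpens.exists_subset_of_mem_open hy U.2
  obtain ⟨b⟩ := Props.QProj.free_sections_of_restrict_iso M e hW hWU
  obtain ⟨D, hD⟩ := exists_model_win hF hfl hfin hW
  obtain ⟨w⟩ := hD p
  obtain ⟨-, hC⟩ := hg W hW D w
  have := w.fp
  refine ⟨U, hy, ⟨?_⟩⟩
  have key : CohIII.fiberRank f F p y = n := by
    let x := hW.primeIdealOf ⟨y, hyW⟩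
    let k := x.asIdeal.ResidueField
    have : Nontrivial Γ(S, W) := (algebraMap Γ(S, W) k).domain_nontrivial
    rw [fiberRank_eq hW y hyW D w]
    let b' : Module.Basis (Fin n) Γ(S, W) (LinearMap.ker w.u) := b.map (secKer hW D w)
    have e1 : Module.finrank k (k ⊗[Γ(S, W)] LinearMap.ker w.u) = n := by
      rw [Module.finrank_eq_card_basis (b'.baseChange k), Fintype.card_fin]
    exact ((LinearEquiv.ofBijective _ (kerBC_bijective_of_flat w.u k)).finrank_eq).symm.trans e1
  exact key.symm ▸ e

include hF hfl hfin in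
/-- good windows give locally constant fibre dimension -/
theorem isLocallyConstant_fiberRank_of_good {p : ℕ} (hg : Good f F p) :
    IsLocallyConstant (CohIII.fiberRank f F p) := by
  have : F.IsQuasicoherent := hF.1
  rw [IsLocallyConstant.iff_eventually_eq]
  refine isOpen_eq_of_nhds fun V hV y hy => ?_
  obtain ⟨D, hD⟩ := exists_model_win hF hfl hfin hV
  obtain ⟨w⟩ := hD p
  obtain ⟨hG, hC⟩ := hg V hV D w
  have := w.fp
  have h1 := (IsLocallyConstant.iff_eventually_eq _).1 (isLocallyConstant_kerRank w.u)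
    (hV.primeIdealOf ⟨y, hy⟩)
  have h2 : hV.fromSpec (hV.primeIdealOf ⟨y, hy⟩) = y := hV.fromSpec_primeIdealOf ⟨y, hy⟩
  have h3 := hV.fromSpec.isOpenEmbedding.map_nhds_eq (hV.primeIdealOf ⟨y, hy⟩)
  rw [← h2, ← h3]
  refine Filter.eventually_map.2 (h1.mono fun x hx => ?_)
  rw [kerRank_pt hV D w, kerRank_pt hV D w] at hx
  exact hx

/-- vanishing fibres in degree `p` -/
theorem good_of_fibres_zero [HasInjectiveResolutions X.Modules] {p : ℕ} (hF : Coh.IsCoh F)
    (h : ∀ y : S, Subsingleton (CohIII.fiberH f F y p)) : Good f F p := by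
  intro V hV D w
  have : F.IsQuasicoherent := hF.1
  have := w.fp
  obtain ⟨h1, -, h3⟩ := of_forall_ker_eq_bot w.u fun x => by
    have h0 := (subsingleton_fiberH_iff hV (pt hV x) (pt_mem hV x) D w).1 (h (pt hV x))
    rw [← kerRank_pt hV D w] at h0
    have : Module.Finite x.asIdeal.ResidueField
        (LinearMap.ker (w.u.baseChange x.asIdeal.ResidueField)) :=
      Module.Finite.iff_fg.2 (IsNoetherian.noetherian _)
    exact (Module.finrank_zero_iff (R := x.asIdeal.ResidueField)
      (M := LinearMap.ker (w.u.baseChange x.asIdeal.ResidueField))).1 h0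
  exact ⟨h3, h1⟩

end Global

end Groth.Agent.CBC
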