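import Groth.Agent.FlatCx.Linear
import Groth.Agent.FlatCx.Semicont
import Mathlib.RingTheory.Spectrum.Prime.FreeLocus
import Mathlib.RingTheory.LocalRing.ResidueField.Ideal
import Mathlib.LinearAlgebra.TensorProduct.RightExactness

/-!
# Base change of the kernel of a map to a finite free module

For `u : G → L` with `G` finitely presented and `L` finite free we study the comparison
`B ⊗ ker u → ker (B ⊗ u)`.
-/

universe u

open TensorProduct Function LinearMap

namespace Groth.Agent.CBC

set_option linter.unusedSectionVars false

variable {A : Type u} [CommRing A] {G L : Type u} [AddCommGroup G] [Module A G]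
  [AddCommGroup L] [Module A L] (f : G →ₗ[A] L)
  (B : Type u) [CommRing B] [Algebra A B]

/-- the comparison `B ⊗ ker f → ker (B ⊗ f)` -/
noncomputable def kerBC : B ⊗[A] LinearMap.ker f →ₗ[B] LinearMap.ker (f.baseChange B) :=
  LinearMap.codRestrict _ ((LinearMap.ker f).subtype.baseChange B) fun w => by
    rw [LinearMap.mem_ker, ← LinearMap.comp_apply, ← LinearMap.baseChange_comp,
      LinearMap.comp_ker_subtype, LinearMap.baseChange_zero, LinearMap.zero_apply]

lemma kerBC_val (w : B ⊗[A] LinearMap.ker f) :
    (kerBC f B w).1 = (LinearMap.ker f).subtype.baseChange B w := rfl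

/-- the quotient by the image -/
abbrev Cok : Type u := L ⧸ LinearMap.range f

lemma exact_mkQ : Exact f (Submodule.mkQ (LinearMap.range f)) := f.exact_map_mkQ_range

/-- if the cokernel is flat the kernel commutes with base change -/
theorem kerBC_bijective_of_flat [Module.Flat A L] [Module.Flat A (Cok f)] :
    Bijective (kerBC f B) := by
  have hex : Exact f (Submodule.mkQ (LinearMap.range f)) := exact_mkQ f
  have hinj : Injective ((LinearMap.ker f).subtype.lTensor B) :=
    (lTensor_inj_iff_rTensor_inj _ _).2
      (FlatCx.ker_rTensor_subtype_injective hex (Submodule.mkQ_surjective _) B)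
  have hexr : Exact ((LinearMap.ker f).subtype.lTensor B) (f.lTensor B) :=
    (rTensor_exact_iff_lTensor_exact (Q := B)).1
      (FlatCx.exact_ker_rTensor hex (Submodule.mkQ_surjective _) B)
  refine ⟨fun x y h => hinj (congrArg Subtype.val h), fun y => ?_⟩
  obtain ⟨w, hw⟩ := (hexr y.1).1 y.2
  exact ⟨w, Subtype.ext hw⟩

section Flat

variable [Module.Flat A B]

/-- kernels commute with flat base change -/
theorem kerBC_bijective_of_flat_algebra : Bijective (kerBC f B) := by
  have hinj : Injective ((LinearMap.ker f).subtype.lTensor B) :=
    Module.Flat.lTensor_preserves_injective_linearMap _ (LinearMap.ker f).injective_subtype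
  have hexr : Exact ((LinearMap.ker f).subtype.lTensor B) (f.lTensor B) :=
    Module.Flat.lTensor_exact B (LinearMap.exact_subtype_ker_map f)
  refine ⟨fun x y h => hinj (congrArg Subtype.val h), fun y => ?_⟩
  obtain ⟨w, hw⟩ := (hexr y.1).1 y.2
  exact ⟨w, Subtype.ext hw⟩

end Flat

section Trans

variable (A' : Type u) [CommRing A'] [Algebra A A'] [Algebra A' B] [IsScalarTower A A' B]

/-- `B ⊗ (A' ⊗ X) ≅ B ⊗ X` -/
noncomputable abbrev cb (X : Type u) [AddCommGroup X] [Module A X] :
    B ⊗[A'] (A' ⊗[A] X) ≃ₗ[B] B ⊗[A] X :=
  AlgebraTensorModule.cancelBaseChange A A' B B X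

lemma cb_natural {X Y : Type u} [AddCommGroup X] [Module A X] [AddCommGroup Y] [Module A Y]
    (g : X →ₗ[A] Y) (w : B ⊗[A'] (A' ⊗[A] X)) :
    g.baseChange B (cb B A' X w) = cb B A' Y ((g.baseChange A').baseChange B w) := by
  induction w using TensorProduct.induction_on with
  | zero => simp
  | tmul b t =>
    induction t using TensorProduct.induction_on with
    | zero => simp
    | tmul a x => simp
    | add s t hs ht => simp only [tmul_add, map_add, hs, ht]
  | add s t hs ht => simp only [map_add, hs, ht]

variable {B} in
/-- base change of the kernel is transitive -/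
theorem kerBC_bijective_trans (h₁ : Bijective (kerBC f A'))
    (h₂ : Bijective (kerBC (f.baseChange A') B)) : Bijective (kerBC f B) := by
  let e : LinearMap.ker ((f.baseChange A').baseChange B) ≃ₗ[B] LinearMap.ker (f.baseChange B) :=
    (cb B A' G).ofSubmodules _ _ (by
      ext z
      simp only [Submodule.mem_map, LinearMap.mem_ker]
      constructor
      · rintro ⟨w, hw, rfl⟩
        change f.baseChange B (cb B A' G w) = 0
        rw [cb_natural, hw, map_zero]
      · intro hz
        refine ⟨(cb B A' G).symm z, ?_, LinearEquiv.apply_symm_apply _ _⟩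
        refine (cb B A' L).injective ?_
        rw [← cb_natural, LinearEquiv.apply_symm_apply, hz, map_zero])
  let k₁ := LinearEquiv.ofBijective _ h₁
  let comp := (cb B A' (LinearMap.ker f)).symm ≪≫ₗ
    k₁.baseChange A' B _ _ ≪≫ₗ LinearEquiv.ofBijective _ h₂ ≪≫ₗ e
  have key : ∀ w, comp w = kerBC f B w := by
    intro w
    refine Subtype.ext ?_
    induction w using TensorProduct.induction_on with
    | zero => simp
    | tmul b x => simp [comp, e, k₁, kerBC_val]
    | add s t hs ht => simp only [map_add, Submodule.coe_add, hs, ht]
  have : ⇑(kerBC f B) = comp := (funext key).symm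
  rw [this]
  exact comp.bijective

end Trans

section Residue

variable (p : Ideal A) [p.IsPrime] [Module.Free A L] [Module.Finite A L] [Module.Finite A G]

/-- surjectivity at the residue field forces the cokernel to be free at the point -/
theorem free_cok_atPrime_of_surjective (h : Surjective (kerBC f p.ResidueField)) :
    Module.Free (Localization.AtPrime p) (Localization.AtPrime p ⊗[A] Cok f) := by
  let A' := Localization.AtPrime p
  let v := f.baseChange A'
  let π := (Submodule.mkQ (LinearMap.range f)).baseChange A'
  have hπ : Surjective π := LinearMap.lTensor_surjective A' (Submodule.mkQ_surjective _)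
  have hex : Exact v π := lTensor_exact A' (exact_mkQ f) (Submodule.mkQ_surjective _)
  have : Module.FinitePresentation A L := Module.finitePresentation_of_projective A L
  have : Module.FinitePresentation A (Cok f) :=
    Module.finitePresentation_of_surjective (Submodule.mkQ (LinearMap.range f))
      (Submodule.mkQ_surjective _) (by rw [Submodule.ker_mkQ]; exact Module.Finite.iff_fg.1 inferInstance)
  refine FlatCx.free_of_lift_residueField hex hπ fun y hy => ?_
  let k := p.ResidueField
  let g : (A' ⊗[A] G) ⊗[A'] (A' ⧸ IsLocalRing.maximalIdeal A') ≃ₗ[A'] k ⊗[A] G :=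
    TensorProduct.comm A' _ _ ≪≫ₗ
      (AlgebraTensorModule.cancelBaseChange A A' k k G).restrictScalars A'
  let gL : (A' ⊗[A] L) ⊗[A'] (A' ⧸ IsLocalRing.maximalIdeal A') ≃ₗ[A'] k ⊗[A] L :=
    TensorProduct.comm A' _ _ ≪≫ₗ
      (AlgebraTensorModule.cancelBaseChange A A' k k L).restrictScalars A'
  have hg : ∀ z, f.baseChange k (g z) = gL (v.rTensor _ z) := by
    intro z
    induction z using TensorProduct.induction_on with
    | zero => simp
    | tmul t c =>
      induction t using TensorProduct.induction_on with
      | zero => simp
      | tmul a x => rfl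
      | add s t hs ht => simp only [add_tmul, map_add, hs, ht]
    | add s t hs ht => simp only [map_add, hs, ht]
  obtain ⟨w, hw⟩ := h ⟨g y, by rw [LinearMap.mem_ker, hg, hy, map_zero]⟩
  have hlift : ∀ w : k ⊗[A] LinearMap.ker f, ∃ x : (A' ⊗[A] G) ⊗[A'] A', v.rTensor A' x = 0 ∧
      g ((Submodule.mkQ (IsLocalRing.maximalIdeal A')).lTensor _ x) =
        (LinearMap.ker f).subtype.baseChange k w := by
    intro w
    induction w using TensorProduct.induction_on with
    | zero => exact ⟨0, map_zero _, by simp⟩
    | tmul c x =>
      obtain ⟨c', rfl⟩ := Ideal.Quotient.mk_surjective (I := IsLocalRing.maximalIdeal A') c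
      refine ⟨((1 : A') ⊗ₜ[A] x.1) ⊗ₜ[A'] c', ?_, ?_⟩
      · rw [rTensor_tmul, LinearMap.baseChange_tmul, x.2, tmul_zero, zero_tmul]
      · exact congrArg (fun t : k => t ⊗ₜ[A] x.1)
          (one_smul A' (Ideal.Quotient.mk (IsLocalRing.maximalIdeal A') c' : k))
    | add s t hs ht =>
      obtain ⟨x, hx, hx'⟩ := hs
      obtain ⟨x', hx₁, hx₂⟩ := ht
      exact ⟨x + x', by rw [map_add, hx, hx₁, add_zero], by simp only [map_add, hx', hx₂]⟩
  obtain ⟨x, hx, hx'⟩ := hlift w
  exact ⟨x, hx, g.injective (hx'.trans (congrArg Subtype.val hw))⟩

/-- the cokernel is free on a neighbourhood and the kernel commutes with base change there -/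
theorem exists_good_of_surjective (h : Surjective (kerBC f p.ResidueField)) :
    ∃ g ∉ p, Module.Free (Localization.Away g) (Localization.Away g ⊗[A] Cok f) ∧
      ∀ (B : Type u) [CommRing B] [Algebra A B], IsUnit (algebraMap A B g) →
        Bijective (kerBC f B) := by
  have : Module.FinitePresentation A L := Module.finitePresentation_of_projective A L
  have : Module.FinitePresentation A (Cok f) :=
    Module.finitePresentation_of_surjective (Submodule.mkQ (LinearMap.range f))
      (Submodule.mkQ_surjective _) (by rw [Submodule.ker_mkQ]; exact Module.Finite.iff_fg.1 inferInstance)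
  have hfree := free_cok_atPrime_of_surjective f p h
  obtain ⟨g, hg, hgfree, -⟩ := Module.FinitePresentation.exists_free_localizedModule_powers
    p.primeCompl (TensorProduct.mk A (Localization.AtPrime p) (Cok f) 1)
    (Localization.AtPrime p)
  have hfr : Module.Free (Localization.Away g) (Localization.Away g ⊗[A] Cok f) :=
    Module.Free.of_equiv (LocalizedModule.equivTensorProduct (Submonoid.powers g) (Cok f))
  refine ⟨g, hg, hfr, fun B _ _ hB => ?_⟩
  let A' := Localization.Away g
  let : Algebra A' B := (IsLocalization.Away.lift g hB).toAlgebra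
  have : IsScalarTower A A' B :=
    IsScalarTower.of_algebraMap_eq fun a => (IsLocalization.Away.lift_eq g hB a).symm
  have : Module.Flat A A' := IsLocalization.flat A' (Submonoid.powers g)
  refine kerBC_bijective_trans f A' (kerBC_bijective_of_flat_algebra f A') ?_
  have hex : Exact (f.baseChange A') ((Submodule.mkQ (LinearMap.range f)).baseChange A') :=
    lTensor_exact A' (exact_mkQ f) (Submodule.mkQ_surjective _)
  have : Module.Flat A' (Cok (f.baseChange A')) :=
    Module.Flat.of_linearEquiv
      (Submodule.quotEquivOfEq _ _ (LinearMap.exact_iff.1 hex).symm ≪≫ₗ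
        LinearMap.quotKerEquivOfSurjective _
          (LinearMap.lTensor_surjective A' (Submodule.mkQ_surjective _)))
  exact kerBC_bijective_of_flat _ _

end Residue

section Proj

variable [Module.Free A L] [Module.Finite A L] [Module.FinitePresentation A G]
  [Module.Flat A (Cok f)]

lemma projective_range : Module.Projective A (LinearMap.range f) ∧
    Module.FinitePresentation A (LinearMap.range f) := by
  have : Module.FinitePresentation A L := Module.finitePresentation_of_projective A L
  have : Module.Finite A (LinearMap.range f) := Module.Finite.range f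
  have : Module.FinitePresentation A (Cok f) :=
    Module.finitePresentation_of_surjective (Submodule.mkQ (LinearMap.range f))
      (Submodule.mkQ_surjective _) (by rw [Submodule.ker_mkQ]; exact Module.Finite.iff_fg.1 inferInstance)
  have : Module.Projective A (Cok f) := Module.Flat.projective_of_finitePresentation
  obtain ⟨s, hs⟩ := Module.projective_lifting_property (Submodule.mkQ (LinearMap.range f))
    LinearMap.id (Submodule.mkQ_surjective _)
  have hs' : ∀ c, Submodule.mkQ (LinearMap.range f) (s c) = c := LinearMap.congr_fun hs
  let r : L →ₗ[A] LinearMap.range f :=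
    LinearMap.codRestrict _ (LinearMap.id - s ∘ₗ Submodule.mkQ _) fun x =>
      (Submodule.Quotient.mk_eq_zero _).1 (by
        simp only [LinearMap.sub_apply, LinearMap.id_apply, LinearMap.comp_apply,
          Submodule.Quotient.mk_sub]
        rw [show Submodule.Quotient.mk (s (Submodule.mkQ (LinearMap.range f) x)) =
          Submodule.mkQ (LinearMap.range f) x from hs' _]
        exact sub_self _)
  have hr : r ∘ₗ (LinearMap.range f).subtype = LinearMap.id := by
    refine LinearMap.ext fun x => Subtype.ext ?_
    change x.1 - s (Submodule.mkQ (LinearMap.range f) x.1) = x.1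
    rw [show Submodule.mkQ (LinearMap.range f) x.1 = 0 from (Submodule.Quotient.mk_eq_zero _).2 x.2,
      map_zero, sub_zero]
  have : Module.Projective A (LinearMap.range f) := Module.Projective.of_split _ r hr
  exact ⟨this, Module.finitePresentation_of_projective A _⟩

/-- with flat cokernel the kernel is finite -/
theorem finite_ker : Module.Finite A (LinearMap.ker f) := by
  obtain ⟨-, h⟩ := projective_range f
  have := Module.FinitePresentation.fg_ker f.rangeRestrict f.surjective_rangeRestrict
  rw [LinearMap.ker_rangeRestrict] at this
  exact Module.Finite.iff_fg.2 this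

/-- with flat cokernel and flat source the kernel is finite projective -/
theorem projective_ker [Module.Flat A G] :
    Module.Projective A (LinearMap.ker f) := by
  obtain ⟨h, -⟩ := projective_range f
  have : Module.Projective A G := Module.Flat.projective_of_finitePresentation
  obtain ⟨s, hs⟩ := Module.projective_lifting_property f.rangeRestrict LinearMap.id
    f.surjective_rangeRestrict
  have hs' : ∀ c, f (s c) = c.1 := fun c => congrArg Subtype.val (LinearMap.congr_fun hs c)
  let r : G →ₗ[A] LinearMap.ker f :=
    LinearMap.codRestrict _ (LinearMap.id - s ∘ₗ f.rangeRestrict) fun x => by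
      rw [LinearMap.mem_ker, LinearMap.sub_apply, map_sub, LinearMap.comp_apply, hs']
      exact sub_self (f x)
  refine Module.Projective.of_split (LinearMap.ker f).subtype r ?_
  refine LinearMap.ext fun x => Subtype.ext ?_
  change x.1 - s (f.rangeRestrict x.1) = x.1
  rw [show f.rangeRestrict x.1 = 0 from Subtype.ext x.2, map_zero, sub_zero]

/-- with flat cokernel, flatness of the kernel forces flatness of the source -/
theorem flat_source_of_flat_ker [Module.Flat A (LinearMap.ker f)] : Module.Flat A G :=
  FlatCx.flat_of_flat_ker (exact_mkQ f) (Submodule.mkQ_surjective _)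

end Proj

section Rank

variable [Module.Free A L] [Module.Finite A L] [Module.Finite A G]

/-- the dimension of the kernel at a point -/
noncomputable def kerRank (x : PrimeSpectrum A) : ℕ :=
  Module.finrank x.asIdeal.ResidueField (LinearMap.ker (f.baseChange x.asIdeal.ResidueField))

lemma kerRank_add (x : PrimeSpectrum A) :
    kerRank f x + FlatCx.fib L x = FlatCx.fib G x + FlatCx.fib (Cok f) x := by
  let k := x.asIdeal.ResidueField
  have h1 := LinearMap.finrank_range_add_finrank_ker (f.baseChange k)
  have h2 := LinearMap.finrank_range_add_finrank_ker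
    ((Submodule.mkQ (LinearMap.range f)).baseChange k)
  have hex : Exact (f.baseChange k) ((Submodule.mkQ (LinearMap.range f)).baseChange k) :=
    lTensor_exact k (exact_mkQ f) (Submodule.mkQ_surjective _)
  have hs : Surjective ((Submodule.mkQ (LinearMap.range f)).baseChange k) :=
    LinearMap.lTensor_surjective k (Submodule.mkQ_surjective _)
  rw [LinearMap.exact_iff.1 hex, LinearMap.range_eq_top.2 hs, finrank_top] at h2
  change Module.finrank k (LinearMap.ker (f.baseChange k)) + Module.finrank k (k ⊗[A] L) =
    Module.finrank k (k ⊗[A] G) + Module.finrank k (k ⊗[A] (L ⧸ LinearMap.range f))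
  omega

lemma fib_free_eq (x y : PrimeSpectrum A) : FlatCx.fib L x = FlatCx.fib L y := by
  have : Nontrivial A := (algebraMap A x.asIdeal.ResidueField).domain_nontrivial
  unfold FlatCx.fib
  rw [Module.finrank_baseChange, Module.finrank_baseChange]

open Topology in
/-- semicontinuity of the dimension of the kernel -/
theorem kerRank_le_eventually (x : PrimeSpectrum A) :
    ∀ᶠ y in 𝓝 x, kerRank f y ≤ kerRank f x := by
  filter_upwards [FlatCx.fib_le_eventually G x, FlatCx.fib_le_eventually (Cok f) x] with y h1 h2
  have := kerRank_add f x
  have := kerRank_add f y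
  have := fib_free_eq (A := A) (L := L) x y
  omega

open Topology in
/-- constant dimension over a reduced ring forces flatness -/
theorem flat_of_isLocallyConstant [IsReduced A] (h : IsLocallyConstant (kerRank f)) :
    Module.Flat A G ∧ Module.Flat A (Cok f) := by
  have key : ∀ x : PrimeSpectrum A, (∀ᶠ y in 𝓝 x, FlatCx.fib G y = FlatCx.fib G x) ∧
      ∀ᶠ y in 𝓝 x, FlatCx.fib (Cok f) y = FlatCx.fib (Cok f) x := fun x => by
    refine FlatCx.eventually_eq_of_add (FlatCx.fib_le_eventually G x)
      (FlatCx.fib_le_eventually (Cok f) x) ?_
    filter_upwards [(IsLocallyConstant.iff_eventually_eq _).1 h x] with y hy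
    rw [← kerRank_add, ← kerRank_add, hy, fib_free_eq (A := A) (L := L) y x]
  exact ⟨FlatCx.flat_of_isLocallyConstant_fib G
      ((IsLocallyConstant.iff_eventually_eq _).2 fun x => (key x).1),
    FlatCx.flat_of_isLocallyConstant_fib (Cok f)
      ((IsLocallyConstant.iff_eventually_eq _).2 fun x => (key x).2)⟩

/-- flat source and cokernel give constant dimension -/
theorem isLocallyConstant_kerRank [Module.FinitePresentation A G] [Module.Flat A G]
    [Module.Flat A (Cok f)] : IsLocallyConstant (kerRank f) := by
  have : Module.FinitePresentation A L := Module.finitePresentation_of_projective A L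
  have : Module.FinitePresentation A (Cok f) :=
    Module.finitePresentation_of_surjective (Submodule.mkQ (LinearMap.range f))
      (Submodule.mkQ_surjective _) (by rw [Submodule.ker_mkQ]; exact Module.Finite.iff_fg.1 inferInstance)
  rw [IsLocallyConstant.iff_eventually_eq]
  intro x
  filter_upwards [(IsLocallyConstant.iff_eventually_eq _).1 (FlatCx.isLocallyConstant_fib (A := A) G) x,
    (IsLocallyConstant.iff_eventually_eq _).1 (FlatCx.isLocallyConstant_fib (A := A) (Cok f)) x]
    with y h1 h2
  have := kerRank_add f x
  have := kerRank_add f y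
  have := fib_free_eq (A := A) (L := L) x y
  omega

end Rank

end Groth.Agent.CBC
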