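import Groth.Agent.CBC.Window
import Groth.Agent.CBC.Crit

/-!
# Base change, adjacent degrees and the comparison map for windows of flat complexes
-/

universe u

open TensorProduct Function LinearMap

namespace Groth.Agent.CBC

namespace SCx

variable {A : Type u} [CommRing A] (K K' : SCx A)

section Equiv

variable {K K'} (e : ∀ n, K.X n ≃ₗ[A] K'.X n) (he : ∀ n x, e (n + 1) (K.d n x) = K'.d n (e n x))
  (M : Type u) [AddCommGroup M] [Module A M]

include he in
lemma rTensor_d_equiv (n : ℕ) (z : K.X n ⊗[A] M) :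
    (K'.d n).rTensor M ((e n).rTensor M z) = (e (n + 1)).rTensor M ((K.d n).rTensor M z) := by
  induction z using TensorProduct.induction_on with
  | zero => simp
  | tmul x m => simp [he]
  | add s t hs ht => simp only [map_add, hs, ht]

include he in
lemma map_Z_equiv (n : ℕ) :
    (K.Z M n).map ((e n).rTensor M : K.X n ⊗[A] M →ₗ[A] K'.X n ⊗[A] M) = K'.Z M n := by
  ext z
  constructor
  · rintro ⟨w, hw, rfl⟩
    change (K'.d n).rTensor M ((e n).rTensor M w) = 0
    rw [rTensor_d_equiv e he, show (K.d n).rTensor M w = 0 from hw, map_zero]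
  · intro hz
    refine ⟨((e n).rTensor M).symm z, ?_, LinearEquiv.apply_symm_apply _ _⟩
    change (K.d n).rTensor M _ = 0
    refine ((e (n + 1)).rTensor M).injective ?_
    rw [← rTensor_d_equiv e he, LinearEquiv.apply_symm_apply, map_zero]
    exact hz

include he in
lemma mem_B_equiv_iff : ∀ {n : ℕ} (z : K.X n ⊗[A] M),
    (e n).rTensor M z ∈ K'.B M n ↔ z ∈ K.B M n
  | 0, z => by
    change (e 0).rTensor M z = 0 ↔ z = 0
    exact ((e 0).rTensor M).map_eq_zero_iff
  | n + 1, z => by
    constructor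
    · rintro ⟨y, hy⟩
      refine ⟨((e n).rTensor M).symm y, ((e (n + 1)).rTensor M).injective ?_⟩
      rw [← rTensor_d_equiv e he, LinearEquiv.apply_symm_apply, hy]
    · rintro ⟨y, rfl⟩
      exact ⟨(e n).rTensor M y, rTensor_d_equiv e he M n y⟩

/-- isomorphic complexes have isomorphic cohomology -/
noncomputable def hEquivOfEquiv (n : ℕ) : K.H M n ≃ₗ[A] K'.H M n :=
  Submodule.Quotient.equiv _ _
    (((e n).rTensor M).ofSubmodules _ _ (map_Z_equiv e he M n)) (by
      ext z
      constructor
      · rintro ⟨w, hw, rfl⟩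
        exact (mem_B_equiv_iff e he M w.1).2 hw
      · intro hz
        refine ⟨(((e n).rTensor M).ofSubmodules _ _ (map_Z_equiv e he M n)).symm z, ?_,
          LinearEquiv.apply_symm_apply _ _⟩
        change ((((e n).rTensor M).ofSubmodules _ _ (map_Z_equiv e he M n)).symm z).1 ∈ K.B M n
        rw [← mem_B_equiv_iff e he]
        have h1 := congrArg Subtype.val (LinearEquiv.apply_symm_apply
          (((e n).rTensor M).ofSubmodules _ _ (map_Z_equiv e he M n)) z)
        exact (congrArg (· ∈ K'.B M n) h1).mpr hz)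

include he in
lemma hEquivOfEquiv_natural {N : Type u} [AddCommGroup N] [Module A N] (g : M →ₗ[A] N) (n : ℕ)
    (x : K.H M n) :
    hEquivOfEquiv e he N n (K.Hmap g n x) = K'.Hmap g n (hEquivOfEquiv e he M n x) := by
  obtain ⟨z, rfl⟩ := Submodule.Quotient.mk_surjective _ x
  refine congrArg Submodule.Quotient.mk (Subtype.ext ?_)
  change (e n).rTensor N (g.lTensor (K.X n) z.1) = g.lTensor (K'.X n) ((e n).rTensor M z.1)
  exact FlatCx.rTensor_lTensor_comm g (e n).toLinearMap z.1

/-- windows are transported along isomorphisms of complexes -/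
noncomputable def Win.ofEquiv {p : ℕ} (w : K.Win p) : K'.Win p where
  G := w.G
  m := w.m
  fp := w.fp
  u := w.u
  e M _ _ := (hEquivOfEquiv e he M p).symm ≪≫ₗ w.e M
  nat {M N} _ _ _ _ g x := by
    have h : (hEquivOfEquiv e he N p).symm (K'.Hmap g p x) =
        K.Hmap g p ((hEquivOfEquiv e he M p).symm x) := by
      refine (hEquivOfEquiv e he N p).injective ?_
      rw [LinearEquiv.apply_symm_apply, hEquivOfEquiv_natural e he, LinearEquiv.apply_symm_apply]
    change (w.e N ((hEquivOfEquiv e he N p).symm (K'.Hmap g p x))).1 = _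
    rw [h, w.nat]
    rfl

end Equiv

section BaseChange

variable (B : Type u) [CommRing B] [Algebra A B]

/-- base change of a complex -/
@[reducible] noncomputable def bc : SCx B where
  X n := B ⊗[A] K.X n
  d n := (K.d n).baseChange B
  d_d n x := by
    rw [← LinearMap.comp_apply, ← LinearMap.baseChange_comp]
    have : K.d (n + 1) ∘ₗ K.d n = 0 := LinearMap.ext (K.d_d n)
    rw [this, LinearMap.baseChange_zero, LinearMap.zero_apply]

lemma flat_bc (n : ℕ) [Module.Flat A (K.X n)] : Module.Flat B ((K.bc B).X n) :=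
  inferInstanceAs (Module.Flat B (B ⊗[A] K.X n))

variable (M : Type u) [AddCommGroup M] [Module A M] [Module B M] [IsScalarTower A B M]

/-- `(B ⊗ X) ⊗_B M ≅ X ⊗_A M` -/
noncomputable def cbc (X : Type u) [AddCommGroup X] [Module A X] :
    (B ⊗[A] X) ⊗[B] M ≃ₗ[A] X ⊗[A] M :=
  (TensorProduct.comm B (B ⊗[A] X) M).restrictScalars A ≪≫ₗ
    (AlgebraTensorModule.cancelBaseChange A B B M X).restrictScalars A ≪≫ₗ TensorProduct.comm A M X

lemma cbc_tmul {X : Type u} [AddCommGroup X] [Module A X] (b : B) (x : X) (m : M) :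
    cbc B M X ((b ⊗ₜ[A] x) ⊗ₜ[B] m) = x ⊗ₜ[A] (b • m) := rfl

lemma cbc_natural {X Y : Type u} [AddCommGroup X] [Module A X] [AddCommGroup Y] [Module A Y]
    (g : X →ₗ[A] Y) (z : (B ⊗[A] X) ⊗[B] M) :
    cbc B M Y ((g.baseChange B).rTensor M z) = g.rTensor M (cbc B M X z) := by
  induction z using TensorProduct.induction_on with
  | zero => simp
  | tmul t m =>
    induction t using TensorProduct.induction_on with
    | zero => simp
    | tmul b x => simp [cbc_tmul]
    | add s t hs ht => simp only [add_tmul, map_add, hs, ht]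
  | add s t hs ht => simp only [map_add, hs, ht]

lemma cbc_lTensor {X : Type u} [AddCommGroup X] [Module A X] {N : Type u} [AddCommGroup N]
    [Module A N] [Module B N] [IsScalarTower A B N] (g : M →ₗ[B] N) (z : (B ⊗[A] X) ⊗[B] M) :
    cbc B N X (g.lTensor (B ⊗[A] X) z) = (g.restrictScalars A).lTensor X (cbc B M X z) := by
  induction z using TensorProduct.induction_on with
  | zero => simp
  | tmul t m =>
    induction t using TensorProduct.induction_on with
    | zero => simp
    | tmul b x => simp [cbc_tmul]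
    | add s t hs ht => simp only [add_tmul, map_add, hs, ht]
  | add s t hs ht => simp only [map_add, hs, ht]

lemma cbc_mem_Z_iff (n : ℕ) (z : (K.bc B).X n ⊗[B] M) :
    cbc B M (K.X n) z ∈ K.Z M n ↔ z ∈ (K.bc B).Z M n := by
  change (K.d n).rTensor M (cbc B M (K.X n) z) = 0 ↔ ((K.d n).baseChange B).rTensor M z = 0
  rw [← cbc_natural, LinearEquiv.map_eq_zero_iff]

lemma cbc_mem_B_iff : ∀ (n : ℕ) (z : (K.bc B).X n ⊗[B] M),
    cbc B M (K.X n) z ∈ K.B M n ↔ z ∈ (K.bc B).B M n
  | 0, z => by
    change cbc B M (K.X 0) z = 0 ↔ z = 0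
    exact (cbc B M (K.X 0)).map_eq_zero_iff
  | n + 1, z => by
    constructor
    · rintro ⟨y, hy⟩
      refine ⟨(cbc B M (K.X n)).symm y, (cbc B M (K.X (n + 1))).injective ?_⟩
      change cbc B M (K.X (n + 1)) (((K.d n).baseChange B).rTensor M _) = _
      rw [cbc_natural, LinearEquiv.apply_symm_apply, hy]
    · rintro ⟨y, rfl⟩
      exact ⟨cbc B M (K.X n) y, (cbc_natural B M (K.d n) y).symm⟩

/-- cocycles of the base change -/
noncomputable def bcZ (n : ℕ) : (K.bc B).Z M n →ₗ[A] K.Z M n where
  toFun z := ⟨cbc B M (K.X n) z.1, (K.cbc_mem_Z_iff B M n z.1).2 z.2⟩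
  map_add' a b := Subtype.ext (map_add (cbc B M (K.X n)) a.1 b.1)
  map_smul' r a := Subtype.ext (map_smul (cbc B M (K.X n)) r a.1)

lemma ker_mkQ_bcZ (n : ℕ) :
    LinearMap.ker (Submodule.mkQ ((K.B M n).comap (K.Z M n).subtype) ∘ₗ K.bcZ B M n) =
      (((K.bc B).B M n).comap ((K.bc B).Z M n).subtype).restrictScalars A := by
  ext z
  rw [LinearMap.mem_ker, LinearMap.comp_apply, Submodule.mkQ_apply, Submodule.Quotient.mk_eq_zero]
  exact K.cbc_mem_B_iff B M n z.1

lemma mkQ_bcZ_surjective (n : ℕ) :
    Surjective (Submodule.mkQ ((K.B M n).comap (K.Z M n).subtype) ∘ₗ K.bcZ B M n) := by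
  intro x
  obtain ⟨z, rfl⟩ := Submodule.Quotient.mk_surjective _ x
  have h : (cbc B M (K.X n)).symm z.1 ∈ (K.bc B).Z M n := by
    rw [← cbc_mem_Z_iff, LinearEquiv.apply_symm_apply]
    exact z.2
  exact ⟨⟨_, h⟩, congrArg Submodule.Quotient.mk
    (Subtype.ext (LinearEquiv.apply_symm_apply (cbc B M (K.X n)) z.1))⟩

/-- cohomology of the base change -/
noncomputable def hBC (n : ℕ) : (K.bc B).H M n ≃ₗ[A] K.H M n :=
  (Submodule.Quotient.restrictScalarsEquiv A
      (((K.bc B).B M n).comap ((K.bc B).Z M n).subtype)).symm ≪≫ₗ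
    quotEquiv (Submodule.mkQ ((K.B M n).comap (K.Z M n).subtype) ∘ₗ K.bcZ B M n) _
      (K.ker_mkQ_bcZ B M n) (K.mkQ_bcZ_surjective B M n)

lemma hBC_mk (n : ℕ) (z : (K.bc B).Z M n) :
    K.hBC B M n (Submodule.Quotient.mk z) = Submodule.Quotient.mk (K.bcZ B M n z) := by
  rw [hBC, LinearEquiv.trans_apply, Submodule.Quotient.restrictScalarsEquiv_symm_mk, quotEquiv_mk]
  rfl

lemma hBC_natural {N : Type u} [AddCommGroup N] [Module A N] [Module B N] [IsScalarTower A B N]
    (g : M →ₗ[B] N) (n : ℕ) (x : (K.bc B).H M n) :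
    K.hBC B N n ((K.bc B).Hmap g n x) = K.Hmap (g.restrictScalars A) n (K.hBC B M n x) := by
  obtain ⟨z, rfl⟩ := Submodule.Quotient.mk_surjective _ x
  rw [Hmap_mk, hBC_mk, hBC_mk, Hmap_mk]
  exact congrArg Submodule.Quotient.mk (Subtype.ext (cbc_lTensor B M g z.1))

end BaseChange

section Win

variable {K} {p : ℕ} (w : K.Win p) (B : Type u) [CommRing B] [Algebra A B]

/-- the map of a window after base change -/
noncomputable def Win.uB : B ⊗[A] w.G →ₗ[B] (Fin w.m → B) :=
  (TensorProduct.piScalarRight A B B (Fin w.m)).toLinearMap ∘ₗ w.u.baseChange B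

lemma Win.ker_uB (M : Type u) [AddCommGroup M] [Module A M] [Module B M] [IsScalarTower A B M]
    (z : (B ⊗[A] w.G) ⊗[B] M) :
    (w.uB B).rTensor M z = 0 ↔ w.u.rTensor M (cbc B M w.G z) = 0 := by
  rw [← cbc_natural, LinearEquiv.map_eq_zero_iff, Win.uB, rTensor_comp, LinearMap.comp_apply]
  exact LinearEquiv.map_eq_zero_iff ((TensorProduct.piScalarRight A B B (Fin w.m)).rTensor M)

/-- `ker (u_B ⊗ M) ≅ ker (u ⊗ M)` -/
noncomputable def Win.kerEquiv (M : Type u) [AddCommGroup M] [Module A M] [Module B M]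
    [IsScalarTower A B M] :
    LinearMap.ker ((w.uB B).rTensor M) ≃ₗ[A] LinearMap.ker (w.u.rTensor M) :=
  (cbc B M w.G).ofSubmodules ((LinearMap.ker ((w.uB B).rTensor M)).restrictScalars A) _ (by
    ext z
    constructor
    · rintro ⟨y, hy, rfl⟩
      exact (w.ker_uB B M y).1 hy
    · intro hz
      refine ⟨(cbc B M w.G).symm z, ?_, LinearEquiv.apply_symm_apply _ _⟩
      refine (w.ker_uB B M _).2 ?_
      rw [LinearEquiv.apply_symm_apply]
      exact hz)

/-- the comparison with coefficients in a `B`-module, as an additive bijection -/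
noncomputable def Win.eB (M : Type u) [AddCommGroup M] [Module A M] [Module B M]
    [IsScalarTower A B M] : (K.bc B).H M p ≃+ LinearMap.ker ((w.uB B).rTensor M) :=
  ((K.hBC B M p ≪≫ₗ w.e M) ≪≫ₗ (w.kerEquiv B M).symm).toAddEquiv

lemma Win.eB_spec (M : Type u) [AddCommGroup M] [Module A M] [Module B M]
    [IsScalarTower A B M] (x : (K.bc B).H M p) :
    cbc B M w.G (w.eB B M x).1 = (w.e M (K.hBC B M p x)).1 :=
  congrArg Subtype.val ((w.kerEquiv B M).apply_symm_apply (w.e M (K.hBC B M p x)))

lemma Win.eB_natural {M N : Type u} [AddCommGroup M] [Module A M] [Module B M]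
    [IsScalarTower A B M] [AddCommGroup N] [Module A N] [Module B N] [IsScalarTower A B N]
    (g : M →ₗ[B] N) (x : (K.bc B).H M p) :
    (w.eB B N ((K.bc B).Hmap g p x)).1 = g.lTensor (B ⊗[A] w.G) (w.eB B M x).1 := by
  refine (cbc B N w.G).injective ?_
  rw [Win.eB_spec, hBC_natural, w.nat, cbc_lTensor, Win.eB_spec]

lemma smul_id_Hmap {R : Type u} [CommRing R] (L : SCx R) (M : Type u) [AddCommGroup M] [Module R M]
    (n : ℕ) (r : R) (x : L.H M n) : L.Hmap (r • LinearMap.id : M →ₗ[R] M) n x = r • x := by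
  obtain ⟨z, rfl⟩ := Submodule.Quotient.mk_surjective _ x
  rw [Hmap_mk, ← Submodule.Quotient.mk_smul]
  refine congrArg Submodule.Quotient.mk (Subtype.ext ?_)
  change (r • LinearMap.id).lTensor (L.X n) z.1 = r • z.1
  rw [LinearMap.lTensor_smul, LinearMap.smul_apply, LinearMap.lTensor_id]
  rfl

/-- windows commute with base change -/
noncomputable def Win.bc : (K.bc B).Win p where
  G := B ⊗[A] w.G
  m := w.m
  fp := have := w.fp; inferInstance
  u := w.uB B
  e M _ _ :=
    letI : Module A M := Module.compHom M (algebraMap A B)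
    haveI : IsScalarTower A B M := IsScalarTower.of_algebraMap_smul fun _ _ => rfl
    { w.eB B M with
      map_smul' := fun r x => by
        change w.eB B M (r • x) = r • w.eB B M x
        refine Subtype.ext ?_
        rw [← smul_id_Hmap (K.bc B) M p r x, Win.eB_natural, LinearMap.lTensor_smul,
          LinearMap.smul_apply, LinearMap.lTensor_id]
        rfl }
  nat {M N} _ _ _ _ g x :=
    letI : Module A M := Module.compHom M (algebraMap A B)
    haveI : IsScalarTower A B M := IsScalarTower.of_algebraMap_smul fun _ _ => rfl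
    letI : Module A N := Module.compHom N (algebraMap A B)
    haveI : IsScalarTower A B N := IsScalarTower.of_algebraMap_smul fun _ _ => rfl
    w.eB_natural B g x

end Win

section Functors

variable {K} {p : ℕ} (w : K.Win p)

/-- `H^p(K ⊗ -)` preserves surjections -/
def RExact (K : SCx A) (p : ℕ) : Prop :=
  ∀ (M N : Type u) [AddCommGroup M] [Module A M] [AddCommGroup N] [Module A N] (g : M →ₗ[A] N),
    Surjective g → Surjective (K.Hmap g p)

/-- `H^p(K ⊗ -)` preserves injections -/
def LExact (K : SCx A) (p : ℕ) : Prop :=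
  ∀ (M N : Type u) [AddCommGroup M] [Module A M] [AddCommGroup N] [Module A N] (g : M →ₗ[A] N),
    Injective g → Injective (K.Hmap g p)

lemma Win.surjOn_iff : FlatCx.SurjOn w.u ↔ K.RExact p := by
  constructor
  · intro h M N _ _ _ _ g hg y
    obtain ⟨x, hx, hxy⟩ := h M N g hg (w.e N y).1 (w.e N y).2
    refine ⟨(w.e M).symm ⟨x, hx⟩, (w.e N).injective (Subtype.ext ?_)⟩
    rw [w.nat, LinearEquiv.apply_symm_apply]
    exact hxy
  · intro h M N _ _ _ _ g hg y hy
    obtain ⟨x, hx⟩ := h M N g hg ((w.e N).symm ⟨y, hy⟩)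
    refine ⟨(w.e M x).1, (w.e M x).2, ?_⟩
    rw [← w.nat, hx, LinearEquiv.apply_symm_apply]

lemma Win.injOn_iff : FlatCx.InjOn w.u ↔ K.LExact p := by
  constructor
  · intro h M N _ _ _ _ g hg
    rw [injective_iff_map_eq_zero]
    intro x hx
    refine (w.e M).injective (Subtype.ext ?_)
    rw [map_zero, Submodule.coe_zero]
    refine h M N g hg _ (w.e M x).2 ?_
    rw [← w.nat, hx, map_zero, Submodule.coe_zero]
  · intro h M N _ _ _ _ g hg x hx hgx
    have h1 : K.Hmap g p ((w.e M).symm ⟨x, hx⟩) = 0 := by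
      refine (w.e N).injective (Subtype.ext ?_)
      rw [w.nat, LinearEquiv.apply_symm_apply, hgx, map_zero, Submodule.coe_zero]
    have h2 : (w.e M).symm ⟨x, hx⟩ = 0 :=
      h M N g hg (h1.trans (map_zero (K.Hmap g p)).symm)
    have h3 := congrArg (fun t => (w.e M t).1) h2
    simpa using h3

/-- right exactness in degree `p` is flatness of the cokernel of the window -/
theorem Win.rExact_iff : K.RExact p ↔ Module.Flat A (Cok w.u) :=
  w.surjOn_iff.symm.trans
    (FlatCx.surjOn_iff_flat (exact_mkQ w.u) (Submodule.mkQ_surjective _))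

/-- left exactness in degree `p` is flatness of the source of the window -/
theorem Win.lExact_iff : K.LExact p ↔ Module.Flat A w.G :=
  w.injOn_iff.symm.trans FlatCx.injOn_iff_flat

variable (K) (p : ℕ) (hK : ∀ n, Module.Flat A (K.X n))

include hK in
/-- adjacent degrees -/
theorem rExact_iff_lExact_succ : K.RExact p ↔ K.LExact (p + 1) := by
  have := hK p
  have := hK (p + 1)
  have := hK (p + 2)
  constructor
  · intro h M N _ _ _ _ g hg
    rw [injective_iff_map_eq_zero]
    intro x hx
    obtain ⟨z, rfl⟩ := Submodule.Quotient.mk_surjective _ x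
    rw [Hmap_mk, Submodule.Quotient.mk_eq_zero] at hx
    obtain ⟨t, ht⟩ := hx
    let π := Submodule.mkQ (LinearMap.range g)
    have hπ : Exact g π := g.exact_map_mkQ_range
    have hπg : π ∘ₗ g = 0 := hπ.linearMap_comp_eq_zero
    have ht' : π.lTensor (K.X p) t ∈ K.Z _ p := by
      change (K.d p).rTensor _ (π.lTensor (K.X p) t) = 0
      rw [FlatCx.rTensor_lTensor_comm, show (K.d p).rTensor N t = g.lTensor _ z.1 from ht,
        ← LinearMap.comp_apply, ← LinearMap.lTensor_comp, hπg, LinearMap.lTensor_zero,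
        LinearMap.zero_apply]
    obtain ⟨s, hs⟩ := h N _ π (Submodule.mkQ_surjective _) (Submodule.Quotient.mk ⟨_, ht'⟩)
    obtain ⟨s, rfl⟩ := Submodule.Quotient.mk_surjective _ s
    rw [Hmap_mk, Submodule.Quotient.eq] at hs
    change π.lTensor (K.X p) s.1 - π.lTensor (K.X p) t ∈ K.B _ p at hs
    -- correct `t` by a cocycle and a coboundary so that it comes from `M`
    obtain ⟨t', ht'z, ht'π⟩ : ∃ t', (K.d p).rTensor N t' = g.lTensor _ z.1 ∧
        π.lTensor (K.X p) t' = 0 := by
      rcases p with _ | q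
      · refine ⟨t - s.1, ?_, ?_⟩
        · rw [map_sub, show (K.d 0).rTensor N s.1 = 0 from s.2, sub_zero]
          exact ht
        · rw [map_sub, ← neg_sub, show π.lTensor (K.X 0) s.1 - π.lTensor (K.X 0) t = 0 from hs,
            neg_zero]
      · obtain ⟨v, hv⟩ := hs
        obtain ⟨v, rfl⟩ := LinearMap.lTensor_surjective (K.X q) (Submodule.mkQ_surjective _) v
        refine ⟨t - s.1 + (K.d q).rTensor N v, ?_, ?_⟩
        · rw [map_add, map_sub, show (K.d (q + 1)).rTensor N s.1 = 0 from s.2, sub_zero,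
            K.rTensor_d_d, add_zero]
          exact ht
        · rw [map_add, map_sub, ← FlatCx.rTensor_lTensor_comm, hv]
          abel
    obtain ⟨v, rfl⟩ := (lTensor_exact (K.X p) hπ (Submodule.mkQ_surjective _) t').1 ht'π
    refine (Submodule.Quotient.mk_eq_zero _).2 ⟨v, ?_⟩
    refine Module.Flat.lTensor_preserves_injective_linearMap (M := K.X (p + 1)) g hg ?_
    rw [← FlatCx.rTensor_lTensor_comm]
    exact ht'z
  · intro h M N _ _ _ _ g hg y
    obtain ⟨y, rfl⟩ := Submodule.Quotient.mk_surjective _ y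
    obtain ⟨x, hx⟩ := LinearMap.lTensor_surjective (K.X p) hg y.1
    let ι := (LinearMap.ker g).subtype
    have hexM : Exact ι g := LinearMap.exact_subtype_ker_map g
    obtain ⟨z, hz⟩ := (lTensor_exact (K.X (p + 1)) hexM hg ((K.d p).rTensor M x)).1 (by
      rw [← FlatCx.rTensor_lTensor_comm, hx]
      exact y.2)
    have hzZ : z ∈ K.Z _ (p + 1) := by
      refine Module.Flat.lTensor_preserves_injective_linearMap (M := K.X (p + 2)) ι
        (LinearMap.ker g).injective_subtype ?_
      rw [← FlatCx.rTensor_lTensor_comm, hz, K.rTensor_d_d, map_zero]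
    have h0 : K.Hmap ι (p + 1) (Submodule.Quotient.mk ⟨z, hzZ⟩) = 0 := by
      rw [Hmap_mk, Submodule.Quotient.mk_eq_zero]
      exact ⟨x, hz.symm⟩
    have h1 := h _ _ ι (LinearMap.ker g).injective_subtype (h0.trans (map_zero _).symm)
    rw [Submodule.Quotient.mk_eq_zero] at h1
    obtain ⟨w, hw⟩ := h1
    have hxZ : x - ι.lTensor (K.X p) w ∈ K.Z M p := by
      change (K.d p).rTensor M _ = 0
      rw [map_sub, FlatCx.rTensor_lTensor_comm, hw, ← hz]
      exact sub_self _
    refine ⟨Submodule.Quotient.mk ⟨_, hxZ⟩, ?_⟩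
    rw [Hmap_mk]
    refine congrArg Submodule.Quotient.mk (Subtype.ext ?_)
    change g.lTensor (K.X p) (x - ι.lTensor (K.X p) w) = y.1
    rw [map_sub, hx, ← LinearMap.comp_apply, ← LinearMap.lTensor_comp,
      show g ∘ₗ ι = 0 from hexM.linearMap_comp_eq_zero, LinearMap.lTensor_zero,
      LinearMap.zero_apply, sub_zero]

end Functors

section Phi

variable (K : SCx A) (p : ℕ)

/-- the comparison `M ⊗ H^p(K ⊗ A) → H^p(K ⊗ M)` -/
noncomputable def Φ (M : Type u) [AddCommGroup M] [Module A M] :
    M ⊗[A] K.H A p →ₗ[A] K.H M p :=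
  TensorProduct.lift
    { toFun := fun m => K.Hmap (LinearMap.toSpanSingleton A M m) p
      map_add' := fun a b => by
        refine LinearMap.ext fun x => ?_
        obtain ⟨z, rfl⟩ := Submodule.Quotient.mk_surjective _ x
        rw [LinearMap.add_apply, Hmap_mk, Hmap_mk, Hmap_mk, ← Submodule.Quotient.mk_add]
        refine congrArg Submodule.Quotient.mk (Subtype.ext ?_)
        change (LinearMap.toSpanSingleton A M (a + b)).lTensor (K.X p) z.1 = _
        rw [LinearMap.toSpanSingleton_add, LinearMap.lTensor_add, LinearMap.add_apply]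
        rfl
      map_smul' := fun r a => by
        refine LinearMap.ext fun x => ?_
        obtain ⟨z, rfl⟩ := Submodule.Quotient.mk_surjective _ x
        rw [LinearMap.smul_apply, Hmap_mk, Hmap_mk, RingHom.id_apply, ← Submodule.Quotient.mk_smul]
        refine congrArg Submodule.Quotient.mk (Subtype.ext ?_)
        change (LinearMap.toSpanSingleton A M (r • a)).lTensor (K.X p) z.1 = _
        rw [LinearMap.toSpanSingleton_smul, LinearMap.lTensor_smul, LinearMap.smul_apply]
        rfl }

lemma Φ_tmul (M : Type u) [AddCommGroup M] [Module A M] (m : M) (x : K.H A p) :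
    K.Φ p M (m ⊗ₜ x) = K.Hmap (LinearMap.toSpanSingleton A M m) p x := rfl

variable {K p} (w : K.Win p)

/-- `H^p(K ⊗ A) ≅ ker u` -/
noncomputable def Win.e₀ : K.H A p ≃ₗ[A] LinearMap.ker w.u :=
  w.e A ≪≫ₗ (TensorProduct.rid A w.G).ofSubmodules _ _ (by
    have key : ∀ t : w.G ⊗[A] A, w.u (TensorProduct.rid A w.G t) =
        TensorProduct.rid A _ (w.u.rTensor A t) := fun t => by
      induction t using TensorProduct.induction_on with
      | zero => simp
      | tmul a b => simp
      | add a b ha hb => simp [ha, hb]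
    ext g
    constructor
    · rintro ⟨t, ht, rfl⟩
      change w.u (TensorProduct.rid A w.G t) = 0
      rw [key, show w.u.rTensor A t = 0 from ht, map_zero]
    · intro hg
      refine ⟨(TensorProduct.rid A w.G).symm g, ?_, LinearEquiv.apply_symm_apply _ _⟩
      refine (TensorProduct.rid A (Fin w.m → A)).injective ?_
      rw [← key, LinearEquiv.apply_symm_apply, show w.u g = 0 from hg, map_zero])

lemma Win.e₀_val (x : K.H A p) : (w.e₀ x).1 = TensorProduct.rid A w.G (w.e A x).1 := rfl

variable (B : Type u) [CommRing B] [Algebra A B]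

/-- `H^p(K ⊗ B)` as the kernel of the base-changed window map -/
noncomputable def Win.eAlg : K.H B p ≃ₗ[A] LinearMap.ker (w.u.baseChange B) :=
  w.e B ≪≫ₗ (TensorProduct.comm A w.G B).ofSubmodules _
    ((LinearMap.ker (w.u.baseChange B)).restrictScalars A) (by
    have key : ∀ t : w.G ⊗[A] B, w.u.baseChange B (TensorProduct.comm A w.G B t) =
        TensorProduct.comm A _ B (w.u.rTensor B t) := fun t => by
      induction t using TensorProduct.induction_on with
      | zero => simp
      | tmul a b => simp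
      | add a b ha hb => simp [ha, hb]
    ext g
    constructor
    · rintro ⟨t, ht, rfl⟩
      change w.u.baseChange B (TensorProduct.comm A w.G B t) = 0
      rw [key, show w.u.rTensor B t = 0 from ht, map_zero]
    · intro hg
      refine ⟨(TensorProduct.comm A w.G B).symm g, ?_, LinearEquiv.apply_symm_apply _ _⟩
      refine (TensorProduct.comm A (Fin w.m → A) B).injective ?_
      rw [← key, LinearEquiv.apply_symm_apply, show w.u.baseChange B g = 0 from hg, map_zero])

lemma Win.eAlg_val (x : K.H B p) : (w.eAlg B x).1 = TensorProduct.comm A w.G B (w.e B x).1 := rfl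

/-- the comparison map is the comparison of kernels -/
theorem Win.eAlg_Φ (z : B ⊗[A] K.H A p) :
    w.eAlg B (K.Φ p B z) = kerBC w.u B (w.e₀.toLinearMap.lTensor B z) := by
  induction z using TensorProduct.induction_on with
  | zero =>
    rw [map_zero, map_zero, map_zero]
    exact (map_zero (kerBC w.u B)).symm
  | tmul b x =>
    refine Subtype.ext ?_
    rw [w.eAlg_val, Φ_tmul, w.nat, LinearMap.lTensor_tmul, kerBC_val, LinearMap.baseChange_tmul,
      LinearEquiv.coe_coe, Submodule.subtype_apply, w.e₀_val]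
    generalize (w.e A x).1 = t
    induction t using TensorProduct.induction_on with
    | zero => simp
    | tmul g a => simp [TensorProduct.smul_tmul']
    | add s t hs ht => simp only [map_add, tmul_add, hs, ht]
  | add s t hs ht =>
    rw [map_add, map_add, map_add, hs, ht]
    exact (map_add (kerBC w.u B) _ _).symm

theorem Win.Φ_bijective_iff : Bijective (K.Φ p B) ↔ Bijective (kerBC w.u B) := by
  rw [← Bijective.of_comp_iff' (w.eAlg B).bijective, show (w.eAlg B ∘ K.Φ p B) =
    kerBC w.u B ∘ w.e₀.toLinearMap.lTensor B from funext (w.eAlg_Φ B)]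
  exact Bijective.of_comp_iff _ (w.e₀.lTensor B).bijective

theorem Win.Φ_surjective_iff : Surjective (K.Φ p B) ↔ Surjective (kerBC w.u B) := by
  rw [← Surjective.of_comp_iff' (w.eAlg B).bijective, show (w.eAlg B ∘ K.Φ p B) =
    kerBC w.u B ∘ w.e₀.toLinearMap.lTensor B from funext (w.eAlg_Φ B)]
  exact Surjective.of_comp_iff _ (w.e₀.lTensor B).surjective

/-- `eAlg` is equivariant for multiplication by elements of `B` -/
theorem Win.eAlg_smul (b : B) (x : K.H B p) :
    (w.eAlg B (K.Hmap (LinearMap.mulLeft A b) p x)).1 = b • (w.eAlg B x).1 := by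
  rw [w.eAlg_val, w.nat, w.eAlg_val]
  generalize (w.e B x).1 = t
  induction t using TensorProduct.induction_on with
  | zero => simp
  | tmul g a => simp [TensorProduct.smul_tmul']
  | add s t hs ht => simp only [map_add, smul_add, hs, ht]

end Phi

end SCx

end Groth.Agent.CBC
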