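import Groth.Agent.CBC.CechRes
import Groth.Agent.CBC.BCx
import Groth.Agent.LFDesc.BaseChange

/-!
# The Čech complex commutes with arbitrary base change
-/

universe u

open CategoryTheory Opposite TopologicalSpace AlgebraicGeometry Function TensorProduct

namespace Groth.Agent.CBC

namespace SCx

variable {A : Type u} [CommRing A] {K K' : SCx A} (α : Hom K K') (h : ∀ n, Bijective (α.f n))

/-- a bijective morphism gives isomorphisms of the terms -/
noncomputable def Hom.equiv (n : ℕ) : K.X n ≃ₗ[A] K'.X n := LinearEquiv.ofBijective (α.f n) (h n)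

include h in
lemma Hom.h₀_bijective (n : ℕ) : Bijective (α.h₀ n) := by
  constructor
  · rw [injective_iff_map_eq_zero]
    intro x hx
    obtain ⟨z, rfl⟩ := Submodule.Quotient.mk_surjective _ x
    rw [Hom.h₀_mk, Submodule.Quotient.mk_eq_zero, Submodule.mem_comap] at hx
    rw [Submodule.Quotient.mk_eq_zero, Submodule.mem_comap]
    rcases n with _ | n
    · exact (h 0).1 ((show α.f 0 z.1 = 0 from hx).trans (map_zero _).symm)
    · obtain ⟨y, hy⟩ := hx
      obtain ⟨y, rfl⟩ := (h n).2 y
      exact ⟨y, (h (n + 1)).1 ((α.comm n y).trans hy)⟩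
  · intro x
    obtain ⟨z, rfl⟩ := Submodule.Quotient.mk_surjective _ x
    obtain ⟨w, hw⟩ := (h n).2 z.1
    refine ⟨Submodule.Quotient.mk ⟨w, (h (n + 1)).1 ?_⟩, ?_⟩
    · rw [α.comm, hw, map_zero]
      exact z.2
    · rw [Hom.h₀_mk]
      exact congrArg Submodule.Quotient.mk (Subtype.ext hw)

end SCx

open Groth.Agent.CohAff (inter inter_le le_inter mem_inter cd_apply)

variable {X S T X' : Scheme.{u}} (f : X ⟶ S) (g : T ⟶ S) (p : X' ⟶ X) (q : X' ⟶ T)
  {US : S.Opens} {UT : T.Opens} (hT : UT ≤ g ⁻¹ᵁ US) [Algebra Γ(S, US) Γ(T, UT)]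
  (halg : algebraMap Γ(S, US) Γ(T, UT) = (g.appLE US UT hT).hom) (M : X.Modules)

section Component

variable (hw : p ≫ f = q ≫ g) {V : X.Opens} (hV : V ≤ f ⁻¹ᵁ US) {V' : X'.Opens}
  (hp : V' ≤ p ⁻¹ᵁ V) (hV' : V' ≤ q ⁻¹ᵁ UT)

include halg hw in
lemma appLE_algebraMap (a : Γ(S, US)) :
    p.appLE V V' hp (QCoh.rres hV ((f.app US).hom a)) =
      QCoh.rres hV' ((q.app UT).hom (algebraMap Γ(S, US) Γ(T, UT) a)) := by
  rw [halg]
  change (f.appLE US V hV ≫ p.appLE V V' hp) a = (g.appLE US UT hT ≫ q.appLE UT V' hV') a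
  rw [Scheme.Hom.appLE_comp_appLE, Scheme.Hom.appLE_comp_appLE]
  simp only [hw]

/-- the pullback of sections, extended linearly -/
noncomputable def kBC :
    Γ(T, UT) ⊗[Γ(S, US)] Sec (f.app US).hom M hV →ₗ[Γ(T, UT)]
      Sec (q.app UT).hom ((Scheme.Modules.pullback p).obj M) hV' :=
  letI : Module Γ(S, US) (Sec (q.app UT).hom ((Scheme.Modules.pullback p).obj M) hV') :=
    Module.compHom _ (algebraMap Γ(S, US) Γ(T, UT))
  haveI : IsScalarTower Γ(S, US) Γ(T, UT)
      (Sec (q.app UT).hom ((Scheme.Modules.pullback p).obj M) hV') :=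
    IsScalarTower.of_algebraMap_smul fun _ _ => rfl
  LinearMap.liftBaseChange Γ(T, UT)
    ({ toFun := fun m => LimTop.unitSec p M hp m
       map_add' := fun a b => map_add (LimTop.unitSec p M hp) a b
       map_smul' := fun a m => (LimTop.unitSec_smul p M hp _ _).trans
         (congrArg (fun r : Γ(X', V') => r • LimTop.unitSec p M hp m)
           (appLE_algebraMap f g p q hT halg hw hV hp hV' a)) } :
      Sec (f.app US).hom M hV →ₗ[Γ(S, US)]
        Sec (q.app UT).hom ((Scheme.Modules.pullback p).obj M) hV')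

lemma kBC_tmul (b : Γ(T, UT)) (m : Sec (f.app US).hom M hV) :
    kBC f g p q hT halg M hw hV hp hV' (b ⊗ₜ m) =
      b • (show Sec (q.app UT).hom ((Scheme.Modules.pullback p).obj M) hV' from
        LimTop.unitSec p M hp m) := rfl

/-- restriction, linearly -/
noncomputable def secResA {Z : Scheme.{u}} {R : Type u} [CommRing R] {W : Z.Opens}
    (φ : R →+* Γ(Z, W)) (N : Z.Modules) {O O' : Z.Opens} (h : O ≤ W) (h' : O' ≤ O) :
    Sec φ N h →ₗ[R] Sec φ N (h'.trans h) where
  toFun m := QCoh.res N h' m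
  map_add' := map_add (QCoh.res N h').hom
  map_smul' r m := rs_sec_smul φ N h h' r m

lemma kBC_res {V₁ : X.Opens} (h₁ : V₁ ≤ V) {V₁' : X'.Opens} (h₁' : V₁' ≤ V')
    (hp₁ : V₁' ≤ p ⁻¹ᵁ V₁) (b : Γ(T, UT)) (m : Sec (f.app US).hom M hV) :
    kBC f g p q hT halg M hw (h₁.trans hV) hp₁ (h₁'.trans hV')
        (b ⊗ₜ secResA (f.app US).hom M hV h₁ m) =
      secResA (q.app UT).hom ((Scheme.Modules.pullback p).obj M) hV' h₁'
        (kBC f g p q hT halg M hw hV hp hV' (b ⊗ₜ m)) := by
  rw [kBC_tmul, kBC_tmul, map_smul]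
  refine congrArg (fun t : Sec (q.app UT).hom ((Scheme.Modules.pullback p).obj M) (h₁'.trans hV') =>
    b • t) ?_
  exact (LimTop.unitSec_res p M h₁ hp₁ m).trans (LimTop.res_unitSec p M hp h₁' m).symm

theorem kBC_bijective [M.IsQuasicoherent] (H : IsPullback p q f g) (hUS : IsAffineOpen US)
    (hUT : IsAffineOpen UT) (hVa : IsAffineOpen V) (hVeq : V' = LFDesc.over p q UT V) :
    Bijective (kBC f g p q hT halg M hw hV hp hV') := by
  subst hVeq
  rename_i inst _
  obtain rfl : inst = (g.appLE US UT hT).hom.toAlgebra :=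
    Algebra.algebra_ext _ _ fun r => congr($halg r)
  letI := (g.appLE US UT hT).hom.toAlgebra
  have e : ∀ z, kBC f g p q hT halg M hw hV hp hV' z = LFDesc.Φ f g p q M hT hw hV z := by
    intro z
    induction z using TensorProduct.induction_on with
    | zero =>
      exact (map_zero (kBC f g p q hT halg M hw hV hp hV')).trans
        (map_zero (LFDesc.Φ f g p q M hT hw hV)).symm
    | tmul b m => rfl
    | add a b ha hb =>
      exact (map_add (kBC f g p q hT halg M hw hV hp hV') a b).trans
        ((congrArg₂ (· + ·) ha hb).trans (map_add (LFDesc.Φ f g p q M hT hw hV) a b).symm)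
  have hb := LFDesc.Φ_bijective_of_isAffineOpen f g p q M hT H hUS hUT hV hVa
  rw [show (kBC f g p q hT halg M hw hV hp hV' : _ → _) =
    LFDesc.Φ f g p q M hT hw hV from funext e]
  exact hb

end Component

variable {ι : Type u} (U : ι → X.Opens) (hU : ∀ i, U i ≤ f ⁻¹ᵁ US)

/-- the covering after base change -/
abbrev bcCov : ι → X'.Opens := fun i => LFDesc.over p q UT (U i)

lemma bcCov_le (i : ι) : bcCov p q (UT := UT) U i ≤ q ⁻¹ᵁ UT := inf_le_right

lemma inter_bcCov_le {n : ℕ} (x : Fin (n + 1) → ι) :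
    inter (X := X'.toPresheafedSpace.carrier) (bcCov p q (UT := UT) U) x ≤
      p ⁻¹ᵁ (inter (X := X.toPresheafedSpace.carrier) U x) := fun z hz => by
  change p z ∈ inter U x
  rw [mem_inter]
  exact fun a => ((mem_inter.1 hz) a).1

lemma inter_bcCov {n : ℕ} (x : Fin (n + 1) → ι) :
    inter (X := X'.toPresheafedSpace.carrier) (bcCov p q (UT := UT) U) x =
      LFDesc.over p q UT (inter (X := X.toPresheafedSpace.carrier) U x) := by
  refine le_antisymm (le_inf (inter_bcCov_le p q U x) ((inter_le _ x 0).trans inf_le_right)) ?_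
  exact le_inter fun a => le_inf (inf_le_left.trans (p.preimage_mono (inter_le U x a))) inf_le_right

/-- the base change of the Čech complex -/
noncomputable abbrev cxS : SCx Γ(S, US) := cx (f.app US).hom U hU M

/-- the Čech complex of the base change -/
noncomputable abbrev cxT : SCx Γ(T, UT) :=
  cx (q.app UT).hom (bcCov p q U) (bcCov_le p q U) ((Scheme.Modules.pullback p).obj M)

variable [Finite ι] (hw : p ≫ f = q ≫ g)

/-- the comparison in one degree -/
noncomputable def cxBCf (n : ℕ) :
    ((cxS f M U hU).bc Γ(T, UT)).X n →ₗ[Γ(T, UT)] (cxT p q M (UT := UT) U).X n :=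
  LinearMap.pi fun x =>
    (kBC f g p q hT halg M hw (inter_le' U x hU) (inter_bcCov_le p q U x)
        (inter_le' _ x (bcCov_le p q U))) ∘ₗ
      LinearMap.baseChange Γ(T, UT) (LinearMap.proj (R := Γ(S, US))
        (φ := fun x => Sec (f.app US).hom M (inter_le' U x hU)) x)

omit [Finite ι] in
lemma cxBCf_tmul (n : ℕ) (b : Γ(T, UT)) (s : (cxS f M U hU).X n) (x : Fin (n + 1) → ι) :
    cxBCf f g p q hT halg M U hU hw n (b ⊗ₜ s) x =
      b • (show Sec (q.app UT).hom ((Scheme.Modules.pullback p).obj M)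
          (inter_le' _ x (bcCov_le p q U)) from
        LimTop.unitSec p M (inter_bcCov_le p q U x) (s x)) := rfl

/-- the comparison of complexes -/
noncomputable def cxBC : SCx.Hom ((cxS f M U hU).bc Γ(T, UT)) (cxT p q M (UT := UT) U) where
  f := cxBCf f g p q hT halg M U hU hw
  comm n z := by
    induction z using TensorProduct.induction_on with
    | zero => simp only [map_zero]
    | tmul b s =>
      funext x
      refine Eq.trans ?_ (cd_apply (Scheme.Modules.presheaf ((Scheme.Modules.pullback p).obj M))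
        (bcCov p q U) n (fun y => cxBCf f g p q hT halg M U hU hw n (b ⊗ₜ s) y) x).symm
      have e1 : (cxS f M U hU).d n s x = ∑ j : Fin (n + 2), (-1 : ℤ) ^ (j : ℕ) •
          secResA (f.app US).hom M (inter_le' U (x ∘ j.succAbove) hU)
            (CohAff.inter_comp_le U x j.succAbove) (s (x ∘ j.succAbove)) :=
        cd_apply M.presheaf U n (toC (f.app US).hom U hU M s) x
      change kBC f g p q hT halg M hw (inter_le' U x hU) (inter_bcCov_le p q U x)
        (inter_le' _ x (bcCov_le p q U)) (b ⊗ₜ (cxS f M U hU).d n s x) = _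
      rw [e1]
      refine (congrArg (kBC f g p q hT halg M hw (inter_le' U x hU) (inter_bcCov_le p q U x)
        (inter_le' _ x (bcCov_le p q U))) (TensorProduct.tmul_sum _ _ _)).trans
          ((map_sum _ _ _).trans ?_)
      refine Finset.sum_congr rfl fun j _ => ?_
      refine (congrArg (kBC f g p q hT halg M hw (inter_le' U x hU) (inter_bcCov_le p q U x)
        (inter_le' _ x (bcCov_le p q U)))
          (map_zsmul (TensorProduct.mk Γ(S, US) Γ(T, UT) _ b) _ _)).trans
            ((map_zsmul _ _ _).trans ?_)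
      refine congrArg _ ?_
      exact kBC_res f g p q hT halg M hw _ _ _ (CohAff.inter_comp_le U x j.succAbove)
        (CohAff.inter_comp_le (bcCov p q U) x j.succAbove) _ b _
    | add a b ha hb => simp only [map_add, ha, hb]

variable [M.IsQuasicoherent] (H : IsPullback p q f g) (hUS : IsAffineOpen US)
  (hUT : IsAffineOpen UT)
  (haff : ∀ {n : ℕ} (x : Fin (n + 1) → ι),
    IsAffineOpen (inter (X := X.toPresheafedSpace.carrier) U x))

include H hUS hUT haff in
theorem cxBC_bijective (n : ℕ) : Bijective ((cxBC f g p q hT halg M U hU hw).f n) := by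
  classical
  cases nonempty_fintype ι
  let P := fun x : Fin (n + 1) → ι => Sec (f.app US).hom M (inter_le' U x hU)
  let k := fun x : Fin (n + 1) → ι => LinearEquiv.ofBijective
    (kBC f g p q hT halg M hw (inter_le' U x hU) (inter_bcCov_le p q U x)
      (inter_le' _ x (bcCov_le p q U)))
    (kBC_bijective f g p q hT halg M hw _ _ _ H hUS hUT (haff x) (inter_bcCov p q U x))
  let e := TensorProduct.piRight Γ(S, US) Γ(T, UT) Γ(T, UT) P ≪≫ₗ LinearEquiv.piCongrRight k
  have he : ∀ z, (cxBC f g p q hT halg M U hU hw).f n z = e z := by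
    intro z
    induction z using TensorProduct.induction_on with
    | zero => simp only [map_zero]
    | tmul b s => rfl
    | add a b ha hb => simp only [map_add, ha, hb]
  rw [show ⇑((cxBC f g p q hT halg M U hU hw).f n) = ⇑e from funext he]
  exact e.bijective

omit [Finite ι] [Algebra Γ(S, US) Γ(T, UT)] in
include haff H hUS hUT hT hU in
lemma isAffineOpen_inter_bcCov {n : ℕ} (x : Fin (n + 1) → ι) :
    IsAffineOpen (inter (X := X'.toPresheafedSpace.carrier) (bcCov p q (UT := UT) U) x) := by
  rw [inter_bcCov p q U x]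
  haveI : IsAffine _ := hUS
  haveI : IsAffine _ := hUT
  haveI : IsAffine _ := haff x
  exact .of_isIso (Scheme.Hom.isPullback_resLE H hT (inter_le' U x hU) rfl).isoPullback.hom

end Groth.Agent.CBC
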