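import Groth.Agent.CBC.Funct
import Groth.Agent.CBC.CechBC

/-!
# Transfer of exactness between complexes over different rings
-/

universe u

open CategoryTheory Opposite TopologicalSpace AlgebraicGeometry Function TensorProduct

namespace Groth.Agent.CBC

namespace SCx

variable {A : Type u} [CommRing A] (B : Type u) [CommRing B] [Algebra A B] {K : SCx A} {p : ℕ}

lemma RExact.bc (h : K.RExact p) : (K.bc B).RExact p := by
  intro M N _ _ _ _ g hg y
  letI : Module A M := Module.compHom M (algebraMap A B)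
  haveI : IsScalarTower A B M := IsScalarTower.of_algebraMap_smul fun _ _ => rfl
  letI : Module A N := Module.compHom N (algebraMap A B)
  haveI : IsScalarTower A B N := IsScalarTower.of_algebraMap_smul fun _ _ => rfl
  obtain ⟨x, hx⟩ := h M N (g.restrictScalars A) hg (K.hBC B N p y)
  refine ⟨(K.hBC B M p).symm x, (K.hBC B N p).injective ?_⟩
  rw [hBC_natural, LinearEquiv.apply_symm_apply, hx]

lemma LExact.bc (h : K.LExact p) : (K.bc B).LExact p := by
  intro M N _ _ _ _ g hg a b hab
  letI : Module A M := Module.compHom M (algebraMap A B)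
  haveI : IsScalarTower A B M := IsScalarTower.of_algebraMap_smul fun _ _ => rfl
  letI : Module A N := Module.compHom N (algebraMap A B)
  haveI : IsScalarTower A B N := IsScalarTower.of_algebraMap_smul fun _ _ => rfl
  refine (K.hBC B M p).injective (h M N (g.restrictScalars A) hg ?_)
  rw [← hBC_natural, ← hBC_natural, hab]

variable {B} {K' : SCx A} (e : ∀ n, K.X n ≃ₗ[A] K'.X n)
  (he : ∀ n x, e (n + 1) (K.d n x) = K'.d n (e n x))

include he in
lemma RExact.of_equiv (h : K.RExact p) : K'.RExact p := by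
  intro M N _ _ _ _ g hg y
  obtain ⟨x, hx⟩ := h M N g hg ((hEquivOfEquiv e he N p).symm y)
  refine ⟨hEquivOfEquiv e he M p x, ?_⟩
  rw [← hEquivOfEquiv_natural e he, hx, LinearEquiv.apply_symm_apply]

include he in
lemma LExact.of_equiv (h : K.LExact p) : K'.LExact p := by
  intro M N _ _ _ _ g hg a b hab
  obtain ⟨a, rfl⟩ := (hEquivOfEquiv e he M p).surjective a
  obtain ⟨b, rfl⟩ := (hEquivOfEquiv e he M p).surjective b
  rw [← hEquivOfEquiv_natural e he, ← hEquivOfEquiv_natural e he] at hab
  exact congrArg _ (h M N g hg ((hEquivOfEquiv e he N p).injective hab))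

section Surj

variable {K' : SCx B} (g : ∀ n, K.X n ≃+ K'.X n)
  (hg : ∀ n (a : A) x, g n (a • x) = algebraMap A B a • g n x)
  (hA : Surjective (algebraMap A B))

/-- the comparison map along a surjection of rings -/
noncomputable def surjMap (n : ℕ) : (K.bc B).X n →ₗ[B] K'.X n :=
  letI : Module A (K'.X n) := Module.compHom _ (algebraMap A B)
  haveI : IsScalarTower A B (K'.X n) := IsScalarTower.of_algebraMap_smul fun _ _ => rfl
  LinearMap.liftBaseChange B
    ({ toFun := g n, map_add' := map_add (g n), map_smul' := hg n } : K.X n →ₗ[A] K'.X n)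

lemma surjMap_tmul (n : ℕ) (b : B) (x : K.X n) :
    surjMap g hg n (b ⊗ₜ x) = b • g n x := rfl

include hA in
lemma surjMap_bijective (n : ℕ) : Bijective (surjMap g hg n) := by
  have h1 : Surjective fun x : K.X n => (1 : B) ⊗ₜ[A] x := fun z => by
    induction z using TensorProduct.induction_on with
    | zero => exact ⟨0, TensorProduct.tmul_zero _ _⟩
    | tmul b x =>
      obtain ⟨a, rfl⟩ := hA b
      exact ⟨a • x, by simp [TensorProduct.tmul_smul, TensorProduct.smul_tmul', Algebra.smul_def]⟩
    | add s t hs ht =>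
      obtain ⟨s, rfl⟩ := hs
      obtain ⟨t, rfl⟩ := ht
      exact ⟨s + t, TensorProduct.tmul_add _ _ _⟩
  constructor
  · intro s t hst
    obtain ⟨s, rfl⟩ := h1 s
    obtain ⟨t, rfl⟩ := h1 t
    obtain rfl : s = t := (g n).injective
      ((one_smul B (g n s)).symm.trans (hst.trans (one_smul B (g n t))))
    rfl
  · intro y
    obtain ⟨x, rfl⟩ := (g n).surjective y
    exact ⟨(1 : B) ⊗ₜ x, by rw [surjMap_tmul, one_smul]⟩

variable (hd : ∀ n x, g (n + 1) (K.d n x) = K'.d n (g n x))

include hd in
lemma surjMap_d (n : ℕ) (z : (K.bc B).X n) :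
    surjMap g hg (n + 1) ((K.bc B).d n z) = K'.d n (surjMap g hg n z) := by
  induction z using TensorProduct.induction_on with
  | zero => simp only [map_zero]
  | tmul b x =>
    change surjMap g hg (n + 1) ((K.d n).baseChange B (b ⊗ₜ x)) = _
    rw [LinearMap.baseChange_tmul, surjMap_tmul, surjMap_tmul, hd, map_smul]
  | add s t hs ht => simp only [map_add, hs, ht]

include hg hA hd in
lemma RExact.of_surj (h : K.RExact p) : K'.RExact p :=
  (h.bc B).of_equiv (fun n => LinearEquiv.ofBijective _ (surjMap_bijective g hg hA n))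
    (surjMap_d g hg hd)

include hg hA hd in
lemma LExact.of_surj (h : K.LExact p) : K'.LExact p :=
  (h.bc B).of_equiv (fun n => LinearEquiv.ofBijective _ (surjMap_bijective g hg hA n))
    (surjMap_d g hg hd)

end Surj

end SCx

section Spec

/-- global functions of `A` -/
noncomputable abbrev φπ {A : Type u} [CommRing A] {X : Scheme.{u}}
    (π : X ⟶ Spec (CommRingCat.of A)) : A →+* Γ(X, ⊤) := Coh.toGlobal π

variable {A : Type u} [CommRing A] {X : Scheme.{u}} (π : X ⟶ Spec (CommRingCat.of A))
  (F : X.Modules) {ι : Type u} (U : ι → X.Opens) (hU : ∀ i, U i ≤ π ⁻¹ᵁ ⊤)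

/-- cochains over `Γ(Spec A)` as cochains over `A` -/
noncomputable def toA (n : ℕ) :
    (cxS π F U hU).X n ≃+ (cx (φπ π) U (fun _ => le_top) F).X n :=
  AddEquiv.refl _

/-- cochains over `A` as cochains over `Γ(Spec A)` -/
noncomputable def ofA (n : ℕ) :
    (cx (φπ π) U (fun _ => le_top) F).X n ≃+ (cxS π F U hU).X n :=
  AddEquiv.refl _

lemma toA_smul :
    letI := (Scheme.ΓSpecIso (CommRingCat.of A)).hom.hom.toAlgebra
    ∀ (n : ℕ) (a : Γ(Spec (CommRingCat.of A), ⊤)) (x : (cxS π F U hU).X n),
      toA π F U hU n (a • x) =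
        algebraMap Γ(Spec (CommRingCat.of A), ⊤) A a • toA π F U hU n x := by
  intro n a x
  funext y
  refine congrArg (fun r => QCoh.rres (inter_le' U y fun _ => le_top) r •
    (show Γ(F, CohAff.inter U y) from x y)) ?_
  change π.app ⊤ a = π.appTop ((Scheme.ΓSpecIso (CommRingCat.of A)).inv
    ((Scheme.ΓSpecIso (CommRingCat.of A)).hom a))
  exact congrArg (fun t => π.app ⊤ t) (congr($((Scheme.ΓSpecIso (CommRingCat.of A)).hom_inv_id) a)).symm

lemma ofA_smul :
    letI := (Scheme.ΓSpecIso (CommRingCat.of A)).inv.hom.toAlgebra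
    ∀ (n : ℕ) (a : A) (x : (cx (φπ π) U (fun _ => le_top) F).X n),
      ofA π F U hU n (a • x) =
        algebraMap A Γ(Spec (CommRingCat.of A), ⊤) a • ofA π F U hU n x :=
  fun _ _ _ => rfl

variable {π F U hU} {p : ℕ}

theorem rExact_iff_spec : (cxS π F U hU).RExact p ↔
    (cx (φπ π) U (fun _ => le_top) F).RExact p := by
  constructor
  · letI := (Scheme.ΓSpecIso (CommRingCat.of A)).hom.hom.toAlgebra
    exact fun h => h.of_surj (toA π F U hU) (toA_smul π F U hU)
      (ConcreteCategory.bijective_of_isIso (Scheme.ΓSpecIso (CommRingCat.of A)).hom).2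
      fun _ _ => rfl
  · letI := (Scheme.ΓSpecIso (CommRingCat.of A)).inv.hom.toAlgebra
    exact fun h => h.of_surj (ofA π F U hU) (ofA_smul π F U hU)
      (ConcreteCategory.bijective_of_isIso (Scheme.ΓSpecIso (CommRingCat.of A)).inv).2
      fun _ _ => rfl

theorem lExact_iff_spec : (cxS π F U hU).LExact p ↔
    (cx (φπ π) U (fun _ => le_top) F).LExact p := by
  constructor
  · letI := (Scheme.ΓSpecIso (CommRingCat.of A)).hom.hom.toAlgebra
    exact fun h => h.of_surj (toA π F U hU) (toA_smul π F U hU)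
      (ConcreteCategory.bijective_of_isIso (Scheme.ΓSpecIso (CommRingCat.of A)).hom).2
      fun _ _ => rfl
  · letI := (Scheme.ΓSpecIso (CommRingCat.of A)).inv.hom.toAlgebra
    exact fun h => h.of_surj (ofA π F U hU) (ofA_smul π F U hU)
      (ConcreteCategory.bijective_of_isIso (Scheme.ΓSpecIso (CommRingCat.of A)).inv).2
      fun _ _ => rfl

end Spec

end Groth.Agent.CBC
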