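import Groth.Agent.CBC.Stage
import Groth.Agent.CBC.Transfer
import Groth.Agent.CBC.Noeth
import Groth.Agent.TwistFlat.OpenBC
import Groth.Agent.S2115
import Groth.Agent.S0002

/-!
# Finite windows for proper flat families over arbitrary bases
-/

universe u

open CategoryTheory CategoryTheory.Limits Opposite TopologicalSpace AlgebraicGeometry Function
  TensorProduct

namespace Groth.Agent.CBC

open Groth.Agent.CohAff (inter inter_le le_inter mem_inter Cochain cd cd_apply)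

lemma finCoh : FinCoh.{u} := fun A _ _ Z _ _ M hM n => Groth.Agent.S0002.result A Z M hM n

section Image

variable {X Z : Scheme.{u}} (j : Z ⟶ X) [IsOpenImmersion j] {ι : Type u} (O : ι → Z.Opens)

lemma image_inter {n : ℕ} (x : Fin (n + 1) → ι) :
    j ''ᵁ inter (X := Z.toPresheafedSpace.carrier) O x =
      inter (X := X.toPresheafedSpace.carrier) (fun i => j ''ᵁ O i) x := by
  refine le_antisymm (le_inter fun a => j.image_mono (inter_le O x a)) fun z hz => ?_
  obtain ⟨y, -, rfl⟩ := inter_le (X := X.toPresheafedSpace.carrier) (fun i => j ''ᵁ O i) x 0 hz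
  refine ⟨y, mem_inter.2 fun a => ?_, rfl⟩
  obtain ⟨y', hy', e⟩ := mem_inter.1 hz a
  exact j.isOpenEmbedding.injective e ▸ hy'

variable (M : X.Modules)

/-- cochains on an open subscheme as cochains on the scheme -/
noncomputable def upC (n : ℕ) :
    Cochain (M.restrict j).presheaf O n ≃+ Cochain M.presheaf (fun i => j ''ᵁ O i) n where
  toFun s x := QCoh.res M (image_inter j O x).ge (show Γ(M, j ''ᵁ inter O x) from s x)
  invFun s x := show Γ(M, j ''ᵁ inter O x) from QCoh.res M (image_inter j O x).le (s x)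
  left_inv s := funext fun x => (QCoh.res_res M _ _ _).trans (QCoh.res_self M _ _)
  right_inv s := funext fun x => (QCoh.res_res M _ _ _).trans (QCoh.res_self M _ _)
  map_add' s t := funext fun x => map_add (QCoh.res M (image_inter j O x).ge).hom _ _

lemma upC_apply (n : ℕ) (s : Cochain (M.restrict j).presheaf O n) (x : Fin (n + 1) → ι) :
    upC j O M n s x = QCoh.res M (image_inter j O x).ge (show Γ(M, j ''ᵁ inter O x) from s x) := rfl

lemma upC_cd (n : ℕ) (s : Cochain (M.restrict j).presheaf O n) :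
    upC j O M (n + 1) (cd (M.restrict j).presheaf O n s) =
      cd M.presheaf (fun i => j ''ᵁ O i) n (upC j O M n s) := by
  funext x
  refine Eq.trans ?_ (cd_apply _ _ _ _ _).symm
  refine Eq.trans (congrArg (QCoh.res M (image_inter j O x).ge)
    (cd_apply (M.restrict j).presheaf O n s x)) ?_
  refine (map_sum (QCoh.res M (image_inter j O x).ge).hom _ _).trans
    (Finset.sum_congr rfl fun a _ => ?_)
  refine (map_zsmul (QCoh.res M (image_inter j O x).ge).hom _ _).trans (congrArg _ ?_)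
  exact (QCoh.res_res M (j.image_mono (CohAff.inter_comp_le O x a.succAbove))
    (image_inter j O x).ge _).trans (QCoh.res_res M (image_inter j O (x ∘ a.succAbove)).ge
      (CohAff.inter_comp_le (fun i => j ''ᵁ O i) x a.succAbove) _).symm

end Image

section Transport

variable {X S : Scheme.{u}} (f : X ⟶ S) {V : S.Opens} (hV : IsAffineOpen V)

/-- the preimage of an affine open over its spectrum -/
noncomputable def overV : (f ⁻¹ᵁ V).toScheme ⟶ Spec Γ(S, V) :=
  f.resLE V (f ⁻¹ᵁ V) le_rfl ≫ hV.isoSpec.hom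

lemma overV_app (b : Γ(Spec Γ(S, V), ⊤)) :
    ((f ⁻¹ᵁ V).ι.appIso ⊤).inv ((overV f hV).app ⊤ b) =
      QCoh.rres (f ⁻¹ᵁ V).ι_image_top.le (f.app V ((Scheme.ΓSpecIso Γ(S, V)).hom b)) := by
  rw [Scheme.Opens.ι_appIso]
  have h1 : (overV f hV).app ⊤ =
      hV.isoSpec.hom.appTop ≫ (f.resLE V (f ⁻¹ᵁ V) le_rfl).app ⊤ := rfl
  have h2 : (overV f hV).app ⊤ =
      (Scheme.ΓSpecIso Γ(S, V)).hom ≫ f.app V ≫ (f ⁻¹ᵁ V).topIso.inv := by
    rw [h1, IsAffineOpen.isoSpec_hom_appTop, Scheme.Hom.resLE_app_top, ← Scheme.Hom.app_eq_appLE]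
    simp only [Category.assoc]
    exact congrArg ((Scheme.ΓSpecIso Γ(S, V)).hom ≫ ·) (V.topIso.inv_hom_id_assoc _)
  rw [h2]
  rfl

lemma overV_app_rres (b : Γ(Spec Γ(S, V), ⊤)) (O' : (f ⁻¹ᵁ V).toScheme.Opens)
    (h : O' ≤ overV f hV ⁻¹ᵁ ⊤) (h' : (f ⁻¹ᵁ V).ι ''ᵁ O' ≤ f ⁻¹ᵁ V) :
    ((f ⁻¹ᵁ V).ι.appIso O').inv (QCoh.rres h ((overV f hV).app ⊤ b)) =
      QCoh.rres h' (f.app V ((Scheme.ΓSpecIso Γ(S, V)).hom b)) := by
  refine (QCoh.appIso_inv_rres (f ⁻¹ᵁ V).ι (le_top : O' ≤ ⊤) _).trans ?_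
  rw [overV_app, QCoh.rres_rres]

lemma isPullback_overV : IsPullback (overV f hV) (f ⁻¹ᵁ V).ι hV.fromSpec f := by
  have h := isPullback_morphismRestrict f V
  rw [← Scheme.Hom.resLE_eq_morphismRestrict] at h
  refine h.of_iso (Iso.refl _) hV.isoSpec (Iso.refl _) (Iso.refl _) ?_ ?_ ?_ ?_
  · exact (Category.id_comp _).symm
  · rw [Iso.refl_hom, Category.comp_id, Iso.refl_hom, Category.id_comp]
  · rw [Iso.refl_hom, Category.comp_id, hV.isoSpec_hom_fromSpec]
  · simp only [Iso.refl_hom, Category.comp_id, Category.id_comp]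

variable (F : X.Modules) {ι : Type u} [Finite ι] (O : ι → (f ⁻¹ᵁ V).toScheme.Opens)

variable (haff : ∀ {n : ℕ} (x : Fin (n + 1) → ι),
  IsAffineOpen (inter (X := (f ⁻¹ᵁ V).toScheme.toPresheafedSpace.carrier) O x))
  (hcov : ⨆ i, O i = ⊤)

/-- a covering of the open subscheme as a model -/
noncomputable def Model.ofOver : Model f V where
  ι := ι
  fin := inferInstance
  U i := (f ⁻¹ᵁ V).ι ''ᵁ O i
  hU i := ((f ⁻¹ᵁ V).ι.image_mono le_top).trans (f ⁻¹ᵁ V).ι_image_top.le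
  cov := by
    rw [← Scheme.Hom.image_iSup, hcov]
    exact (f ⁻¹ᵁ V).ι_image_top.ge
  aff x := by
    rw [← image_inter]
    exact (haff x).image_of_isOpenImmersion _

lemma upC_smul (hO : ∀ i, O i ≤ overV f hV ⁻¹ᵁ ⊤) (n : ℕ) (b : Γ(Spec Γ(S, V), ⊤))
    (s : (cxS (overV f hV) (F.restrict (f ⁻¹ᵁ V).ι) O hO).X n) :
    (upC (f ⁻¹ᵁ V).ι O F n (toC _ O hO _ (b • s)) :
        ((Model.ofOver f O haff hcov).K F).X n) =
      (Scheme.ΓSpecIso Γ(S, V)).hom b •
        (show ((Model.ofOver f O haff hcov).K F).X n from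
          upC (f ⁻¹ᵁ V).ι O F n (toC _ O hO _ s)) := by
  funext x
  refine (congrArg (QCoh.res F (image_inter (f ⁻¹ᵁ V).ι O x).ge)
    (QCoh.restrict_smul (f ⁻¹ᵁ V).ι F _ _)).trans ?_
  refine (QCoh.res_smul F _ _ _).trans ?_
  refine congrArg (fun r : Γ(X, inter (X := X.toPresheafedSpace.carrier)
      (fun i => (f ⁻¹ᵁ V).ι ''ᵁ O i) x) =>
    r • QCoh.res F (image_inter (f ⁻¹ᵁ V).ι O x).ge
      (show Γ(F, (f ⁻¹ᵁ V).ι ''ᵁ inter (X := (f ⁻¹ᵁ V).toScheme.toPresheafedSpace.carrier) O x) from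
        toC _ O hO _ s x)) ?_
  refine (congrArg (QCoh.rres (image_inter (f ⁻¹ᵁ V).ι O x).ge)
    (overV_app_rres f hV b (inter (X := (f ⁻¹ᵁ V).toScheme.toPresheafedSpace.carrier) O x)
      ((inter_le' O x hO)) (((f ⁻¹ᵁ V).ι.image_mono le_top).trans (f ⁻¹ᵁ V).ι_image_top.le))).trans ?_
  exact QCoh.rres_rres _ _ _

variable {F}

/-- windows from the open subscheme -/
theorem nonempty_win_ofOver (hO : ∀ i, O i ≤ overV f hV ⁻¹ᵁ ⊤) {p : ℕ}
    (w : (cxS (overV f hV) (F.restrict (f ⁻¹ᵁ V).ι) O hO).Win p) :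
    Nonempty (((Model.ofOver f O haff hcov).K F).Win p) := by
  letI := (Scheme.ΓSpecIso Γ(S, V)).hom.hom.toAlgebra
  let g : ∀ n, (cxS (overV f hV) (F.restrict (f ⁻¹ᵁ V).ι) O hO).X n ≃+
      ((Model.ofOver f O haff hcov).K F).X n := fun n => upC (f ⁻¹ᵁ V).ι O F n
  have hg : ∀ (n : ℕ) (a : Γ(Spec Γ(S, V), ⊤)) x, g n (a • x) = algebraMap _ Γ(S, V) a • g n x :=
    upC_smul f hV F O haff hcov hO
  have hd : ∀ n x, g (n + 1) ((cxS (overV f hV) (F.restrict (f ⁻¹ᵁ V).ι) O hO).d n x) =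
      ((Model.ofOver f O haff hcov).K F).d n (g n x) := fun n x => upC_cd _ O F n _
  exact ⟨SCx.Win.ofEquiv
    (fun n => LinearEquiv.ofBijective _ (SCx.surjMap_bijective g hg
      (ConcreteCategory.bijective_of_isIso (Scheme.ΓSpecIso Γ(S, V)).hom).2 n))
    (SCx.surjMap_d g hg hd) (w.bc Γ(S, V))⟩

end Transport

section Main

variable {X S : Scheme.{u}} {f : X ⟶ S} [IsProper f] [LocallyOfFinitePresentation f] {F : X.Modules}
  [F.IsQuasicoherent] (hF : CohB1.IsFP F) (hfl : FlatMod.IsFlatOver f F)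

include hF hfl in
/-- windows over every affine open of an arbitrary base -/
theorem exists_model_win' {V : S.Opens} (hV : IsAffineOpen V) :
    ∃ D : Model f V, ∀ p, Nonempty ((D.K F).Win p) := by
  let W := f ⁻¹ᵁ V
  let u : W.toScheme ⟶ Spec (CommRingCat.of Γ(S, V)) := overV f hV
  have hpb : IsPullback u W.ι hV.fromSpec f := isPullback_overV f hV
  haveI : IsProper u := MorphismProperty.of_isPullback hpb.flip ‹IsProper f›
  haveI : LocallyOfFinitePresentation u :=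
    MorphismProperty.of_isPullback hpb.flip ‹LocallyOfFinitePresentation f›
  haveI hq : (F.restrict W.ι).IsQuasicoherent := Scheme.Modules.isQuasicoherent_restrictFunctor _ F
  haveI : Coh.IsQCoh F := ‹F.IsQuasicoherent›
  have hF' : CohB1.IsFP (F.restrict W.ι) :=
    S2115.isFP_of_iso ((Scheme.Modules.restrictFunctorIsoPullback W.ι).app F).symm
      (ConsPairLib.isFP_pullback W.ι F hF).2
  have hfl' : FlatMod.IsFlatOver u (F.restrict W.ι) :=
    (TwistFlat.isFlatOver_restrict_iff hpb F).2 fun x => hfl _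
  obtain ⟨A₀, X₀, u₀, q, F₀, hA₀, hu₀, H, hF₀, hfl₀, ⟨e⟩⟩ :=
    exists_noetherian_model u (F.restrict W.ι) hF' hfl'
  haveI : IsNoetherianRing A₀ := by
    have := (Subalgebra.fg_iff_finiteType A₀).mp hA₀
    exact Algebra.FiniteType.isNoetherianRing ℤ A₀
  haveI : IsNoetherianRing Γ(Spec (CommRingCat.of A₀), ⊤) :=
    isNoetherianRing_of_ringEquiv A₀
      (Scheme.ΓSpecIso (CommRingCat.of A₀)).commRingCatIsoToRingEquiv.symm
  haveI : F₀.IsQuasicoherent := hF₀.1
  obtain ⟨D₀⟩ := nonempty_model u₀ (isAffineOpen_top (Spec (CommRingCat.of A₀)))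
  let φ := CommRingCat.ofHom A₀.val.toRingHom
  let O := bcCov q u (UT := (⊤ : (Spec (CommRingCat.of Γ(S, V))).Opens)) D₀.U
  have hcov : ⨆ i, O i = ⊤ := iSup_bcCov (Spec.map φ) q u D₀ H le_top
  haveI := D₀.fin
  refine ⟨Model.ofOver f O
    (isAffineOpen_inter_bcCov u₀ (Spec.map φ) q u le_top D₀.U D₀.hU H (isAffineOpen_top _)
      (isAffineOpen_top _) D₀.aff) hcov, fun p => ?_⟩
  obtain ⟨w⟩ := nonempty_win (isAffineOpen_top _) D₀ F₀ hF₀ hfl₀ finCoh p
  letI : Algebra Γ(Spec (CommRingCat.of A₀), ⊤) Γ(Spec (CommRingCat.of Γ(S, V)), ⊤) :=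
    ((Spec.map φ).appLE ⊤ ⊤ le_top).hom.toAlgebra
  let α := cxBC (US := ⊤) (UT := ⊤) u₀ (Spec.map φ) q u le_top rfl F₀ D₀.U D₀.hU H.w
  let β := cxMap (u.app ⊤).hom O (bcCov_le q u D₀.U) e.hom
  have hβ : ∀ n, Bijective (β.f n) := fun n => by
    refine Function.bijective_iff_has_inverse.2
      ⟨(cxMap (u.app ⊤).hom O (bcCov_le q u D₀.U) e.inv).f n, fun s => funext fun x => ?_,
        fun s => funext fun x => ?_⟩
    · exact congr($(congrArg (fun ψ => Scheme.Modules.Hom.app ψ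
        (inter (X := W.toScheme.toPresheafedSpace.carrier) O x)) e.hom_inv_id) (s x))
    · exact congr($(congrArg (fun ψ => Scheme.Modules.Hom.app ψ
        (inter (X := W.toScheme.toPresheafedSpace.carrier) O x)) e.inv_hom_id) (s x))
  have hb : ∀ n, Bijective ((α.comp β).f n) := fun n =>
    (hβ n).comp (cxBC_bijective (US := ⊤) (UT := ⊤) u₀ (Spec.map φ) q u le_top rfl F₀ D₀.U D₀.hU H.w H
      (isAffineOpen_top _) (isAffineOpen_top _) D₀.aff n)
  exact nonempty_win_ofOver f hV O _ hcov (bcCov_le q u D₀.U)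
    (SCx.Win.ofEquiv (fun n => LinearEquiv.ofBijective _ (hb n)) (α.comp β).comm
      (w.bc Γ(Spec (CommRingCat.of Γ(S, V)), ⊤)))

end Main

end Groth.Agent.CBC
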