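import Groth.Agent.CBC.Rel
import Groth.Agent.S0010
import Groth.Agent.ZClosLib.CohDescent
import Mathlib.Algebra.TrivSqZeroExt.Basic

/-!
# Vanishing, finiteness and windows for Čech models
-/

universe u

open CategoryTheory Limits Opposite TopologicalSpace AlgebraicGeometry Function TensorProduct

namespace Groth.Agent.CBC

variable {X S : Scheme.{u}} {f : X ⟶ S} {V : S.Opens} (hV : IsAffineOpen V) (D : Model f V)

/-- `Spec R → S` over `V` -/
noncomputable def specTo (R : Type u) [CommRing R] [Algebra Γ(S, V) R] :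
    Spec (CommRingCat.of R) ⟶ S :=
  Spec.map (CommRingCat.ofHom (algebraMap Γ(S, V) R)) ≫ hV.fromSpec

lemma specTo_le (R : Type u) [CommRing R] [Algebra Γ(S, V) R] :
    ⊤ ≤ specTo hV R ⁻¹ᵁ V := by
  rw [specTo, Scheme.Hom.comp_preimage, hV.fromSpec_preimage_self]
  exact le_rfl

lemma inv_map_appLE {A B : CommRingCat.{u}} (φ : A ⟶ B) (W : (Spec A).Opens) (hW : W = ⊤)
    (e : ⊤ ≤ Spec.map φ ⁻¹ᵁ W) :
    (Scheme.ΓSpecIso A).inv ≫ (Spec A).presheaf.map (eqToHom hW).op ≫
      (Spec.map φ).appLE W ⊤ e = φ ≫ (Scheme.ΓSpecIso B).inv := by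
  subst hW
  rw [eqToHom_refl, op_id, CategoryTheory.Functor.map_id, Category.id_comp,
    Scheme.ΓSpecIso_inv_naturality]
  congr 1

lemma specTo_appLE (R : Type u) [CommRing R] [Algebra Γ(S, V) R] (a : Γ(S, V)) :
    (specTo hV R).appLE V ⊤ (specTo_le hV R) a =
      (Scheme.ΓSpecIso (CommRingCat.of R)).inv (algebraMap Γ(S, V) R a) := by
  have h : ∀ e, (Spec.map (CommRingCat.ofHom (algebraMap Γ(S, V) R)) ≫ hV.fromSpec).appLE V ⊤ e =
      CommRingCat.ofHom (algebraMap Γ(S, V) R) ≫ (Scheme.ΓSpecIso (CommRingCat.of R)).inv := by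
    intro e
    rw [Scheme.Hom.comp_appLE, hV.fromSpec_app_self, Category.assoc]
    exact inv_map_appLE _ _ _ _
  exact congr($(h (specTo_le hV R)) a)

variable [IsSeparated f] (F : X.Modules) [F.IsQuasicoherent]

include hV in
lemma subsingleton_H_alg (R : Type u) [CommRing R] [Algebra Γ(S, V) R] (n : ℕ)
    (hn : Nat.card D.ι ≤ n) : Subsingleton ((D.K F).H R n) := by
  let g := specTo hV R
  let p := pullback.fst f g
  let q := pullback.snd f g
  have H : IsPullback p q f g := IsPullback.of_hasPullback f g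
  refine (ringEquiv g p q hV D F H (specTo_le hV R) (specTo_appLE hV R) n).toEquiv.subsingleton_congr.2 ?_
  have := QCoh.isQuasicoherent_pullback p F
  have hsep : (pullback f g).IsSeparated :=
    ⟨(Subsingleton.elim _ _ : q ≫ terminal.from _ = terminal.from (pullback f g)) ▸
      inferInstanceAs (IsSeparated (q ≫ terminal.from (Spec (CommRingCat.of R))))⟩
  let e := Finite.equivFin D.ι
  let U := fun j => bcCov p q (UT := (⊤ : (Spec (CommRingCat.of R)).Opens)) D.U (e.symm j)
  have haff : ∀ i, IsAffineOpen (bcCov p q (UT := (⊤ : (Spec (CommRingCat.of R)).Opens)) D.U i) := by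
    intro i
    have h1 := isAffineOpen_inter_bcCov f g p q (specTo_le hV R) D.U D.hU H hV
      (isAffineOpen_top _) D.aff (n := 0) fun _ => i
    rwa [show CohAff.inter (X := (pullback f g).toPresheafedSpace.carrier) (bcCov p q D.U)
      (fun _ : Fin 1 => i) = bcCov p q D.U i from le_antisymm (CohAff.inter_le _ _ 0)
        (CohAff.le_inter fun _ => le_rfl)] at h1
  refine Groth.Agent.S0010.result _ (Nat.card D.ι) U (fun j => haff _) ?_
    (fun _ _ h1 h2 => h1.inf h2) _ n hn
  rw [← iSup_bcCov g p q D H (specTo_le hV R)]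
  exact e.symm.iSup_comp (g := fun i => bcCov p q D.U i)

include hV in
/-- the complex has no cohomology above the size of the covering -/
theorem subsingleton_H (M : Type u) [AddCommGroup M] [Module Γ(S, V) M] (n : ℕ)
    (hn : Nat.card D.ι ≤ n) : Subsingleton ((D.K F).H M n) := by
  letI : Module Γ(S, V)ᵐᵒᵖ M :=
    Module.compHom M ((RingHom.id Γ(S, V)).fromOpposite fun x y => mul_comm x y)
  haveI : IsCentralScalar Γ(S, V) M := ⟨fun _ _ => rfl⟩
  have := subsingleton_H_alg hV D F (TrivSqZeroExt Γ(S, V) M) n hn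
  let i : M →ₗ[Γ(S, V)] TrivSqZeroExt Γ(S, V) M := TrivSqZeroExt.inrHom _ _
  let s : TrivSqZeroExt Γ(S, V) M →ₗ[Γ(S, V)] M := TrivSqZeroExt.sndHom _ _
  refine Function.Injective.subsingleton (f := (D.K F).Hmap i n) ?_
  refine Function.LeftInverse.injective (g := (D.K F).Hmap s n) fun x => ?_
  rw [Hmap_comp, show s ∘ₗ i = LinearMap.id from
      LinearMap.ext fun m => TrivSqZeroExt.snd_inr (R := Γ(S, V)) m, Hmap_id]

omit [IsSeparated f] in
include hV in
/-- finite cohomology, given finiteness of cohomology over affine bases -/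
theorem finite_H₀ [IsProper f] [IsNoetherianRing Γ(S, V)] (hF : Coh.IsCoh F)
    (hfin : ∀ (A : Type u) [CommRing A] [IsNoetherianRing A] (Z : Scheme.{u})
      [Z.Over (Spec (CommRingCat.of A))] [IsProper (Z ↘ Spec (CommRingCat.of A))]
      (M : Z.Modules), Coh.IsCoh M → ∀ n : ℕ, Module.Finite A (Coh.HH Z M n)) (n : ℕ) :
    Module.Finite Γ(S, V) ((D.K F).H₀ n) := by
  let g := specTo hV Γ(S, V)
  let p := pullback.fst f g
  let q := pullback.snd f g
  have H : IsPullback p q f g := IsPullback.of_hasPullback f g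
  letI : (pullback f g).Over (Spec (CommRingCat.of Γ(S, V))) := ⟨q⟩
  have : IsProper ((pullback f g) ↘ Spec (CommRingCat.of Γ(S, V))) :=
    inferInstanceAs (IsProper (pullback.snd f g))
  have := hfin Γ(S, V) (pullback f g) _ (ZClosLib.CohDescent.isCoh_pullback p F hF) n
  let e := ringEquiv g p q hV D F H (specTo_le hV _) (specTo_appLE hV _) n
  let e' : (D.K F).H Γ(S, V) n ≃ₗ[Γ(S, V)]
      Coh.HH (pullback f g) ((Scheme.Modules.pullback p).obj F) n :=
    { e with
      map_smul' := fun r x => by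
        change e (r • x) = Coh.toGlobal q r • e x
        rw [← ringEquiv_smul g p q hV D F H (specTo_le hV _) (specTo_appLE hV _) n r x]
        refine congrArg e ?_
        rw [← SCx.smul_id_Hmap]
        congr 1 }
  exact Module.Finite.equiv (e'.symm ≪≫ₗ (D.K F).hA n)

omit [IsSeparated f] in
include hV in
/-- windows exist -/
theorem nonempty_win [IsProper f] [IsNoetherianRing Γ(S, V)] (hF : Coh.IsCoh F)
    (hfl : FlatMod.IsFlatOver f F)
    (hfin : ∀ (A : Type u) [CommRing A] [IsNoetherianRing A] (Z : Scheme.{u})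
      [Z.Over (Spec (CommRingCat.of A))] [IsProper (Z ↘ Spec (CommRingCat.of A))]
      (M : Z.Modules), Coh.IsCoh M → ∀ n : ℕ, Module.Finite A (Coh.HH Z M n)) (p : ℕ) :
    Nonempty ((D.K F).Win p) :=
  (D.K F).nonempty_win (fun n => D.flat_K F hV hfl n) (finite_H₀ hV D F hF hfin)
    (r := Nat.card D.ι) (fun M _ _ n hn => subsingleton_H hV D F M n hn) p

end Groth.Agent.CBC
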