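import Groth.Agent.CBC.Nhd
import Groth.Agent.FittLib.Rank
import Groth.Agent.FlatCx.Semicont

/-!
# Algebra of the locus where a window has flat cokernel and kernel of given rank
-/

universe u

open TensorProduct Function LinearMap

namespace Groth.Agent.CBC.Locus

set_option linter.unusedSectionVars false

variable {A : Type u} [CommRing A] (P : Type u) [AddCommGroup P] [Module A P] (c : ℕ)
  (B : Type u) [CommRing B] [Algebra A B]

/-- `B ⊗ P` is flat with fibres of dimension `c` -/
def Good : Prop := Module.Flat B (B ⊗[A] P) ∧ ∀ y, FlatCx.fib (A := B) (B ⊗[A] P) y = c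

variable {P c B}

lemma good_congr_scalars (A' : Type u) [CommRing A'] [Algebra A A'] [Algebra A' B]
    [IsScalarTower A A' B] : Good (A := A') (A' ⊗[A] P) c B ↔ Good (A := A) P c B := by
  let e := cb B A' P (A := A)
  unfold Good
  rw [FlatCx.fib_congr (A := B) _ e]
  exact and_congr_left fun _ =>
    ⟨fun h => Module.Flat.of_linearEquiv e.symm, fun h => Module.Flat.of_linearEquiv e⟩

/-- the ideal of coefficients of the relations -/
noncomputable def coeffI {n : ℕ} (π : (Fin n → A) →ₗ[A] P) : Ideal A :=
  ⨆ i, (LinearMap.ker π).map (LinearMap.proj i)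

lemma coeffI_le_iff {n : ℕ} (π : (Fin n → A) →ₗ[A] P) (J : Ideal A) :
    coeffI π ≤ J ↔ ∀ k ∈ LinearMap.ker π, ∀ i, k i ∈ J := by
  simp only [coeffI, iSup_le_iff, Submodule.map_le_iff_le_comap]
  exact ⟨fun h k hk i => h i hk, fun h i k hk => h k hk i⟩

variable [Module.FinitePresentation A P]

lemma coeffI_fg {n : ℕ} (π : (Fin n → A) →ₗ[A] P) (hπ : Surjective π) : (coeffI π).FG :=
  Submodule.fg_iSup _ fun _ => (Module.FinitePresentation.fg_ker π hπ).map _

theorem coeffI_le_ker_iff (π : (Fin c → A) →ₗ[A] P) (hπ : Surjective π) :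
    coeffI π ≤ RingHom.ker (algebraMap A B) ↔ Good (A := A) P c B := by
  let e := TensorProduct.piScalarRight A B B (Fin c)
  let πB : (Fin c → B) →ₗ[B] B ⊗[A] P := π.baseChange B ∘ₗ e.symm.toLinearMap
  have hs : Surjective πB :=
    (LinearMap.lTensor_surjective B hπ).comp e.symm.surjective
  have hex : Exact ((LinearMap.ker π).subtype.baseChange B) (π.baseChange B) :=
    lTensor_exact B (LinearMap.exact_subtype_ker_map π) hπ
  have hval : ∀ (b : B) (k : Fin c → A) (i : Fin c),
      e (b ⊗ₜ[A] k) i = algebraMap A B (k i) * b := fun b k i => by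
    simp [e, Algebra.smul_def]
  constructor
  · intro h
    rw [coeffI_le_iff] at h
    have h0 : ∀ w, e ((LinearMap.ker π).subtype.baseChange B w) = 0 := fun w => by
      induction w using TensorProduct.induction_on with
      | zero => rw [map_zero, map_zero]
      | tmul b k =>
        funext i
        change e (b ⊗ₜ[A] k.1) i = 0
        rw [hval, RingHom.mem_ker.1 (h k.1 k.2 i), zero_mul]
      | add s t hs ht => rw [map_add, map_add, hs, ht, add_zero]
    have hb : Bijective πB := by
      refine ⟨(injective_iff_map_eq_zero _).2 fun y hy => ?_, hs⟩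
      obtain ⟨w, hw⟩ := (hex _).1 (show π.baseChange B (e.symm y) = 0 from hy)
      rw [← e.apply_symm_apply y, ← hw, h0]
    let E := LinearEquiv.ofBijective πB hb
    refine ⟨Module.Flat.of_linearEquiv E.symm, fun y => ?_⟩
    have : Nontrivial B := (algebraMap B y.asIdeal.ResidueField).domain_nontrivial
    rw [← FlatCx.fib_congr (A := B) _ E, FlatCx.fib, Module.finrank_baseChange,
      Module.finrank_fin_fun]
  · rintro ⟨hfl, hfib⟩
    haveI : Module.FinitePresentation B (B ⊗[A] P) := inferInstance
    haveI : Module.Projective B (B ⊗[A] P) := Module.Flat.projective_of_finitePresentation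
    obtain ⟨s, hs'⟩ := Module.projective_lifting_property πB LinearMap.id hs
    let r : (Fin c → B) →ₗ[B] LinearMap.ker πB :=
      LinearMap.codRestrict _ (LinearMap.id - s ∘ₗ πB) fun x => by
        have h1 : πB (s (πB x)) = πB x := LinearMap.congr_fun hs' _
        change πB (x - s (πB x)) = 0
        rw [map_sub, h1]
        exact sub_self _
    have hr : r ∘ₗ (LinearMap.ker πB).subtype = LinearMap.id := by
      refine LinearMap.ext fun x => Subtype.ext ?_
      change x.1 - s (πB x.1) = x.1
      rw [show πB x.1 = 0 from x.2, map_zero, sub_zero]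
    haveI : Module.Finite B (LinearMap.ker πB) :=
      Module.Finite.iff_fg.2 (Module.FinitePresentation.fg_ker πB hs)
    have hK : Subsingleton (LinearMap.ker πB) := by
      rw [← Module.support_eq_empty_iff (R := B), Set.eq_empty_iff_forall_notMem]
      intro x hx
      rw [Module.mem_support_iff_nontrivial_residueField_tensorProduct] at hx
      let k := x.asIdeal.ResidueField
      have : Nontrivial B := (algebraMap B k).domain_nontrivial
      have hinj : Injective (πB.baseChange k) := by
        refine (LinearMap.injective_iff_surjective_of_finrank_eq_finrank ?_).2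
          (LinearMap.lTensor_surjective k hs)
        rw [Module.finrank_baseChange, Module.finrank_fin_fun]
        exact (hfib x).symm
      have : Subsingleton (k ⊗[B] LinearMap.ker πB) := subsingleton_of_forall_eq 0 fun z => by
        have h1 : πB.baseChange k ((LinearMap.ker πB).subtype.baseChange k z) = 0 := by
          rw [← LinearMap.comp_apply, ← LinearMap.baseChange_comp, LinearMap.comp_ker_subtype,
            LinearMap.baseChange_zero, LinearMap.zero_apply]
        have h2 : r.baseChange k ((LinearMap.ker πB).subtype.baseChange k z) = z := by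
          rw [← LinearMap.comp_apply, ← LinearMap.baseChange_comp, hr, LinearMap.baseChange_id]
          rfl
        rw [← h2, hinj (h1.trans (map_zero _).symm), map_zero]
      exact not_nontrivial _ hx
    rw [coeffI_le_iff]
    intro k hk i
    have h3 : πB (e (1 ⊗ₜ[A] k)) = 0 := by
      change π.baseChange B (e.symm (e (1 ⊗ₜ[A] k))) = 0
      rw [e.symm_apply_apply, LinearMap.baseChange_tmul, show π k = 0 from hk, tmul_zero]
    have h4 := congrFun (congrArg Subtype.val
      (Subsingleton.elim (⟨_, h3⟩ : LinearMap.ker πB) 0)) i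
    rw [RingHom.mem_ker]
    simpa [hval] using h4

/-- near a point with at most `c`-dimensional fibre the good locus is cut out by an ideal -/
theorem exists_ideal (g : A) (m : Fin c → P) (hm : ∀ x, g • x ∈ Submodule.span A (Set.range m))
    (A' : Type u) [CommRing A'] [Algebra A A'] (hg : IsUnit (algebraMap A A' g)) :
    ∃ I : Ideal A', I.FG ∧ ∀ (B : Type u) [CommRing B] [Algebra A' B] [Algebra A B]
      [IsScalarTower A A' B], I ≤ RingHom.ker (algebraMap A' B) ↔ Good (A := A) P c B := by
  let π : (Fin c → A') →ₗ[A'] A' ⊗[A] P :=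
    Fintype.linearCombination A' fun i => (1 : A') ⊗ₜ[A] m i
  have hπ : Surjective π := by
    rw [← LinearMap.range_eq_top, Fintype.range_linearCombination, eq_top_iff]
    rintro z -
    induction z using TensorProduct.induction_on with
    | zero => exact zero_mem _
    | add s t hs ht => exact add_mem hs ht
    | tmul a x =>
      have key : ∀ y ∈ Submodule.span A (Set.range m),
          (1 : A') ⊗ₜ[A] y ∈ Submodule.span A' (Set.range fun i => (1 : A') ⊗ₜ[A] m i) := by
        intro y hy
        induction hy using Submodule.span_induction with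
        | mem z hz =>
          obtain ⟨i, rfl⟩ := hz
          exact Submodule.subset_span ⟨i, rfl⟩
        | zero => rw [tmul_zero]; exact zero_mem _
        | add p q _ _ hp hq => rw [tmul_add]; exact add_mem hp hq
        | smul b p _ hp =>
          rw [tmul_smul, ← algebraMap_smul A' b ((1 : A') ⊗ₜ[A] p)]
          exact Submodule.smul_mem _ _ hp
      have : a ⊗ₜ[A] x = (a * (↑hg.unit⁻¹ : A')) • ((1 : A') ⊗ₜ[A] (g • x)) := by
        rw [tmul_smul, ← algebraMap_smul A' g ((1 : A') ⊗ₜ[A] x), smul_smul, mul_assoc,
          IsUnit.val_inv_mul, mul_one, smul_tmul', smul_eq_mul, mul_one]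
      rw [this]
      exact Submodule.smul_mem _ _ (key _ (hm x))
  refine ⟨coeffI π, coeffI_fg π hπ, fun B _ _ _ _ => ?_⟩
  rw [coeffI_le_ker_iff π hπ, good_congr_scalars]

/-- the fibre of `B ⊗ P` over a point -/
lemma fib_bc' (y : PrimeSpectrum B) :
    FlatCx.fib (A := B) (B ⊗[A] P) y =
      FlatCx.fib (A := A) P (PrimeSpectrum.comap (algebraMap A B) y) :=
  FlatCx.fib_bc P y

end Groth.Agent.CBC.Locus

namespace Groth.Agent.CBC

namespace SCx

variable {A : Type u} [CommRing A] {K : SCx A} {p : ℕ} (w : K.Win p) (B : Type u) [CommRing B]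
  [Algebra A B]

/-- cokernels of windows commute with base change -/
noncomputable def Win.cokUB : Cok (w.uB B) ≃ₗ[B] B ⊗[A] Cok w.u :=
  let e := TensorProduct.piScalarRight A B B (Fin w.m)
  let π : (Fin w.m → B) →ₗ[B] B ⊗[A] Cok w.u :=
    (Submodule.mkQ (LinearMap.range w.u)).baseChange B ∘ₗ e.symm.toLinearMap
  have hs : Surjective ((Submodule.mkQ (LinearMap.range w.u)).baseChange B) :=
    LinearMap.lTensor_surjective B (Submodule.mkQ_surjective _)
  have hπ : LinearMap.range (w.uB B) = LinearMap.ker π := by
    have hex : Exact (w.u.baseChange B) ((Submodule.mkQ (LinearMap.range w.u)).baseChange B) :=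
      lTensor_exact B (exact_mkQ w.u) (Submodule.mkQ_surjective _)
    refine Submodule.ext fun y => ⟨?_, fun hy => ?_⟩
    · rintro ⟨t, rfl⟩
      rw [LinearMap.mem_ker]
      change (Submodule.mkQ (LinearMap.range w.u)).baseChange B (e.symm (e (w.u.baseChange B t))) = 0
      rw [LinearEquiv.symm_apply_apply]
      exact hex.apply_apply_eq_zero t
    · obtain ⟨t, ht⟩ := (hex _).1 (show _ = 0 from hy)
      refine ⟨t, ?_⟩
      change e (w.u.baseChange B t) = y
      rw [ht]
      exact e.apply_symm_apply y
  Submodule.quotEquivOfEq _ _ hπ ≪≫ₗ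
    LinearMap.quotKerEquivOfSurjective π (hs.comp e.symm.surjective)

/-- the module whose good locus is that of the window -/
abbrev Win.P : Type u := Cok w.u × w.G

lemma Win.fp_P : Module.FinitePresentation A w.P := by
  have := w.fp
  have : Module.FinitePresentation A (Fin w.m → A) :=
    Module.finitePresentation_of_projective A _
  have : Module.FinitePresentation A (Cok w.u) :=
    Module.finitePresentation_of_surjective (Submodule.mkQ (LinearMap.range w.u))
      (Submodule.mkQ_surjective _)
      (by rw [Submodule.ker_mkQ]; exact Module.Finite.iff_fg.1 inferInstance)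
  infer_instance

lemma fib_fin (m : ℕ) (x : PrimeSpectrum A) : FlatCx.fib (Fin m → A) x = m := by
  have : Nontrivial A := (algebraMap A x.asIdeal.ResidueField).domain_nontrivial
  rw [FlatCx.fib, Module.finrank_baseChange, Module.finrank_fin_fun]

lemma Win.fib_P (x : PrimeSpectrum A) : FlatCx.fib w.P x = kerRank w.u x + w.m := by
  have := w.fp
  have h := kerRank_add w.u x
  rw [fib_fin] at h
  rw [h, add_comm]
  exact (TensorProduct.prodRight A x.asIdeal.ResidueField x.asIdeal.ResidueField
    (Cok w.u) w.G).finrank_eq.trans Module.finrank_prod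

/-- the good locus of a window -/
theorem Win.good_iff [Module.Flat A w.G] (r : ℕ) :
    Locus.Good (A := A) w.P (r + w.m) B ↔
      Module.Flat B (Cok (w.uB B)) ∧ ∀ y, kerRank (w.uB B) y = r := by
  have := w.fp
  let e := TensorProduct.prodRight A B B (Cok w.u) w.G
  have hflat : Module.Flat B (B ⊗[A] w.P) ↔ Module.Flat B (B ⊗[A] Cok w.u) := by
    refine ⟨fun h => ?_, fun h => ?_⟩
    · refine Module.Flat.of_retract (M := B ⊗[A] w.P) (e.symm.toLinearMap ∘ₗ LinearMap.inl B _ _)
        (LinearMap.fst B _ _ ∘ₗ e.toLinearMap) (LinearMap.ext fun z => ?_)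
      simp
    · have := flat_prod (A := B) (M := B ⊗[A] Cok w.u) (N := B ⊗[A] w.G)
      exact Module.Flat.of_linearEquiv e
  have hcok : Module.Flat B (B ⊗[A] Cok w.u) ↔ Module.Flat B (Cok (w.uB B)) :=
    ⟨fun h => Module.Flat.of_linearEquiv (w.cokUB B), fun h =>
      Module.Flat.of_linearEquiv (w.cokUB B).symm⟩
  have hfib : ∀ y : PrimeSpectrum B,
      FlatCx.fib (A := B) (B ⊗[A] w.P) y = kerRank (w.uB B) y + w.m := fun y => by
    have h := kerRank_add (w.uB B) y
    rw [fib_fin] at h
    rw [h, FlatCx.fib_congr (A := B) _ (w.cokUB B), add_comm]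
    rw [FlatCx.fib_congr (A := B) _ e]
    exact (TensorProduct.prodRight B y.asIdeal.ResidueField y.asIdeal.ResidueField _ _).finrank_eq.trans
      Module.finrank_prod
  unfold Locus.Good
  rw [hflat, hcok]
  simp only [hfib, add_left_inj]

end SCx

end Groth.Agent.CBC
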