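import Groth.Agent.RankLocus.Basic
import Groth.Agent.LimLib.ClosedApprox

/-!
# Subschemes representing a predicate given locally by finitely generated ideals

Let `P` be a predicate on morphisms to `X`. Suppose given affine opens `D i` with finitely generated
ideals `J i` of sections that are killed by every morphism with `P`, such that a morphism which
locally lands in some `D i` killing `J i` has `P`, and such that the `D i` are a basis of an open
`U₀` containing all images. Then `P` is represented by a subscheme of finite presentation.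
-/

set_option autoImplicit false
set_option linter.style.haveILetI false

universe u v

open CategoryTheory CategoryTheory.Limits AlgebraicGeometry TopologicalSpace Opposite

noncomputable section

namespace Groth.Agent.CBC.Locus

variable {X : Scheme.{u}}

/-- a test morphism into an affine open -/
theorem exists_test {D' : X.Opens} (hD' : IsAffineOpen D') (K : Ideal Γ(X, D')) :
    ∃ (T : Scheme.{u}) (f₀ : T ⟶ X), (∀ t, f₀ t ∈ D') ∧
      ∀ (V : X.Opens) (h : D' ≤ V) (c : Γ(X, V)),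
        f₀.app V c = 0 ↔ X.presheaf.map (homOfLE h).op c ∈ K := by
  let q : Γ(X, D') ⟶ CommRingCat.of (Γ(X, D') ⧸ K) := CommRingCat.ofHom (Ideal.Quotient.mk K)
  let f₀ := Spec.map q ≫ hD'.fromSpec
  have hrange : ∀ t, f₀ t ∈ D' := fun t => hD'.range_fromSpec.le ⟨_, rfl⟩
  refine ⟨_, f₀, hrange, fun V h c => ?_⟩
  have eV : (⊤ : (Spec (CommRingCat.of (Γ(X, D') ⧸ K))).Opens) ≤ f₀ ⁻¹ᵁ V :=
    fun t _ => h (hrange t)
  rw [RankLocus.app_eq_zero_iff eV, RankLocus.specMap_fromSpec_appLE hD' q V h,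
    CommRingCat.comp_apply, CommRingCat.comp_apply, map_eq_zero_iff
      (Scheme.ΓSpecIso (CommRingCat.of (Γ(X, D') ⧸ K))).inv.hom
      (ConcreteCategory.bijective_of_isIso
        (Scheme.ΓSpecIso (CommRingCat.of (Γ(X, D') ⧸ K))).inv).1]
  exact Ideal.Quotient.eq_zero_iff_mem

/-- charts for a predicate on morphisms to `X` -/
structure Charts (P : ∀ T : Scheme.{u}, (T ⟶ X) → Prop) (ι₀ : Type v) where
  D : ι₀ → X.Opens
  aff : ∀ i, IsAffineOpen (D i)
  J : ∀ i, Ideal Γ(X, D i)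
  fg : ∀ i, (J i).FG
  kills : ∀ (i : ι₀) (T : Scheme.{u}) (f : T ⟶ X), P T f → J i ≤ RingHom.ker (f.app (D i)).hom
  of_local : ∀ (T : Scheme.{u}) (f : T ⟶ X),
    (∀ t, ∃ i, f t ∈ D i ∧ J i ≤ RingHom.ker (f.app (D i)).hom) → P T f

variable {P : ∀ T : Scheme.{u}, (T ⟶ X) → Prop} {ι₀ : Type v}

/-- sections killed by every morphism with `P` -/
def killI (P : ∀ T : Scheme.{u}, (T ⟶ X) → Prop) (U : X.Opens) : Ideal Γ(X, U) :=
  ⨅ (T : Scheme.{u}) (f : T ⟶ X) (_ : P T f), RingHom.ker (f.app U).hom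

theorem mem_killI {U : X.Opens} {a : Γ(X, U)} :
    a ∈ killI P U ↔ ∀ (T : Scheme.{u}) (f : T ⟶ X), P T f → f.app U a = 0 := by
  simp only [killI, Submodule.mem_iInf, RingHom.mem_ker]

variable (C : Charts P ι₀)

theorem killI_chart (i : ι₀) : killI P (C.D i) = C.J i := by
  refine le_antisymm (fun a ha => ?_) fun a ha => mem_killI.2 fun T f hf => C.kills i T f hf ha
  obtain ⟨T, f₀, hr, hz⟩ := exists_test (C.aff i) (C.J i)
  have hid : ∀ c : Γ(X, C.D i), X.presheaf.map (homOfLE (le_refl (C.D i))).op c = c := fun c => by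
    simp
  have h₀ : P T f₀ := C.of_local T f₀ fun t => ⟨i, hr t, fun c hc => by
    rw [RingHom.mem_ker]
    exact (hz _ le_rfl c).2 (by rw [hid]; exact hc)⟩
  have := (hz _ le_rfl a).1 (mem_killI.1 ha T f₀ h₀)
  rwa [hid] at this

/-- A multiple of `a` by a power of `g` lies in the ideal, near a chart. -/
theorem exists_pow_mul_mem (U : X.Opens) (g a : Γ(X, U)) (i : ι₀) (hDU : C.D i ≤ U)
    (ha : X.presheaf.map (homOfLE (X.basicOpen_le g)).op a ∈ killI P (X.basicOpen g)) :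
    ∃ n : ℕ, ∀ (T : Scheme.{u}) (f : T ⟶ X), P T f →
      f.app (C.D i) (X.presheaf.map (homOfLE hDU).op (g ^ n * a)) = 0 := by
  let D := C.D i
  let ρ := (X.presheaf.map (homOfLE hDU).op).hom
  let gD := ρ g
  let D' := X.basicOpen gD
  have hD'D : D' ≤ D := X.basicOpen_le gD
  have hD'g : D' ≤ X.basicOpen g :=
    (Scheme.basicOpen_res X g (homOfLE hDU).op).le.trans inf_le_right
  let K : Ideal Γ(X, D') := (C.J i).map (X.presheaf.map (homOfLE hD'D).op).hom
  obtain ⟨T, f₀, hrange, hzero⟩ := exists_test ((C.aff i).basicOpen gD) K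
  have hf₀ : P T f₀ := C.of_local T f₀ fun t => ⟨i, hD'D (hrange t), fun c hc => by
    rw [RingHom.mem_ker]
    exact (hzero D hD'D c).2 (Ideal.mem_map_of_mem _ hc)⟩
  have haK := (hzero _ hD'g _).1 (mem_killI.1 ha T f₀ hf₀)
  rw [← CommRingCat.comp_apply, ← Functor.map_comp] at haK
  replace haK : X.presheaf.map (homOfLE hD'D).op (ρ a) ∈ K := by
    rw [← CommRingCat.comp_apply, ← Functor.map_comp]
    exact haK
  letI : Algebra Γ(X, D) Γ(X, D') := (X.presheaf.map (homOfLE hD'D).op).hom.toAlgebra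
  haveI : IsLocalization.Away gD Γ(X, D') := (C.aff i).isLocalization_basicOpen gD
  obtain ⟨⟨⟨c, hc⟩, ⟨_, n, rfl⟩⟩, he⟩ :=
    (IsLocalization.mem_map_algebraMap_iff (Submonoid.powers gD) Γ(X, D')).1 haK
  change algebraMap _ _ (ρ a) * algebraMap _ _ (gD ^ n) = algebraMap _ _ c at he
  rw [← map_mul] at he
  obtain ⟨⟨_, p, rfl⟩, hp⟩ :=
    (IsLocalization.eq_iff_exists (Submonoid.powers gD) Γ(X, D')).1 he
  refine ⟨p + n, fun T f hf => ?_⟩
  have hmem : ρ (g ^ (p + n) * a) ∈ C.J i := by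
    have h1 : gD ^ p * (ρ a * gD ^ n) = gD ^ p * c := hp
    have h2 : ρ (g ^ (p + n) * a) = gD ^ p * (ρ a * gD ^ n) := by
      rw [map_mul, map_pow, pow_add]; ring
    rw [h2, h1]
    exact (C.J i).mul_mem_left _ hc
  exact C.kills i T f hf hmem

variable (hsmall : ∀ (x : X) (O : X.Opens), x ∈ O → ∃ i, x ∈ C.D i ∧ C.D i ≤ O)
include hsmall

theorem exists_pow_mul_mem_killI {U : X.Opens} (hU : IsAffineOpen U) (g a : Γ(X, U))
    (ha : X.presheaf.map (homOfLE (X.basicOpen_le g)).op a ∈ killI P (X.basicOpen g)) :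
    ∃ n : ℕ, g ^ n * a ∈ killI P U := by
  classical
  choose i hxD hDU using fun x : U => hsmall x.1 U x.2
  choose n hn using fun x : U => exists_pow_mul_mem C U g a (i x) (hDU x) ha
  obtain ⟨s, hs⟩ := hU.isCompact.elim_finite_subcover (fun x : U => (C.D (i x) : Set X))
    (fun x => (C.D (i x)).2) (fun x hx => Set.mem_iUnion.2 ⟨⟨x, hx⟩, hxD _⟩)
  refine ⟨s.sup n, mem_killI.2 fun T f hf => ?_⟩
  refine TopCat.Presheaf.section_ext T.sheaf (f ⁻¹ᵁ U) _ 0 fun t ht => ?_
  obtain ⟨x, hxs, htD⟩ : ∃ x ∈ s, f t ∈ C.D (i x) := by simpa using hs ht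
  change T.presheaf.germ (f ⁻¹ᵁ U) t ht (f.app U (g ^ s.sup n * a)) =
    T.presheaf.germ (f ⁻¹ᵁ U) t ht 0
  rw [map_zero, ← T.presheaf.germ_res_apply (homOfLE (f.preimage_mono (hDU x))) t htD]
  refine (congrArg (T.presheaf.germ _ t htD) ?_).trans (map_zero _)
  have hle := Finset.le_sup (f := n) hxs
  rw [← Nat.sub_add_cancel hle, pow_add, mul_assoc, map_mul, map_mul]
  refine mul_eq_zero_of_right _ ?_
  refine Eq.trans ?_ (hn x T f hf)
  exact (congr($(f.naturality (homOfLE (hDU x)).op) (g ^ n x * a))).symm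

/-- the ideal sheaf -/
def killSheaf : X.IdealSheafData where
  ideal U := killI P U.1
  map_ideal_basicOpen U g := by
    refine le_antisymm (Ideal.map_le_iff_le_comap.2 fun a ha => ?_) fun b hb => ?_
    · exact mem_killI.2 fun T f hf =>
        RankLocus.app_res_eq_zero f (X.basicOpen_le g) (mem_killI.1 ha T f hf)
    · letI : Algebra Γ(X, U.1) Γ(X, X.basicOpen g) :=
        (X.presheaf.map (homOfLE (X.basicOpen_le g)).op).hom.toAlgebra
      haveI : IsLocalization.Away g Γ(X, X.basicOpen g) := U.2.isLocalization_basicOpen g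
      obtain ⟨⟨a, ⟨_, n, rfl⟩⟩, he⟩ := IsLocalization.surj (Submonoid.powers g) b
      change b * algebraMap _ _ (g ^ n) = algebraMap _ _ a at he
      obtain ⟨p, hp⟩ := exists_pow_mul_mem_killI C hsmall U.2 g a (by
        change algebraMap Γ(X, U.1) Γ(X, X.basicOpen g) a ∈ killI P (X.basicOpen g)
        rw [← he]
        exact Ideal.mul_mem_right _ _ hb)
      have hu : IsUnit (algebraMap Γ(X, U.1) Γ(X, X.basicOpen g) (g ^ (p + n))) :=
        IsLocalization.map_units Γ(X, X.basicOpen g)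
          (⟨g ^ (p + n), p + n, rfl⟩ : Submonoid.powers g)
      refine (Ideal.mul_unit_mem_iff_mem _ hu).1 ?_
      have : b * algebraMap _ _ (g ^ (p + n)) = algebraMap Γ(X, U.1) _ (g ^ p * a) := by
        rw [pow_add, map_mul, map_mul, ← he]; ring
      rw [this]
      exact Ideal.mem_map_of_mem _ hp

/-- the closed subscheme represents `P` -/
theorem factors_iff {T : Scheme.{u}} {f : T ⟶ X} :
    (∃ g : T ⟶ (killSheaf C hsmall).subscheme, g ≫ (killSheaf C hsmall).subschemeι = f) ↔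
      P T f := by
  let J := killSheaf C hsmall
  constructor
  · rintro ⟨g, rfl⟩
    refine C.of_local _ _ fun t => ?_
    obtain ⟨i, hi, -⟩ := hsmall ((g ≫ J.subschemeι) t) ⊤ trivial
    refine ⟨i, hi, fun c hc => ?_⟩
    have h1 : c ∈ J.ideal ⟨C.D i, C.aff i⟩ := (killI_chart C i).ge hc
    rw [← Scheme.IdealSheafData.ker_subschemeι_app, RingHom.mem_ker] at h1
    change g.app (J.subschemeι ⁻¹ᵁ C.D i) (J.subschemeι.app (C.D i) c) = 0
    exact (congrArg _ h1).trans (map_zero _)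
  · intro hf
    have hle : J.subschemeι.ker ≤ f.ker := by
      rw [Scheme.IdealSheafData.ker_subschemeι]
      exact Scheme.IdealSheafData.le_ofIdeals_iff.2 fun U a ha => mem_killI.1 ha T f hf
    exact ⟨IsClosedImmersion.lift J.subschemeι f hle, IsClosedImmersion.lift_fac _ _ _⟩

/-- the closed subscheme is of finite presentation -/
theorem lfp_subschemeι : LocallyOfFinitePresentation (killSheaf C hsmall).subschemeι := by
  let K := killSheaf C hsmall
  let f := K.subschemeι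
  have hcov : ⨆ i, C.D i = ⊤ := top_le_iff.1 fun x _ => by
    obtain ⟨i, hi, -⟩ := hsmall x ⊤ trivial
    exact Opens.mem_iSup.2 ⟨i, hi⟩
  refine (IsZariskiLocalAtTarget.iff_of_iSup_eq_top (P := @LocallyOfFinitePresentation)
    C.D hcov).mpr fun i => ?_
  have : IsAffine (C.D i : Scheme.{u}) := C.aff i
  have : IsAffine ((f ⁻¹ᵁ C.D i : K.subscheme.Opens) : Scheme.{u}) := (C.aff i).preimage f
  rw [HasRingHomProperty.iff_of_isAffine (P := @LocallyOfFinitePresentation),
    morphismRestrict_appTop]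
  apply RingHom.finitePresentation_respectsIso.1
    _ ((K.subscheme.presheaf.mapIso
      (eqToIso (image_morphismRestrict_preimage f (C.D i) ⊤)).op).commRingCatIsoToRingEquiv)
  have hU : (C.D i).ι ''ᵁ ⊤ = C.D i := by simp
  refine RingHom.FinitePresentation.of_surjective _
    (f.app_surjective _ (by rw [hU]; exact C.aff i)) ?_
  have key : ∀ (W : X.Opens) (hW : IsAffineOpen W), W = C.D i →
      (RingHom.ker (f.app W).hom).FG := by
    rintro W hW rfl
    rw [Scheme.IdealSheafData.ker_subschemeι_app K ⟨C.D i, hW⟩]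
    change (killI P (C.D i)).FG
    rw [killI_chart C i]
    exact C.fg i
  exact key _ (by rw [hU]; exact C.aff i) hU

end Groth.Agent.CBC.Locus

namespace Groth.Agent.CBC.Locus

variable {X : Scheme.{u}} {P : ∀ T : Scheme.{u}, (T ⟶ X) → Prop} {ι₀ : Type v}

/-- charts restricted to an open subscheme -/
def Charts.restrict (C : Charts P ι₀) (U₀ : X.Opens)
    (hsm : ∀ x ∈ U₀, ∀ O : X.Opens, x ∈ O → ∃ i, x ∈ C.D i ∧ C.D i ≤ O) :
    Charts (X := (U₀ : Scheme.{u})) (fun T g => P T (g ≫ U₀.ι)) {i : ι₀ // C.D i ≤ U₀} where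
  D i := U₀.ι ⁻¹ᵁ C.D i.1
  aff i := (C.aff i.1).preimage_of_isOpenImmersion U₀.ι (by
    rw [Scheme.Opens.opensRange_ι]; exact i.2)
  J i := (C.J i.1).map (U₀.ι.app (C.D i.1)).hom
  fg i := (C.fg i.1).map _
  kills i T g hg := Ideal.map_le_iff_le_comap.2 fun c hc => C.kills i.1 T (g ≫ U₀.ι) hg hc
  of_local T g h := C.of_local T (g ≫ U₀.ι) fun t => by
    obtain ⟨i, hi, hk⟩ := h t
    exact ⟨i.1, hi, fun c hc => hk (Ideal.mem_map_of_mem _ hc)⟩

/-- the predicate is represented by an immersion of finite presentation -/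
theorem exists_immersion_of_charts (C : Charts P ι₀) (U₀ : X.Opens)
    (hrange : ∀ (T : Scheme.{u}) (f : T ⟶ X), P T f → ∀ t, f t ∈ U₀)
    (hsm : ∀ x ∈ U₀, ∀ O : X.Opens, x ∈ O → ∃ i, x ∈ C.D i ∧ C.D i ≤ O)
    (hqc : ∀ V : X.Opens, IsAffineOpen V → IsCompact ((V : Set X) ∩ U₀)) :
    ∃ (Z : Scheme.{u}) (ι : Z ⟶ X), IsImmersion ι ∧ LocallyOfFinitePresentation ι ∧
      QuasiCompact ι ∧ ∀ (T : Scheme.{u}) (f : T ⟶ X), (∃ g : T ⟶ Z, g ≫ ι = f) ↔ P T f := by
  let C' := C.restrict U₀ hsm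
  have hsmall : ∀ (x : (U₀ : Scheme.{u})) (O : (U₀ : Scheme.{u}).Opens), x ∈ O →
      ∃ i, x ∈ C'.D i ∧ C'.D i ≤ O := fun x O hx => by
    obtain ⟨i, hi, hle⟩ := hsm x.1 x.2 (U₀.ι ''ᵁ O) ⟨x, hx, rfl⟩
    refine ⟨⟨i, hle.trans (U₀.ι_image_le O)⟩, hi, fun y hy => ?_⟩
    have : U₀.ι y ∈ U₀.ι ''ᵁ O := hle hy
    rwa [← Scheme.Hom.preimage_image_eq U₀.ι O]
  let K := killSheaf C' hsmall
  have := lfp_subschemeι C' hsmall
  haveI : QuasiCompact U₀.ι := by
    rw [quasiCompact_iff_forall_isAffineOpen]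
    intro V hV
    refine U₀.ι.isOpenEmbedding.isEmbedding.isCompact_iff.2 ?_
    have : U₀.ι '' (U₀.ι ⁻¹' (V : Set X)) = (V : Set X) ∩ U₀ := by
      rw [Set.image_preimage_eq_inter_range, Scheme.Opens.range_ι]
    exact this.symm ▸ hqc V hV
  refine ⟨K.subscheme, K.subschemeι ≫ U₀.ι, inferInstance, inferInstance, inferInstance,
    fun T f => ⟨?_, fun hf => ?_⟩⟩
  · rintro ⟨g, rfl⟩
    have h := (factors_iff C' hsmall (f := g ≫ K.subschemeι)).1 ⟨g, rfl⟩
    exact (Category.assoc g K.subschemeι U₀.ι) ▸ h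
  · let fV := IsOpenImmersion.lift U₀.ι f (by
      rw [Scheme.Opens.range_ι]
      rintro _ ⟨t, rfl⟩
      exact hrange T f hf t)
    have hfac : fV ≫ U₀.ι = f := IsOpenImmersion.lift_fac _ _ _
    obtain ⟨g, hg⟩ := (factors_iff C' hsmall (f := fV)).2 (show P T (fV ≫ U₀.ι) from hfac.symm ▸ hf)
    exact ⟨g, by rw [← Category.assoc, hg, hfac]⟩

end Groth.Agent.CBC.Locus
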