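import Groth.Agent.CBC.Deg0Thms
import Groth.Agent.CBC.LocusAlg
import Groth.Agent.CBC.LocusGlue
import Groth.Agent.S1391

/-!
# The locus where the direct image is locally free of given rank and commutes with base change
-/

universe u

open CategoryTheory CategoryTheory.Limits Opposite TopologicalSpace AlgebraicGeometry Function
  TensorProduct

namespace Groth.Agent.CBC

variable {X S : Scheme.{u}} {f : X ⟶ S} [IsProper f] {F : X.Modules} [F.IsQuasicoherent]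

section Pull

variable {X' T : Scheme.{u}} {g' : X' ⟶ X} {f' : X' ⟶ T} {u : T ⟶ S}

/-- a neighbourhood pulled back along a base change -/
noncomputable def Nhd.pull (H : IsPullback g' f' f u) (N : Nhd f F) {W : T.Opens}
    (hW : IsAffineOpen W) (h : W ≤ u ⁻¹ᵁ N.V) :
    Nhd f' ((Scheme.Modules.pullback g').obj F) :=
  letI : Algebra Γ(S, N.V) Γ(T, W) := (u.appLE N.V W h).hom.toAlgebra
  ⟨W, hW, Model.bcT H N.hV hW h N.D, fun p =>
    SCx.Win.ofEquiv
      (fun n => LinearEquiv.ofBijective _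
        (cxBC_bijective f u g' f' h rfl F N.D.U N.D.hU H.w H N.hV hW N.D.aff n))
      (cxBC f u g' f' h rfl F N.D.U N.D.hU H.w).comm ((N.w p).bc Γ(T, W))⟩

end Pull

/-- sections of the direct image over a neighbourhood as a kernel -/
noncomputable def Nhd.zeroKer (N : Nhd f F) :
    Γ((Coh.push f).obj F, N.V) ≃ₗ[Γ(S, N.V)] LinearMap.ker (N.w 0).u :=
  (zeroSec F N.D).symm ≪≫ₗ ((N.D.K F).hA 0).symm ≪≫ₗ (N.w 0).e₀

/-- over a right exact neighbourhood the rank of the window is the rank of the direct image -/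
theorem Nhd.kerRank_eq_of_free (N : Nhd f F) (hR : (N.D.K F).RExact 0) {y : S} (hy : y ∈ N.V)
    {U : S.Opens} (hyU : y ∈ U) {n : ℕ}
    (e : ((Coh.push f).obj F).restrict U.ι ≅ FlatMod.freeMod U n) :
    haveI := (N.w 0).fp
    kerRank (N.w 0).u (N.hV.primeIdealOf ⟨y, hy⟩) = n := by
  have := (N.w 0).fp
  have := (N.w 0).rExact_iff.1 hR
  let M := (Coh.push f).obj F
  haveI : M.IsQuasicoherent := QCoh.isQuasicoherent_pushforward f F
  obtain ⟨g, hgU, hyg⟩ := N.hV.exists_basicOpen_le ⟨y, hyU⟩ hy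
  obtain ⟨b⟩ := Props.QProj.free_sections_of_restrict_iso M e (N.hV.basicOpen g) hgU
  let x := N.hV.primeIdealOf ⟨y, hy⟩
  let k := x.asIdeal.ResidueField
  have hgx : x ∈ PrimeSpectrum.basicOpen g := by
    rw [← N.hV.fromSpec_preimage_basicOpen]
    change N.hV.fromSpec x ∈ S.basicOpen g
    rw [N.hV.fromSpec_primeIdealOf]
    exact hyg
  have hu : IsUnit (algebraMap Γ(S, N.V) k g) := by
    rw [isUnit_iff_ne_zero, ne_eq, ← RingHom.mem_ker, Ideal.ker_algebraMap_residueField]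
    exact hgx
  haveI := N.hV.isLocalization_basicOpen g
  haveI : Fact (IsAffineOpen N.V) := ⟨N.hV⟩
  letI : Algebra Γ(S, S.basicOpen g) k := (IsLocalization.Away.lift g hu).toAlgebra
  haveI : IsScalarTower Γ(S, N.V) Γ(S, S.basicOpen g) k :=
    IsScalarTower.of_algebraMap_eq fun a => (IsLocalization.Away.lift_eq g hu a).symm
  haveI : IsScalarTower Γ(S, N.V) Γ(S, S.basicOpen g) Γ(M, S.basicOpen g) :=
    IsScalarTower.of_algebraMap_smul fun _ _ => rfl
  have hbc := IsLocalizedModule.isBaseChange (Submonoid.powers g) Γ(S, S.basicOpen g)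
    (Props.QStalk.resLin M g)
  let E : k ⊗[Γ(S, N.V)] Γ(M, N.V) ≃ₗ[k] k ⊗[Γ(S, S.basicOpen g)] Γ(M, S.basicOpen g) :=
    (cb k Γ(S, S.basicOpen g) Γ(M, N.V) (A := Γ(S, N.V))).symm ≪≫ₗ
      hbc.equiv.baseChange Γ(S, S.basicOpen g) k _ _
  have h1 : Module.finrank k (k ⊗[Γ(S, N.V)] Γ(M, N.V)) = n := by
    have : Nontrivial Γ(S, S.basicOpen g) :=
      (algebraMap Γ(S, S.basicOpen g) k).domain_nontrivial
    have := Module.Free.of_basis b
    rw [E.finrank_eq, Module.finrank_baseChange, Module.finrank_eq_card_basis b,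
      Fintype.card_fin]
  rw [← h1, ((N.zeroKer).baseChange Γ(S, N.V) k _ _).finrank_eq]
  exact (LinearEquiv.ofBijective _ (kerBC_bijective_of_flat (N.w 0).u k)).finrank_eq.symm

namespace Locus

variable (f F) (r : ℕ)

/-- the direct image along `fT` is locally free of rank `r` and commutes with base change -/
def CAt {XT T : Scheme.{u}} (gT : XT ⟶ X) (fT : XT ⟶ T) : Prop :=
  FlatMod.IsFinLocFreeOfRank r
      ((Scheme.Modules.pushforward fT).obj ((Scheme.Modules.pullback gT).obj F)) ∧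
    ∀ ⦃X'' T' : Scheme.{u}⦄ (v' : X'' ⟶ XT) (f'' : X'' ⟶ T') (u' : T' ⟶ T)
      (h : IsPullback v' f'' fT u'),
      IsIso (CohBC.bc0 fT u' f'' v' h.w ((Scheme.Modules.pullback gT).obj F))

/-- the condition for the canonical base change -/
def C (T : Scheme.{u}) (u : T ⟶ S) : Prop :=
  CAt F r (pullback.fst f u) (pullback.snd f u)

variable {f F}

/-- the window is good over the affine open `W` -/
def GoodOn (N : Nhd f F) {T : Scheme.{u}} (u : T ⟶ S) {W : T.Opens} (h : W ≤ u ⁻¹ᵁ N.V) : Prop :=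
  letI : Algebra Γ(S, N.V) Γ(T, W) := (u.appLE N.V W h).hom.toAlgebra
  Good (A := Γ(S, N.V)) (N.w 0).P (r + (N.w 0).m) Γ(T, W)

variable (hfl : FlatMod.IsFlatOver f F)

include hfl in
lemma flat_G (N : Nhd f F) : Module.Flat Γ(S, N.V) (N.w 0).G :=
  (N.w 0).lExact_iff.1 (N.lExact_zero hfl)

include hfl in
lemma flat_pullback {XT T : Scheme.{u}} {gT : XT ⟶ X} {fT : XT ⟶ T} {u : T ⟶ S}
    (H : IsPullback gT fT f u) : FlatMod.IsFlatOver fT ((Scheme.Modules.pullback gT).obj F) :=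
  fun x => Groth.Agent.S1391.result f _ _ u H F ‹_› x (hfl _)

include hfl in
theorem goodOn_iff (N : Nhd f F) {XT T : Scheme.{u}} {gT : XT ⟶ X} {fT : XT ⟶ T} {u : T ⟶ S}
    (H : IsPullback gT fT f u) {W : T.Opens}
    (hW : IsAffineOpen W) (h : W ≤ u ⁻¹ᵁ N.V) :
    GoodOn r N u h ↔
      haveI := ((N.pull H hW h).w 0).fp
      ((N.pull H hW h).D.K
          ((Scheme.Modules.pullback gT).obj F)).RExact 0 ∧
        ∀ y, kerRank ((N.pull H hW h).w 0).u y = r := by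
  letI : Algebra Γ(S, N.V) Γ(T, W) := (u.appLE N.V W h).hom.toAlgebra
  have := flat_G hfl N
  rw [((N.pull H hW h).w 0).rExact_iff]
  exact (N.w 0).good_iff Γ(T, W) r

variable {r}

include hfl in
theorem CAt_of_local {XT T : Scheme.{u}} {gT : XT ⟶ X} {fT : XT ⟶ T} {u : T ⟶ S}
    (H : IsPullback gT fT f u) (hloc : ∀ t : T, ∃ (N : Nhd f F) (W : T.Opens) (h : W ≤ u ⁻¹ᵁ N.V),
      IsAffineOpen W ∧ t ∈ W ∧ GoodOn r N u h) : CAt F r gT fT := by
  haveI : IsProper fT := MorphismProperty.of_isPullback H ‹IsProper f›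
  haveI : ((Scheme.Modules.pullback gT).obj F).IsQuasicoherent :=
    QCoh.isQuasicoherent_pullback _ F
  have hflT := flat_pullback hfl H
  have key : ∀ t : T, ∃ N' : Nhd fT
      ((Scheme.Modules.pullback gT).obj F), t ∈ N'.V ∧
      haveI := (N'.w 0).fp
      (N'.D.K ((Scheme.Modules.pullback gT).obj F)).RExact 0 ∧
        ∀ y, kerRank (N'.w 0).u y = r := fun t => by
    obtain ⟨N, W, h, hW, ht, hg⟩ := hloc t
    exact ⟨N.pull H hW h, ht, (goodOn_iff r hfl N H hW h).1 hg⟩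
  refine ⟨fun t => ?_, fun X'' T' v' f'' u' hsq => isIso_bc0_of_rExact hsq fun z => ?_⟩
  · obtain ⟨N', ht, hR, hr⟩ := key t
    obtain ⟨U, n, htU, ⟨e⟩⟩ := N'.exists_free_nhd₀ hflT hR t ht
    obtain rfl : n = r := (N'.kerRank_eq_of_free hR ht htU e).symm.trans (hr _)
    exact ⟨U, htU, ⟨e⟩⟩
  · obtain ⟨N', ht, hR, -⟩ := key (u' z)
    exact ⟨N', ht, hR⟩

include hfl in
theorem goodOn_of_CAt {XT T : Scheme.{u}} {gT : XT ⟶ X} {fT : XT ⟶ T} {u : T ⟶ S}
    (H : IsPullback gT fT f u) (hC : CAt F r gT fT) (N : Nhd f F) {W : T.Opens}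
    (hW : IsAffineOpen W) (h : W ≤ u ⁻¹ᵁ N.V) : GoodOn r N u h := by
  haveI : IsProper fT := MorphismProperty.of_isPullback H ‹IsProper f›
  haveI : ((Scheme.Modules.pullback gT).obj F).IsQuasicoherent :=
    QCoh.isQuasicoherent_pullback _ F
  let N' := N.pull H hW h
  refine (goodOn_iff r hfl N H hW h).2 ?_
  haveI := (N'.w 0).fp
  have hsurj : ∀ x : PrimeSpectrum Γ(T, N'.V),
      Surjective (kerBC (N'.w 0).u x.asIdeal.ResidueField) := fun x => by
    haveI := hC.2 _ _ _ (IsPullback.of_hasPullback fT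
      (T.fromSpecResidueField (pt N'.hV x)))
    have h1 := N'.surjAt_zero_of_epi (pt_mem N'.hV x) (inferInstanceAs (Epi (CohBC.bc0 _ _ _ _
      (IsPullback.of_hasPullback fT (T.fromSpecResidueField (pt N'.hV x))).w _)))
    have key : ∀ z : PrimeSpectrum Γ(T, N'.V), z = x →
        Surjective (kerBC (N'.w 0).u z.asIdeal.ResidueField) →
          Surjective (kerBC (N'.w 0).u x.asIdeal.ResidueField) := by
      rintro z rfl hz
      exact hz
    exact key _ (primeIdealOf_pt N'.hV x) h1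
  have hR := (N'.w 0).rExact_iff.2 (flat_cok_of_forall_surjective _ hsurj)
  refine ⟨hR, fun y => ?_⟩
  obtain ⟨U, hU, ⟨e⟩⟩ := hC.1 (pt N'.hV y)
  have h2 := N'.kerRank_eq_of_free hR (pt_mem N'.hV y) hU e
  rwa [primeIdealOf_pt] at h2

include hfl in
theorem C_of_local {T : Scheme.{u}} {u : T ⟶ S}
    (hloc : ∀ t : T, ∃ (N : Nhd f F) (W : T.Opens) (h : W ≤ u ⁻¹ᵁ N.V),
      IsAffineOpen W ∧ t ∈ W ∧ GoodOn r N u h) : C f F r T u :=
  CAt_of_local hfl (IsPullback.of_hasPullback f u) hloc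

include hfl in
theorem goodOn_of_C {T : Scheme.{u}} {u : T ⟶ S} (hC : C f F r T u) (N : Nhd f F) {W : T.Opens}
    (hW : IsAffineOpen W) (h : W ≤ u ⁻¹ᵁ N.V) : GoodOn r N u h :=
  goodOn_of_CAt hfl (IsPullback.of_hasPullback f u) hC N hW h

variable [LocallyOfFinitePresentation f] (hF : CohB1.IsFP F)

omit [LocallyOfFinitePresentation f] in
include hfl in
theorem fiberRank_eq_of_C {T : Scheme.{u}} {u : T ⟶ S} (hC : C f F r T u) (N : Nhd f F) (t : T)
    (ht : u t ∈ N.V) : CohIII.fiberRank f F 0 (u t) = r := by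
  obtain ⟨_, ⟨W, hW, rfl⟩, htW, hWV⟩ :=
    T.isBasis_affineOpens.exists_subset_of_mem_open (show t ∈ u ⁻¹ᵁ N.V from ht) (u ⁻¹ᵁ N.V).2
  replace hWV : W ≤ u ⁻¹ᵁ N.V := hWV
  letI : Algebra Γ(S, N.V) Γ(T, W) := (u.appLE N.V W hWV).hom.toAlgebra
  have hg := (goodOn_of_C hfl hC N hW hWV).2 (hW.primeIdealOf ⟨t, htW⟩)
  have := (N.w 0).fp_P
  rw [fib_bc'] at hg
  have hcomap : PrimeSpectrum.comap (algebraMap Γ(S, N.V) Γ(T, W)) (hW.primeIdealOf ⟨t, htW⟩) =
      N.hV.primeIdealOf ⟨u t, ht⟩ := IsAffineOpen.comap_primeIdealOf_appLE N.V N.hV W hW hWV htW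
  rw [hcomap, SCx.Win.fib_P] at hg
  rw [fiberRank_eq N.hV (u t) ht N.D (N.w 0)]
  omega

variable (f F r) in
/-- where the fibre rank is at most `r` -/
def upLocus : Set S := {s | CohIII.fiberRank f F 0 s ≤ r}

omit [LocallyOfFinitePresentation f] in
lemma mem_upLocus_iff (N : Nhd f F) {s : S} (hs : s ∈ N.V) :
    s ∈ upLocus f F r ↔
      ¬ Fitt.ideal Γ(S, N.V) (N.w 0).P (r + (N.w 0).m) ≤ (N.hV.primeIdealOf ⟨s, hs⟩).asIdeal := by
  have := (N.w 0).fp_P
  rw [FittLib.not_le_iff_finrank_le]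
  change CohIII.fiberRank f F 0 s ≤ r ↔ FlatCx.fib _ (N.hV.primeIdealOf ⟨s, hs⟩) ≤ _
  rw [fiberRank_eq N.hV s hs N.D (N.w 0), SCx.Win.fib_P]
  exact (Nat.add_le_add_iff_right).symm

variable (f F r) in
/-- charts -/
structure ChartOK (D : S.Opens) (I : Ideal Γ(S, D)) : Prop where
  aff : IsAffineOpen D
  fg : I.FG
  iff : ∃ (N : Nhd f F) (hD : D ≤ N.V), ∀ (T : Scheme.{u}) (u : T ⟶ S) (W : T.Opens)
    (hWD : W ≤ u ⁻¹ᵁ D), I ≤ RingHom.ker (u.appLE D W hWD).hom ↔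
      GoodOn r N u (hWD.trans (u.preimage_mono hD))

variable (r) in
/-- the charts of the locus -/
def charts : Charts (X := S) (C f F r)
    {i : Σ D : S.Opens, Ideal Γ(S, D) // ChartOK f F r i.1 i.2 ∧ (FlatMod.IsFlatOver f F)} where
  D i := i.1.1
  aff i := i.2.1.aff
  J i := i.1.2
  fg i := i.2.1.fg
  kills i T u hC a ha := by
    obtain ⟨N, hD, hiff⟩ := i.2.1.iff
    rw [RingHom.mem_ker]
    refine TopCat.Presheaf.section_ext T.sheaf (u ⁻¹ᵁ i.1.1) _ 0 fun t ht => ?_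
    obtain ⟨_, ⟨W, hW, rfl⟩, htW, hWD⟩ :=
      T.isBasis_affineOpens.exists_subset_of_mem_open ht (u ⁻¹ᵁ i.1.1).2
    replace hWD : W ≤ u ⁻¹ᵁ i.1.1 := hWD
    have h0 : u.appLE i.1.1 W hWD a = 0 :=
      (hiff T u W hWD).2 (goodOn_of_C i.2.2 hC N hW _) ha
    change T.presheaf.germ (u ⁻¹ᵁ i.1.1) t ht (u.app i.1.1 a) =
      T.presheaf.germ (u ⁻¹ᵁ i.1.1) t ht 0
    rw [map_zero, ← T.presheaf.germ_res_apply (homOfLE hWD) t htW]
    rw [Scheme.Hom.appLE, CommRingCat.comp_apply] at h0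
    exact (congrArg (T.presheaf.germ W t htW) h0).trans (map_zero _)
  of_local T u h := by
    by_cases hT : ∀ t : T, False
    · refine ⟨fun t => (hT t).elim, fun X'' T' v' f'' u' hsq => ?_⟩
      haveI : ((Scheme.Modules.pullback (pullback.fst f u)).obj F).IsQuasicoherent :=
        QCoh.isQuasicoherent_pullback _ F
      exact isIso_bc0_of_rExact hsq fun z => (hT (u' z)).elim
    · simp only [not_forall] at hT
      obtain ⟨t₀, -⟩ := hT
      obtain ⟨i₀, -⟩ := h t₀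
      refine C_of_local i₀.2.2 fun t => ?_
      obtain ⟨i, hti, hk⟩ := h t
      obtain ⟨N, hD, hiff⟩ := i.2.1.iff
      obtain ⟨_, ⟨W, hW, rfl⟩, htW, hWD⟩ :=
        T.isBasis_affineOpens.exists_subset_of_mem_open (show t ∈ u ⁻¹ᵁ i.1.1 from hti)
          (u ⁻¹ᵁ i.1.1).2
      replace hWD : W ≤ u ⁻¹ᵁ i.1.1 := hWD
      refine ⟨N, W, hWD.trans (u.preimage_mono hD), hW, htW, (hiff T u W hWD).1 fun a ha => ?_⟩
      rw [RingHom.mem_ker, Scheme.Hom.appLE, CommRingCat.comp_apply,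
        RingHom.mem_ker.1 (hk ha), map_zero]

include hF hfl in
theorem exists_chart {x : S} (hx : x ∈ upLocus f F r) {O : S.Opens} (hxO : x ∈ O) :
    ∃ (D : S.Opens) (I : Ideal Γ(S, D)), ChartOK f F r D I ∧ x ∈ D ∧ D ≤ O ∧
      (D : Set S) ⊆ upLocus f F r := by
  obtain ⟨N, hxN, hNO⟩ := exists_nhd_le hF hfl O hxO
  have := (N.w 0).fp_P
  obtain ⟨g, hgp, m, hm⟩ :=
    (FittLib.not_le_iff_exists_smul_mem _ _).1 ((mem_upLocus_iff N hxN).1 hx)
  have hmem : ∀ s (hs : s ∈ N.V),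
      s ∈ S.basicOpen g ↔ g ∉ (N.hV.primeIdealOf ⟨s, hs⟩).asIdeal := fun s hs => by
    rw [← PrimeSpectrum.mem_basicOpen, ← N.hV.fromSpec_preimage_basicOpen]
    change _ ↔ N.hV.fromSpec _ ∈ S.basicOpen g
    rw [N.hV.fromSpec_primeIdealOf]
  letI : Algebra Γ(S, N.V) Γ(S, S.basicOpen g) :=
    (S.presheaf.map (homOfLE (S.basicOpen_le g)).op).hom.toAlgebra
  haveI : IsLocalization.Away g Γ(S, S.basicOpen g) := N.hV.isLocalization_basicOpen g
  obtain ⟨I, hI, hiff⟩ := exists_ideal (P := (N.w 0).P) g m hm Γ(S, S.basicOpen g)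
    (IsLocalization.Away.algebraMap_isUnit g)
  refine ⟨S.basicOpen g, I, ⟨N.hV.basicOpen g, hI, N, S.basicOpen_le g, fun T u W hWD => ?_⟩,
    (hmem x hxN).2 hgp, (S.basicOpen_le g).trans hNO, fun s hs => ?_⟩
  · letI : Algebra Γ(S, S.basicOpen g) Γ(T, W) := (u.appLE (S.basicOpen g) W hWD).hom.toAlgebra
    letI : Algebra Γ(S, N.V) Γ(T, W) := (u.appLE N.V W
      (hWD.trans (u.preimage_mono (S.basicOpen_le g)))).hom.toAlgebra
    haveI : IsScalarTower Γ(S, N.V) Γ(S, S.basicOpen g) Γ(T, W) :=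
      IsScalarTower.of_algebraMap_eq fun a => by
        exact congr($(Scheme.Hom.map_appLE u hWD (homOfLE (S.basicOpen_le g)).op).hom a).symm
    exact hiff Γ(T, W)
  · have hsN := S.basicOpen_le g hs
    exact (mem_upLocus_iff N hsN).2
      ((FittLib.not_le_iff_exists_smul_mem _ _).2 ⟨g, (hmem s hsN).1 hs, m, hm⟩)

include hF hfl in
theorem isOpen_upLocus : IsOpen (upLocus f F r) := isOpen_iff_forall_mem_open.2 fun x hx => by
  obtain ⟨D, I, -, hxD, -, hD⟩ := exists_chart hfl hF hx (O := ⊤) trivial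
  exact ⟨D, hD, D.2, hxD⟩

include hF hfl in
theorem isCompact_inter_upLocus {V : S.Opens} (hV : IsAffineOpen V) :
    IsCompact ((V : Set S) ∩ upLocus f F r) := by
  obtain ⟨N, rfl⟩ := exists_nhd_of_affine hF hfl hV
  have := (N.w 0).fp_P
  let J := Fitt.ideal Γ(S, N.V) (N.w 0).P (r + (N.w 0).m)
  have hc : IsCompact ((PrimeSpectrum.zeroLocus (J : Set Γ(S, N.V)))ᶜ) :=
    (PrimeSpectrum.isCompact_isOpen_iff_ideal.2 ⟨J, FittLib.ideal_eq_G_rel _, rfl⟩).1
  have : (N.V : Set S) ∩ upLocus f F r =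
      N.hV.fromSpec '' (PrimeSpectrum.zeroLocus (J : Set Γ(S, N.V)))ᶜ := by
    ext s
    constructor
    · rintro ⟨hs, hs'⟩
      exact ⟨_, (mem_upLocus_iff N hs).1 hs', N.hV.fromSpec_primeIdealOf ⟨s, hs⟩⟩
    · rintro ⟨x, hx, rfl⟩
      have hmem : pt N.hV x ∈ N.V := pt_mem N.hV x
      refine ⟨hmem, (mem_upLocus_iff N hmem).2 ?_⟩
      rw [primeIdealOf_pt]
      exact hx
  rw [this]
  exact hc.image N.hV.fromSpec.continuous

include hF hfl in
theorem C_residueField {s : S} (hs : CohIII.fiberRank f F 0 s = r) :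
    C f F r (Spec (S.residueField s)) (S.fromSpecResidueField s) := by
  obtain ⟨N, hsN⟩ := exists_nhd hF hfl s
  let g := S.fromSpecResidueField s
  have hle : ⊤ ≤ g ⁻¹ᵁ N.V := fromSpecResidueField_le s hsN
  refine C_of_local hfl fun t => ⟨N, ⊤, hle, isAffineOpen_top _, trivial, ?_⟩
  letI : Algebra Γ(S, N.V) Γ(Spec (S.residueField s), ⊤) := (g.appLE N.V ⊤ hle).hom.toAlgebra
  have hfield : IsField Γ(Spec (S.residueField s), ⊤) :=
    (Scheme.ΓSpecIso (S.residueField s)).commRingCatIsoToRingEquiv.toMulEquiv.isField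
      (Field.toIsField (S.residueField s))
  letI := hfield.toField
  have hker : RingHom.ker (algebraMap Γ(S, N.V) Γ(Spec (S.residueField s), ⊤)) =
      (N.hV.primeIdealOf ⟨s, hsN⟩).asIdeal := by
    rw [← ker_eval N.hV s hsN]
    ext a
    rw [RingHom.mem_ker, RingHom.mem_ker]
    change g.appLE N.V ⊤ hle a = 0 ↔ _
    rw [fromSpecResidueField_appLE]
    exact map_eq_zero_iff _ (ConcreteCategory.bijective_of_isIso
      (Scheme.ΓSpecIso (S.residueField s)).inv).1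
  have := (N.w 0).fp_P
  refine ⟨inferInstance, fun y => ?_⟩
  have hy : y.asIdeal = ⊥ :=
    ((Ideal.eq_bot_or_top y.asIdeal).resolve_right y.isPrime.ne_top)
  have hcomap : PrimeSpectrum.comap (algebraMap Γ(S, N.V) Γ(Spec (S.residueField s), ⊤)) y =
      N.hV.primeIdealOf ⟨s, hsN⟩ := by
    refine PrimeSpectrum.ext ?_
    rw [← hker, PrimeSpectrum.comap_asIdeal, hy]
    rfl
  rw [fib_bc', hcomap, SCx.Win.fib_P, ← fiberRank_eq N.hV s hsN N.D (N.w 0), hs]

include hF hfl in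
/-- the locus is an immersion of finite presentation -/
theorem exists_immersion :
    ∃ (Z : Scheme.{u}) (ι : Z ⟶ S), IsImmersion ι ∧ LocallyOfFinitePresentation ι ∧
      QuasiCompact ι ∧ (∀ (T : Scheme.{u}) (u : T ⟶ S), (∃ u' : T ⟶ Z, u' ≫ ι = u) ↔ C f F r T u) ∧
      Set.range ι = {s : S | CohIII.fiberRank f F 0 s = r} := by
  have hrk : ∀ (T : Scheme.{u}) (u : T ⟶ S), C f F r T u →
      ∀ t, CohIII.fiberRank f F 0 (u t) = r := fun T u hC t => by
    obtain ⟨N, hN⟩ := exists_nhd hF hfl (u t)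
    exact fiberRank_eq_of_C hfl hC N t hN
  obtain ⟨Z, ι, h1, h2, h3, h4⟩ := exists_immersion_of_charts (charts r (f := f) (F := F))
    ⟨upLocus f F r, isOpen_upLocus hfl hF⟩ (fun T u hC t => (hrk T u hC t).le)
    (fun x hx O hxO => by
      obtain ⟨D, I, hok, hxD, hDO, -⟩ := exists_chart hfl hF hx hxO
      exact ⟨⟨⟨D, I⟩, hok, hfl⟩, hxD, hDO⟩)
    (fun V hV => isCompact_inter_upLocus hfl hF hV)
  refine ⟨Z, ι, h1, h2, h3, h4, Set.ext fun s => ⟨?_, fun hs => ?_⟩⟩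
  · rintro ⟨z, rfl⟩
    exact hrk Z ι ((h4 Z ι).1 ⟨𝟙 Z, Category.id_comp ι⟩) z
  · obtain ⟨u', hu'⟩ := (h4 _ _).2 (C_residueField hfl hF hs)
    let t : Spec (S.residueField s) := IsLocalRing.closedPoint (S.residueField s)
    refine ⟨u' t, ?_⟩
    rw [← Scheme.Hom.comp_apply, hu', Scheme.fromSpecResidueField_apply]

end Locus

end Groth.Agent.CBC
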