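import Groth.Agent.CBC.TrivBundle
import Groth.Agent.CBC.LocusBC
import Groth.Agent.Cube.Grauert
import Groth.Agent.Cube.Seesaw
import Groth.Agent.IntProd70.Family
import Groth.Agent.VarBC.H0

/-!
# `O_S = f_* O_X` for proper flat morphisms with constant functions on the fibres (any base)
-/

set_option autoImplicit false
universe u

open CategoryTheory CategoryTheory.Limits AlgebraicGeometry TopologicalSpace Opposite Function

noncomputable section

namespace Groth.Agent.CBC.OConn

open Groth.Agent.QCoh Groth.Agent.Props.GenLocus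

variable {X S : Scheme.{u}} (f : X ⟶ S) [IsProper f] [Flat f] [LocallyOfFinitePresentation f]

local notation "O" => Coh.structureModule X

theorem exists_rExact_one
    (hh : ∀ z : S, Bijective (algebraMap (S.residueField z) Γ(f.fiber z, ⊤))) (z : S) :
    ∃ N : Nhd f O, z ∈ N.V ∧ (N.D.K O).RExact 0 ∧
      ∀ x, haveI := (N.w 0).fp; kerRank (N.w 0).u x = 1 := by
  haveI : (Coh.structureModule X).IsQuasicoherent := ProjTwist.isQuasicoherent_structureModule X
  have hfl : FlatMod.IsFlatOver f O := Cube.Seesaw.isFlatOver_of_invertible f (PicLoc.isInvertible_structureModule X)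
  have hF : CohB1.IsFP O := IntProd70.isFP_unit X
  obtain ⟨N, hz⟩ := exists_nhd hF hfl z
  refine ⟨N, hz, ?_, ?_⟩
  · haveI := (N.w 0).fp
    refine (N.w 0).rExact_iff.2 (flat_cok_of_forall_surjective _ fun x => ?_)
    have h1 : N.SurjAt (pt N.hV x) (pt_mem N.hV x) 0 :=
      N.surjAt_zero_of_epi (pt_mem N.hV x) (TrivBundle.epi_of_gen f (L := O) (V := ⊤) _ trivial (hh _)
        (Props.GenTensor.isGen_one _))
    have key : ∀ y : PrimeSpectrum Γ(S, N.V), y = x →
        Surjective (kerBC (N.w 0).u y.asIdeal.ResidueField) →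
          Surjective (kerBC (N.w 0).u x.asIdeal.ResidueField) := by
      rintro y rfl hy
      exact hy
    exact key _ (primeIdealOf_pt N.hV x) h1
  · intro x
    haveI := (N.w 0).fp
    have h1 := fiberRank_eq N.hV (pt N.hV x) (pt_mem N.hV x) N.D (N.w 0)
    rw [primeIdealOf_pt] at h1
    rw [← h1, Cube.Seesaw.fiberRank_eq_of_iso f _ ⟨QCoh.pullbackUnitIso (f.fiberι _)⟩]
    exact (LinearEquiv.ofBijective (Algebra.linearMap _ Γ(f.fiber (pt N.hV x), ⊤))
      (hh _)).finrank_eq.symm.trans (Module.finrank_self _)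

theorem isInvertible_push
    (hh : ∀ z : S, Bijective (algebraMap (S.residueField z) Γ(f.fiber z, ⊤))) :
    PicF.IsInvertible ((Scheme.Modules.pushforward f).obj O) := fun z => by
  haveI : (Coh.structureModule X).IsQuasicoherent := ProjTwist.isQuasicoherent_structureModule X
  have hfl : FlatMod.IsFlatOver f O := Cube.Seesaw.isFlatOver_of_invertible f (PicLoc.isInvertible_structureModule X)
  obtain ⟨N, hz, hR, hr⟩ := exists_rExact_one f hh z
  obtain ⟨U, n, hzU, ⟨e⟩⟩ := N.exists_free_nhd₀ hfl hR z hz
  obtain rfl : n = 1 := (N.kerRank_eq_of_free hR hz hzU e).symm.trans (hr _)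
  exact ⟨U, hzU, ⟨e ≪≫ coproductUniqueIso fun _ : Fin 1 => Coh.structureModule (U : Scheme.{u})⟩⟩

/-- `O_S = f_* O_X` -/
theorem bijective_app
    (hh : ∀ z : S, Bijective (algebraMap (S.residueField z) Γ(f.fiber z, ⊤))) (U : S.Opens) :
    Bijective (f.app U) := by
  let P := (Scheme.Modules.pushforward f).obj O
  have hsmall : ∀ z : S, ∃ V : S.Opens, z ∈ V ∧ ∀ W : S.Opens, W ≤ V → Bijective (f.app W) := by
    intro z
    obtain ⟨V, e₀, hzV, he₀⟩ := exists_isGen (isInvertible_push f hh) z
    let b : Γ(X, f ⁻¹ᵁ V) := (show Γ(P, V) from e₀)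
    obtain ⟨c, hc, -⟩ := he₀.exists_eq le_rfl (show Γ(P, V) from (1 : Γ(X, f ⁻¹ᵁ V)))
    obtain ⟨d, hd, -⟩ := he₀.exists_eq le_rfl (show Γ(P, V) from b * b)
    rw [res_self] at hc hd
    have hc' : (1 : Γ(X, f ⁻¹ᵁ V)) = f.app V c * b := hc
    have hd' : b * b = f.app V d * b := hd
    have hb : b = f.app V (c * d) * b := by
      conv_lhs => rw [← one_mul b, hc', mul_assoc, hd', ← mul_assoc, ← map_mul]
    have h1 : c * d = 1 := he₀.injective le_rfl
      (show (c * d) • res P le_rfl e₀ = (1 : Γ(S, V)) • res P le_rfl e₀ by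
        rw [res_self, one_smul]; exact hb.symm)
    refine ⟨V, hzV, fun W hW => ?_⟩
    have key : ∀ a : Γ(S, W), f.app W a =
        sm (show Γ(P, V) from e₀) hW (a * rres hW c) := fun a => by
      have h2 : (1 : Γ(X, f ⁻¹ᵁ W)) = f.app W (rres hW c) * X.presheaf.map (homOfLE (f.preimage_mono hW)).op b := by
        have e := congrArg (X.presheaf.map (homOfLE (f.preimage_mono hW)).op) hc'
        rw [map_one, map_mul] at e
        refine e.trans (congrArg (· * _) ?_)
        exact congr($((f.naturality (homOfLE hW).op).symm) c)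
      change f.app W a = f.app W (a * rres hW c) * X.presheaf.map (homOfLE (f.preimage_mono hW)).op b
      rw [map_mul, mul_assoc, ← h2, mul_one]
    have hu : rres hW c * rres hW d = 1 := by rw [← map_mul, h1, map_one]
    refine ⟨fun a a' h => ?_, fun x => ?_⟩
    · rw [key, key] at h
      have := congrArg (· * rres hW d) ((he₀ W hW).1 h)
      simpa only [mul_assoc, hu, mul_one] using this
    · obtain ⟨a, ha⟩ := (he₀ W hW).2 (show Γ(P, W) from x)
      refine ⟨a * rres hW d, ?_⟩
      rw [key, mul_assoc, mul_comm (rres hW d), hu, mul_one]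
      exact ha
  choose V hV hbij using hsmall
  let η : Coh.structureModule S ⟶ P := SheafOfModules.unitToPushforwardObjUnit f.toRingCatSheafHom
  haveI : IsIso η := CBC.isIso_of_small_affine η (fun W => ∃ z, W ≤ V z) (fun z => ⟨V z, hV z, z, le_rfl⟩)
    (fun W W' h ⟨z, hz⟩ => ⟨z, h.trans hz⟩) fun W _ ⟨z, hz⟩ => hbij z W hz
  exact ConcreteCategory.bijective_of_isIso (η.app U)

/-- fibres with constant functions from geometric connectedness and reducedness -/
theorem bijective_fiber [GeometricallyConnected f] [GeometricallyReduced f] (z : S) :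
    Bijective (algebraMap (S.residueField z) Γ(f.fiber z, ⊤)) := by
  letI : (f.fiber z).Over (Spec (CommRingCat.of (S.residueField z))) :=
    ⟨f.fiberToSpecResidueField z⟩
  haveI : IsProper (f.fiber z ↘ Spec (CommRingCat.of (S.residueField z))) :=
    show IsProper (pullback.snd f (S.fromSpecResidueField z)) from inferInstance
  haveI : GeometricallyConnected (f.fiber z ↘ Spec (CommRingCat.of (S.residueField z))) :=
    show GeometricallyConnected (pullback.snd f (S.fromSpecResidueField z)) from inferInstance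
  haveI : GeometricallyReduced (f.fiber z ↘ Spec (CommRingCat.of (S.residueField z))) :=
    show GeometricallyReduced (pullback.snd f (S.fromSpecResidueField z)) from inferInstance
  exact VarBC.H0.bijective_algebraMap (S.residueField z) (f.fiber z)

end Groth.Agent.CBC.OConn
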