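import Groth.Agent.CBC.TrivBundle
import Groth.Agent.CBC.OConn
import Groth.Agent.Cube.SeesawThm

/-!
# The seesaw principle over a connected base when `H¹` of the fibres vanishes
-/

set_option autoImplicit false

universe u

open CategoryTheory CategoryTheory.Limits AlgebraicGeometry TopologicalSpace Opposite Function

noncomputable section

namespace Groth.Agent.CBC.SeesawConn

open Groth.Agent.QCoh Groth.Agent.Props.GenLocus Groth.Agent.Props.GenTensor Groth.Agent.Props.GenPull
open scoped Groth.Agent.PicLaw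
open PicLaw (pl)

variable {W Z : Scheme.{u}} (π : W ⟶ Z) [IsProper π] [Flat π] [LocallyOfFinitePresentation π]

lemma finLocFree_of_invertible {L : W.Modules} (hL : PicF.IsInvertible L) : FlatMod.IsFinLocFree L :=
  fun x => let ⟨U, hx, ⟨φ⟩⟩ := ProjTwist.isFinLocFreeOfRank_one hL x; ⟨U, 1, hx, ⟨φ⟩⟩

/-- the fibres with sections form a closed set -/
theorem isClosed_nontrivial {L : W.Modules} (hL : PicF.IsInvertible L) :
    IsClosed {z : Z | Nontrivial Γ(CohIII.fiberMod π L z, ⊤)} := by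
  haveI : L.IsQuasicoherent := ProjTwist.isQCoh_of_isInvertible hL
  have h := isOpen_setOf_subsingleton_fiberH (Props.QProj.isFP L (finLocFree_of_invertible hL))
    (Cube.Seesaw.isFlatOver_of_invertible π hL) 0
  rw [← isOpen_compl_iff]
  convert h using 1
  ext z
  simp only [Set.mem_compl_iff, Set.mem_setOf_eq, not_nontrivial_iff_subsingleton]
  exact Equiv.subsingleton_congr (ProperFin.h0Sec (CohIII.fiberMod π L z)).toEquiv.symm

/-- the trivial fibres form a closed set when the fibres are integral -/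
theorem isClosed_trivial (hint : ∀ z : Z, IsIntegral (π.fiber z)) {L : W.Modules}
    (hL : PicF.IsInvertible L) :
    IsClosed {z : Z | Nonempty (CohIII.fiberMod π L z ≅ Coh.structureModule (π.fiber z))} := by
  obtain ⟨L', hL', hc'⟩ := PicGrp.exists_eq_cls (PicGrp.cls L hL)⁻¹
  suffices h : {z : Z | Nonempty (CohIII.fiberMod π L z ≅ Coh.structureModule (π.fiber z))} =
      {z | Nontrivial Γ(CohIII.fiberMod π L z, ⊤)} ∩ {z | Nontrivial Γ(CohIII.fiberMod π L' z, ⊤)} by
    rw [h]; exact (isClosed_nontrivial π hL).inter (isClosed_nontrivial π hL')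
  ext z
  have := hint z
  simp only [Set.mem_setOf_eq, Set.mem_inter_iff]
  constructor
  · intro h
    refine ⟨Cube.Seesaw.nontrivial_of_iso h, Cube.Seesaw.nontrivial_of_iso ?_⟩
    refine (PicGrp.cls_eq_one_iff (PicLoc.isInvertible_pullback (π.fiberι z) hL')).mp ?_
    have h1 := (PicGrp.cls_eq_one_iff (PicLoc.isInvertible_pullback (π.fiberι z) hL)).mpr h
    rw [PicLaw.cls_pullback _ hL] at h1
    rw [PicLaw.cls_pullback _ hL', ← hc', map_inv, h1, inv_one]
  · rintro ⟨hs, ht⟩
    have : UniversallyClosed (π.fiberToSpecResidueField z) :=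
      show UniversallyClosed (pullback.snd π (Z.fromSpecResidueField z)) from inferInstance
    refine Cube.Seesaw.iso_of_sections
      (isField_of_universallyClosed (K := Z.residueField z) (π.fiberToSpecResidueField z))
      (PicLoc.isInvertible_pullback (π.fiberι z) hL) (PicLoc.isInvertible_pullback (π.fiberι z) hL') ?_ hs ht
    refine (PicGrp.cls_eq_one_iff (PicLaw.isInvertible_tensor (PicLoc.isInvertible_pullback (π.fiberι z) hL) (PicLoc.isInvertible_pullback (π.fiberι z) hL'))).mp ?_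
    rw [PicLaw.cls_tensor (PicLoc.isInvertible_pullback (π.fiberι z) hL) (PicLoc.isInvertible_pullback (π.fiberι z) hL'), PicLaw.cls_pullback _ hL, PicLaw.cls_pullback _ hL', ← hc',
      ← map_mul, mul_inv_cancel, map_one]

/-- a trivial fibre without `H¹` has a generator nearby -/
theorem exists_gen {L : W.Modules} (hL : PicF.IsInvertible L) (z : Z)
    (hh : Bijective (algebraMap (Z.residueField z) Γ(π.fiber z, ⊤))) [Nonempty (π.fiber z)]
    (h1 : Subsingleton (Coh.HH (π.fiber z) (Coh.structureModule (π.fiber z)) 1))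
    (φ : CohIII.fiberMod π L z ≅ Coh.structureModule (π.fiber z)) :
    ∃ (V : Z.Opens) (_ : z ∈ V) (g : Γ(L, π ⁻¹ᵁ V)), IsGen L (π ⁻¹ᵁ V) g := by
  haveI : L.IsQuasicoherent := ProjTwist.isQCoh_of_isInvertible hL
  have hfl := Cube.Seesaw.isFlatOver_of_invertible π hL
  have hF : CohB1.IsFP L := Props.QProj.isFP L (finLocFree_of_invertible hL)
  obtain ⟨N, hzN, -, hR⟩ := exists_rExact_zero_of_fibres hF hfl
    ⟨_, isOpen_setOf_subsingleton_fiberH hF hfl 1⟩ (fun _ h => h)
    (show z ∈ {y | Subsingleton (CohIII.fiberH π L y 1)} from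
      (CohLin.hIso φ 1).toEquiv.subsingleton)
  haveI := isIso_bc0_of_rExact (F := L) (IsPullback.of_hasPullback π (Z.fromSpecResidueField z))
    (fun y => ⟨N, fromSpecResidueField_le z hzN (Set.mem_univ y), hR⟩)
  have hne : Nontrivial (CohIII.fiberH π L z 0) := by
    have := Cube.Seesaw.nontrivial_of_iso (L := CohIII.fiberMod π L z) ⟨φ⟩
    exact (ProperFin.h0Sec (CohIII.fiberMod π L z)).toEquiv.nontrivial
  obtain ⟨σ, hσ⟩ := TrivBundle.exists_section_of_epi π N.hV z hzN hne
    (inferInstanceAs (Epi (CohBC.bc0 _ _ _ _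
      (IsPullback.of_hasPullback π (Z.fromSpecResidueField z)).w L)))
  exact TrivBundle.exists_gen_of_section π hL z hzN hh ⟨φ⟩ σ hσ

omit [IsProper π] [Flat π] [LocallyOfFinitePresentation π] in
/-- a generator over the base trivialises fibres -/
theorem trivial_of_gen {L : W.Modules} {V : Z.Opens} {z : Z} (hz : z ∈ V) {g : Γ(L, π ⁻¹ᵁ V)}
    (hg : IsGen L (π ⁻¹ᵁ V) g) :
    Nonempty (CohIII.fiberMod π L z ≅ Coh.structureModule (π.fiber z)) := by
  have htop : (⊤ : (π.fiber z).Opens) ≤ π.fiberι z ⁻¹ᵁ (π ⁻¹ᵁ V) := fun y _ => by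
    show π (π.fiberι z y) ∈ V
    have h : π.fiberι z y ∈ π ⁻¹' {z} := π.range_fiberι z ▸ Set.mem_range_self y
    rw [show π (π.fiberι z y) = z from h]; exact hz
  exact Cube.Seesaw.iso_of_gen _ ((isGen_pb (π.fiberι z) hg).restrict htop)

/-- the seesaw principle over a connected base -/
theorem exists_pullback [GeometricallyIntegral π] [ConnectedSpace Z]
    (h1 : ∀ z, Subsingleton (Coh.HH (π.fiber z) (Coh.structureModule (π.fiber z)) 1))
    {L : W.Modules} (hL : PicF.IsInvertible L) {z₀ : Z}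
    (h₀ : Nonempty (CohIII.fiberMod π L z₀ ≅ Coh.structureModule (π.fiber z₀))) :
    ∃ M : Z.Modules, PicF.IsInvertible M ∧
      Nonempty (L ≅ (Scheme.Modules.pullback π).obj M) := by
  let T : Set Z := {z | Nonempty (CohIII.fiberMod π L z ≅ Coh.structureModule (π.fiber z))}
  haveI hint : ∀ z : Z, IsIntegral (π.fiber z) := fun z => inferInstance
  have hloc : ∀ z ∈ T, ∃ (V : Z.Opens) (_ : z ∈ V) (g : Γ(L, π ⁻¹ᵁ V)), IsGen L (π ⁻¹ᵁ V) g :=
    fun z ⟨φ⟩ => exists_gen π hL z (TrivBundle.bijective_fiber π z) (h1 z) φ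
  have hopen : IsOpen T := isOpen_iff_forall_mem_open.2 fun z hz => by
    obtain ⟨V, hzV, g, hg⟩ := hloc z hz
    exact ⟨V, fun y hy => trivial_of_gen π hy hg, V.2, hzV⟩
  have huniv : T = Set.univ :=
    IsClopen.eq_univ ⟨isClosed_trivial π hint hL, hopen⟩ ⟨z₀, h₀⟩
  have hloc' : ∀ z : Z, ∃ (V : Z.Opens) (_ : z ∈ V) (g : Γ(L, π ⁻¹ᵁ V)), IsGen L (π ⁻¹ᵁ V) g :=
    fun z => hloc z (huniv ▸ Set.mem_univ z)
  have happ := OConn.bijective_app π (TrivBundle.bijective_fiber π)
  haveI := TrivBundle.isIso_counit π happ hloc'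
  refine ⟨(Scheme.Modules.pushforward π).obj L, fun z => ?_,
    ⟨(asIso ((Scheme.Modules.pullbackPushforwardAdjunction π).counit.app L)).symm⟩⟩
  obtain ⟨V, hz, g, hg⟩ := hloc' z
  exact ⟨V, hz, LFFrame.IsFrame.nonempty_restrict_iso (e := fun _ => g)
    ((isGen_iff_isFrame _).1 (TrivBundle.isGen_push π happ hg))⟩

end Groth.Agent.CBC.SeesawConn
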