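import Groth.Agent.CBC.Nhd
import Groth.Agent.CohTop.Vanishing

/-!
# Degreewise consequences for neighbourhoods with windows
-/

universe u

open CategoryTheory CategoryTheory.Limits Opposite TopologicalSpace AlgebraicGeometry Function

namespace Groth.Agent.CBC

/-- a module without sections over affine opens is zero -/
theorem isZero_of_affine {X : Scheme.{u}} (M : X.Modules)
    (h : ∀ W : X.Opens, IsAffineOpen W → Subsingleton Γ(M, W)) : IsZero M := by
  refine (IsZero.iff_id_eq_zero M).2 (Scheme.Modules.hom_ext _ _ fun O => ?_)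
  ext x
  refine Eq.trans ?_ (rfl : (0 : Γ(M, O)) = _)
  have hcov : O ≤ ⨆ W : {W : X.affineOpens // W.1 ≤ O}, W.1.1 := fun y hy => by
    obtain ⟨_, ⟨W, hW, rfl⟩, hyW, hWO⟩ := X.isBasis_affineOpens.exists_subset_of_mem_open hy O.2
    exact Opens.mem_iSup.2 ⟨⟨⟨W, hW⟩, hWO⟩, hyW⟩
  exact QCoh.eq_zero_of_locally_eq_zero M (fun W : {W : X.affineOpens // W.1 ≤ O} => W.2) hcov _
    fun W => (h W.1.1 W.1.2).elim _ _

/-- the restricted version -/
theorem isZero_restrict_of_affine {X : Scheme.{u}} (M : X.Modules) (U : X.Opens)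
    (h : ∀ W : X.Opens, IsAffineOpen W → W ≤ U → Subsingleton Γ(M, W)) : IsZero (M.restrict U.ι) :=
  isZero_of_affine _ fun W hW => h (U.ι ''ᵁ W) (hW.image_of_isOpenImmersion _)
    ((U.ι.image_mono le_top).trans U.ι_image_top.le)

variable {X S : Scheme.{u}} {f : X ⟶ S} [IsProper f] {F : X.Modules} [F.IsQuasicoherent]

omit [F.IsQuasicoherent] in
/-- the cohomology of a fibre of dimension `≤ d` vanishes above `d` -/
theorem subsingleton_fiberH_of_dim {s : S} {d : ℕ} (hd : topologicalKrullDim (f.fiber s) ≤ d)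
    {i : ℕ} (hi : d < i) : Subsingleton (CohIII.fiberH f F s i) := by
  haveI : IsProper (f.fiberToSpecResidueField s) :=
    MorphismProperty.of_isPullback (IsPullback.of_hasPullback f (S.fromSpecResidueField s))
      ‹IsProper f›
  haveI : IsLocallyNoetherian (f.fiber s) :=
    LocallyOfFiniteType.isLocallyNoetherian (f.fiberToSpecResidueField s)
  haveI : CompactSpace (f.fiber s) :=
    QuasiCompact.compactSpace_of_compactSpace (f.fiberToSpecResidueField s)
  haveI : IsNoetherian (f.fiber s) := { }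
  haveI : NoetherianSpace (f.fiber s).toTopCat := IsNoetherian.noetherianSpace (X := f.fiber s)
  exact CohTop.Vanishing.grothendieck_vanishing (X := (f.fiber s).toTopCat) d hd _ i hi

variable [LocallyOfFinitePresentation f] (hF : CohB1.IsFP F) (hfl : FlatMod.IsFlatOver f F)

include hF hfl in
/-- neighbourhoods inside an open -/
theorem exists_nhd_le (U : S.Opens) {s : S} (hs : s ∈ U) : ∃ N : Nhd f F, s ∈ N.V ∧ N.V ≤ U := by
  obtain ⟨_, ⟨V, hV, rfl⟩, hsV, hVU⟩ := S.isBasis_affineOpens.exists_subset_of_mem_open hs U.2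
  obtain ⟨N, rfl⟩ := exists_nhd_of_affine hF hfl hV
  exact ⟨N, hsV, hVU⟩

omit [LocallyOfFinitePresentation f] in
include hfl in
lemma Nhd.lExact_succ (N : Nhd f F) {p : ℕ} (h : (N.D.K F).RExact p) :
    (N.D.K F).LExact (p + 1) :=
  (SCx.rExact_iff_lExact_succ _ p (N.flat hfl)).1 h

omit [LocallyOfFinitePresentation f] in
include hfl in
lemma Nhd.rExact_pred (N : Nhd f F) {p : ℕ} (h : (N.D.K F).LExact (p + 1)) :
    (N.D.K F).RExact p :=
  (SCx.rExact_iff_lExact_succ _ p (N.flat hfl)).2 h

omit [LocallyOfFinitePresentation f] in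
include hfl in
lemma Nhd.lExact_zero (N : Nhd f F) : (N.D.K F).LExact 0 :=
  CBC.lExact_zero _ (N.flat hfl)

variable [HasInjectiveResolutions X.Modules]

omit [LocallyOfFinitePresentation f] in
include hfl in
/-- surjective base change of a fibre gives a right exact neighbourhood -/
theorem Nhd.exists_rExact_of_epi (N : Nhd f F) {s : S} (hs : s ∈ N.V)
    [HasInjectiveResolutions (f.fiber s).Modules]
    {Δ : RDer.DerivedLES (Scheme.Modules.pushforward f)}
    {Δs : RDer.DerivedLES (Scheme.Modules.pushforward (f.fiberToSpecResidueField s))}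
    {E : CohCmp.SectCmp f Δ} {Es : CohCmp.SectCmp (f.fiberToSpecResidueField s) Δs}
    (Bs : CohCmp.GenBC f (S.fromSpecResidueField s) (f.fiberToSpecResidueField s) (f.fiberι s)
      (f.fiber_fac s) E Es) {p : ℕ} (h : Epi (Bs.bc p F)) :
    ∃ N' : Nhd f F, s ∈ N'.V ∧ (N'.D.K F).RExact p ∧
      ∀ q, (N.D.K F).RExact q → (N'.D.K F).RExact q :=
  N.exists_rExact_of_surjAt hfl hs ((epi_bc_iff Bs N hs p).1 h)

end Groth.Agent.CBC
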