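import Groth.Agent.CBC.Deg0
import Groth.Agent.CBC.NhdThms
import Groth.Agent.ModShf.GrothAb

/-!
# Degree zero cohomology and base change over arbitrary bases
-/

universe u

open CategoryTheory CategoryTheory.Limits Opposite TopologicalSpace AlgebraicGeometry Function

namespace Groth.Agent.CBC

theorem isQuasicoherent_of_fp {X : Scheme.{u}} {F : X.Modules} (hF : CohB1.IsFP F) :
    F.IsQuasicoherent := by
  have : SheafOfModules.IsFinitePresentation.{u} F := hF
  obtain ⟨σ, -⟩ := SheafOfModules.IsFinitePresentation.exists_quasicoherentData.{u} F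
  exact { nonempty_quasicoherentData := ⟨σ⟩ }

variable {X S : Scheme.{u}} {f : X ⟶ S} [IsProper f] {F : X.Modules} [F.IsQuasicoherent]

/-- an epimorphism at a fibre gives surjectivity at the point -/
theorem Nhd.surjAt_zero_of_epi (N : Nhd f F) {s : S} (hs : s ∈ N.V)
    (h : Epi (CohBC.bc0 f (S.fromSpecResidueField s) (f.fiberToSpecResidueField s) (f.fiberι s)
      (f.fiber_fac s) F)) : N.SurjAt s hs 0 := by
  have := (N.w 0).fp
  let g := S.fromSpecResidueField s
  have H : IsPullback (f.fiberι s) (f.fiberToSpecResidueField s) f g :=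
    IsPullback.of_hasPullback f g
  haveI : IsProper (f.fiberToSpecResidueField s) :=
    MorphismProperty.of_isPullback H ‹IsProper f›
  have hle : ⊤ ≤ g ⁻¹ᵁ N.V := fromSpecResidueField_le s hs
  have hT := isAffineOpen_top (Spec (S.residueField s))
  letI : Algebra Γ(S, N.V) Γ(Spec (S.residueField s), ⊤) := (g.appLE N.V ⊤ hle).hom.toAlgebra
  have hfield : IsField Γ(Spec (S.residueField s), ⊤) :=
    (Scheme.ΓSpecIso (S.residueField s)).commRingCatIsoToRingEquiv.toMulEquiv.isField
      (Field.toIsField (S.residueField s))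
  letI := hfield.toField
  have hker : RingHom.ker (algebraMap Γ(S, N.V) Γ(Spec (S.residueField s), ⊤)) =
      (N.hV.primeIdealOf ⟨s, hs⟩).asIdeal := by
    rw [← ker_eval N.hV s hs]
    ext a
    rw [RingHom.mem_ker, RingHom.mem_ker]
    change g.appLE N.V ⊤ hle a = 0 ↔ _
    rw [fromSpecResidueField_appLE]
    exact map_eq_zero_iff _ (ConcreteCategory.bijective_of_isIso
      (Scheme.ΓSpecIso (S.residueField s)).inv).1
  rw [Nhd.SurjAt, ← kerBC_surjective_field_iff (N.w 0).u _ hker, ← (N.w 0).Φ_surjective_iff,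
    ← (bc0_app_iff F H N.hV hT hle N.D rfl).1]
  haveI := QCoh.isQuasicoherent_pushforward f F
  haveI : ((Scheme.Modules.pullback g).obj ((Scheme.Modules.pushforward f).obj F)).IsQuasicoherent :=
    QCoh.isQuasicoherent_pullback g _
  haveI := QCoh.isQuasicoherent_pullback (f.fiberι s) F
  haveI := QCoh.isQuasicoherent_pushforward (f.fiberToSpecResidueField s)
    ((Scheme.Modules.pullback (f.fiberι s)).obj F)
  exact QCoh.app_surjective_of_epi _ hT

/-- base change of direct images over right exact neighbourhoods -/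
theorem isIso_bc0_of_rExact {X' S' : Scheme.{u}} {g' : X' ⟶ X} {f' : X' ⟶ S'} {g : S' ⟶ S}
    (H : IsPullback g' f' f g) (h : ∀ z : S', ∃ N : Nhd f F, g z ∈ N.V ∧ (N.D.K F).RExact 0) :
    IsIso (CohBC.bc0 f g f' g' H.w F) := by
  refine isIso_of_small_affine _
    (fun W => ∃ N : Nhd f F, W ≤ g ⁻¹ᵁ N.V ∧ (N.D.K F).RExact 0) (fun z => ?_)
    (fun W W' hW => fun ⟨N, h1, h2⟩ => ⟨N, hW.trans h1, h2⟩) fun W hW => ?_
  · obtain ⟨N, h1, h2⟩ := h z
    exact ⟨g ⁻¹ᵁ N.V, h1, N, le_rfl, h2⟩
  · rintro ⟨N, h1, h2⟩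
    letI : Algebra Γ(S, N.V) Γ(S', W) := (g.appLE N.V W h1).hom.toAlgebra
    refine (bc0_app_iff F H N.hV hW h1 N.D rfl).2.2 ((N.w 0).Φ_bijective_iff _ |>.2 ?_)
    have := (N.w 0).rExact_iff.1 h2
    exact kerBC_bijective_of_flat _ _

variable [LocallyOfFinitePresentation f]

omit [LocallyOfFinitePresentation f] in
/-- exactness gives local freeness of the direct image -/
theorem Nhd.exists_free_nhd₀ (hfl : FlatMod.IsFlatOver f F) (N : Nhd f F)
    (hR : (N.D.K F).RExact 0) :
    ∀ y ∈ N.V, ∃ (U : S.Opens) (n : ℕ), y ∈ U ∧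
      Nonempty (((Coh.push f).obj F).restrict U.ι ≅ FlatMod.freeMod U n) := by
  intro y hy
  let M := (Coh.push f).obj F
  haveI : M.IsQuasicoherent := QCoh.isQuasicoherent_pushforward f F
  let e := (zeroSec F N.D).symm ≪≫ₗ ((N.D.K F).hA 0).symm ≪≫ₗ (N.w 0).e₀
  have := (N.w 0).fp
  have := (N.w 0).rExact_iff.1 hR
  have := (N.w 0).lExact_iff.1 (N.lExact_zero hfl)
  have := finite_ker (N.w 0).u
  have := projective_ker (N.w 0).u
  have : Module.Finite Γ(S, N.V) Γ(M, N.V) := Module.Finite.equiv e.symm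
  have : Module.Projective Γ(S, N.V) Γ(M, N.V) := Module.Projective.of_equiv e.symm
  exact Props.QProj.exists_free_nhd M N.hV hy (Module.finitePresentation_of_projective _ _)
    (Props.QProj.free_stalk_of_flat M N.hV hy)

variable (hF : CohB1.IsFP F) (hfl : FlatMod.IsFlatOver f F)

include hF hfl in
theorem exists_rExact_zero_of_epi {s : S}
    (h : Epi (CohBC.bc0 f (S.fromSpecResidueField s) (f.fiberToSpecResidueField s) (f.fiberι s)
      (f.fiber_fac s) F)) : ∃ N : Nhd f F, s ∈ N.V ∧ (N.D.K F).RExact 0 := by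
  obtain ⟨N₀, hs⟩ := exists_nhd hF hfl s
  obtain ⟨N, h1, h2, -⟩ := N₀.exists_rExact_of_surjAt hfl hs (N₀.surjAt_zero_of_epi hs h)
  exact ⟨N, h1, h2⟩

variable [HasInjectiveResolutions X.Modules]

include hF hfl in
/-- vanishing of fibre cohomology over an open kills the higher direct image -/
theorem isZero_Rpush_restrict {p : ℕ} {U : S.Opens}
    (h : ∀ y ∈ U, Subsingleton (CohIII.fiberH f F y p)) :
    IsZero (((Coh.Rpush f p).obj F).restrict U.ι) :=
  isZero_restrict_of_affine _ U fun W hW hWU => by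
    obtain ⟨N, rfl⟩ := exists_nhd_of_affine hF hfl hW
    exact (N.exact_of_fibres_zero fun y hy => h y (hWU hy)).2.2

include hF hfl in
/-- vanishing of fibre cohomology everywhere kills the higher direct image -/
theorem isZero_Rpush {p : ℕ} (h : ∀ y, Subsingleton (CohIII.fiberH f F y p)) :
    IsZero ((Coh.Rpush f p).obj F) :=
  isZero_of_affine _ fun W hW => by
    obtain ⟨N, rfl⟩ := exists_nhd_of_affine hF hfl hW
    exact (N.exact_of_fibres_zero fun y _ => h y).2.2

include hF hfl in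
/-- vanishing of `H¹` of the fibres gives exactness in degree zero -/
theorem exists_rExact_zero_of_fibres (U : S.Opens)
    (h : ∀ y ∈ U, Subsingleton (CohIII.fiberH f F y 1)) {s : S} (hs : s ∈ U) :
    ∃ N : Nhd f F, s ∈ N.V ∧ N.V ≤ U ∧ (N.D.K F).RExact 0 := by
  obtain ⟨N, hsN, hNU⟩ := exists_nhd_le hF hfl U hs
  exact ⟨N, hsN, hNU, N.rExact_pred hfl (N.exact_of_fibres_zero fun y hy => h y (hNU hy)).2.1⟩

end Groth.Agent.CBC
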