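import Groth.Agent.Cube.Grauert
import Groth.Agent.Cube.Universal
import Groth.Agent.VarBC.H0
import Groth.Agent.AmpleLib.Basic
import Groth.Agent.RankLocus.Basic
import Groth.Agent.CBC.Deg0Thms
import Groth.Agent.VBLib.Basic

/-!
# Line bundles coming from the base
-/

set_option autoImplicit false
universe u

open CategoryTheory CategoryTheory.Limits AlgebraicGeometry TopologicalSpace Opposite Function

noncomputable section

namespace Groth.Agent.CBC.TrivBundle

open Groth.Agent.QCoh Groth.Agent.Props.GenLocus Groth.Agent.Props.GenTensor Groth.Agent.Props.GenPull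
open scoped Groth.Agent.PicLaw

variable {W Z : Scheme.{u}} (π : W ⟶ Z)

/-- geometrically integral proper fibres have only constant functions -/
theorem bijective_fiber [IsProper π] [GeometricallyIntegral π] (z : Z) :
    Bijective (algebraMap (Z.residueField z) Γ(π.fiber z, ⊤)) := by
  letI : (π.fiber z).Over (Spec (CommRingCat.of (Z.residueField z))) :=
    ⟨π.fiberToSpecResidueField z⟩
  haveI : IsProper (π.fiber z ↘ Spec (CommRingCat.of (Z.residueField z))) :=
    show IsProper (pullback.snd π (Z.fromSpecResidueField z)) from inferInstance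
  haveI hgi : GeometricallyIntegral (π.fiber z ↘ Spec (CommRingCat.of (Z.residueField z))) :=
    inferInstanceAs (GeometricallyIntegral (π.fiberToSpecResidueField z))
  haveI : Nonempty (π.fiber z) := inferInstance
  haveI : GeometricallyConnected (π.fiber z ↘ Spec (CommRingCat.of (Z.residueField z))) :=
    ⟨fun K _ y P h hp H => by
      haveI := GeometricallyIntegral.geometrically_isIntegral
        (f := π.fiber z ↘ Spec (CommRingCat.of (Z.residueField z))) y h hp H
      infer_instance⟩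
  exact VarBC.H0.bijective_algebraMap (Z.residueField z) (π.fiber z)

theorem finrank_fiber [IsProper π] [GeometricallyIntegral π] (z : Z) :
    Module.finrank (Z.residueField z) Γ(π.fiber z, ⊤) = 1 :=
  (LinearEquiv.ofBijective (Algebra.linearMap (Z.residueField z) Γ(π.fiber z, ⊤))
    (bijective_fiber π z)).finrank_eq.symm.trans (Module.finrank_self _)

variable {L : W.Modules}

/-- A section generating a fibre generates over a neighbourhood. -/
theorem exists_gen_of_section [IsProper π] (hL : PicF.IsInvertible L) {V : Z.Opens} (z : Z)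
    (hz : z ∈ V) (hh : Bijective (algebraMap (Z.residueField z) Γ(π.fiber z, ⊤)))
    (htriv : Nonempty (CohIII.fiberMod π L z ≅ Coh.structureModule (π.fiber z)))
    (s : Γ(L, π ⁻¹ᵁ V)) (hs : pb (π.fiberι z) s ≠ 0) :
    ∃ (V' : Z.Opens) (_ : z ∈ V') (g : Γ(L, π ⁻¹ᵁ V')), IsGen L (π ⁻¹ᵁ V') g := by
  let ι := π.fiberι z
  have hιV : ∀ y : π.fiber z, π (ι y) = z := fun y => by
    have h := π.range_fiberι z ▸ Set.mem_range_self (f := ι) y
    exact h
  have htop : (⊤ : (π.fiber z).Opens) ≤ ι ⁻¹ᵁ (π ⁻¹ᵁ V) := fun y _ => by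
    show π (ι y) ∈ V
    rw [hιV y]; exact hz
  obtain ⟨t, ht⟩ := Cube.exists_gen_of_iso htriv
  obtain ⟨a, ha, -⟩ := ht.exists_eq le_rfl (res (CohIII.fiberMod π L z) htop (pb ι s))
  rw [res_self] at ha
  have ha0 : a ≠ 0 := by
    rintro rfl
    rw [zero_smul] at ha
    refine hs ?_
    have h := congrArg (res (CohIII.fiberMod π L z) (le_top : ι ⁻¹ᵁ (π ⁻¹ᵁ V) ≤ ⊤)) ha
    rwa [res_res, res_self, map_zero] at h
  have hau : IsUnit a := by
    obtain ⟨c, hc⟩ := hh.2 a
    have hc0 : c ≠ 0 := fun h => ha0 (by rw [← hc, h, map_zero])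
    rw [← hc]
    exact (Ne.isUnit hc0).map _
  have hsgen : IsGen (CohIII.fiberMod π L z) ⊤ (res (CohIII.fiberMod π L z) htop (pb ι s)) :=
    ha ▸ ht.smul_unit hau
  let Ω : W.Opens := sSup {U | ∃ h : U ≤ π ⁻¹ᵁ V, IsGen L U (res L h s)}
  have hfib : ∀ x : W, π x = z → x ∈ Ω := by
    intro x hx
    obtain ⟨U₀, e₀, hxU₀, he₀⟩ := exists_isGen hL x
    let U := U₀ ⊓ π ⁻¹ᵁ V
    have hxV : x ∈ π ⁻¹ᵁ V := by show π x ∈ V; rw [hx]; exact hz
    let e := res L (inf_le_left : U ≤ U₀) e₀
    have he : IsGen L U e := he₀.restrict _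
    obtain ⟨b, hb, -⟩ := he.exists_eq le_rfl (res L (inf_le_right : U ≤ π ⁻¹ᵁ V) s)
    rw [res_self] at hb
    obtain ⟨y, rfl⟩ : ∃ y, ι y = x := by
      have h : x ∈ Set.range ι := by rw [π.range_fiberι z]; exact hx
      exact h
    have hbu : IsUnit (ι.app U b) := by
      have h1 := congrArg (pb ι) hb
      rw [Cube.pb_res, Cube.pb_smul] at h1
      have h2 : IsGen (CohIII.fiberMod π L z) (ι ⁻¹ᵁ U)
          (res _ (ι.preimage_mono inf_le_right) (pb ι s)) := by
        have := hsgen.restrict (le_top : ι ⁻¹ᵁ U ≤ ⊤)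
        rwa [res_res] at this
      obtain ⟨c, hc, -⟩ := h2.exists_eq le_rfl (pb ι e)
      rw [res_self, h1, smul_smul] at hc
      exact IsUnit.of_mul_eq_one_right c ((isGen_pb ι he).injective le_rfl
        (((one_smul _ _).trans (congrArg (res _ le_rfl) hc)).trans
          (by rw [res_smul, rres_self]))).symm
    have hxb : ι y ∈ W.basicOpen b := by
      rw [W.mem_basicOpen _ _ (show ι y ∈ U from ⟨hxU₀, hxV⟩)]
      refine isUnit_of_map_unit (ι.stalkMap y).hom _ ?_
      rw [Scheme.Hom.germ_stalkMap_apply]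
      exact hbu.map _
    refine Opens.mem_sSup.mpr ⟨W.basicOpen b, ⟨(W.basicOpen_le b).trans inf_le_right, ?_⟩, hxb⟩
    have h3 := (he.restrict (W.basicOpen_le b)).smul_unit (c := rres (W.basicOpen_le b) b)
      (RingedSpace.isUnit_res_basicOpen _ b)
    have h4 := congrArg (res L (W.basicOpen_le b)) hb
    rw [res_res, res_smul] at h4
    rw [h4]
    exact h3
  let Zbad : Set Z := π '' (Ω : Set W)ᶜ
  have hbad : IsClosed Zbad := π.isClosedMap _ Ω.2.isClosed_compl
  let V' : Z.Opens := V ⊓ ⟨Zbadᶜ, hbad.isOpen_compl⟩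
  have hzV' : z ∈ V' := ⟨hz, fun ⟨x, hx, hxz⟩ => hx (hfib x hxz)⟩
  refine ⟨V', hzV', res L (π.preimage_mono (inf_le_left : V' ≤ V)) s,
    IsGen.of_local fun x hx => ?_⟩
  have hxΩ : x ∈ Ω := by
    by_contra hn
    exact hx.2 ⟨x, hn, rfl⟩
  obtain ⟨U, ⟨hU, hgen⟩, hxU⟩ := Opens.mem_sSup.mp hxΩ
  refine ⟨U ⊓ π ⁻¹ᵁ V', inf_le_right, ⟨hxU, hx⟩, ?_⟩
  have h5 := hgen.restrict (inf_le_left : U ⊓ π ⁻¹ᵁ V' ≤ U)
  rw [res_res] at h5 ⊢
  exact h5

/-- a nonzero fibre with surjective base change has a section nonzero on the fibre -/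
theorem exists_section_of_epi [IsProper π] [L.IsQuasicoherent] {V : Z.Opens} (hV : IsAffineOpen V)
    (z : Z) (hz : z ∈ V) (hne : Nontrivial (CohIII.fiberH π L z 0))
    (hepi : Epi (CohBC.bc0 π (Z.fromSpecResidueField z) (π.fiberToSpecResidueField z) (π.fiberι z)
      (π.fiber_fac z) L)) :
    ∃ s : Γ(L, π ⁻¹ᵁ V), pb (π.fiberι z) s ≠ 0 := by
  by_contra hcon
  push Not at hcon
  let g := Z.fromSpecResidueField z
  let f' := π.fiberToSpecResidueField z
  haveI : IsProper f' := show IsProper (pullback.snd π g) from inferInstance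
  have hle : ⊤ ≤ g ⁻¹ᵁ V := CBC.fromSpecResidueField_le z hz
  haveI := QCoh.isQuasicoherent_pushforward π L
  haveI := QCoh.isQuasicoherent_pullback g ((Scheme.Modules.pushforward π).obj L)
  haveI := QCoh.isQuasicoherent_pullback (π.fiberι z) L
  haveI := QCoh.isQuasicoherent_pushforward f' ((Scheme.Modules.pullback (π.fiberι z)).obj L)
  let M := (Scheme.Modules.pushforward π).obj L
  let B := CohBC.bc0 π g f' (π.fiberι z) (π.fiber_fac z) L
  have hzero : ∀ y, B.app ⊤ y = 0 := fun y => by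
    have hy : y ∈ Submodule.span Γ(Spec (Z.residueField z), ⊤)
        (Set.range fun t : Γ(M, V) => LimTop.unitSec g M hle t) := by
      rw [RankLocus.span_unitSec g M hV (isAffineOpen_top _) hle (fun t => t)
        (by rw [Set.range_id', Submodule.span_univ])]
      exact Submodule.mem_top
    induction hy using Submodule.span_induction with
    | mem y hy =>
      obtain ⟨t, rfl⟩ := hy
      refine (CBC.bc0_app_unitSec L (π.fiber_fac z) hle
        ((f'.preimage_mono hle).trans (CohCmp.sqLE π g f' (π.fiberι z) (π.fiber_fac z) V))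
        (show Γ(L, π ⁻¹ᵁ V) from t)).trans ?_
      change res _ _ (pb (π.fiberι z) (show Γ(L, π ⁻¹ᵁ V) from t)) = 0
      rw [hcon, map_zero]
    | zero => exact map_zero _
    | add a b _ _ ha hb => rw [map_add, ha, hb, add_zero]
    | smul c a _ ha => rw [Scheme.Modules.Hom.app_smul, ha, smul_zero]
  have hsurj := QCoh.app_surjective_of_epi B (isAffineOpen_top (Spec (Z.residueField z)))
  have : Subsingleton Γ(CohIII.fiberMod π L z, ⊤) := subsingleton_of_forall_eq 0 fun y => by
    obtain ⟨x, hx⟩ := hsurj (show Γ((Scheme.Modules.pushforward f').obj _, ⊤) from y)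
    exact hx.symm.trans (hzero x)
  have := (ProperFin.h0Sec (CohIII.fiberMod π L z)).toEquiv.subsingleton
  exact not_subsingleton (CohIII.fiberH π L z 0) this

/-- a generator over the base gives an epimorphism on fibres -/
theorem epi_of_gen [IsProper π] [L.IsQuasicoherent] {V : Z.Opens} (z : Z) (hz : z ∈ V)
    (hh : Bijective (algebraMap (Z.residueField z) Γ(π.fiber z, ⊤)))
    {e : Γ(L, π ⁻¹ᵁ V)} (he : IsGen L (π ⁻¹ᵁ V) e) :
    Epi (CohBC.bc0 π (Z.fromSpecResidueField z) (π.fiberToSpecResidueField z) (π.fiberι z)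
      (π.fiber_fac z) L) := by
  let g := Z.fromSpecResidueField z
  let f' := π.fiberToSpecResidueField z
  haveI : IsProper f' := show IsProper (pullback.snd π g) from inferInstance
  have hle : ⊤ ≤ g ⁻¹ᵁ V := CBC.fromSpecResidueField_le z hz
  haveI := QCoh.isQuasicoherent_pushforward π L
  haveI := QCoh.isQuasicoherent_pullback g ((Scheme.Modules.pushforward π).obj L)
  haveI := QCoh.isQuasicoherent_pullback (π.fiberι z) L
  haveI := QCoh.isQuasicoherent_pushforward f' ((Scheme.Modules.pullback (π.fiberι z)).obj L)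
  refine CohAff.epi_of_affine_surjective _ fun O _ => ?_
  by_cases hO : O = ⊤
  · subst hO
    intro t
    have h' : f' ⁻¹ᵁ ⊤ ≤ (π.fiberι z) ⁻¹ᵁ (π ⁻¹ᵁ V) :=
      (f'.preimage_mono hle).trans (CohCmp.sqLE π g f' (π.fiberι z) (π.fiber_fac z) V)
    obtain ⟨a, ha⟩ := ((isGen_pb (π.fiberι z) he) _ h').2
      (show Γ(CohIII.fiberMod π L z, f' ⁻¹ᵁ ⊤) from t)
    obtain ⟨c, hc⟩ := hh.2 (show Γ(π.fiber z, ⊤) from a)
    let b : Γ(Spec (Z.residueField z), ⊤) := (Scheme.ΓSpecIso (Z.residueField z)).inv c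
    have hb : f'.app ⊤ b = a := hc
    refine ⟨b • LimTop.unitSec g ((Scheme.Modules.pushforward π).obj L) hle
      (show Γ((Scheme.Modules.pushforward π).obj L, V) from e), ?_⟩
    rw [Scheme.Modules.Hom.app_smul, CBC.bc0_app_unitSec L (π.fiber_fac z) hle h']
    refine Eq.trans ?_ ha
    change f'.app ⊤ b • LimTop.unitSec (π.fiberι z) L h' e = _
    rw [hb]
    rfl
  · intro t
    refine ⟨0, ?_⟩
    refine (map_zero _).trans (QCoh.eq_zero_of_locally_eq_zero _
      (U := fun i : PEmpty.{u + 1} => i.elim) (fun i => i.elim) ?_ t fun i => i.elim).symm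
    intro x hx
    haveI : Subsingleton (Spec (Z.residueField z)) :=
      inferInstanceAs (Subsingleton (PrimeSpectrum (Z.residueField z)))
    exact absurd (top_unique fun x' _ => Subsingleton.elim x x' ▸ hx) hO

/-- a generator upstairs is a generator of the direct image -/
theorem isGen_push (happ : ∀ U : Z.Opens, Bijective (π.app U)) {V : Z.Opens}
    {e : Γ(L, π ⁻¹ᵁ V)} (he : IsGen L (π ⁻¹ᵁ V) e) :
    IsGen ((Scheme.Modules.pushforward π).obj L) V
      (show Γ((Scheme.Modules.pushforward π).obj L, V) from e) := fun V' h =>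
  (he (π ⁻¹ᵁ V') (π.preimage_mono h)).comp (happ V')

/-- the counit is an isomorphism for modules trivial over the base -/
theorem isIso_counit (happ : ∀ U : Z.Opens, Bijective (π.app U))
    (hloc : ∀ z : Z, ∃ (V : Z.Opens) (_ : z ∈ V) (e : Γ(L, π ⁻¹ᵁ V)), IsGen L (π ⁻¹ᵁ V) e) :
    IsIso ((Scheme.Modules.pullbackPushforwardAdjunction π).counit.app L) := by
  let ε := (Scheme.Modules.pullbackPushforwardAdjunction π).counit.app L
  refine CBC.isIso_of_small_affine ε
    (fun U => ∃ (V : Z.Opens) (e : Γ(L, π ⁻¹ᵁ V)), IsGen L (π ⁻¹ᵁ V) e ∧ U ≤ π ⁻¹ᵁ V)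
    (fun x => ?_) (fun U U' hU ⟨V, e, he, h⟩ => ⟨V, e, he, hU.trans h⟩) fun U _ ⟨V, e, he, h⟩ => ?_
  · obtain ⟨V, hx, e, he⟩ := hloc (π x)
    exact ⟨π ⁻¹ᵁ V, hx, V, e, he, le_rfl⟩
  · let e' : Γ((Scheme.Modules.pushforward π).obj L, V) := e
    have h1 := isGen_pb π (isGen_push π happ he)
    have hkey : ε.app (π ⁻¹ᵁ V) (pb π e') = e := by
      exact congr($(congrArg (fun φ => Scheme.Modules.Hom.app φ V)
        ((Scheme.Modules.pullbackPushforwardAdjunction π).right_triangle_components L)) e')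
    have hfun : (ε.app U) ∘ sm (pb π e') h = sm e h := funext fun a => by
      simp only [sm, Function.comp_apply]
      rw [Scheme.Modules.Hom.app_smul]
      refine congrArg (a • ·) ?_
      exact (QCoh.app_res ε h (pb π e')).trans (congrArg (res L h) hkey)
    exact (Bijective.of_comp_iff _ (h1 U h)).1 (hfun ▸ he U h)

/-- the unit is an isomorphism for invertible modules -/
theorem isIso_unit (happ : ∀ U : Z.Opens, Bijective (π.app U)) {M : Z.Modules}
    (hM : PicF.IsInvertible M) :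
    IsIso ((Scheme.Modules.pullbackPushforwardAdjunction π).unit.app M) := by
  let η := (Scheme.Modules.pullbackPushforwardAdjunction π).unit.app M
  refine CBC.isIso_of_small_affine η (fun U => ∃ (V : Z.Opens) (e : Γ(M, V)), IsGen M V e ∧ U ≤ V)
    (fun x => ?_) (fun U U' hU ⟨V, e, he, h⟩ => ⟨V, e, he, hU.trans h⟩) fun U _ ⟨V, e, he, h⟩ => ?_
  · obtain ⟨V, e, hx, he⟩ := exists_isGen hM x
    exact ⟨V, hx, V, e, he, le_rfl⟩
  · have hfun : (η.app U) ∘ sm e h =
        (fun a => (sm (pb π e) (π.preimage_mono h) (π.app U a) :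
          Γ((Scheme.Modules.pullback π).obj M, π ⁻¹ᵁ U))) := funext fun a => by
      simp only [sm, Function.comp_apply]
      rw [Scheme.Modules.Hom.app_smul]
      exact congrArg (a • ·) (QCoh.app_res η h e)
    refine (Bijective.of_comp_iff _ (he U h)).1 ?_
    rw [hfun]
    exact ((isGen_pb π he) (π ⁻¹ᵁ U) (π.preimage_mono h)).comp (happ U)

end Groth.Agent.CBC.TrivBundle

namespace Groth.Agent.CBC.TrivBundle

open Groth.Agent.QCoh

/-- the unit is an isomorphism for finite locally free modules -/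
theorem isIso_unit_vb {W Z : Scheme.{u}} (π : W ⟶ Z) (happ : ∀ U : Z.Opens, Bijective (π.app U))
    {M : Z.Modules} (hM : FlatMod.IsFinLocFree M) :
    IsIso ((Scheme.Modules.pullbackPushforwardAdjunction π).unit.app M) := by
  let η := (Scheme.Modules.pullbackPushforwardAdjunction π).unit.app M
  refine CBC.isIso_of_small_affine η (fun U => ∃ (V : Z.Opens) (n : ℕ) (e : Fin n → Γ(M, V)),
      LFFrame.IsFrame M V e ∧ U ≤ V)
    (fun x => ?_) (fun U U' hU ⟨V, n, e, he, h⟩ => ⟨V, n, e, he, hU.trans h⟩)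
    fun U _ ⟨V, n, e, he, h⟩ => ?_
  · obtain ⟨V, n, hx, ⟨φ⟩⟩ := hM x
    obtain ⟨e, he⟩ := VBLib.exists_isFrame_of_iso φ
    exact ⟨V, hx, V, n, e, he, le_rfl⟩
  · let e' : Fin n → Γ((Scheme.Modules.pullback π).obj M, π ⁻¹ᵁ V) :=
      fun i => LFFrame.unitSec π M V (e i)
    have hfun : (η.app U) ∘ LFFrame.comb M e h =
        (fun a => (LFFrame.comb _ e' (π.preimage_mono h) (fun i => π.app U (a i)) :
          Γ((Scheme.Modules.pullback π).obj M, π ⁻¹ᵁ U))) := funext fun a => by
      simp only [LFFrame.comb, Function.comp_apply, map_sum]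
      refine Finset.sum_congr rfl fun i _ => ?_
      rw [Scheme.Modules.Hom.app_smul]
      exact congrArg (a i • ·) (QCoh.app_res η h (e i))
    refine (Bijective.of_comp_iff _ (he U h)).1 ?_
    rw [hfun]
    exact ((LFFrame.IsFrame.pullback π he) (π ⁻¹ᵁ U) (π.preimage_mono h)).comp
      (Bijective.piMap fun _ => happ U)

end Groth.Agent.CBC.TrivBundle
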