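import Groth.Agent.CBC.TensorCx
import Groth.Agent.CBC.Noeth

/-!
# A complex of flat modules computing `M ↦ H^p(X, F ⊗_A M)`
-/

universe u

open CategoryTheory Limits Opposite TopologicalSpace AlgebraicGeometry Function TensorProduct

namespace Groth.Agent.CBC

variable {A : Type u} [CommRing A] {X : Scheme.{u}} [X.Over (Spec (CommRingCat.of A))]

/-- a complex representing `M ↦ H^p(X, F ⊗_A M)` -/
structure Rep (F : X.Modules) where
  K : SCx A
  flat : ∀ n, Module.Flat A (K.X n)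
  r : ℕ
  van : ∀ (M : Type u) [AddCommGroup M] [Module A M] (n : ℕ), r ≤ n → Subsingleton (K.H M n)
  e : ∀ (M : ModuleCat.{u} A) (n : ℕ), K.H M n ≃+ Coh.HH X (tA F M) n
  e_smul : ∀ (M : ModuleCat.{u} A) (n : ℕ) (a : A) (x : K.H M n), e M n (a • x) = a • e M n x
  nat : ∀ {M M' : ModuleCat.{u} A} (f : M ⟶ M') (n : ℕ) (x : K.H M n),
    e M' n (K.Hmap f.hom n x) = CohPull.mapH (tAMap F f) n (e M n x)
  e₀ : ∀ n : ℕ, K.H₀ n ≃ₗ[A] Coh.HH X F n

variable [IsSeparated (X ↘ Spec (CommRingCat.of A))] [QuasiCompact (X ↘ Spec (CommRingCat.of A))]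
  (F : X.Modules) [F.IsQuasicoherent]

lemma flat_secA {U : X.Opens} (hU : IsAffineOpen U)
    (hfl : FlatMod.IsFlatOver (X ↘ Spec (CommRingCat.of A)) F) :
    Module.Flat A (Sec (φA (A := A)) F (le_top : U ≤ ⊤)) := by
  let π := X ↘ Spec (CommRingCat.of A)
  let B₀ := Γ(Spec (CommRingCat.of A), ⊤)
  letI : Algebra A B₀ := (Scheme.ΓSpecIso (CommRingCat.of A)).inv.hom.toAlgebra
  letI : Module B₀ (Sec (φA (A := A)) F (le_top : U ≤ ⊤)) :=
    secModule (W := π ⁻¹ᵁ ⊤) (π.app ⊤).hom F (le_top : U ≤ π ⁻¹ᵁ ⊤)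
  haveI : IsScalarTower A B₀ (Sec (φA (A := A)) F (le_top : U ≤ ⊤)) :=
    IsScalarTower.of_algebraMap_smul fun _ _ => rfl
  haveI : Module.Flat B₀ (Sec (φA (A := A)) F (le_top : U ≤ ⊤)) :=
    flat_sec π (isAffineOpen_top _) F hU le_top fun x _ => hfl x
  haveI : Module.Flat A B₀ :=
    RingHom.Flat.of_bijective (f := (Scheme.ΓSpecIso (CommRingCat.of A)).inv.hom)
      (ConcreteCategory.bijective_of_isIso (Scheme.ΓSpecIso (CommRingCat.of A)).inv)
  exact Module.Flat.trans A B₀ _

omit [IsSeparated (X ↘ Spec (CommRingCat.of A))] [QuasiCompact (X ↘ Spec (CommRingCat.of A))] in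
lemma iSup_model (D : Model (X ↘ Spec (CommRingCat.of A)) ⊤) : ⨆ i, D.U i = ⊤ :=
  top_le_iff.mp D.cov


lemma subsingleton_HH_model (D : Model (X ↘ Spec (CommRingCat.of A)) ⊤)
    (G : X.Modules) [G.IsQuasicoherent] (n : ℕ) (hn : Nat.card D.ι ≤ n) :
    Subsingleton (Coh.HH X G n) := by
  let π := X ↘ Spec (CommRingCat.of A)
  have hsep : X.IsSeparated :=
    ⟨(Subsingleton.elim _ _ : π ≫ terminal.from _ = terminal.from X) ▸
      inferInstanceAs (IsSeparated (π ≫ terminal.from (Spec (CommRingCat.of A))))⟩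
  let e := Finite.equivFin D.ι
  refine Groth.Agent.S0010.result X (Nat.card D.ι) (fun j => D.U (e.symm j)) (fun j => ?_) ?_
    (fun _ _ h1 h2 => h1.inf h2) _ n hn
  · have h1 := D.aff (n := 0) fun _ => e.symm j
    rwa [show CohAff.inter (X := X.toPresheafedSpace.carrier) D.U
      (fun _ : Fin 1 => e.symm j) = D.U (e.symm j) from le_antisymm (CohAff.inter_le _ _ 0)
        (CohAff.le_inter fun _ => le_rfl)] at h1
  · rw [← iSup_model D]
    exact e.symm.iSup_comp (g := fun i => D.U i)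

/-- the representing complex of a covering -/
noncomputable def Rep.ofModel (D : Model (X ↘ Spec (CommRingCat.of A)) ⊤)
    (hK : ∀ n, Module.Flat A ((KA (A := A) F D.U).X n)) : Rep (A := A) F where
  K := KA (A := A) F D.U
  flat := hK
  r := Nat.card D.ι
  van M _ _ n hn :=
    have := isQuasicoherent_tA F (ModuleCat.of A M)
    have := subsingleton_HH_model D (tA F (ModuleCat.of A M)) n hn
    (AddEquiv.ofBijective _
      (tH_bijective F D.U (iSup_model D) D.aff (ModuleCat.of A M) n)).toEquiv.subsingleton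
  e M n := AddEquiv.ofBijective _ (tH_bijective F D.U (iSup_model D) D.aff M n)
  e_smul M n a x := tH_smul F D.U (iSup_model D) D.aff M n a x
  nat f n x := tH_natural F D.U (iSup_model D) D.aff f n x
  e₀ n := LinearEquiv.ofBijective
    ({ toFun := hTop (φA (A := A)) (iSup_model D) F n
       map_add' := map_add _
       map_smul' := hTop_smul (φA (A := A)) (iSup_model D) F n } :
      (KA (A := A) F D.U).H₀ n →ₗ[A] Coh.HH X F n)
    (hTop_bijective (φA (A := A)) (iSup_model D) F D.aff n)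


lemma flat_KA (D : Model (X ↘ Spec (CommRingCat.of A)) ⊤)
    (hfl : FlatMod.IsFlatOver (X ↘ Spec (CommRingCat.of A)) F) (n : ℕ) :
    Module.Flat A ((KA (A := A) F D.U).X n) :=
  flat_cx _ D.U (fun _ => le_top) F (fun _ x => flat_secA F (D.aff x) hfl) n

/-- representing complexes exist -/
theorem nonempty_rep (hfl : FlatMod.IsFlatOver (X ↘ Spec (CommRingCat.of A)) F) :
    Nonempty (Rep (A := A) F) := by
  obtain ⟨D⟩ := nonempty_model (X ↘ Spec (CommRingCat.of A))
    (isAffineOpen_top (Spec (CommRingCat.of A)))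
  exact ⟨Rep.ofModel F D (flat_KA F D hfl)⟩

omit [IsSeparated (X ↘ Spec (CommRingCat.of A))] [QuasiCompact (X ↘ Spec (CommRingCat.of A))] in
/-- windows of a representing complex -/
theorem Rep.nonempty_win [IsNoetherianRing A] [IsProper (X ↘ Spec (CommRingCat.of A))]
    {F : X.Modules} (R : Rep (A := A) F) (hF : Coh.IsCoh F) (hfin : FinCoh.{u}) (p : ℕ) :
    Nonempty (R.K.Win p) :=
  R.K.nonempty_win R.flat
    (fun n => have := hfin A X F hF n; Module.Finite.equiv (R.e₀ n).symm) R.van p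

end Groth.Agent.CBC
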