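import Groth.Agent.CBC.Transfer

/-!
# Affine base change of exactness properties
-/

universe u

open CategoryTheory Limits Opposite TopologicalSpace AlgebraicGeometry Function TensorProduct

namespace Groth.Agent.CBC

variable {A A' : Type u} [CommRing A] [CommRing A'] [Algebra A A'] {X X' : Scheme.{u}}
  [X.Over (Spec (CommRingCat.of A))] [X'.Over (Spec (CommRingCat.of A'))]
  [IsSeparated (X ↘ Spec (CommRingCat.of A))] (g' : X' ⟶ X)
  (hsq : IsPullback g' (X' ↘ Spec (CommRingCat.of A')) (X ↘ Spec (CommRingCat.of A))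
    (Spec.map (CommRingCat.ofHom (algebraMap A A'))))
  (D : Model (X ↘ Spec (CommRingCat.of A)) ⊤) (F : X.Modules) [F.IsQuasicoherent]

/-- the base changed covering -/
noncomputable def Model.bcAff : Model (X' ↘ Spec (CommRingCat.of A')) ⊤ where
  ι := D.ι
  fin := D.fin
  U := bcCov g' (X' ↘ Spec (CommRingCat.of A')) (UT := ⊤) D.U
  hU := bcCov_le g' _ D.U
  cov := (iSup_bcCov (Spec.map (CommRingCat.ofHom (algebraMap A A'))) g'
    (X' ↘ Spec (CommRingCat.of A')) D hsq le_top).ge.trans' le_top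
  aff := isAffineOpen_inter_bcCov (X ↘ Spec (CommRingCat.of A))
    (Spec.map (CommRingCat.ofHom (algebraMap A A'))) g' _ le_top D.U D.hU hsq
    (isAffineOpen_top _) (isAffineOpen_top _) D.aff

/-- the comparison of complexes -/
theorem exists_equiv_bcAff :
    letI : Algebra Γ(Spec (CommRingCat.of A), ⊤) Γ(Spec (CommRingCat.of A'), ⊤) :=
      ((Spec.map (CommRingCat.ofHom (algebraMap A A'))).appLE ⊤ ⊤ le_top).hom.toAlgebra
    ∃ e : ∀ n, ((D.K F).bc Γ(Spec (CommRingCat.of A'), ⊤)).X n ≃ₗ[Γ(Spec (CommRingCat.of A'), ⊤)]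
        ((Model.bcAff g' hsq D).K ((Scheme.Modules.pullback g').obj F)).X n,
      ∀ n x, e (n + 1) (((D.K F).bc _).d n x) =
        ((Model.bcAff g' hsq D).K ((Scheme.Modules.pullback g').obj F)).d n (e n x) := by
  letI : Algebra Γ(Spec (CommRingCat.of A), ⊤) Γ(Spec (CommRingCat.of A'), ⊤) :=
    ((Spec.map (CommRingCat.ofHom (algebraMap A A'))).appLE ⊤ ⊤ le_top).hom.toAlgebra
  exact ⟨fun n => LinearEquiv.ofBijective _
      (cxBC_bijective (X ↘ Spec (CommRingCat.of A))
        (Spec.map (CommRingCat.ofHom (algebraMap A A'))) g' (X' ↘ Spec (CommRingCat.of A'))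
        le_top rfl F D.U D.hU hsq.w hsq (isAffineOpen_top _) (isAffineOpen_top _) D.aff n),
    fun n x => (cxBC (X ↘ Spec (CommRingCat.of A))
        (Spec.map (CommRingCat.ofHom (algebraMap A A'))) g' (X' ↘ Spec (CommRingCat.of A'))
        le_top rfl F D.U D.hU hsq.w).comm n x⟩

omit [IsSeparated (X ↘ Spec (CommRingCat.of A))] [F.IsQuasicoherent] in
lemma flat_KA_of_K {B : Type u} [CommRing B] {Z : Scheme.{u}} [Z.Over (Spec (CommRingCat.of B))]
    (E : Model (Z ↘ Spec (CommRingCat.of B)) ⊤) (G : Z.Modules)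
    (h : ∀ n, Module.Flat Γ(Spec (CommRingCat.of B), ⊤) ((E.K G).X n)) (n : ℕ) :
    Module.Flat B ((KA (A := B) G E.U).X n) := by
  letI := (Scheme.ΓSpecIso (CommRingCat.of B)).hom.hom.toAlgebra
  have := h n
  have := SCx.flat_bc (E.K G) B n
  exact Module.Flat.of_linearEquiv (LinearEquiv.ofBijective _
    (SCx.surjMap_bijective (toA (Z ↘ Spec (CommRingCat.of B)) G E.U E.hU)
      (toA_smul (Z ↘ Spec (CommRingCat.of B)) G E.U E.hU)
      (ConcreteCategory.bijective_of_isIso (Scheme.ΓSpecIso (CommRingCat.of B)).hom).2 n)).symm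

variable {F} (hfl : FlatMod.IsFlatOver (X ↘ Spec (CommRingCat.of A)) F)

include hfl in
theorem flat_KA_bcAff (n : ℕ) :
    Module.Flat A' ((KA (A := A') ((Scheme.Modules.pullback g').obj F)
      (Model.bcAff g' hsq D).U).X n) := by
  letI : Algebra Γ(Spec (CommRingCat.of A), ⊤) Γ(Spec (CommRingCat.of A'), ⊤) :=
    ((Spec.map (CommRingCat.ofHom (algebraMap A A'))).appLE ⊤ ⊤ le_top).hom.toAlgebra
  obtain ⟨e, -⟩ := exists_equiv_bcAff g' hsq D F
  refine flat_KA_of_K _ _ (fun m => ?_) n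
  have := D.flat_K F (isAffineOpen_top _) hfl m
  have := SCx.flat_bc (D.K F) Γ(Spec (CommRingCat.of A'), ⊤) m
  exact Module.Flat.of_linearEquiv (e m).symm

theorem rExact_bcAff {p : ℕ} (h : (KA (A := A) F D.U).RExact p) :
    (KA (A := A') ((Scheme.Modules.pullback g').obj F) (Model.bcAff g' hsq D).U).RExact p := by
  letI : Algebra Γ(Spec (CommRingCat.of A), ⊤) Γ(Spec (CommRingCat.of A'), ⊤) :=
    ((Spec.map (CommRingCat.ofHom (algebraMap A A'))).appLE ⊤ ⊤ le_top).hom.toAlgebra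
  obtain ⟨e, he⟩ := exists_equiv_bcAff g' hsq D F
  exact (rExact_iff_spec (hU := (Model.bcAff g' hsq D).hU)).1
    ((((rExact_iff_spec (hU := D.hU)).2 h).bc Γ(Spec (CommRingCat.of A'), ⊤)).of_equiv e he)

theorem lExact_bcAff {p : ℕ} (h : (KA (A := A) F D.U).LExact p) :
    (KA (A := A') ((Scheme.Modules.pullback g').obj F) (Model.bcAff g' hsq D).U).LExact p := by
  letI : Algebra Γ(Spec (CommRingCat.of A), ⊤) Γ(Spec (CommRingCat.of A'), ⊤) :=
    ((Spec.map (CommRingCat.ofHom (algebraMap A A'))).appLE ⊤ ⊤ le_top).hom.toAlgebra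
  obtain ⟨e, he⟩ := exists_equiv_bcAff g' hsq D F
  exact (lExact_iff_spec (hU := (Model.bcAff g' hsq D).hU)).1
    ((((lExact_iff_spec (hU := D.hU)).2 h).bc Γ(Spec (CommRingCat.of A'), ⊤)).of_equiv e he)

end Groth.Agent.CBC
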