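import Groth.Agent.CBC.Theta
import Groth.Agent.CBC.CechBC
import Groth.Agent.LimTop.PullSec

/-!
# Base change maps of higher direct images over affine opens
-/

universe u

open CategoryTheory CategoryTheory.Limits Opposite TopologicalSpace AlgebraicGeometry Function
  TensorProduct

namespace Groth.Agent.CBC

namespace SCx

variable {A : Type u} [CommRing A] (K : SCx A) (B : Type u) [CommRing B] [Algebra A B] (p : ℕ)

/-- `1 ⊗ z` -/
noncomputable def oneZ (z : K.Z₀ p) : (K.bc B).Z₀ p :=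
  ⟨(1 : B) ⊗ₜ z.1, by
    change (K.d p).baseChange B ((1 : B) ⊗ₜ z.1) = 0
    rw [LinearMap.baseChange_tmul, show K.d p z.1 = 0 from z.2, TensorProduct.tmul_zero]⟩

lemma hA_hBC_symm_Φ (b : B) (z : K.Z₀ p) :
    (K.bc B).hA p ((K.hBC B B p).symm (K.Φ p B (b ⊗ₜ (K.hA p).symm (Submodule.Quotient.mk z)))) =
      b • (Submodule.Quotient.mk (K.oneZ B p z) : (K.bc B).H₀ p) := by
  have hz : z.1 ⊗ₜ[A] (1 : A) ∈ K.Z A p := by
    change (K.d p).rTensor A _ = 0
    rw [LinearMap.rTensor_tmul, show K.d p z.1 = 0 from z.2, TensorProduct.zero_tmul]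
  have h1 : (K.hA p).symm (Submodule.Quotient.mk z) = Submodule.Quotient.mk ⟨_, hz⟩ := by
    rw [LinearEquiv.symm_apply_eq, hA_mk]
    exact congrArg Submodule.Quotient.mk (Subtype.ext
      (show z.1 = TensorProduct.rid A (K.X p) (z.1 ⊗ₜ (1 : A)) by
        rw [TensorProduct.rid_tmul, one_smul]))
  have hw : ((1 : B) ⊗ₜ[A] z.1) ⊗ₜ[B] b ∈ (K.bc B).Z B p := by
    change ((K.d p).baseChange B).rTensor B _ = 0
    rw [LinearMap.rTensor_tmul, LinearMap.baseChange_tmul, show K.d p z.1 = 0 from z.2,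
      TensorProduct.tmul_zero, TensorProduct.zero_tmul]
  have h2 : (K.hBC B B p).symm (K.Φ p B (b ⊗ₜ (K.hA p).symm (Submodule.Quotient.mk z))) =
      Submodule.Quotient.mk ⟨_, hw⟩ := by
    rw [h1, LinearEquiv.symm_apply_eq, Φ_tmul, Hmap_mk, hBC_mk]
    refine congrArg Submodule.Quotient.mk (Subtype.ext ?_)
    change (LinearMap.toSpanSingleton A B b).lTensor (K.X p) (z.1 ⊗ₜ (1 : A)) =
      cbc B B (K.X p) (((1 : B) ⊗ₜ z.1) ⊗ₜ b)
    rw [cbc_tmul, LinearMap.lTensor_tmul, LinearMap.toSpanSingleton_apply, one_smul, one_smul]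
  rw [h2, hA_mk, ← Submodule.Quotient.mk_smul]
  exact congrArg Submodule.Quotient.mk (Subtype.ext
    (show TensorProduct.rid B (B ⊗[A] K.X p) (((1 : B) ⊗ₜ[A] z.1) ⊗ₜ[B] b) =
      b • ((1 : B) ⊗ₜ[A] z.1) from TensorProduct.rid_tmul _ _))

end SCx

variable {X S X' S' : Scheme.{u}} {f : X ⟶ S} {g : S' ⟶ S} {f' : X' ⟶ S'} {g' : X' ⟶ X}
  {w : g' ≫ f = f' ≫ g} [HasInjectiveResolutions X.Modules] [HasInjectiveResolutions X'.Modules]
  {Δ : RDer.DerivedLES (Scheme.Modules.pushforward f)}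
  {Δ' : RDer.DerivedLES (Scheme.Modules.pushforward f')}
  {E : CohCmp.SectCmp f Δ} {E' : CohCmp.SectCmp f' Δ'}
  (Bc : CohCmp.GenBC f g f' g' w E E') (p : ℕ) (F : X.Modules)

lemma bc_app_unitSec {V : S.Opens} {UT : S'.Opens} (h : UT ≤ g ⁻¹ᵁ V)
    (t : Γ((Coh.Rpush f p).obj F, V)) :
    (Bc.bc p F).app UT (LimTop.unitSec g ((Coh.Rpush f p).obj F) h t) =
      QCoh.res ((Coh.Rpush f' p).obj ((Scheme.Modules.pullback g').obj F)) h
        ((Bc.φ p F).app V t) := by
  rw [LimTop.unitSec_apply, QCoh.app_res]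
  refine congrArg _ ?_
  have e := ((Scheme.Modules.pullbackPushforwardAdjunction g).homEquiv _ _).apply_symm_apply
    (Bc.φ p F)
  rw [Adjunction.homEquiv_unit] at e
  exact congr($(congrArg (fun φ => Scheme.Modules.Hom.app φ V) e) t)

section Cov

variable (H : IsPullback g' f' f g) {V : S.Opens} (hV : IsAffineOpen V) {UT : S'.Opens}
  (hUT : IsAffineOpen UT) (h : UT ≤ g ⁻¹ᵁ V) (D : Model f V)

omit [HasInjectiveResolutions X.Modules] [HasInjectiveResolutions X'.Modules] in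
include H h in
lemma preimage_le_iSup_bcCov : f' ⁻¹ᵁ UT ≤ ⨆ i, bcCov g' f' (UT := UT) D.U i := fun x hx => by
  have h1 : f (g' x) = g (f' x) := congrArg (fun φ : X' ⟶ S => φ x) H.w
  have h2 : g' x ∈ f ⁻¹ᵁ V := by
    change f (g' x) ∈ V
    rw [h1]
    exact h hx
  obtain ⟨i, hi⟩ := Opens.mem_iSup.1 (D.cov h2)
  exact Opens.mem_iSup.2 ⟨i, hi, hx⟩

/-- the model of the base change -/
noncomputable def Model.bcT : Model f' UT where
  ι := D.ι
  fin := D.fin
  U := bcCov g' f' (UT := UT) D.U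
  hU := bcCov_le g' f' D.U
  cov := preimage_le_iSup_bcCov H h D
  aff := isAffineOpen_inter_bcCov f g g' f' h D.U D.hU H hV hUT D.aff

end Cov

variable (H : IsPullback g' f' f g) {V : S.Opens} (hV : IsAffineOpen V) {UT : S'.Opens}
  (hUT : IsAffineOpen UT) (h : UT ≤ g ⁻¹ᵁ V) (D : Model f V)
  [Algebra Γ(S, V) Γ(S', UT)] (halg : algebraMap Γ(S, V) Γ(S', UT) = (g.appLE V UT h).hom)

/-- classes of the base changed complex as sections -/
noncomputable def θT : ((D.K F).bc Γ(S', UT)).H₀ p →ₗ[Γ(S', UT)]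
    Γ((Coh.Rpush f' p).obj ((Scheme.Modules.pullback g').obj F), UT) :=
  θ E' (Model.bcT H hV hUT h D) ((Scheme.Modules.pullback g').obj F) p ∘ₗ
    (cxBC f g g' f' h halg F D.U D.hU H.w).h₀ p

set_option maxHeartbeats 800000 in
/-- the base change map on classes -/
theorem bc_app_θ (z : (D.K F).Z₀ p) :
    (Bc.bc p F).app UT (LimTop.unitSec g ((Coh.Rpush f p).obj F) h
        (θ E D F p (Submodule.Quotient.mk z))) =
      θT (E' := E') p F H hV hUT h D halg (Submodule.Quotient.mk ((D.K F).oneZ Γ(S', UT) p z)) := by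
  refine (bc_app_unitSec Bc p F h _).trans ?_
  rw [θ_apply, Bc.compat]
  refine ((CohBase.cmpOf E').res p _ h _).symm.trans ?_
  refine congrArg (E'.ε UT _ p) ?_
  have hcov : f' ⁻¹ᵁ (g ⁻¹ᵁ V) ≤ ⨆ i, g' ⁻¹ᵁ D.U i := fun x hx => by
    obtain ⟨i, hi⟩ := Opens.mem_iSup.1 (D.cov (CohCmp.sqLE f g f' g' w V hx))
    exact Opens.mem_iSup.2 ⟨i, hi⟩
  rw [cl_mk, pullOn_clZ g' (f ⁻¹ᵁ V) (f' ⁻¹ᵁ (g ⁻¹ᵁ V)) (CohCmp.sqLE f g f' g' w V) D.cov hcov
    (fun _ => le_rfl) F _ z.2]
  refine (resLE_clZ (f'.preimage_mono h) hcov (preimage_le_iSup_bcCov H h D)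
    (fun i => inf_le_left) _ _ _).trans ?_
  refine Eq.trans ?_ (congrArg (cl (bcCov_le g' f' D.U) (preimage_le_iSup_bcCov H h D)
    ((Scheme.Modules.pullback g').obj F) (f'.app UT).hom p) (SCx.Hom.h₀_mk _ p _)).symm
  refine (clZ_congr _ _ ?_ _ _).trans (cl_mk ..).symm
  funext x
  refine Eq.trans ?_ (show (1 : Γ(S', UT)) • (show Sec (f'.app UT).hom
      ((Scheme.Modules.pullback g').obj F) (inter_le' _ x (bcCov_le g' f' D.U)) from
        LimTop.unitSec g' F (inter_bcCov_le g' f' D.U x) (z.1 x)) = _ from rfl)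
  rw [one_smul, refC_apply, gC_apply]
  exact LimTop.res_unitSec g' F _ _ _

variable [IsSeparated f] [QuasiCompact f] [IsSeparated f'] [QuasiCompact f'] [F.IsQuasicoherent]

/-- `H^p(K ⊗ B) → Γ(UT, R^p f'_* g'^* F)` -/
noncomputable def ζ (x : (D.K F).H Γ(S', UT) p) :
    Γ((Coh.Rpush f' p).obj ((Scheme.Modules.pullback g').obj F), UT) :=
  θT (E' := E') p F H hV hUT h D halg
    (((D.K F).bc Γ(S', UT)).hA p (((D.K F).hBC Γ(S', UT) Γ(S', UT) p).symm x))

omit [IsSeparated f] [QuasiCompact f] [IsSeparated f'] [QuasiCompact f'] [F.IsQuasicoherent] in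
lemma ζ_add (x y : (D.K F).H Γ(S', UT) p) :
    ζ (E' := E') p F H hV hUT h D halg (x + y) =
      ζ (E' := E') p F H hV hUT h D halg x + ζ (E' := E') p F H hV hUT h D halg y := by
  simp only [ζ, map_add]

omit [IsSeparated f] [QuasiCompact f] [IsSeparated f'] [QuasiCompact f'] [F.IsQuasicoherent] in
lemma ζ_zero : ζ (E' := E') p F H hV hUT h D halg 0 = 0 := by
  simp only [ζ, map_zero]

lemma ζ_bijective : Bijective (ζ (E' := E') p F H hV hUT h D halg) := by
  have := QCoh.isQuasicoherent_pullback g' F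
  exact ((θ_bijective E' (Model.bcT H hV hUT h D) _ p hUT).comp
    (SCx.Hom.h₀_bijective (cxBC f g g' f' h halg F D.U D.hU H.w)
      (cxBC_bijective f g g' f' h halg F D.U D.hU H.w H hV hUT D.aff) p)).comp
    ((((D.K F).bc Γ(S', UT)).hA p).bijective.comp
      ((D.K F).hBC Γ(S', UT) Γ(S', UT) p).symm.bijective)

include Bc in
/-- the base change map over affine opens is the comparison of the complex -/
theorem exists_bc_comparison : ∃ β : Γ(S', UT) ⊗[Γ(S, V)] (D.K F).H Γ(S, V) p →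
      Γ((Scheme.Modules.pullback g).obj ((Coh.Rpush f p).obj F), UT),
    Bijective β ∧ ∀ z, (Bc.bc p F).app UT (β z) =
      ζ (E' := E') p F H hV hUT h D halg ((D.K F).Φ p Γ(S', UT) z) := by
  rename_i inst _ _ _ _ _
  obtain rfl : inst = (g.appLE V UT h).hom.toAlgebra :=
    Algebra.algebra_ext _ _ fun r => congr($halg r)
  letI := (g.appLE V UT h).hom.toAlgebra
  let R := (Coh.Rpush f p).obj F
  have : R.IsQuasicoherent := isQuasicoherent_Rpush f F p
  letI := LimTop.secModule g R h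
  haveI : IsScalarTower Γ(S, V) Γ(S', UT) Γ((Scheme.Modules.pullback g).obj R, UT) :=
    IsScalarTower.of_algebraMap_smul fun _ _ => rfl
  have hb := LimTop.isBaseChange_unitSec g R h hV hUT
  let e := (D.K F).hA p ≪≫ₗ LinearEquiv.ofBijective (θ E D F p) (θ_bijective E D F p hV)
  refine ⟨fun z => hb.equiv (e.toLinearMap.lTensor Γ(S', UT) z),
    hb.equiv.bijective.comp (e.lTensor Γ(S', UT)).bijective, fun z => ?_⟩
  induction z using TensorProduct.induction_on with
  | zero =>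
    simp only [map_zero]
    exact (ζ_zero (E' := E') p F H hV hUT h D halg).symm
  | tmul b x =>
    obtain ⟨z, hz⟩ := Submodule.Quotient.mk_surjective _ ((D.K F).hA p x)
    obtain rfl : ((D.K F).hA p).symm (Submodule.Quotient.mk z) = x := by
      rw [hz, LinearEquiv.symm_apply_apply]
    dsimp only
    rw [LinearMap.lTensor_tmul, IsBaseChange.equiv_tmul]
    refine (Scheme.Modules.Hom.app_smul (Bc.bc p F) b _).trans ?_
    rw [ζ, SCx.hA_hBC_symm_Φ, map_smul, ← bc_app_θ Bc p F H hV hUT h D halg z]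
    refine congrArg (fun t => b • (Bc.bc p F).app UT (LimTop.unitSec g R h t)) ?_
    exact congrArg (θ E D F p) (LinearEquiv.apply_symm_apply ((D.K F).hA p) _)
  | add a b ha hb' =>
    simp only [map_add, ha, hb', ζ_add]

include Bc H hV hUT h halg in
theorem bc_app_bijective_iff : Bijective ((Bc.bc p F).app UT) ↔
    Bijective ((D.K F).Φ p Γ(S', UT)) := by
  obtain ⟨β, hβ, he⟩ := exists_bc_comparison Bc p F H hV hUT h D halg
  rw [← Bijective.of_comp_iff' (ζ_bijective (E' := E') p F H hV hUT h D halg) ((D.K F).Φ p _),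
    ← Bijective.of_comp_iff _ hβ]
  exact Iff.of_eq (congrArg Bijective (funext he))

include Bc H hV hUT h halg in
theorem bc_app_surjective_iff : Surjective ((Bc.bc p F).app UT) ↔
    Surjective ((D.K F).Φ p Γ(S', UT)) := by
  obtain ⟨β, hβ, he⟩ := exists_bc_comparison Bc p F H hV hUT h D halg
  rw [← Surjective.of_comp_iff' (ζ_bijective (E' := E') p F H hV hUT h D halg) ((D.K F).Φ p _),
    ← Surjective.of_comp_iff _ hβ.2]
  exact Iff.of_eq (congrArg Function.Surjective (funext he))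

end Groth.Agent.CBC
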