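import Groth.Agent.CBC.Hom
import Groth.Agent.CohAff.AffineCech
import Groth.Agent.FlatOpen.Scheme

/-!
# The linear Čech complex of a module
-/

universe u

open CategoryTheory Opposite TopologicalSpace AlgebraicGeometry TensorProduct

namespace Groth.Agent.CBC

open Groth.Agent.CohAff (inter inter_le Cochain cd cd_apply cd_cd cmap cd_cmap)

variable {X : Scheme.{u}} {A : Type u} [CommRing A] {W : X.Opens} (φ : A →+* Γ(X, W))

/-- sections, as a module over `A` -/
def Sec (_φ : A →+* Γ(X, W)) (M : X.Modules) {V : X.Opens} (_h : V ≤ W) : Type u := Γ(M, V)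

noncomputable instance (M : X.Modules) {V : X.Opens} (h : V ≤ W) : AddCommGroup (Sec φ M h) :=
  inferInstanceAs (AddCommGroup Γ(M, V))

/-- the module structure on sections -/
noncomputable instance secModule (M : X.Modules) {V : X.Opens} (h : V ≤ W) :
    Module A (Sec φ M h) :=
  Module.compHom Γ(M, V) ((QCoh.rres h).hom.comp φ)

lemma sec_smul (M : X.Modules) {V : X.Opens} (h : V ≤ W) (a : A) (s : Sec φ M h) :
    a • s = (show Sec φ M h from QCoh.rres h (φ a) • (show Γ(M, V) from s)) := rfl

lemma rs_sec_smul (M : X.Modules) {V V' : X.Opens} (h : V ≤ W) (hV : V' ≤ V) (a : A) (s : Sec φ M h) :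
    (show Sec φ M (hV.trans h) from QCoh.res M hV (show Γ(M, V) from a • s)) =
      a • (show Sec φ M (hV.trans h) from QCoh.res M hV (show Γ(M, V) from s)) :=
  (QCoh.res_smul M hV _ _).trans
    (congrArg (fun r : Γ(X, V') => r • QCoh.res M hV (show Γ(M, V) from s))
      (QCoh.rres_rres h hV (φ a)))

section Flat

/-- sections over affine opens of a flat module are flat -/
theorem flat_sec {Y : Scheme.{u}} (f : X ⟶ Y) {V : Y.Opens} (hV : IsAffineOpen V)
    (F : X.Modules) [F.IsQuasicoherent] {U : X.Opens} (hU : IsAffineOpen U) (h : U ≤ f ⁻¹ᵁ V)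
    (hfl : ∀ x, x ∈ U → FlatMod.IsFlatOverAt f F x) :
    Module.Flat Γ(Y, V) (Sec (f.app V).hom F h) := by
  letI := (f.appLE V U h).hom.toAlgebra
  letI : Module Γ(Y, V) Γ(F, U) := Module.compHom _ (f.appLE V U h).hom
  haveI : IsScalarTower Γ(Y, V) Γ(X, U) Γ(F, U) := IsScalarTower.of_algebraMap_smul fun _ _ => rfl
  change Module.Flat Γ(Y, V) Γ(F, U)
  refine Module.flat_of_isLocalized_maximal Γ(X, U) Γ(F, U)
    (fun P _ => LocalizedModule P.primeCompl Γ(F, U))
    (fun P _ => LocalizedModule.mkLinearMap _ _) fun P hP => ?_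
  obtain ⟨x, hx, hxP⟩ : ∃ x, ∃ hx : x ∈ U, AssSch.Stalk.primeOf hU x hx = P := by
    have hy : hU.fromSpec ⟨P, hP.isPrime⟩ ∈ (U : Set X) := by
      rw [← hU.range_fromSpec]
      exact ⟨_, rfl⟩
    exact ⟨_, hy, congrArg PrimeSpectrum.asIdeal
      (hU.fromSpec.isOpenEmbedding.injective (hU.fromSpec_primeIdealOf ⟨_, hy⟩))⟩
  subst hxP
  exact (FlatOpen.Scheme.isFlatOverAt_iff f hV hU h x hx F).1 (hfl x hx)

end Flat

variable {ι : Type u} (U : ι → X.Opens) (hU : ∀ i, U i ≤ W)

lemma inter_le' {n : ℕ} (x : Fin (n + 1) → ι) (hU : ∀ i, U i ≤ W) :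
    inter (X := X.toPresheafedSpace.carrier) U x ≤ W :=
  (inter_le U x 0).trans (hU _)

variable (M : X.Modules)

/-- linear cochains -/
abbrev CochainA (n : ℕ) : Type u :=
  ∀ x : Fin (n + 1) → ι, Sec φ M (inter_le' U x hU)

/-- a linear cochain as a cochain -/
def toC {n : ℕ} : CochainA φ U hU M n → Cochain M.presheaf U n := fun s => s

/-- a cochain as a linear cochain -/
def ofC {n : ℕ} : Cochain M.presheaf U n → CochainA φ U hU M n := fun s => s

/-- the linear Čech complex -/
@[reducible] noncomputable def cx : SCx A where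
  X n := CochainA φ U hU M n
  d n :=
    { toFun := fun s => ofC φ U hU M (cd M.presheaf U n (toC φ U hU M s))
      map_add' := fun a b => map_add (cd M.presheaf U n) (toC φ U hU M a) (toC φ U hU M b)
      map_smul' := fun r s => by
        funext x
        refine (cd_apply M.presheaf U n _ x).trans ?_
        rw [RingHom.id_apply]
        refine Eq.trans ?_ (congrArg (fun t => QCoh.rres (inter_le' U x hU) (φ r) •
          (show Γ(M, inter U x) from t)) (cd_apply M.presheaf U n (toC φ U hU M s) x)).symm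
        refine Eq.trans ?_ (Finset.smul_sum ..).symm
        refine Finset.sum_congr rfl fun j _ => ?_
        refine Eq.trans ?_ (smul_comm _ _ _)
        exact congrArg _ (rs_sec_smul φ M _ _ r (s _)) }
  d_d n x := funext fun y => congrFun (cd_cd M.presheaf U n (toC φ U hU M x)) y

lemma cx_d (n : ℕ) (s : (cx φ U hU M).X n) :
    toC φ U hU M ((cx φ U hU M).d n s) = cd M.presheaf U n (toC φ U hU M s) := rfl

lemma cx_smul_apply {n : ℕ} (r : A) (s : (cx φ U hU M).X n) (x : Fin (n + 1) → ι) :
    toC φ U hU M (r • s) x = QCoh.rres (inter_le' U x hU) (φ r) •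
      (show Γ(M, inter U x) from toC φ U hU M s x) := rfl

variable {M} {N : X.Modules}

/-- functoriality in the module -/
noncomputable def cxMap (ψ : M ⟶ N) : SCx.Hom (cx φ U hU M) (cx φ U hU N) where
  f n :=
    { toFun := fun s => ofC φ U hU N (cmap ψ.mapPresheaf U n (toC φ U hU M s))
      map_add' := fun a b => map_add (cmap ψ.mapPresheaf U n) (toC φ U hU M a) (toC φ U hU M b)
      map_smul' := fun r s => funext fun x =>
        Scheme.Modules.Hom.app_smul ψ (QCoh.rres (inter_le' U x hU) (φ r)) _ }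
  comm n s := funext fun y => congrFun (cd_cmap ψ.mapPresheaf U n (toC φ U hU M s)).symm y

lemma cxMap_apply (ψ : M ⟶ N) (n : ℕ) (s : (cx φ U hU M).X n) :
    toC φ U hU N ((cxMap φ U hU ψ).f n s) = cmap ψ.mapPresheaf U n (toC φ U hU M s) := rfl

/-- the Čech complex of a flat module consists of flat modules -/
theorem flat_cx [Finite ι] (M : X.Modules)
    (h : ∀ (n : ℕ) (x : Fin (n + 1) → ι),
      Module.Flat A (Sec φ M (inter_le' U x hU))) (n : ℕ) :
    Module.Flat A ((cx φ U hU M).X n) := by
  classical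
  cases nonempty_fintype ι
  haveI := h n
  exact Module.Flat.of_linearEquiv
    (DFinsupp.linearEquivFunOnFintype (R := A)
      (M := fun x : Fin (n + 1) → ι => Sec φ M (inter_le' U x hU))).symm

end Groth.Agent.CBC
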