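import Groth.Agent.CBC.CechRes
import Groth.Agent.CohAff.CechH
import Groth.Prelude.Def_CohPull

/-!
# Čech cohomology of an affine covering computes sheaf cohomology, linearly and naturally
-/

universe u

open CategoryTheory Opposite TopologicalSpace AlgebraicGeometry Function

namespace Groth.Agent.CBC

open Groth.Agent.CohAff (inter Cochain cd cd_cd cmap toH toH_congr toH_add toH_map toH_cd
  exists_toH_eq exists_cd_eq_of_toH_eq_zero toH_zero_eq exists_aug_eq affCov good_affCov)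

variable {X : Scheme.{u}} {A : Type u} [CommRing A] (φ : A →+* Γ(X, ⊤))
variable {ι : Type u} {U : ι → X.Opens} (hcov : ⨆ i, U i = ⊤) (M : X.Modules)

/-- the comparison on cocycles -/
noncomputable def hTopZ (n : ℕ) :
    (cx φ U (fun _ => le_top) M).Z₀ n →+ Coh.HH X M n :=
  AddMonoidHom.mk' (fun z => toH hcov n (Coh.toAb M) z.1 z.2)
    fun a b => toH_add hcov (Coh.toAb M) a.1 b.1 a.2 b.2

lemma hTopZ_B : ∀ (n : ℕ) (z : (cx φ U (fun _ => le_top) M).Z₀ n),
    z.1 ∈ (cx φ U (fun _ => le_top) M).B₀ n → hTopZ φ hcov M n z = 0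
  | 0, z, h => by
    rw [show z = 0 from Subtype.ext h, map_zero]
  | n + 1, z, ⟨y, hy⟩ => by
    refine (toH_congr (F := Coh.toAb M) (c := z.1) (c' := cd (Coh.toAb M).obj U n y) hcov hy.symm z.2 (cd_cd _ _ _ _)).trans ?_
    exact toH_cd hcov (Coh.toAb M) y

/-- the comparison map to sheaf cohomology -/
noncomputable def hTop (n : ℕ) : (cx φ U (fun _ => le_top) M).H₀ n →+ Coh.HH X M n :=
  QuotientAddGroup.lift _ (hTopZ φ hcov M n) fun z hz => hTopZ_B φ hcov M n z hz

lemma hTop_mk (n : ℕ) (z : (cx φ U (fun _ => le_top) M).Z₀ n) :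
    hTop φ hcov M n (Submodule.Quotient.mk z) = toH hcov n (Coh.toAb M) z.1 z.2 := rfl

lemma hTop_smul (n : ℕ) (a : A) (x : (cx φ U (fun _ => le_top) M).H₀ n) :
    hTop φ hcov M n (a • x) = (show Coh.Γtop X from φ a) • hTop φ hcov M n x := by
  obtain ⟨z, rfl⟩ := Submodule.Quotient.mk_surjective _ x
  rw [← Submodule.Quotient.mk_smul, hTop_mk, hTop_mk]
  refine Eq.trans ?_ (toH_map hcov (Coh.smulAb M (show Coh.Γtop X from φ a)) z.1 z.2)
  exact toH_congr hcov rfl _ _

lemma hTop_natural {N : X.Modules} (ψ : M ⟶ N) (n : ℕ)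
    (x : (cx φ U (fun _ => le_top) M).H₀ n) :
    hTop φ hcov N n ((cxMap φ U (fun _ => le_top) ψ).h₀ n x) =
      CohPull.mapH ψ n (hTop φ hcov M n x) := by
  obtain ⟨z, rfl⟩ := Submodule.Quotient.mk_surjective _ x
  rw [SCx.Hom.h₀_mk, hTop_mk, hTop_mk]
  refine Eq.trans ?_ (toH_map hcov ((SheafOfModules.toSheaf X.ringCatSheaf).map ψ) z.1 z.2)
  exact toH_congr hcov rfl _ _

variable [M.IsQuasicoherent] (haff : ∀ {n : ℕ} (x : Fin (n + 1) → ι),
  IsAffineOpen (inter (X := X.toPresheafedSpace.carrier) U x))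

include haff in
theorem hTop_bijective (n : ℕ) : Bijective (hTop φ hcov M n) := by
  refine ⟨(injective_iff_map_eq_zero _).2 fun x hx => ?_, fun y => ?_⟩
  · obtain ⟨z, rfl⟩ := Submodule.Quotient.mk_surjective _ x
    rw [hTop_mk] at hx
    rw [Submodule.Quotient.mk_eq_zero, Submodule.mem_comap]
    rcases n with _ | n
    · obtain ⟨s, hs⟩ := exists_aug_eq (Coh.toAb M) hcov z.2
      have h0 := (toH_zero_eq hcov (Coh.toAb M) z.2 hs).symm.trans hx
      rw [AddEquiv.map_eq_zero_iff] at h0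
      change z.1 = 0
      refine hs.symm.trans ?_
      rw [h0]
      exact map_zero _
    · exact exists_cd_eq_of_toH_eq_zero hcov (C := affCov X) haff (good_affCov M) z.2 hx
  · obtain ⟨c, hc, rfl⟩ := exists_toH_eq hcov (C := affCov X) haff (good_affCov M) y
    exact ⟨Submodule.Quotient.mk ⟨c, hc⟩, rfl⟩

end Groth.Agent.CBC
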