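import Groth.Agent.CBC.PullH
import Groth.Agent.CBC.CechTop
import Groth.Agent.CohBase.HonPull

/-!
# Čech classes over an open
-/

universe u

open CategoryTheory CategoryTheory.Limits Opposite TopologicalSpace AlgebraicGeometry Function

namespace Groth.Agent.CBC

open Groth.Agent.CohAff (inter inter_le le_inter mem_inter Cochain cd cd_apply cd_cd cmap cd_cmap
  toH toH_congr toH_add toH_map toH_cd res res_res res_self)

section Refine

open Groth.Agent.CohAff

variable {X : TopCat.{u}} {ι : Type u} {U U' : ι → Opens X} (h : ∀ i, U' i ≤ U i)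

include h in
lemma inter_mono {n : ℕ} (x : Fin n → ι) : inter U' x ≤ inter U x :=
  le_inter fun a => (inter_le U' x a).trans (h _)

/-- restriction of cochains to a refinement -/
noncomputable def refC (P : TopCat.Presheaf AddCommGrpCat.{u} X) (n : ℕ) :
    Cochain P U n →+ Cochain P U' n :=
  AddMonoidHom.mk' (fun c x => res P (inter_mono h x) (c x))
    fun a b => funext fun x => map_add (res P (inter_mono h x)) (a x) (b x)

lemma refC_apply (P : TopCat.Presheaf AddCommGrpCat.{u} X) {n : ℕ} (c : Cochain P U n)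
    (x : Fin (n + 1) → ι) : refC h P n c x = res P (inter_mono h x) (c x) := rfl

lemma cd_refC (P : TopCat.Presheaf AddCommGrpCat.{u} X) (n : ℕ) (c : Cochain P U n) :
    cd P U' n (refC h P n c) = refC h P (n + 1) (cd P U n c) := by
  funext x
  rw [cd_apply, refC_apply, cd_apply, map_sum]
  refine Finset.sum_congr rfl fun j _ => ?_
  rw [map_zsmul, refC_apply, res_res, res_res]

lemma refC_cd_eq_zero (P : TopCat.Presheaf AddCommGrpCat.{u} X) {n : ℕ} {c : Cochain P U n}
    (hc : cd P U n c = 0) : cd P U' n (refC h P n c) = 0 := by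
  rw [cd_refC, hc, map_zero]

lemma refC_cmap {P Q : TopCat.Presheaf AddCommGrpCat.{u} X} (φ : P ⟶ Q) (n : ℕ) (c : Cochain P U n) :
    refC h Q n (cmap φ U n c) = cmap φ U' n (refC h P n c) :=
  funext fun _ => res_app φ _ _

/-- refining the covering does not change the class -/
theorem toH_refine (hU : ⨆ i, U i = ⊤) (hU' : ⨆ i, U' i = ⊤) :
    ∀ (n : ℕ) (F : AbSh X) (c : Cochain F.obj U n) (hc : cd F.obj U n c = 0),
      toH hU' n F (refC h F.obj n c) (refC_cd_eq_zero h F.obj hc) = toH hU n F c hc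
  | 0, F, c, hc => by
    obtain ⟨s, hs⟩ := exists_aug_eq F hU hc
    rw [toH_zero_eq hU F hc hs, toH_zero_eq hU' F _ (s := s) ?_]
    subst hs
    funext x
    rw [refC_apply, aug_apply, aug_apply, res_res]
  | n + 1, F, c, hc => by
    obtain ⟨b, hb⟩ := exists_bound F hc
    rw [toH_succ_eq hU F hc hb,
      toH_succ_eq hU' F _ (b := refC h (gd F).obj n b) (by rw [cd_refC, hb, refC_cmap]),
      ← toH_refine hU hU' n (qt F) _ (cd_quot_eq_zero F hb)]
    exact congrArg _ (toH_congr hU' (refC_cmap h (gπ F).hom n b).symm _ _)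

end Refine

section On

variable {X : Scheme.{u}} {ι : Type u} {W : X.Opens} {U : ι → X.Opens} (hU : ∀ i, U i ≤ W)
  (hcov : W ≤ ⨆ i, U i)

/-- the covering of an open subscheme -/
abbrev wcov (W : X.Opens) (U : ι → X.Opens) : ι → W.toScheme.Opens := fun i => W.ι ⁻¹ᵁ U i

include hcov in
lemma iSup_wcov : ⨆ i, wcov W U i = ⊤ := top_unique fun z _ => by
  obtain ⟨i, hi⟩ := Opens.mem_iSup.1 (hcov z.2)
  exact Opens.mem_iSup.2 ⟨i, hi⟩

lemma image_inter_wcov_le {n : ℕ} (x : Fin (n + 1) → ι) :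
    W.ι ''ᵁ inter (X := W.toScheme.toPresheafedSpace.carrier) (wcov W U) x ≤
      inter (X := X.toPresheafedSpace.carrier) U x := by
  rintro _ ⟨z, hz, rfl⟩
  change W.ι z ∈ inter U x
  rw [mem_inter]
  exact fun a => mem_inter.1 hz a

include hU in
lemma image_inter_wcov {n : ℕ} (x : Fin (n + 1) → ι) :
    W.ι ''ᵁ inter (X := W.toScheme.toPresheafedSpace.carrier) (wcov W U) x =
      inter (X := X.toPresheafedSpace.carrier) U x := by
  refine le_antisymm (image_inter_wcov_le x) fun z hz => ?_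
  have hzW : z ∈ W := (inter_le U x 0).trans (hU _) hz
  exact ⟨⟨z, hzW⟩, mem_inter.2 fun a => mem_inter.1 hz a, rfl⟩

variable (M : X.Modules)

/-- a cochain on the open subscheme -/
noncomputable def wC (n : ℕ) : Cochain M.presheaf U n →+
    Cochain (Coh.toAb (M.restrict W.ι)).obj (wcov W U) n :=
  AddMonoidHom.mk' (fun c x => QCoh.res M (image_inter_wcov_le x) (c x))
    fun a b => funext fun x => map_add (QCoh.res M (image_inter_wcov_le x)).hom (a x) (b x)

lemma wC_apply {n : ℕ} (c : Cochain M.presheaf U n) (x : Fin (n + 1) → ι) :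
    wC (W := W) M n c x = QCoh.res M (image_inter_wcov_le x) (c x) := rfl

lemma cd_wC (n : ℕ) (c : Cochain M.presheaf U n) :
    cd (Coh.toAb (M.restrict W.ι)).obj (wcov W U) n (wC M n c) = wC M (n + 1) (cd M.presheaf U n c) := by
  funext x
  refine (cd_apply _ _ _ _ _).trans ?_
  refine Eq.trans ?_ (congrArg (QCoh.res M (image_inter_wcov_le x)) (cd_apply M.presheaf U n c x)).symm
  refine Eq.trans ?_ (map_sum (QCoh.res M (image_inter_wcov_le x)).hom _ _).symm
  refine Finset.sum_congr rfl fun j _ => ?_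
  refine Eq.trans ?_ (map_zsmul (QCoh.res M (image_inter_wcov_le x)).hom _ _).symm
  refine congrArg _ ?_
  exact (QCoh.res_res M (image_inter_wcov_le (x ∘ j.succAbove))
    (W.ι.image_mono (CohAff.inter_comp_le _ x j.succAbove)) _).trans
    (QCoh.res_res M (CohAff.inter_comp_le U x j.succAbove) (image_inter_wcov_le x) _).symm

lemma wC_cd_eq_zero {n : ℕ} {c : Cochain M.presheaf U n} (hc : cd M.presheaf U n c = 0) :
    cd (Coh.toAb (M.restrict W.ι)).obj (wcov W U) n (wC M n c) = 0 := by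
  rw [cd_wC, hc, map_zero]

include hU in
lemma wC_bijective (n : ℕ) : Bijective (wC (W := W) (U := U) M n) := by
  refine ⟨fun a b hab => funext fun x => ?_, fun c => ?_⟩
  · have h := congrArg (QCoh.res M (image_inter_wcov hU x).ge) (congrFun hab x)
    rwa [wC_apply, wC_apply, QCoh.res_res, QCoh.res_res, QCoh.res_self, QCoh.res_self] at h
  · refine ⟨fun x => QCoh.res M (image_inter_wcov hU x).ge (c x), funext fun x => ?_⟩
    exact (QCoh.res_res M (image_inter_wcov hU x).ge (image_inter_wcov_le x) _).trans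
      (QCoh.res_self M _ _)

/-- the class of a cocycle over an open -/
noncomputable def clZ {n : ℕ} (c : Cochain M.presheaf U n) (hc : cd M.presheaf U n c = 0) :
    Coh.HHon X M W n :=
  toH (iSup_wcov hcov) n (Coh.toAb (M.restrict W.ι)) (wC M n c) (wC_cd_eq_zero M hc)

lemma clZ_congr {n : ℕ} {c c' : Cochain M.presheaf U n} (e : c = c')
    (hc : cd M.presheaf U n c = 0) (hc' : cd M.presheaf U n c' = 0) :
    clZ hcov M c hc = clZ hcov M c' hc' := by
  subst e
  rfl

lemma clZ_add {n : ℕ} (c c' : Cochain M.presheaf U n) (hc : cd M.presheaf U n c = 0)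
    (hc' : cd M.presheaf U n c' = 0) :
    clZ hcov M (c + c') (by rw [map_add, hc, hc', add_zero]) =
      clZ hcov M c hc + clZ hcov M c' hc' :=
  (toH_congr _ (map_add (wC M n) c c') _ (by rw [map_add, wC_cd_eq_zero M hc, wC_cd_eq_zero M hc',
    add_zero])).trans (toH_add _ _ _ _ _ _)

lemma clZ_cd {n : ℕ} (c : Cochain M.presheaf U n) :
    clZ hcov M (cd M.presheaf U n c) (cd_cd _ _ _ _) = 0 :=
  (toH_congr _ (cd_wC M n c).symm _ (cd_cd _ _ _ _)).trans (toH_cd _ _ _)

variable {A : Type u} [CommRing A] (φ : A →+* Γ(X, W))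

/-- the class of a cocycle, on cocycles -/
noncomputable def clHom (n : ℕ) : (cx φ U hU M).Z₀ n →+ Coh.HHon X M W n :=
  AddMonoidHom.mk' (fun z => clZ hcov M (toC φ U hU M z.1) z.2)
    fun a b => clZ_add hcov M _ _ a.2 b.2

lemma clHom_B : ∀ (n : ℕ) (z : (cx φ U hU M).Z₀ n),
    z.1 ∈ (cx φ U hU M).B₀ n → clHom hU hcov M φ n z = 0
  | 0, z, h => by
    rw [show z = 0 from Subtype.ext h, map_zero]
  | n + 1, z, ⟨y, hy⟩ =>
    (clZ_congr hcov M hy.symm z.2 (cd_cd _ _ _ _)).trans (clZ_cd hcov M (toC φ U hU M y))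

/-- the comparison from Čech cohomology to the cohomology over an open -/
noncomputable def cl (n : ℕ) : (cx φ U hU M).H₀ n →+ Coh.HHon X M W n :=
  QuotientAddGroup.lift _ (clHom hU hcov M φ n) fun z hz => clHom_B hU hcov M φ n z hz

lemma cl_mk (n : ℕ) (z : (cx φ U hU M).Z₀ n) :
    cl hU hcov M φ n (Submodule.Quotient.mk z) = clZ hcov M (toC φ U hU M z.1) z.2 := rfl

lemma cl_natural {N : X.Modules} (ψ : M ⟶ N) (n : ℕ) (x : (cx φ U hU M).H₀ n) :
    cl hU hcov N φ n ((cxMap φ U hU ψ).h₀ n x) =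
      Sheaf.H.map ((CohCmp.toAbOn X W).map ψ) n (cl hU hcov M φ n x) := by
  obtain ⟨z, rfl⟩ := Submodule.Quotient.mk_surjective _ x
  rw [SCx.Hom.h₀_mk, cl_mk, cl_mk]
  refine Eq.trans (toH_congr _ ?_ _ ((cd_cmap _ _ _ _).trans
      ((congrArg _ (wC_cd_eq_zero M z.2)).trans (map_zero _))))
    (toH_map _ ((CohCmp.toAbOn X W).map ψ) _ (wC_cd_eq_zero M z.2))
  · funext y
    exact (QCoh.app_res ψ (image_inter_wcov_le y) _).symm

include hU in
theorem cl_bijective [M.IsQuasicoherent] (haff : ∀ {n : ℕ} (x : Fin (n + 1) → ι),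
    IsAffineOpen (inter (X := X.toPresheafedSpace.carrier) U x)) (n : ℕ) :
    Bijective (cl hU hcov M φ n) := by
  have : (M.restrict W.ι).IsQuasicoherent := Scheme.Modules.isQuasicoherent_restrictFunctor _ M
  have haff' : ∀ {n : ℕ} (x : Fin (n + 1) → ι),
      (CohAff.affCov W.toScheme).mem (inter (X := W.toScheme.toPresheafedSpace.carrier) (wcov W U) x) :=
    fun {n} x => (W.ι.isAffineOpen_iff_of_isOpenImmersion).1 ((image_inter_wcov hU x).symm ▸ haff x)
  refine ⟨(injective_iff_map_eq_zero _).2 fun x hx => ?_, fun y => ?_⟩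
  · obtain ⟨z, rfl⟩ := Submodule.Quotient.mk_surjective _ x
    rw [cl_mk] at hx
    rw [Submodule.Quotient.mk_eq_zero, Submodule.mem_comap]
    rcases n with _ | n
    · obtain ⟨s, hs⟩ := CohAff.exists_aug_eq (Coh.toAb (M.restrict W.ι)) (iSup_wcov hcov)
        (wC_cd_eq_zero M z.2)
      have h0 := (CohAff.toH_zero_eq _ (Coh.toAb (M.restrict W.ι)) _ hs).symm.trans hx
      rw [AddEquiv.map_eq_zero_iff] at h0
      change z.1 = 0
      refine (wC_bijective hU M 0).1 ((hs.symm.trans ?_).trans (map_zero _).symm)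
      rw [h0]
      exact map_zero _
    · obtain ⟨t, ht⟩ := CohAff.exists_cd_eq_of_toH_eq_zero (iSup_wcov hcov)
        (C := CohAff.affCov W.toScheme) haff' (CohAff.good_affCov (M.restrict W.ι))
        (wC_cd_eq_zero M z.2) hx
      obtain ⟨t, rfl⟩ := (wC_bijective hU M n).2 t
      exact ⟨t, (wC_bijective hU M (n + 1)).1 ((cd_wC M n t).symm.trans ht)⟩
  · obtain ⟨c, hc, rfl⟩ := CohAff.exists_toH_eq (iSup_wcov hcov)
      (C := CohAff.affCov W.toScheme) haff' (CohAff.good_affCov (M.restrict W.ι)) y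
    obtain ⟨c, rfl⟩ := (wC_bijective hU M n).2 c
    refine ⟨Submodule.Quotient.mk ⟨c, (wC_bijective hU M (n + 1)).1 ?_⟩, rfl⟩
    exact ((cd_wC M n c).symm.trans hc).trans (map_zero _).symm

end On

section Pull

variable {X Y : Scheme.{u}} (g : X ⟶ Y) (W : Y.Opens) (W' : X.Opens) (h : W' ≤ g ⁻¹ᵁ W)

lemma image_le_preimage_image {O : W.toScheme.Opens} {O' : W'.toScheme.Opens}
    (hO : O' ≤ g.resLE W W' h ⁻¹ᵁ O) : W'.ι ''ᵁ O' ≤ g ⁻¹ᵁ (W.ι ''ᵁ O) := by
  rintro _ ⟨z, hz, rfl⟩
  exact ⟨g.resLE W W' h z, hO hz, congrArg (fun φ : W'.toScheme ⟶ Y => φ z) (g.resLE_comp_ι h)⟩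

/-- the comparison isomorphism on pulled back sections -/
lemma pullOnIso_unitSec (F : Y.Modules) {O : W.toScheme.Opens} {O' : W'.toScheme.Opens}
    (hO : O' ≤ g.resLE W W' h ⁻¹ᵁ O) (a : Γ(F, W.ι ''ᵁ O)) :
    (CohPull.pullOnIso g W W' h F).hom.app O'
        (LimTop.unitSec (g.resLE W W' h) (F.restrict W.ι) hO a) =
      LimTop.unitSec g F (image_le_preimage_image g W W' h hO) a := by
  let φ := g.resLE W W' h
  have hφ : φ ≫ W.ι = W'.ι ≫ g := Scheme.Hom.resLE_comp_ι g h
  have i1 : O ≤ W.ι ⁻¹ᵁ (W.ι ''ᵁ O) := (W.ι.preimage_image_eq O).ge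
  have i4 : O' ≤ W'.ι ⁻¹ᵁ (W'.ι ''ᵁ O') := (W'.ι.preimage_image_eq O').ge
  have i5 : O' ≤ (φ ≫ W.ι) ⁻¹ᵁ (W.ι ''ᵁ O) := hO.trans (φ.preimage_mono i1)
  have i3 := image_le_preimage_image g W W' h hO
  have e1 : ((Scheme.Modules.pullback φ).map ((Scheme.Modules.restrictFunctorIsoPullback W.ι).hom.app F)).app O'
      (LimTop.unitSec φ (F.restrict W.ι) hO a) =
      LimTop.unitSec φ _ hO (LimTop.unitSec W.ι F (U := W.ι ''ᵁ O) i1 a) :=
    (LimTop.unitSec_map φ (F.restrict W.ι) hO ((Scheme.Modules.restrictFunctorIsoPullback W.ι).hom.app F) a).trans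
      (congrArg (LimTop.unitSec φ ((Scheme.Modules.pullback W.ι).obj F) hO)
        (CohBase.restrictFunctorIsoPullback_app W.ι F O a))
  have e2 : ((Scheme.Modules.pullbackComp φ W.ι).hom.app F).app O'
      (LimTop.unitSec φ _ hO (LimTop.unitSec W.ι F (U := W.ι ''ᵁ O) i1 a)) =
      LimTop.unitSec (φ ≫ W.ι) F (U := W.ι ''ᵁ O) i5 a :=
    LimTop.unitSec_comp _ _ _ _ _ _
  have e3 : ((Scheme.Modules.pullbackCongr hφ).hom.app F).app O'
      (LimTop.unitSec (φ ≫ W.ι) F (U := W.ι ''ᵁ O) i5 a) =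
      LimTop.unitSec (W'.ι ≫ g) F (U := W.ι ''ᵁ O) (i4.trans (W'.ι.preimage_mono i3)) a :=
    LimTop.unitSec_congr _ _ _ hφ a
  have e4 : ((Scheme.Modules.pullbackComp W'.ι g).inv.app F).app O'
      (LimTop.unitSec (W'.ι ≫ g) F (U := W.ι ''ᵁ O) (i4.trans (W'.ι.preimage_mono i3)) a) =
      LimTop.unitSec W'.ι _ i4 (LimTop.unitSec g F i3 a) := by
    rw [← LimTop.unitSec_comp g F i3 W'.ι i4 a, ← ConcreteCategory.comp_apply,
      ← Scheme.Modules.Hom.comp_app, ← NatTrans.comp_app, Iso.hom_inv_id]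
    rfl
  have e5 : ((Scheme.Modules.restrictFunctorIsoPullback W'.ι).inv.app _).app O'
      (LimTop.unitSec W'.ι _ i4 (LimTop.unitSec g F i3 a)) = LimTop.unitSec g F i3 a := by
    have hh : ((Scheme.Modules.restrictFunctorIsoPullback W'.ι).hom.app ((Scheme.Modules.pullback g).obj F)).app O' ≫
        ((Scheme.Modules.restrictFunctorIsoPullback W'.ι).inv.app ((Scheme.Modules.pullback g).obj F)).app O' = 𝟙 _ := by
      rw [← Scheme.Modules.Hom.comp_app, Iso.hom_inv_id_app]
      rfl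
    rw [← CohBase.restrictFunctorIsoPullback_app W'.ι ((Scheme.Modules.pullback g).obj F) O'
      (LimTop.unitSec g F i3 a)]
    exact congr($hh (LimTop.unitSec g F i3 a))
  change ((Scheme.Modules.restrictFunctorIsoPullback W'.ι).inv.app _).app O'
    (((Scheme.Modules.pullbackComp W'.ι g).inv.app F).app O'
      (((Scheme.Modules.pullbackCongr hφ).hom.app F).app O'
        (((Scheme.Modules.pullbackComp φ W.ι).hom.app F).app O'
          (((Scheme.Modules.pullback φ).map
            ((Scheme.Modules.restrictFunctorIsoPullback W.ι).hom.app F)).app O'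
            (LimTop.unitSec φ (F.restrict W.ι) hO a))))) = _
  rw [e1, e2, e3, e4, e5]

variable {ι : Type u} {U : ι → Y.Opens} {U' : ι → X.Opens} (hcov : W ≤ ⨆ i, U i)
  (hcov' : W' ≤ ⨆ i, U' i) (hUU : ∀ i, U' i ≤ g ⁻¹ᵁ U i)

include hUU in
lemma inter_pull_le {n : ℕ} (x : Fin (n + 1) → ι) :
    inter (X := X.toPresheafedSpace.carrier) U' x ≤
      g ⁻¹ᵁ inter (X := Y.toPresheafedSpace.carrier) U x := fun z hz => by
  change g z ∈ inter U x
  rw [mem_inter]
  exact fun a => hUU _ (mem_inter.1 hz a)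

/-- pullback of cochains to a covering -/
noncomputable def gC (F : Y.Modules) (n : ℕ) : Cochain F.presheaf U n →+
    Cochain ((Scheme.Modules.pullback g).obj F).presheaf U' n :=
  AddMonoidHom.mk' (fun c x => LimTop.unitSec g F (inter_pull_le g hUU x) (c x))
    fun a b => funext fun x => map_add (LimTop.unitSec g F (inter_pull_le g hUU x)) (a x) (b x)

lemma gC_apply (F : Y.Modules) {n : ℕ} (c : Cochain F.presheaf U n) (x : Fin (n + 1) → ι) :
    gC g hUU F n c x = LimTop.unitSec g F (inter_pull_le g hUU x) (c x) := rfl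

lemma cd_gC (F : Y.Modules) (n : ℕ) (c : Cochain F.presheaf U n) :
    cd _ U' n (gC g hUU F n c) = gC g hUU F (n + 1) (cd F.presheaf U n c) := by
  funext x
  refine (cd_apply _ _ _ _ _).trans ?_
  refine Eq.trans ?_ (congrArg (LimTop.unitSec g F (inter_pull_le g hUU x))
    (cd_apply F.presheaf U n c x)).symm
  refine Eq.trans ?_ (map_sum (LimTop.unitSec g F (inter_pull_le g hUU x)) _ _).symm
  refine Finset.sum_congr rfl fun j _ => ?_
  refine Eq.trans ?_ (map_zsmul (LimTop.unitSec g F (inter_pull_le g hUU x)) _ _).symm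
  refine congrArg _ ?_
  exact (LimTop.res_unitSec g F _ (CohAff.inter_comp_le U' x j.succAbove) _).trans
    (LimTop.unitSec_res g F (CohAff.inter_comp_le U x j.succAbove) _ _).symm

lemma gC_cd_eq_zero (F : Y.Modules) {n : ℕ} {c : Cochain F.presheaf U n}
    (hc : cd F.presheaf U n c = 0) : cd _ U' n (gC g hUU F n c) = 0 := by
  rw [cd_gC, hc, map_zero]

include hUU in
lemma wcov_le_pcov (i : ι) : wcov W' U' i ≤ pcov (g.resLE W W' h).base (wcov W U) i := fun z hz => by
  have e : W.ι (g.resLE W W' h z) = g (W'.ι z) :=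
    congrArg (fun φ : W'.toScheme ⟶ Y => φ z) (g.resLE_comp_ι h)
  change W.ι (g.resLE W W' h z) ∈ U i
  rw [e]
  exact hUU i hz

/-- Čech classes pull back to Čech classes -/
theorem pullOn_clZ (F : Y.Modules) {n : ℕ} (c : Cochain F.presheaf U n)
    (hc : cd F.presheaf U n c = 0) :
    CohPull.pullOn g W W' h F n (clZ hcov F c hc) =
      clZ hcov' ((Scheme.Modules.pullback g).obj F) (gC g hUU F n c) (gC_cd_eq_zero g hUU F hc) := by
  refine (congrArg (CohPull.mapH (CohPull.pullOnIso g W W' h F).hom n)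
    (pullMod_toH (g.resLE W W' h) (wcov W U) (F.restrict W.ι) (iSup_wcov hcov) n _
      (wC_cd_eq_zero F hc))).trans ?_
  refine (toH_map _ _ _ _).symm.trans ?_
  refine (toH_refine (wcov_le_pcov g W W' h hUU) _ (iSup_wcov hcov') n _ _ _).symm.trans ?_
  refine toH_congr _ ?_ _ _
  funext x
  refine Eq.trans (congrArg (QCoh.res _ (W'.ι.image_mono (inter_mono (wcov_le_pcov g W W' h hUU) x)))
    (pullOnIso_unitSec g W W' h F (inter_pcov_le (g.resLE W W' h).base (wcov W U) x)
      (QCoh.res F (image_inter_wcov_le x) (c x)))) ?_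
  rw [LimTop.res_unitSec, LimTop.unitSec_res, wC_apply, gC_apply, LimTop.res_unitSec]

end Pull

section Restrict

variable {X : Scheme.{u}} {W W' : X.Opens} (hW : W' ≤ W) {ι : Type u} {U U' : ι → X.Opens}
  (hcov : W ≤ ⨆ i, U i) (hcov' : W' ≤ ⨆ i, U' i) (hUU : ∀ i, U' i ≤ U i)

set_option maxHeartbeats 800000 in
/-- restriction of Čech classes -/
theorem resLE_clZ (F : X.Modules) {n : ℕ} (c : Cochain F.presheaf U n)
    (hc : cd F.presheaf U n c = 0) :
    CohPull.resLE F hW n (clZ hcov F c hc) =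
      clZ hcov' F (refC hUU F.presheaf n c) (refC_cd_eq_zero hUU F.presheaf hc) := by
  have hUU' : ∀ i, U' i ≤ (𝟙 X : X ⟶ X) ⁻¹ᵁ U i := fun i => CohBase.id_le (hUU i)
  refine (congrArg (CohPull.mapH ((Scheme.Modules.restrictFunctor W'.ι).map
      ((Scheme.Modules.pullbackId X).hom.app F)) n)
    (pullOn_clZ (𝟙 X) W W' (CohBase.id_le hW) hcov hcov' hUU' F c hc)).trans ?_
  refine (toH_map _ _ _ _).symm.trans ?_
  refine toH_congr _ ?_ _ _
  funext x
  refine Eq.trans (b := QCoh.res F (image_inter_wcov_le x)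
    (((Scheme.Modules.pullbackId X).hom.app F).app (inter (X := X.toPresheafedSpace.carrier) U' x)
      (LimTop.unitSec (𝟙 X) F (CohBase.id_le (inter_mono hUU x)) (c x)))) ?_ ?_
  · exact QCoh.app_res ((Scheme.Modules.pullbackId X).hom.app F) (image_inter_wcov_le x)
      (LimTop.unitSec (𝟙 X) F (CohBase.id_le (inter_mono hUU x)) (c x))
  · exact congrArg (QCoh.res F (image_inter_wcov_le x))
      (CohBase.pullbackId_app_unitSec F (inter_mono hUU x) (c x))

end Restrict

end Groth.Agent.CBC
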