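import Groth.Agent.CBC.Cech
import Groth.Agent.CohAff.Resolution

/-!
# Čech cohomology computes the cocycles of a flasque resolution modulo coboundaries
-/

universe u

open CategoryTheory Opposite TopologicalSpace AlgebraicGeometry Function

namespace Groth.Agent.CBC

open Groth.Agent.CohAff (inter inter_le Cochain cd cd_apply cd_zero_apply cmap cd_cmap res_res
  affCov good_affCov CovSys FRes)

variable {X : Scheme.{u}} {A : Type u} [CommRing A] {W : X.Opens} (φ : A →+* Γ(X, W))
variable {ι : Type u} (U : ι → X.Opens) (hU : ∀ i, U i ≤ W)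

section Aug

variable (M : X.Modules)

/-- restriction of sections on `W` -/
noncomputable def augA : Sec φ M (le_refl W) →ₗ[A] (cx φ U hU M).X 0 where
  toFun s := fun x => (show Sec φ M (inter_le' U x hU) from QCoh.res M (inter_le' U x hU) s)
  map_add' a b := funext fun x => map_add (QCoh.res M (inter_le' U x hU)).hom _ _
  map_smul' r s := funext fun x => rs_sec_smul φ M (le_refl W) (inter_le' U x hU) r s

lemma augA_mem (s : Sec φ M (le_refl W)) : augA φ U hU M s ∈ (cx φ U hU M).Z₀ 0 := by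
  change (cx φ U hU M).d 0 _ = 0
  funext y
  refine (cd_zero_apply M.presheaf U _ y).trans ?_
  refine sub_eq_zero.2 ?_
  exact (res_res M.presheaf _ _ _).trans (res_res M.presheaf _ _ _).symm

/-- sections as cocycles -/
noncomputable def augZ : Sec φ M (le_refl W) →ₗ[A] (cx φ U hU M).Z₀ 0 :=
  (augA φ U hU M).codRestrict _ (augA_mem φ U hU M)

variable {U} (hW : W ≤ ⨆ i, U i)

include hW in
lemma augZ_bijective : Bijective (augZ φ U hU M) := by
  constructor
  · intro a b hab
    refine QCoh.eq_of_locally_eq M (fun i => hU i) hW a b fun i => ?_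
    have h := congrFun (congrArg Subtype.val hab) fun _ => i
    have h1 : U i ≤ inter (X := X.toPresheafedSpace.carrier) U (fun _ : Fin 1 => i) :=
      CohAff.le_inter fun _ => le_rfl
    have h2 := congrArg (fun t => QCoh.res M h1 t) h
    exact (QCoh.res_res M _ h1 a).symm.trans (h2.trans (QCoh.res_res M _ h1 b))
  · rintro ⟨t, ht⟩
    have h1 : ∀ i, U i ≤ inter (X := X.toPresheafedSpace.carrier) U (fun _ : Fin 1 => i) :=
      fun i => CohAff.le_inter fun _ => le_rfl
    have hc : ∀ (x : Fin 1 → ι) (i : ι), x = (fun _ => i) → ∀ (V : X.Opens) (hx : V ≤ inter U x)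
        (hi : V ≤ U i), QCoh.res M hx (t x) = QCoh.res M hi (QCoh.res M (h1 i) (t fun _ => i)) := by
      rintro x i rfl V hx hi
      exact (QCoh.res_res M _ _ _).symm
    obtain ⟨s, hs⟩ := QCoh.exists_glue M (fun i => hU i) hW
      (fun i => QCoh.res M (h1 i) (t fun _ => i)) (by
        intro i j
        have h := congrFun (show (cx φ U hU M).d 0 t = 0 from ht) ![i, j]
        replace h := sub_eq_zero.1 ((cd_zero_apply M.presheaf U t ![i, j]).symm.trans h)
        have hle2 : U i ⊓ U j ≤ inter (X := X.toPresheafedSpace.carrier) U ![i, j] :=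
          CohAff.le_inter fun a => by
            fin_cases a
            · exact inf_le_left
            · exact inf_le_right
        have h' := congrArg (QCoh.res M hle2) h
        refine (hc (![i, j] ∘ Fin.succAbove (1 : Fin 2)) i (by funext a; fin_cases a; rfl) _
          (hle2.trans (CohAff.inter_comp_le U ![i, j] _)) inf_le_left).symm.trans ?_
        refine Eq.trans ?_ (hc (![i, j] ∘ Fin.succAbove (0 : Fin 2)) j
          (by funext a; fin_cases a; rfl) _
          (hle2.trans (CohAff.inter_comp_le U ![i, j] _)) inf_le_right)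
        exact ((QCoh.res_res M _ hle2 _).symm.trans (h'.symm.trans (QCoh.res_res M _ hle2 _))))
    refine ⟨s, Subtype.ext (funext fun x => ?_)⟩
    have hx : x = fun _ => x 0 := funext fun a => congrArg x (Fin.eq_zero a)
    refine (QCoh.res_res M (hU (x 0)) (inter_le U x 0) s).symm.trans ?_
    refine (congrArg (QCoh.res M (inter_le U x 0)) (hs (x 0))).trans ?_
    exact (hc x (x 0) hx _ le_rfl _).symm.trans (QCoh.res_self M le_rfl _)

/-- sections are the cocycles of degree zero -/
noncomputable def secEquiv : Sec φ M (le_refl W) ≃ₗ[A] (cx φ U hU M).Z₀ 0 :=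
  LinearEquiv.ofBijective (augZ φ U hU M) (augZ_bijective φ hU M hW)

end Aug

/-- a resolution starting one step later -/
@[reducible] noncomputable def shift (R : FRes X) : FRes X where
  Z n := R.Z (n + 1)
  J n := R.J (n + 1)
  ι n := R.ι (n + 1)
  p n := R.p (n + 1)
  w n := R.w (n + 1)
  exact n := R.exact (n + 1)
  flasque n := R.flasque (n + 1)

lemma good_shift {R : FRes X} (h : (affCov X).Good (Coh.toAb (R.Z 0))) :
    (affCov X).Good (Coh.toAb ((shift R).Z 0)) :=
  CovSys.Good.quot (R.abSeq_shortExact 0) h ((R.uAcyclic_J 0).good _)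

variable (R : FRes X)

lemma cx_ι_injective (n : ℕ) : Injective ((cxMap φ U hU (R.ι 0)).f n) := fun a b hab =>
  funext fun x => R.ι_injective 0 _ (congrFun hab x)

lemma cx_p_zero_iff (n : ℕ) (s : (cx φ U hU (R.J 0)).X n) :
    (cxMap φ U hU (R.p 0)).f n s = 0 ↔ ∃ y, (cxMap φ U hU (R.ι 0)).f n y = s := by
  constructor
  · intro h
    choose y hy using fun x => R.exists_ι_eq 0 (a := s x) (congrFun h x)
    exact ⟨y, funext hy⟩
  · rintro ⟨y, rfl⟩
    exact funext fun x => R.p_ι 0 _ (y x)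

variable {U} (haff : ∀ {n : ℕ} (x : Fin (n + 1) → ι),
  IsAffineOpen (inter (X := X.toPresheafedSpace.carrier) U x))

include haff in
lemma cx_p_surjective (hg : (affCov X).Good (Coh.toAb (R.Z 0))) (n : ℕ) :
    Surjective ((cxMap φ U hU (R.p 0)).f n) := fun s => by
  choose a ha using fun x : Fin (n + 1) → ι =>
    hg.sec_surjective (R.abSeq_shortExact 0) (haff x) (s x)
  exact ⟨a, funext ha⟩

lemma cx_J_vanish (n : ℕ) (x : (cx φ U hU (R.J 0)).X (n + 1))
    (hx : (cx φ U hU (R.J 0)).d (n + 1) x = 0) : ∃ b, (cx φ U hU (R.J 0)).d n b = x :=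
  R.uAcyclic_J 0 ι U n x hx

variable (hW : W ≤ ⨆ i, U i)

/-- the boundaries -/
noncomputable def exSub (M N : X.Modules) (ψ : M ⟶ N) : Submodule A (Sec φ N (le_refl W)) :=
  LinearMap.range ({ toFun := fun s => ψ.app W s
                     map_add' := fun a b => map_add (ψ.app W).hom a b
                     map_smul' := fun r s => Scheme.Modules.Hom.app_smul ψ _ _ } :
    Sec φ M (le_refl W) →ₗ[A] Sec φ N (le_refl W))

lemma mem_exSub (M N : X.Modules) (ψ : M ⟶ N) (z : Sec φ N (le_refl W)) :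
    z ∈ exSub φ M N ψ ↔ ∃ a, ψ.app W a = z := Iff.rfl

include hW in
lemma zImage_eq : SCx.zImage (cxMap φ U hU (R.p 0)) =
    (exSub φ _ _ (R.p 0)).map (secEquiv φ hU (R.Z 1) hW : _ →ₗ[A] _) := by
  ext z
  have key : ∀ a, (cxMap φ U hU (R.p 0)).f 0 (augA φ U hU (R.J 0) a) =
      augA φ U hU (R.Z 1) ((R.p 0).app W a) := fun a =>
    funext fun x => QCoh.app_res (R.p 0) _ a
  constructor
  · rintro ⟨y, rfl⟩
    obtain ⟨a, rfl⟩ := (augZ_bijective φ hU (R.J 0) hW).2 y
    exact ⟨(R.p 0).app W a, ⟨a, rfl⟩, Subtype.ext (key a).symm⟩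
  · rintro ⟨_, ⟨a, rfl⟩, rfl⟩
    exact ⟨augZ φ U hU (R.J 0) a, Subtype.ext (key a)⟩

/-- degree one Čech cohomology -/
noncomputable def resEquiv₁ (hg : (affCov X).Good (Coh.toAb (R.Z 0))) :
    (cx φ U hU (R.Z 0)).H₀ 1 ≃ₗ[A] Sec φ (R.Z 1) (le_refl W) ⧸ exSub φ _ _ (R.p 0) :=
  (SCx.deltaEquiv₀ (cxMap φ U hU (R.ι 0)) (cxMap φ U hU (R.p 0)) (cx_ι_injective φ U hU R)
    (cx_p_surjective φ hU R haff hg) (cx_p_zero_iff φ U hU R) (cx_J_vanish φ hU R)).symm ≪≫ₗ
    (Submodule.Quotient.equiv _ _ (secEquiv φ hU (R.Z 1) hW) (zImage_eq φ hU R hW).symm).symm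

/-- Čech cohomology in degree `k + 1` -/
noncomputable def resEquiv : ∀ (k : ℕ) (R : FRes X), (affCov X).Good (Coh.toAb (R.Z 0)) →
    ((cx φ U hU (R.Z 0)).H₀ (k + 1) ≃ₗ[A]
      Sec φ (R.Z (k + 1)) (le_refl W) ⧸ exSub φ _ _ (R.p k))
  | 0, R, hg => resEquiv₁ φ hU R haff hW hg
  | k + 1, R, hg =>
    (SCx.deltaEquiv (cxMap φ U hU (R.ι 0)) (cxMap φ U hU (R.p 0)) (cx_ι_injective φ U hU R)
      (cx_p_surjective φ hU R haff hg) (cx_p_zero_iff φ U hU R) (cx_J_vanish φ hU R) k).symm ≪≫ₗ
      resEquiv k (shift R) (good_shift hg)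

end Groth.Agent.CBC
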