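import Groth.Agent.CBC.CurveR1
import Groth.Agent.AbVarLib.H0Field
import Groth.Agent.CBC.GeomRedH0
import Groth.Prelude.Def_ModelsG

/-!
# Families of curves with constant global functions on the fibres
-/

set_option autoImplicit false
set_option linter.style.haveILetI false

universe u

open CategoryTheory CategoryTheory.Limits AlgebraicGeometry TopologicalSpace Function Opposite

noncomputable section

namespace Groth.Agent.CBC.CurveH0

variable {X S : Scheme.{u}} (f : X ⟶ S)

theorem bijective_fiber_of_hRank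
    (h0 : ∀ s : S, Models.hRank ↥(S.residueField s) (f.fiber s) (f.fiberToSpecResidueField s)
      (Coh.structureModule (f.fiber s)) 0 = 1) (z : S) :
    Bijective (algebraMap (S.residueField z) Γ(f.fiber z, ⊤)) := by
  letI : (f.fiber z).Over (Spec (CommRingCat.of (S.residueField z))) := ⟨f.fiberToSpecResidueField z⟩
  exact AbVarLib.H0Field.bijective_toGlobal (h0 z)

variable [IsProper f] [Flat f] [LocallyOfFinitePresentation f]

/-- `R¹ f_* O` is locally free when the fibres are curves with constant global functions -/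
theorem isFinLocFree_R1 [HasInjectiveResolutions X.Modules]
    (hh : ∀ z : S, Bijective (algebraMap (S.residueField z) Γ(f.fiber z, ⊤)))
    (hdim : ∀ s : S, topologicalKrullDim ↥(f.fiber s) ≤ (1 : ℕ)) :
    FlatMod.IsFinLocFree ((Coh.Rpush f 1).obj (Coh.structureModule X)) := fun y => by
  haveI : (Coh.structureModule X).IsQuasicoherent := ProjTwist.isQuasicoherent_structureModule X
  have hfl : FlatMod.IsFlatOver f (Coh.structureModule X) :=
    Cube.Seesaw.isFlatOver_of_invertible f (PicLoc.isInvertible_structureModule X)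
  obtain ⟨N, hy, hR0, -⟩ := OConn.exists_rExact_one f hh y
  have h2 := (N.exact_of_fibres_zero (p := 2) fun z _ => CurveR1.subsingleton_fiberH _ z (hdim z) one_lt_two).2.1
  obtain ⟨U, hyU, he⟩ := CurveR1.exists_free_rank N (N.rExact_pred hfl h2) (N.lExact_succ hfl hR0) hy
  exact ⟨U, _, hyU, he⟩

theorem isZero_Rpush [HasInjectiveResolutions X.Modules]
    (hdim : ∀ s : S, topologicalKrullDim ↥(f.fiber s) ≤ (1 : ℕ)) {q : ℕ} (hq : 2 ≤ q) :
    IsZero ((Coh.Rpush f q).obj (Coh.structureModule X)) := by
  haveI : (Coh.structureModule X).IsQuasicoherent := ProjTwist.isQuasicoherent_structureModule X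
  exact CBC.isZero_Rpush (f := f) (F := Coh.structureModule X) (IntProd70.isFP_unit X)
    (Cube.Seesaw.isFlatOver_of_invertible f (PicLoc.isInvertible_structureModule X))
    fun y => CurveR1.subsingleton_fiberH _ y (hdim y) hq

/-- `O = f'_* O` after any base change -/
theorem isIso_unitToPush (hh : ∀ z : S, Bijective (algebraMap (S.residueField z) Γ(f.fiber z, ⊤)))
    {S' : Scheme.{u}} (g : S' ⟶ S) : IsIso (ClSub.unitToPush (pullback.snd f g)) := by
  haveI : (Coh.structureModule X).IsQuasicoherent := ProjTwist.isQuasicoherent_structureModule X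
  have H : IsPullback (pullback.fst f g) (pullback.snd f g) f g := IsPullback.of_hasPullback _ _
  refine CBC.isIso_of_small_affine _
    (fun W => ∃ N : Nhd f (Coh.structureModule X), W ≤ g ⁻¹ᵁ N.V ∧ (N.D.K (Coh.structureModule X)).RExact 0)
    (fun z => ?_) (fun W W' hW => fun ⟨N, h1, h2⟩ => ⟨N, hW.trans h1, h2⟩) fun W hW => ?_
  · obtain ⟨N, hz, hR, -⟩ := OConn.exists_rExact_one f hh (g z)
    exact ⟨g ⁻¹ᵁ N.V, hz, N, le_rfl, hR⟩
  · rintro ⟨N, h1, h2⟩
    have e : (pullback.snd f g) ⁻¹ᵁ W ≤ (pullback.fst f g) ⁻¹ᵁ (f ⁻¹ᵁ N.V) := by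
      rw [← Scheme.Hom.comp_preimage, H.w, Scheme.Hom.comp_preimage]
      exact Scheme.Hom.preimage_mono _ h1
    have hpo := GeomRedH0.isPushout_of_rExact N h2 H hW h1 e
    haveI : IsIso (f.app N.V) := (ConcreteCategory.isIso_iff_bijective _).2 (OConn.bijective_app f hh N.V)
    haveI : IsIso ((pullback.snd f g).app W) := hpo.isIso_inr_of_isIso
    exact ConcreteCategory.bijective_of_isIso ((pullback.snd f g).app W)

end Groth.Agent.CBC.CurveH0
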