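import Groth.Agent.CBC.SeesawConn
import Groth.Agent.CMReg.FieldBC
import Groth.Agent.PicCl.Basic
import Groth.Prelude.Def_AbDual
import Mathlib.AlgebraicGeometry.Sites.Fpqc
import Mathlib.AlgebraicGeometry.Morphisms.UniversallyOpen

/-!
# Separatedness of relative Picard schemes
-/

set_option autoImplicit false

universe u

open CategoryTheory CategoryTheory.Limits AlgebraicGeometry TopologicalSpace Opposite Function

noncomputable section

namespace Groth.Agent.CBC.PicSep

open scoped Groth.Agent.PicLaw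
open PicLaw (pl)
open Groth.Agent.PicCl (XTmap_fst XTmap_snd XTmap_comp)

/-- immersions are isomorphisms on residue fields -/
theorem isIso_residueFieldMap {Z S : Scheme.{u}} (ι : Z ⟶ S) [IsPreimmersion ι] (z : Z) :
    IsIso (ι.residueFieldMap z) := by
  refine (ConcreteCategory.isIso_iff_bijective _).2 ⟨(ι.residueFieldMap z).hom.injective, fun a => ?_⟩
  obtain ⟨b, rfl⟩ := IsLocalRing.residue_surjective (R := Z.presheaf.stalk z) a
  obtain ⟨c, rfl⟩ := ι.stalkMap_surjective z b
  exact ⟨S.residue (ι z) c,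
    ConcreteCategory.congr_hom (Scheme.residue_residueFieldMap ι z) c⟩

theorem factor_of_mem_range {Z Q : Scheme.{u}} (ι : Z ⟶ Q) [IsPreimmersion ι] {U : Scheme.{u}}
    (v : U ⟶ Q) (x : U) (h : v x ∈ Set.range ι) :
    ∃ w, w ≫ ι = U.fromSpecResidueField x ≫ v := by
  obtain ⟨z, hz⟩ := h
  haveI := isIso_residueFieldMap ι z
  refine ⟨Spec.map (v.residueFieldMap x) ≫ Spec.map (Q.residueFieldCongr hz).hom ≫
    Spec.map (inv (ι.residueFieldMap z)) ≫ Z.fromSpecResidueField z, ?_⟩
  have h1 : Spec.map (inv (ι.residueFieldMap z)) ≫ Z.fromSpecResidueField z ≫ ι =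
      Q.fromSpecResidueField (ι z) := by
    rw [← Scheme.Hom.SpecMap_residueFieldMap_fromSpecResidueField, ← Category.assoc, ← Spec.map_comp,
      IsIso.hom_inv_id, Spec.map_id, Category.id_comp]
  rw [Category.assoc, Category.assoc, Category.assoc, h1,
    ← Scheme.Hom.SpecMap_residueFieldMap_fromSpecResidueField]
  congr 1
  exact Scheme.residueFieldCongr_fromSpecResidueField hz

/-- sections descend along field extensions -/
theorem nontrivial_descent {k K : Type u} [Field k] [Field K] {F₀ X' : Scheme.{u}}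
    (t : F₀ ⟶ Spec (CommRingCat.of k)) [IsProper t]
    (g : Spec (CommRingCat.of K) ⟶ Spec (CommRingCat.of k)) (p : X' ⟶ F₀)
    (q : X' ⟶ Spec (CommRingCat.of K)) (H : IsPullback p q t g) [Nonempty X']
    {L : F₀.Modules} (hL : PicF.IsInvertible L)
    (e : (Scheme.Modules.pullback p).obj L ≅ Coh.structureModule X') :
    Nontrivial Γ(L, ⊤) := by
  obtain ⟨φ, rfl⟩ := Spec.map_surjective g
  letI : Algebra k K := φ.hom.toAlgebra
  haveI : IsLocallyNoetherian F₀ := LocallyOfFiniteType.isLocallyNoetherian t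
  rw [← not_subsingleton_iff_nontrivial]
  intro hs
  have h0 : Subsingleton (Coh.HH F₀ L 0) := (ProperFin.h0Sec L).toEquiv.subsingleton
  have h1 := (CMReg.subsingleton_baseChange_iff (K := K) p q H L
    (Cube.Seesaw.isCoh_of_invertible hL) 0).2 h0
  have h2 := (ProperFin.h0Sec ((Scheme.Modules.pullback p).obj L)).symm.toEquiv.subsingleton
  exact not_subsingleton_iff_nontrivial.2 (Cube.Seesaw.nontrivial_of_iso ⟨e⟩) h2

variable {X S : Scheme.{u}} (f : X ⟶ S)

theorem xt_square {T T' : Over S} (g : T' ⟶ T) :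
    IsPullback (PicF.XTmap f g) (pullback.snd f T'.hom) (pullback.snd f T.hom) g.left := by
  refine IsPullback.of_right ?_ (XTmap_snd f g) (IsPullback.of_hasPullback f T.hom)
  rw [XTmap_fst, Over.w g]
  exact IsPullback.of_hasPullback f T'.hom

theorem pullCl_eq_iff {T T' : Over S} (g : T' ⟶ T) (c c' : PicLoc.PicSet (PicF.XT f T)) :
    PicF.pullCl (PicF.XTmap f g) c.1 = PicF.pullCl (PicF.XTmap f g) c'.1 ↔
      pl (PicF.XTmap f g) (c * c'⁻¹) = 1 := by
  rw [map_mul, map_inv, mul_inv_eq_one]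
  exact ⟨fun h => Subtype.ext h, fun h => congrArg Subtype.val h⟩

variable {f} [IsProper f] [Flat f] [LocallyOfFinitePresentation f] [GeometricallyIntegral f]
  {P : Over S} {φ : ∀ T : Over S, PicF.Cl (PicF.XT f T) → (T ⟶ P)}
  (hP : AbDual.IsRelPicK Scheme.fppfPrecoverage f P φ)

include hP in
/-- equality of the two points at a point is triviality of the fibre -/
theorem eq_at_point_iff (T : Over S) {M : (PicF.XT f T).Modules} (hM : PicF.IsInvertible M)
    (c c' : PicLoc.PicSet (PicF.XT f T)) (hMc : c * c'⁻¹ = PicGrp.cls M hM) (x : T.left) :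
    AbDual.ovrHom T (T.left.fromSpecResidueField x) ≫ φ T c.1 =
        AbDual.ovrHom T (T.left.fromSpecResidueField x) ≫ φ T c'.1 ↔
      Nonempty (CohIII.fiberMod (pullback.snd f T.hom) M x ≅
        Coh.structureModule ((pullback.snd f T.hom).fiber x)) := by
  let π := pullback.snd f T.hom
  let T' := AbDual.ovr T (T.left.fromSpecResidueField x)
  let h : T' ⟶ T := AbDual.ovrHom T (T.left.fromSpecResidueField x)
  have H := xt_square f h
  let ε : PicF.XT f T' ≅ π.fiber x := H.isoPullback
  have hε : ε.hom ≫ π.fiberι x = PicF.XTmap f h := H.isoPullback_hom_fst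
  have hεs : ε.hom ≫ π.fiberToSpecResidueField x = pullback.snd f T'.hom := H.isoPullback_hom_snd
  rw [← hP.natural T T' h c.1 c.2, ← hP.natural T T' h c'.1 c'.2]
  constructor
  · intro heq
    obtain ⟨R, hR, hinj⟩ := hP.locallyInjective T' _ _ (pl (PicF.XTmap f h) c).2
      (pl (PicF.XTmap f h) c').2 heq
    obtain ⟨pt⟩ : Nonempty ↥(Spec (T.left.residueField x)) :=
      inferInstanceAs (Nonempty (PrimeSpectrum (T.left.residueField x)))
    obtain ⟨_, _, @⟨U, u, hu⟩, z, -⟩ := hR.1 pt
    let y : Spec (U.residueField z) ⟶ Spec (T.left.residueField x) := U.fromSpecResidueField z ≫ u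
    let T₂ := AbDual.ovr T' u
    let T₃ := AbDual.ovr T₂ (U.fromSpecResidueField z)
    let h₂ : T₂ ⟶ T' := AbDual.ovrHom T' u
    let h₃ : T₃ ⟶ T₂ := AbDual.ovrHom T₂ (U.fromSpecResidueField z)
    have H₃ := xt_square f (h₃ ≫ h₂)
    let p := PicF.XTmap f (h₃ ≫ h₂) ≫ ε.hom
    have Hp : IsPullback p (pullback.snd f T₃.hom) (π.fiberToSpecResidueField x) y := by
      refine H₃.of_iso (Iso.refl _) ε (Iso.refl _) (Iso.refl _) ?_ ?_ ?_ ?_
      · simp [p]
      · simp
      · simp [hεs]
      · simp [y]; rfl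
    have h1 : pl (PicF.XTmap f h₂) (pl (PicF.XTmap f h) (c * c'⁻¹)) = 1 := by
      have e := (pullCl_eq_iff f h₂ (pl (PicF.XTmap f h) c) (pl (PicF.XTmap f h) c')).1 (hinj u hu)
      rwa [← map_inv, ← map_mul] at e
    have h3 : pl p (pl (π.fiberι x) (PicGrp.cls M hM)) = 1 := by
      rw [← PicLaw.pl_comp, show p ≫ π.fiberι x = PicF.XTmap f (h₃ ≫ h₂) ≫ PicF.XTmap f h by
        simp only [p, Category.assoc, hε], PicLaw.pl_comp, XTmap_comp, PicLaw.pl_comp, ← hMc, h1, map_one]
    haveI : IsProper (π.fiberToSpecResidueField x) :=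
      show IsProper (pullback.snd π (T.left.fromSpecResidueField x)) from inferInstance
    haveI : Nonempty (PicF.XT f T₃) := by
      obtain ⟨pt₃⟩ : Nonempty ↥(Spec (U.residueField z)) :=
        inferInstanceAs (Nonempty (PrimeSpectrum (U.residueField z)))
      obtain ⟨w⟩ := (inferInstance : Nonempty (π.fiber x))
      haveI : Subsingleton ↥(Spec (T.left.residueField x)) :=
        inferInstanceAs (Subsingleton (PrimeSpectrum (T.left.residueField x)))
      obtain ⟨a, -⟩ := Scheme.exists_preimage_of_isPullback Hp w pt₃ (Subsingleton.elim _ _)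
      exact ⟨a⟩
    obtain ⟨M', hM', hMM'⟩ := PicGrp.exists_eq_cls (PicGrp.cls M hM)⁻¹
    have hF := PicLoc.isInvertible_pullback (π.fiberι x) hM
    have hF' := PicLoc.isInvertible_pullback (π.fiberι x) hM'
    have := (inferInstance : IsIntegral (π.fiber x))
    have hs := nontrivial_descent (k := T.left.residueField x) (K := U.residueField z)
      (π.fiberToSpecResidueField x) y p (pullback.snd f T₃.hom) Hp hF
      ((PicGrp.cls_eq_one_iff (PicLoc.isInvertible_pullback p hF)).mp (by
        rw [PicLaw.cls_pullback _ hF, PicLaw.cls_pullback _ hM, h3])).some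
    have ht := nontrivial_descent (k := T.left.residueField x) (K := U.residueField z)
      (π.fiberToSpecResidueField x) y p (pullback.snd f T₃.hom) Hp hF'
      ((PicGrp.cls_eq_one_iff (PicLoc.isInvertible_pullback p hF')).mp (by
        rw [PicLaw.cls_pullback _ hF', PicLaw.cls_pullback _ hM', ← hMM', map_inv, map_inv, h3,
          inv_one])).some
    refine Cube.Seesaw.iso_of_sections
      (isField_of_universallyClosed (K := T.left.residueField x) (π.fiberToSpecResidueField x))
      hF hF' ?_ hs ht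
    refine (PicGrp.cls_eq_one_iff (PicLaw.isInvertible_tensor hF hF')).mp ?_
    rw [PicLaw.cls_tensor hF hF', PicLaw.cls_pullback _ hM, PicLaw.cls_pullback _ hM', ← hMM',
      ← map_mul, mul_inv_cancel, map_one]
  · intro htriv
    have h1 : pl (π.fiberι x) (c * c'⁻¹) = 1 := by
      rw [hMc, ← PicLaw.cls_pullback _ hM]
      exact (PicGrp.cls_eq_one_iff _).mpr htriv
    refine congrArg (φ T') ((pullCl_eq_iff f h c c').2 ?_)
    rw [← hε, PicLaw.pl_comp, h1, map_one]

include hP in
/-- `P → S` is separated -/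
theorem isSeparated : IsSeparated P.hom := by
  let Δ := pullback.diagonal P.hom
  refine ⟨IsClosedImmersion.of_isPreimmersion Δ ?_⟩
  let Q : Over S := Over.mk (pullback.fst P.hom P.hom ≫ P.hom)
  let a : Q ⟶ P := Over.homMk (pullback.fst P.hom P.hom) rfl
  let b : Q ⟶ P := Over.homMk (pullback.snd P.hom P.hom) pullback.condition.symm
  rw [← isOpen_compl_iff]
  refine isOpen_iff_forall_mem_open.2 fun q hq => ?_
  obtain ⟨R₁, hR₁, h₁⟩ := hP.locallySurjective Q a
  obtain ⟨_, _, @⟨U, u, hu⟩, z, hz⟩ := hR₁.1 q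
  obtain ⟨ca, hca, hca'⟩ := h₁ u hu
  let T₁ := AbDual.ovr Q u
  obtain ⟨R₂, hR₂, h₂⟩ := hP.locallySurjective T₁ (AbDual.ovrHom Q u ≫ b)
  obtain ⟨_, _, @⟨V, v, hv⟩, y, hy⟩ := hR₂.1 z
  obtain ⟨cb, hcb, hcb'⟩ := h₂ v hv
  let T₂ := AbDual.ovr T₁ v
  let i : T₂ ⟶ Q := AbDual.ovrHom T₁ v ≫ AbDual.ovrHom Q u
  let c : PicLoc.PicSet (PicF.XT f T₂) := pl (PicF.XTmap f (AbDual.ovrHom T₁ v)) ⟨ca, hca⟩
  let c' : PicLoc.PicSet (PicF.XT f T₂) := ⟨cb, hcb⟩
  have ha : φ T₂ c.1 = i ≫ a := by
    refine (hP.natural T₁ T₂ (AbDual.ovrHom T₁ v) ca hca).trans ?_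
    rw [hca', Category.assoc]
  have hb : φ T₂ c'.1 = i ≫ b := by
    change φ (AbDual.ovr T₁ v) cb = _
    rw [hcb', Category.assoc]
  obtain ⟨M, hM, hMc⟩ := PicGrp.exists_eq_cls (c * c'⁻¹)
  let π := pullback.snd f T₂.hom
  have hiff : ∀ x : V, i.left x ∈ Set.range Δ ↔
      Nonempty (CohIII.fiberMod π M x ≅ Coh.structureModule (π.fiber x)) := fun x => by
    refine Iff.trans ?_ (eq_at_point_iff hP T₂ hM c c' hMc x)
    rw [ha, hb]
    constructor
    · intro hx
      obtain ⟨w, hw⟩ := factor_of_mem_range Δ i.left x hx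
      refine Over.OverMorphism.ext ?_
      change V.fromSpecResidueField x ≫ i.left ≫ pullback.fst P.hom P.hom =
        V.fromSpecResidueField x ≫ i.left ≫ pullback.snd P.hom P.hom
      refine ((Category.assoc _ _ _).symm.trans ((congrArg (· ≫ pullback.fst P.hom P.hom) hw.symm).trans
        ?_)).trans ((congrArg (· ≫ pullback.snd P.hom P.hom) hw).trans (Category.assoc _ _ _))
      simp [Δ]
    · intro he
      have he' : V.fromSpecResidueField x ≫ i.left ≫ pullback.fst P.hom P.hom =
          V.fromSpecResidueField x ≫ i.left ≫ pullback.snd P.hom P.hom :=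
        congrArg CommaMorphism.left he
      have hw : (V.fromSpecResidueField x ≫ i.left ≫ pullback.fst P.hom P.hom) ≫ Δ =
          V.fromSpecResidueField x ≫ i.left := by
        apply pullback.hom_ext
        · simp [Δ]
        · simp only [Δ, Category.assoc, pullback.diagonal_snd, Category.comp_id]
          exact he'
      obtain ⟨pt⟩ : Nonempty ↥(Spec (V.residueField x)) :=
        inferInstanceAs (Nonempty (PrimeSpectrum (V.residueField x)))
      refine ⟨(V.fromSpecResidueField x ≫ i.left ≫ pullback.fst P.hom P.hom) pt, ?_⟩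
      rw [← Scheme.Hom.comp_apply, hw, Scheme.Hom.comp_apply, Scheme.fromSpecResidueField_apply]
  let bad : Set V :=
    {x | Nonempty (CohIII.fiberMod π M x ≅ Coh.structureModule (π.fiber x))}
  have hbad : IsClosed bad := SeesawConn.isClosed_trivial π (fun x => inferInstance) hM
  have hopen : IsOpenMap i.left := by
    haveI := (hR₁.2 hu).1
    haveI := (hR₁.2 hu).2
    haveI := (hR₂.2 hv).1
    haveI := (hR₂.2 hv).2
    change IsOpenMap (v ≫ u)
    exact (v ≫ u).isOpenMap
  refine ⟨i.left '' badᶜ, ?_, hopen _ hbad.isOpen_compl, ⟨y, ?_, ?_⟩⟩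
  · rintro _ ⟨x, hx, rfl⟩ hmem
    exact hx ((hiff x).1 hmem)
  · intro hy'
    refine hq ?_
    have h := (hiff y).2 hy'
    change u (v y) ∈ _ at h
    rwa [show v y = z from hy, show u z = q from hz] at h
  · change u (v y) = q
    rw [show v y = z from hy]; exact hz

end Groth.Agent.CBC.PicSep
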