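import Groth.Agent.IntProd70.Family
import Groth.Agent.CMReg.FieldBC
import Groth.Agent.ConsPairLib.DimCons
import Groth.Agent.Snapper.Basic
import Groth.Agent.Cube.Seesaw
import Groth.Agent.CBC.PicSep
import Groth.Agent.EulerFam.AlgEquiv
import Groth.Prelude.Def_AbDual
import Groth.Prelude.Def_FGA

/-!
# The degree function on a relative Picard scheme
-/

set_option autoImplicit false
set_option linter.style.haveILetI false

universe u

open CategoryTheory CategoryTheory.Limits AlgebraicGeometry TopologicalSpace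

noncomputable section

namespace Groth.Agent.CBC.DegFam

open Groth.Agent.PicCl (XTmap_fst XTmap_snd XTmap_comp)

/-- `χ` does not change under field extensions. -/
theorem euler_bc {k K : Type u} [Field k] [Field K] {X X' : Scheme.{u}}
    (s : X ⟶ Spec (CommRingCat.of k)) [IsProper s]
    (g : Spec (CommRingCat.of K) ⟶ Spec (CommRingCat.of k)) (p : X' ⟶ X)
    (q : X' ⟶ Spec (CommRingCat.of K)) (H : IsPullback p q s g) (F : X.Modules) (hF : Coh.IsCoh F) :
    @Curv2.euler K _ X' ⟨q⟩ ((Scheme.Modules.pullback p).obj F) = @Curv2.euler k _ X ⟨s⟩ F := by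
  obtain ⟨φ, rfl⟩ := Spec.map_surjective g
  letI : Algebra k K := φ.hom.toAlgebra
  letI : X.Over (Spec (CommRingCat.of k)) := ⟨s⟩
  letI : X'.Over (Spec (CommRingCat.of K)) := ⟨q⟩
  unfold Curv2.euler
  exact finsum_congr fun i => by rw [CMReg.finrank_baseChange (K := K) p q H F hF i]

variable {X S : Scheme.{u}}

/-- A square over a field valued point factors through the fibre. -/
theorem exists_fibre_square (f : X ⟶ S) {K : Type u} [Field K] (τ : Spec (CommRingCat.of K) ⟶ S)
    {X' : Scheme.{u}} (p : X' ⟶ X) (q : X' ⟶ Spec (CommRingCat.of K)) (H : IsPullback p q f τ)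
    (z : Spec (CommRingCat.of K)) :
    ∃ (g : Spec (CommRingCat.of K) ⟶ Spec (S.residueField (τ z))) (p' : X' ⟶ f.fiber (τ z)),
      IsPullback p' q (f.fiberToSpecResidueField (τ z)) g ∧ p' ≫ f.fiberι (τ z) = p := by
  obtain ⟨⟨x, φ⟩, hx⟩ := (Scheme.SpecToEquivOfField K S).symm.surjective τ
  have hτ : Spec.map φ ≫ S.fromSpecResidueField x = τ := hx
  have hz : τ z = x := by
    rw [← hτ, Scheme.Hom.comp_apply]
    exact S.fromSpecResidueField_apply x _
  obtain rfl := hz
  have hw : p ≫ f = (q ≫ Spec.map φ) ≫ S.fromSpecResidueField (τ z) := by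
    rw [Category.assoc, hτ]; exact H.w
  let p' : X' ⟶ f.fiber (τ z) := pullback.lift p (q ≫ Spec.map φ) hw
  refine ⟨Spec.map φ, p', ?_, pullback.lift_fst _ _ _⟩
  refine IsPullback.of_right (h₁₂ := f.fiberι (τ z)) ?_ (pullback.lift_snd _ _ _)
    (IsPullback.of_hasPullback f (S.fromSpecResidueField (τ z)))
  rw [hτ, show p' ≫ f.fiberι (τ z) = p from pullback.lift_fst _ _ _]
  exact H

/-- `χ` of the restriction to the fibre over a point. -/
abbrev chi (f : X ⟶ S) (L : X.Modules) (s : S) : ℤ :=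
  @Curv2.euler (S.residueField s) _ (f.fiber s) ⟨f.fiberToSpecResidueField s⟩
    ((Scheme.Modules.pullback (f.fiberι s)).obj L)

theorem isProper_fiber (f : X ⟶ S) [IsProper f] (s : S) : IsProper (f.fiberToSpecResidueField s) :=
  show IsProper (pullback.snd f (S.fromSpecResidueField s)) from inferInstance

/-- `χ` over a field valued point only depends on the underlying point. -/
theorem chi_eq_of_square (f : X ⟶ S) [IsProper f] {L : X.Modules} (hL : PicF.IsInvertible L)
    {K : Type u} [Field K] (τ : Spec (CommRingCat.of K) ⟶ S) {X' : Scheme.{u}} (p : X' ⟶ X)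
    (q : X' ⟶ Spec (CommRingCat.of K)) (H : IsPullback p q f τ) (z : Spec (CommRingCat.of K)) :
    @Curv2.euler K _ X' ⟨q⟩ ((Scheme.Modules.pullback p).obj L) = chi f L (τ z) := by
  obtain ⟨g, p', H', hp⟩ := exists_fibre_square f τ p q H z
  haveI := isProper_fiber f (τ z)
  letI : X'.Over (Spec (CommRingCat.of K)) := ⟨q⟩
  haveI : IsProper (X' ↘ Spec (CommRingCat.of K)) :=
    (MorphismProperty.of_isPullback H' (isProper_fiber f (τ z)) : IsProper q)
  refine (EulerChar.euler_iso K (((Scheme.Modules.pullbackCongr hp.symm).app L) ≪≫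
    ((Scheme.Modules.pullbackComp p' _).app L).symm)).trans ?_
  exact @euler_bc _ K _ _ _ _ (f.fiberToSpecResidueField (τ z)) (isProper_fiber f (τ z)) g p' q H' _
    (Cube.Seesaw.isCoh_of_invertible (PicCl.isInvertible_pullback _ hL))

theorem chi_iso (f : X ⟶ S) [IsProper f] {L L' : X.Modules} (e : L ≅ L') (s : S) :
    chi f L s = chi f L' s := by
  letI : (f.fiber s).Over (Spec (CommRingCat.of (S.residueField s))) := ⟨f.fiberToSpecResidueField s⟩
  haveI : IsProper ((f.fiber s) ↘ Spec (CommRingCat.of (S.residueField s))) := isProper_fiber f s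
  exact EulerChar.euler_iso _ ((Scheme.Modules.pullback (f.fiberι s)).mapIso e)

/-- compatibility with base change -/
theorem chi_bc {f : X ⟶ S} [IsProper f] {X' S' : Scheme.{u}} {f' : X' ⟶ S'} [IsProper f']
    {G : X' ⟶ X} {g : S' ⟶ S} (H : IsPullback G f' f g) {L : X.Modules} (hL : PicF.IsInvertible L)
    (s : S') : chi f' ((Scheme.Modules.pullback G).obj L) s = chi f L (g s) := by
  obtain ⟨z⟩ : Nonempty (Spec (S'.residueField s)) :=
    inferInstanceAs (Nonempty (PrimeSpectrum (S'.residueField s)))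
  letI : (f'.fiber s).Over (Spec (CommRingCat.of (S'.residueField s))) := ⟨f'.fiberToSpecResidueField s⟩
  haveI : IsProper ((f'.fiber s) ↘ Spec (CommRingCat.of (S'.residueField s))) := isProper_fiber f' s
  have h := chi_eq_of_square f hL (S'.fromSpecResidueField s ≫ g) (f'.fiberι s ≫ G)
    (f'.fiberToSpecResidueField s)
    ((IsPullback.of_hasPullback f' (S'.fromSpecResidueField s)).paste_horiz H) z
  have hz : (S'.fromSpecResidueField s ≫ g) z = g s := by
    rw [Scheme.Hom.comp_apply]
    exact congrArg g (S'.fromSpecResidueField_apply s z)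
  refine Eq.trans ?_ (h.trans (congrArg (chi f L) hz))
  exact EulerChar.euler_iso _ ((Scheme.Modules.pullbackComp (f'.fiberι s) G).app L)

/-- the degree -/
abbrev deg (f : X ⟶ S) (L : X.Modules) (s : S) : ℤ :=
  chi f L s - chi f (Coh.structureModule X) s

theorem deg_iso (f : X ⟶ S) [IsProper f] {L L' : X.Modules} (e : L ≅ L') (s : S) :
    deg f L s = deg f L' s := by
  simp only [deg, chi_iso f e s]

theorem deg_bc {f : X ⟶ S} [IsProper f] {X' S' : Scheme.{u}} {f' : X' ⟶ S'} [IsProper f']
    {G : X' ⟶ X} {g : S' ⟶ S} (H : IsPullback G f' f g) {L : X.Modules} (hL : PicF.IsInvertible L)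
    (s : S') : deg f' ((Scheme.Modules.pullback G).obj L) s = deg f L (g s) := by
  simp only [deg, ← chi_bc H hL, ← chi_bc H (LFFrame.isInvertible_structureModule X),
    chi_iso f' (PicLoc.pullbackStructureIso G) s]

theorem isLocallyConstant_chi (f : X ⟶ S) [IsProper f] [Flat f] [LocallyOfFinitePresentation f]
    {L : X.Modules} (hL : PicF.IsInvertible L) : IsLocallyConstant (chi f L) := by
  haveI : L.IsQuasicoherent := ProjTwist.isQCoh_of_isInvertible hL
  haveI : (Coh.structureModule X).IsQuasicoherent := ProjTwist.isQuasicoherent_structureModule X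
  obtain ⟨_, h⟩ := IntProd70.isFP_tensor (IntProd70.isFP_unit X) hL
  exact IntProd70.isLocallyConstant_euler
    (S2115.isFP_of_iso (ProjTwist.tensComm _ _ ≪≫ ProjTwist.tensOne L) h)
    (Cube.Seesaw.isFlatOver_of_invertible f hL)

theorem isLocallyConstant_deg (f : X ⟶ S) [IsProper f] [Flat f] [LocallyOfFinitePresentation f]
    {L : X.Modules} (hL : PicF.IsInvertible L) : IsLocallyConstant (deg f L) :=
  (isLocallyConstant_chi f hL).comp₂ (isLocallyConstant_chi f (LFFrame.isInvertible_structureModule X))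
    (· - ·)

section Fibre

variable {C : Scheme.{u}} (f : C ⟶ S) [IsProper f]

instance isProper_XTproj (T : Over S) : IsProper (PicF.XTproj f T) :=
  inferInstanceAs (IsProper (pullback.snd f T.hom))

/-- the fibres of `C_T` have the same dimension -/
theorem topDim_fibreAt (hdim : ∀ s : S, topologicalKrullDim ↥(f.fiber s) = 1) (T : Over S) (t : T.left) :
    topologicalKrullDim ↥(FGA.fibreAt f T t).left = 1 := by
  obtain ⟨z⟩ : Nonempty (Spec (T.left.residueField t)) :=
    inferInstanceAs (Nonempty (PrimeSpectrum (T.left.residueField t)))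
  obtain ⟨g, p', H, -⟩ := exists_fibre_square f (T.left.fromSpecResidueField t ≫ T.hom)
    ((PicF.XTproj f T).fiberι t ≫ pullback.fst f T.hom) ((PicF.XTproj f T).fiberToSpecResidueField t)
    ((IsPullback.of_hasPullback (PicF.XTproj f T) (T.left.fromSpecResidueField t)).paste_horiz
      (IsPullback.of_hasPullback f T.hom)) z
  haveI := isProper_fiber f ((T.left.fromSpecResidueField t ≫ T.hom) z)
  haveI : ∀ (K : Type u) [Field K], Subsingleton ↥(Spec (CommRingCat.of K)) := fun K _ =>
    inferInstanceAs (Subsingleton (PrimeSpectrum K))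
  exact (ConsPairLib.topDim_baseChange (f.fiberToSpecResidueField _) H).trans (hdim _)

theorem eulerCharLE_of_dim {k : Type u} [Field k] {Y : Scheme.{u}} (s : Y ⟶ Spec (CommRingCat.of k))
    (hs : IsProper s) (hd : topologicalKrullDim Y = 1) (G : Y.Modules) :
    @FGA.eulerCharLE k _ Y ⟨s⟩ G 1 = @Curv2.euler k _ Y ⟨s⟩ G := by
  letI : Y.Over (Spec (CommRingCat.of k)) := ⟨s⟩
  haveI : IsProper (Y ↘ Spec (CommRingCat.of k)) := hs
  exact Snapper.eulerCharLE_eq k (d := 1) (le_of_eq (hd.trans Nat.cast_one.symm)) G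

theorem euler_iso_hom {k : Type u} [Field k] {Y : Scheme.{u}} (s : Y ⟶ Spec (CommRingCat.of k))
    (hs : IsProper s) {M N : Y.Modules} (e : M ≅ N) :
    @Curv2.euler k _ Y ⟨s⟩ M = @Curv2.euler k _ Y ⟨s⟩ N := by
  letI : Y.Over (Spec (CommRingCat.of k)) := ⟨s⟩
  haveI : IsProper (Y ↘ Spec (CommRingCat.of k)) := hs
  exact EulerChar.euler_iso k e

theorem eulerCharLE_fibreAt (hdim : ∀ s : S, topologicalKrullDim ↥(f.fiber s) = 1) (T : Over S)
    (t : T.left) (G : (FGA.fibreAt f T t).left.Modules) :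
    FGA.eulerCharLE (T.left.residueField t) (FGA.fibreAt f T t).left G 1 =
      @Curv2.euler (T.left.residueField t) _ (FGA.fibreAt f T t).left
        ⟨(PicF.XTproj f T).fiberToSpecResidueField t⟩ G := by
  exact eulerCharLE_of_dim ((PicF.XTproj f T).fiberToSpecResidueField t) (isProper_fiber _ t)
    (topDim_fibreAt f hdim T t) G

/-- the frozen degree expression -/
theorem degree_eq (hdim : ∀ s : S, topologicalKrullDim ↥(f.fiber s) = 1) (T : Over S)
    (L : (PicF.XT f T).Modules) (t : T.left) :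
    FGA.eulerCharLE (T.left.residueField t) (FGA.fibreAt f T t).left (FGA.restrFibre f T t L) 1 -
        FGA.eulerCharLE (T.left.residueField t) (FGA.fibreAt f T t).left
          (Coh.structureModule (FGA.fibreAt f T t).left) 1 = deg (PicF.XTproj f T) L t := by
  rw [eulerCharLE_fibreAt f hdim T t, eulerCharLE_fibreAt f hdim T t]
  exact congrArg _ (euler_iso_hom ((PicF.XTproj f T).fiberToSpecResidueField t) (isProper_fiber _ t)
    (PicLoc.pullbackStructureIso ((PicF.XTproj f T).fiberι t)).symm)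

/-- algebraically trivial on a geometric fibre ⇒ degree zero -/
theorem deg_eq_zero_of_isAlgTrivialAt {L : X.Modules} (hL : PicF.IsInvertible L) (f : X ⟶ S)
    [IsProper f] (t : S) (h : AbDual.IsAlgTrivialAt f L t) : deg f L t = 0 := by
  let Ω := AlgebraicClosure (S.residueField t)
  let σ : Spec (CommRingCat.of Ω) ⟶ S :=
    Spec.map (CommRingCat.ofHom (algebraMap (S.residueField t) Ω)) ≫ S.fromSpecResidueField t
  have hσ : ∀ z, σ z = t := fun z => by
    rw [Scheme.Hom.comp_apply]; exact S.fromSpecResidueField_apply t _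
  obtain ⟨z⟩ : Nonempty (Spec (CommRingCat.of Ω)) := inferInstanceAs (Nonempty (PrimeSpectrum Ω))
  have hr : Set.range σ.base = {t} := Set.eq_singleton_iff_unique_mem.2
    ⟨⟨z, hσ z⟩, by rintro _ ⟨w, rfl⟩; exact hσ w⟩
  have hae := h Ω σ hr
  letI : (pullback f σ).Over (Spec (CommRingCat.of Ω)) := ⟨pullback.snd f σ⟩
  haveI : IsProper (pullback f σ ↘ Spec (CommRingCat.of Ω)) :=
    inferInstanceAs (IsProper (pullback.snd f σ))
  let O := Coh.structureModule (pullback f σ)
  have hO : Coh.IsCoh O := Cube.Seesaw.isCoh_of_invertible (LFFrame.isInvertible_structureModule _)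
  have e := EulerFam.euler_tensor_of_isAlgEquivZero hae hO
  rw [EulerChar.euler_iso Ω (ProjTwist.tensComm O _ ≪≫ ProjTwist.tensOne _),
    ← EulerChar.euler_iso Ω (PicLoc.pullbackStructureIso (pullback.fst f σ))] at e
  have h1 := chi_eq_of_square f hL σ _ _ (IsPullback.of_hasPullback f σ) z
  have h2 := chi_eq_of_square f (LFFrame.isInvertible_structureModule X) σ _ _
    (IsPullback.of_hasPullback f σ) z
  rw [hσ] at h1 h2
  rw [deg, ← h1, ← h2, sub_eq_zero]
  exact e

end Fibre

section PicDeg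

variable {C : Scheme.{u}} {f : C ⟶ S} [IsProper f] {P : Over S}
  {φ : ∀ T : Over S, PicF.Cl (PicF.XT f T) → (T ⟶ P)}
  (hP : AbDual.IsRelPicK Scheme.fppfPrecoverage f P φ)

/-- degree at a point, functoriality -/
theorem deg_XTmap {T T' : Over S} (g : T' ⟶ T) {L : (PicF.XT f T).Modules} (hL : PicF.IsInvertible L)
    (t : T'.left) :
    deg (PicF.XTproj f T') ((Scheme.Modules.pullback (PicF.XTmap f g)).obj L) t =
      deg (PicF.XTproj f T) L (g.left t) :=
  deg_bc (PicSep.xt_square f g) hL t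

include hP

theorem deg_eq_of_eq {T : Over S} {L L' : (PicF.XT f T).Modules} (hL : PicF.IsInvertible L)
    (hL' : PicF.IsInvertible L') (h : φ T (PicF.cl L) = φ T (PicF.cl L')) (t : T.left) :
    deg (PicF.XTproj f T) L t = deg (PicF.XTproj f T) L' t := by
  obtain ⟨R, hR, hinj⟩ := hP.locallyInjective T _ _ ⟨L, rfl, hL⟩ ⟨L', rfl, hL'⟩ h
  obtain ⟨_, _, @⟨U, u, hu⟩, z, rfl⟩ := hR.1 t
  have e := hinj u hu
  rw [PicCl.pullCl_cl, PicCl.pullCl_cl] at e
  obtain ⟨i⟩ := PicCl.nonempty_iso_of_cl_eq e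
  have := deg_iso (PicF.XTproj f (AbDual.ovr T u)) i z
  rwa [deg_XTmap (AbDual.ovrHom T u) hL z, deg_XTmap (AbDual.ovrHom T u) hL' z] at this

theorem deg_eq_of_same_point {T T' : Over S} {L : (PicF.XT f T).Modules} (hL : PicF.IsInvertible L)
    {L' : (PicF.XT f T').Modules} (hL' : PicF.IsInvertible L') (t : T.left) (t' : T'.left)
    (h : (φ T (PicF.cl L)).left t = (φ T' (PicF.cl L')).left t') :
    deg (PicF.XTproj f T) L t = deg (PicF.XTproj f T') L' t' := by
  let a := φ T (PicF.cl L)
  let b := φ T' (PicF.cl L')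
  obtain ⟨z, hz1, hz2⟩ := Scheme.Pullback.exists_preimage_pullback t t'
    (f := a.left) (g := b.left) h
  let T'' : Over S := Over.mk (pullback.fst a.left b.left ≫ T.hom)
  let g : T'' ⟶ T := Over.homMk (pullback.fst a.left b.left) rfl
  let g' : T'' ⟶ T' := Over.homMk (pullback.snd a.left b.left) (by
    show pullback.snd a.left b.left ≫ T'.hom = pullback.fst a.left b.left ≫ T.hom
    rw [← Over.w a, ← Over.w b, ← Category.assoc, ← Category.assoc, pullback.condition])
  have hab : g ≫ a = g' ≫ b := Over.OverMorphism.ext pullback.condition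
  have e : φ T'' (PicF.cl ((Scheme.Modules.pullback (PicF.XTmap f g)).obj L)) =
      φ T'' (PicF.cl ((Scheme.Modules.pullback (PicF.XTmap f g')).obj L')) := by
    rw [← PicCl.pullCl_cl, ← PicCl.pullCl_cl, hP.natural T T'' g _ ⟨L, rfl, hL⟩,
      hP.natural T' T'' g' _ ⟨L', rfl, hL'⟩]
    exact hab
  have := deg_eq_of_eq hP (PicCl.isInvertible_pullback _ hL) (PicCl.isInvertible_pullback _ hL') e z
  rw [deg_XTmap g hL z, deg_XTmap g' hL' z] at this
  rwa [show g.left z = t from hz1, show g'.left z = t' from hz2] at this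

theorem exists_degree [Flat f] [LocallyOfFinitePresentation f] :
    ∃ d : ↥P.left → ℤ, IsLocallyConstant d ∧
      ∀ (T : Over S) (L : (PicF.XT f T).Modules), PicF.IsInvertible L → ∀ t : T.left,
        d ((φ T (PicF.cl L)).left.base t) = deg (PicF.XTproj f T) L t := by
  obtain ⟨R, hR, hsurj⟩ := hP.locallySurjective P (𝟙 P)
  have key : ∀ {U : Scheme.{u}} (u : U ⟶ P.left), R u → ∃ L : (PicF.XT f (AbDual.ovr P u)).Modules,
      PicF.IsInvertible L ∧ (φ (AbDual.ovr P u) (PicF.cl L)).left = u := by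
    intro U u hu
    obtain ⟨_, ⟨L, rfl, hL⟩, hc⟩ := hsurj u hu
    exact ⟨L, hL, by rw [hc, Category.comp_id]; rfl⟩
  have hpt : ∀ p : P.left, ∃ (U : Scheme.{u}) (u : U ⟶ P.left) (z : U), R u ∧ u z = p := by
    intro p
    obtain ⟨_, _, @⟨U, u, hu⟩, z, hz⟩ := hR.1 p
    exact ⟨U, u, z, hu, hz⟩
  choose U u z hu hz using hpt
  choose L hL hφ using fun p => key (u p) (hu p)
  let d : P.left → ℤ := fun p => deg (PicF.XTproj f (AbDual.ovr P (u p))) (L p) (z p)
  have prop : ∀ (T : Over S) (M : (PicF.XT f T).Modules), PicF.IsInvertible M → ∀ t : T.left,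
      d ((φ T (PicF.cl M)).left t) = deg (PicF.XTproj f T) M t := fun T M hM t => by
    refine deg_eq_of_same_point hP (hL _) hM _ t ?_
    rw [hφ]
    exact hz _
  refine ⟨d, fun A => ?_, prop⟩
  refine isOpen_iff_forall_mem_open.2 fun p hp => ?_
  have hup : Flat (u p) ∧ LocallyOfFinitePresentation (u p) := hR.2 (hu p)
  haveI : Flat (u p) := hup.1
  haveI : LocallyOfFinitePresentation (u p) := hup.2
  haveI : Flat (PicF.XTproj f (AbDual.ovr P (u p))) := inferInstanceAs (Flat (pullback.snd f _))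
  haveI : LocallyOfFinitePresentation (PicF.XTproj f (AbDual.ovr P (u p))) :=
    inferInstanceAs (LocallyOfFinitePresentation (pullback.snd f _))
  have hlc := isLocallyConstant_deg (PicF.XTproj f (AbDual.ovr P (u p))) (hL p)
  have hd : ∀ w, d (u p w) = deg (PicF.XTproj f (AbDual.ovr P (u p))) (L p) w := fun w => by
    rw [← prop (AbDual.ovr P (u p)) (L p) (hL p) w, hφ]
  refine ⟨u p '' (deg (PicF.XTproj f (AbDual.ovr P (u p))) (L p) ⁻¹' A), ?_,
    (u p).isOpenMap _ (hlc A), z p, ?_, hz p⟩
  · rintro _ ⟨w, hw, rfl⟩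
    show d (u p w) ∈ A
    rw [hd]
    exact hw
  · show deg (PicF.XTproj f (AbDual.ovr P (u p))) (L p) (z p) ∈ A
    exact hp

end PicDeg

end Groth.Agent.CBC.DegFam
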