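import Groth.Agent.CBC.LocusBC
import Groth.Agent.CBC.OConn
import Groth.Agent.CBC.NhdThms
import Groth.Agent.CBC.Deg0Thms
import Groth.Agent.CBC.DegFam
import Groth.Agent.AbSch51.Fibre
import Groth.Agent.CohTop.Vanishing

/-!
# First direct images for relative curves
-/

set_option autoImplicit false
set_option linter.style.haveILetI false

universe u

open CategoryTheory CategoryTheory.Limits AlgebraicGeometry TopologicalSpace Function TensorProduct

noncomputable section

namespace Groth.Agent.CBC.CurveR1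

variable {X S : Scheme.{u}} {f : X ⟶ S} [IsProper f]

/-- fibre cohomology vanishes above the dimension -/
theorem subsingleton_fiberH (M : X.Modules) (s : S) {d p : ℕ}
    (hd : topologicalKrullDim ↥(f.fiber s) ≤ d) (hp : d < p) :
    Subsingleton (CohIII.fiberH f M s p) := by
  haveI := DegFam.isProper_fiber f s
  letI : (f.fiber s).Over (Spec (CommRingCat.of (S.residueField s))) := ⟨f.fiberToSpecResidueField s⟩
  haveI : IsProper (f.fiber s ↘ Spec (CommRingCat.of (S.residueField s))) := DegFam.isProper_fiber f s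
  haveI := EulerChar.isNoetherian (S.residueField s) (X := f.fiber s)
  exact CohTop.Vanishing.grothendieck_vanishing (X := (f.fiber s).toPresheafedSpace.carrier) d hd
    (Coh.toAb (CohIII.fiberMod f M s)) p hp

variable {F : X.Modules} [F.IsQuasicoherent] [LocallyOfFinitePresentation f]
  [HasInjectiveResolutions X.Modules]

/-- a free direct image with flat cokernel has the rank of the kernel -/
theorem kerRank_eq_of_free (N : Nhd f F) (p : ℕ) (hR : (N.D.K F).RExact p) {y : S} (hy : y ∈ N.V)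
    {U : S.Opens} (hyU : y ∈ U) {n : ℕ}
    (e : ((Coh.Rpush f p).obj F).restrict U.ι ≅ FlatMod.freeMod U n) :
    haveI := (N.w p).fp
    kerRank (N.w p).u (N.hV.primeIdealOf ⟨y, hy⟩) = n := by
  have := (N.w p).fp
  have := (N.w p).rExact_iff.1 hR
  let M := (Coh.Rpush f p).obj F
  haveI : M.IsQuasicoherent := isQuasicoherent_Rpush f F p
  obtain ⟨g, hgU, hyg⟩ := N.hV.exists_basicOpen_le ⟨y, hyU⟩ hy
  obtain ⟨b⟩ := Props.QProj.free_sections_of_restrict_iso M e (N.hV.basicOpen g) hgU
  let x := N.hV.primeIdealOf ⟨y, hy⟩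
  let k := x.asIdeal.ResidueField
  have hgx : x ∈ PrimeSpectrum.basicOpen g := by
    rw [← N.hV.fromSpec_preimage_basicOpen]
    change N.hV.fromSpec x ∈ S.basicOpen g
    rw [N.hV.fromSpec_primeIdealOf]
    exact hyg
  have hu : IsUnit (algebraMap Γ(S, N.V) k g) := by
    rw [isUnit_iff_ne_zero, ne_eq, ← RingHom.mem_ker, Ideal.ker_algebraMap_residueField]
    exact hgx
  haveI := N.hV.isLocalization_basicOpen g
  haveI : Fact (IsAffineOpen N.V) := ⟨N.hV⟩
  letI : Algebra Γ(S, S.basicOpen g) k := (IsLocalization.Away.lift g hu).toAlgebra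
  haveI : IsScalarTower Γ(S, N.V) Γ(S, S.basicOpen g) k :=
    IsScalarTower.of_algebraMap_eq fun a => (IsLocalization.Away.lift_eq g hu a).symm
  haveI : IsScalarTower Γ(S, N.V) Γ(S, S.basicOpen g) Γ(M, S.basicOpen g) :=
    IsScalarTower.of_algebraMap_smul fun _ _ => rfl
  have hbc := IsLocalizedModule.isBaseChange (Submonoid.powers g) Γ(S, S.basicOpen g)
    (Props.QStalk.resLin M g)
  let E : k ⊗[Γ(S, N.V)] Γ(M, N.V) ≃ₗ[k] k ⊗[Γ(S, S.basicOpen g)] Γ(M, S.basicOpen g) :=
    (cb k Γ(S, S.basicOpen g) Γ(M, N.V) (A := Γ(S, N.V))).symm ≪≫ₗ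
      hbc.equiv.baseChange Γ(S, S.basicOpen g) k _ _
  have h1 : Module.finrank k (k ⊗[Γ(S, N.V)] Γ(M, N.V)) = n := by
    have : Nontrivial Γ(S, S.basicOpen g) :=
      (algebraMap Γ(S, S.basicOpen g) k).domain_nontrivial
    have := Module.Free.of_basis b
    rw [E.finrank_eq, Module.finrank_baseChange, Module.finrank_eq_card_basis b,
      Fintype.card_fin]
  rw [← h1, ((N.secKer p).baseChange Γ(S, N.V) k _ _).finrank_eq]
  exact (LinearEquiv.ofBijective _ (kerBC_bijective_of_flat (N.w p).u k)).finrank_eq.symm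

theorem exists_free_rank (N : Nhd f F) {p : ℕ} (hR : (N.D.K F).RExact p) (hL : (N.D.K F).LExact p)
    {y : S} (hy : y ∈ N.V) :
    ∃ U : S.Opens, y ∈ U ∧ Nonempty (((Coh.Rpush f p).obj F).restrict U.ι ≅
      FlatMod.freeMod U (CohIII.fiberRank f F p y)) := by
  obtain ⟨U, n, hyU, ⟨e⟩⟩ := N.exists_free_nhd hR hL y hy
  have h := kerRank_eq_of_free N p hR hy hyU e
  rw [← fiberRank_eq N.hV y hy N.D (N.w p)] at h
  exact ⟨U, hyU, h ▸ ⟨e⟩⟩

/-- `R¹ f_* O` of a smooth relative curve is locally free of the genus as rank. -/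
theorem isFinLocFreeOfRank_R1 {X S : Scheme.{u}} (f : X ⟶ S) [IsProper f] [Smooth f]
    [GeometricallyConnected f] [HasInjectiveResolutions X.Modules]
    (hdim : ∀ s : S, topologicalKrullDim ↥(f.fiber s) ≤ (1 : ℕ)) (g : ℕ)
    (hg : ∀ s : S, CohIII.fiberRank f (Coh.structureModule X) 1 s = g) :
    FlatMod.IsFinLocFreeOfRank g ((Coh.Rpush f 1).obj (Coh.structureModule X)) := fun y => by
  haveI := AbSch51.geometricallyReduced_of_smooth f
  haveI : (Coh.structureModule X).IsQuasicoherent := ProjTwist.isQuasicoherent_structureModule X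
  have hfl : FlatMod.IsFlatOver f (Coh.structureModule X) :=
    Cube.Seesaw.isFlatOver_of_invertible f (PicLoc.isInvertible_structureModule X)
  obtain ⟨N, hy, hR0, -⟩ := OConn.exists_rExact_one f (OConn.bijective_fiber f) y
  have h2 := (N.exact_of_fibres_zero (p := 2) fun z _ => subsingleton_fiberH _ z (hdim z) one_lt_two).2.1
  obtain ⟨U, hyU, he⟩ := exists_free_rank N (N.rExact_pred hfl h2) (N.lExact_succ hfl hR0) hy
  rw [hg y] at he
  exact ⟨U, hyU, he⟩

end Groth.Agent.CBC.CurveR1
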