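import Groth.Agent.CBC.TrivBundle
import Groth.Agent.CBC.Deg0Thms
import Groth.Agent.Cube.Sec

/-!
# Lifting sections of a fibre
-/

set_option autoImplicit false
set_option linter.style.haveILetI false

universe u

open CategoryTheory CategoryTheory.Limits AlgebraicGeometry TopologicalSpace Opposite Function

noncomputable section

namespace Groth.Agent.CBC.VA

open Groth.Agent.QCoh Groth.Agent.Props.GenLocus Groth.Agent.Props.GenPull

set_option backward.isDefEq.respectTransparency.types false

variable {Y : Scheme.{u}}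

/-- elements of a residue field are fractions of functions on an affine neighbourhood -/
theorem exists_frac {V : Y.Opens} (hV : IsAffineOpen V) {y : Y} (hy : y ∈ V)
    (c : Γ(Spec (Y.residueField y), ⊤)) :
    ∃ a w : Γ(Y, V),
      IsUnit ((Y.fromSpecResidueField y).appLE V ⊤ (CBC.fromSpecResidueField_le y hy) w) ∧
      (Y.fromSpecResidueField y).appLE V ⊤ (CBC.fromSpecResidueField_le y hy) w * c =
        (Y.fromSpecResidueField y).appLE V ⊤ (CBC.fromSpecResidueField_le y hy) a := by
  rw [CBC.fromSpecResidueField_appLE]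
  letI := TopCat.Presheaf.algebra_section_stalk Y.presheaf ⟨y, hy⟩
  haveI := hV.isLocalization_stalk ⟨y, hy⟩
  obtain ⟨d, rfl⟩ := (ConcreteCategory.bijective_of_isIso (Scheme.ΓSpecIso (Y.residueField y)).inv).2 c
  obtain ⟨z, rfl⟩ := Y.residue_surjective y d
  obtain ⟨⟨a, w⟩, h⟩ := IsLocalization.surj (hV.primeIdealOf ⟨y, hy⟩).asIdeal.primeCompl z
  refine ⟨a, w.1, ?_, ?_⟩
  · exact ((IsLocalization.map_units (Y.presheaf.stalk y) w).map (Y.residue y).hom).map
      (Scheme.ΓSpecIso (Y.residueField y)).inv.hom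
  · change (Scheme.ΓSpecIso (Y.residueField y)).inv (Y.residue y (Y.presheaf.germ V y hy w.1)) *
      (Scheme.ΓSpecIso (Y.residueField y)).inv (Y.residue y z) =
        (Scheme.ΓSpecIso (Y.residueField y)).inv (Y.residue y (Y.presheaf.germ V y hy a))
    rw [← map_mul, ← map_mul, mul_comm]
    exact congrArg (fun e => (Scheme.ΓSpecIso (Y.residueField y)).inv (Y.residue y e)) h

variable {X : Scheme.{u}} (q : X ⟶ Y) [IsProper q] {L : X.Modules} [L.IsQuasicoherent]

/-- finitely many sections of a fibre lift, up to a common unit, when base change is surjective -/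
theorem exists_lift_fibre {V : Y.Opens} (hV : IsAffineOpen V) {y : Y} (hy : y ∈ V)
    (hepi : Epi (CohBC.bc0 q (Y.fromSpecResidueField y) (q.fiberToSpecResidueField y) (q.fiberι y)
      (q.fiber_fac y) L))
    {ι : Type*} [Finite ι] (t : ι → Γ(CohIII.fiberMod q L y, ⊤)) :
    ∃ (b : Γ(q.fiber y, ⊤)) (s : ι → Γ(L, q ⁻¹ᵁ V)) (h : ⊤ ≤ q.fiberι y ⁻¹ᵁ (q ⁻¹ᵁ V)), IsUnit b ∧
      ∀ k, res _ h (pb (q.fiberι y) (s k)) = b • t k := by
  classical
  have := Fintype.ofFinite ι
  let g := Y.fromSpecResidueField y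
  let f' := q.fiberToSpecResidueField y
  haveI : IsProper f' := show IsProper (pullback.snd q g) from inferInstance
  have hle : ⊤ ≤ g ⁻¹ᵁ V := CBC.fromSpecResidueField_le y hy
  haveI := QCoh.isQuasicoherent_pushforward q L
  haveI := QCoh.isQuasicoherent_pullback g ((Scheme.Modules.pushforward q).obj L)
  haveI := QCoh.isQuasicoherent_pullback (q.fiberι y) L
  haveI := QCoh.isQuasicoherent_pushforward f' ((Scheme.Modules.pullback (q.fiberι y)).obj L)
  let M := (Scheme.Modules.pushforward q).obj L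
  let B := CohBC.bc0 q g f' (q.fiberι y) (q.fiber_fac y) L
  let φ := g.appLE V ⊤ hle
  have key : ∀ z : Γ((Scheme.Modules.pullback g).obj M, ⊤),
      ∃ (w : Γ(Y, V)) (m : Γ(M, V)), IsUnit (φ w) ∧ φ w • z = LimTop.unitSec g M hle m := by
    intro z
    have hz : z ∈ Submodule.span Γ(Spec (Y.residueField y), ⊤)
        (Set.range fun m : Γ(M, V) => LimTop.unitSec g M hle m) := by
      rw [RankLocus.span_unitSec g M hV (isAffineOpen_top _) hle (fun t => t)
        (by rw [Set.range_id', Submodule.span_univ])]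
      exact Submodule.mem_top
    induction hz using Submodule.span_induction with
    | mem z hz =>
      obtain ⟨m, rfl⟩ := hz
      exact ⟨1, m, by rw [map_one]; exact isUnit_one, by rw [map_one, one_smul]⟩
    | zero => exact ⟨1, 0, by rw [map_one]; exact isUnit_one, by rw [smul_zero, map_zero]⟩
    | add a c _ _ ha hc =>
      obtain ⟨w, m, hw, e⟩ := ha
      obtain ⟨w', m', hw', e'⟩ := hc
      refine ⟨w * w', w' • m + w • m', by rw [map_mul]; exact hw.mul hw', ?_⟩
      rw [map_add, LimTop.unitSec_smul, LimTop.unitSec_smul, ← e, ← e', smul_add, map_mul,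
        smul_smul, smul_smul, mul_comm (φ w)]
    | smul c a _ ha =>
      obtain ⟨w, m, hw, e⟩ := ha
      obtain ⟨r, w', hw', hr⟩ := exists_frac hV hy c
      refine ⟨w * w', r • m, by rw [map_mul]; exact hw.mul hw', ?_⟩
      rw [LimTop.unitSec_smul, ← e, map_mul, smul_smul, smul_smul]
      congr 1
      rw [mul_assoc, hr, mul_comm]
  have hsurj := QCoh.app_surjective_of_epi B (isAffineOpen_top (Spec (Y.residueField y)))
  choose z hz using fun k => hsurj (show Γ((Scheme.Modules.pushforward f').obj _, ⊤) from t k)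
  choose w m hw hm using fun k => key (z k)
  have h' : f' ⁻¹ᵁ ⊤ ≤ q.fiberι y ⁻¹ᵁ (q ⁻¹ᵁ V) :=
    (f'.preimage_mono hle).trans (CohCmp.sqLE q g f' (q.fiberι y) (q.fiber_fac y) V)
  refine ⟨f'.app ⊤ (φ (∏ k, w k)), fun k => (∏ j ∈ Finset.univ.erase k, w j) • m k, h', ?_, fun k => ?_⟩
  · rw [map_prod]
    exact (IsUnit.prod_iff.mpr fun k _ => hw k).map (f'.app ⊤).hom
  have e : φ (∏ j, w j) • z k =
      LimTop.unitSec g M hle ((∏ j ∈ Finset.univ.erase k, w j) • m k) := by
    rw [LimTop.unitSec_smul, ← hm k, smul_smul, ← map_mul,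
      Finset.prod_erase_mul _ _ (Finset.mem_univ k)]
  have h1 := congrArg (B.app ⊤) e
  rw [Scheme.Modules.Hom.app_smul, hz] at h1
  exact (h1.trans (CBC.bc0_app_unitSec L (q.fiber_fac y) hle h' _)).symm

end Groth.Agent.CBC.VA
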