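import Groth.Agent.CBC.VAImm
import Groth.Agent.CBC.VALift
import Groth.Agent.CBC.DegFam
import Groth.Agent.Cube.Seesaw
import Groth.Agent.FibreIndCons.QProj
import Groth.Agent.S2803
import Mathlib.AlgebraicGeometry.ZariskisMainTheorem

/-!
# Very ampleness from the fibres
-/

set_option autoImplicit false
set_option linter.style.haveILetI false

universe u

open CategoryTheory CategoryTheory.Limits AlgebraicGeometry TopologicalSpace Opposite

noncomputable section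

namespace Groth.Agent.CBC.VA

open Groth.Agent.QCoh Groth.Agent.Props.GenLocus Groth.Agent.Props.GenPull

set_option backward.isDefEq.respectTransparency.types false

variable {X Y : Scheme.{u}}

lemma pb_comp {X' : Scheme.{u}} (p : X' ⟶ X) (g : X ⟶ Y) {M : Y.Modules} {U : Y.Opens} (m : Γ(M, U)) :
    ((Scheme.Modules.pullbackComp p g).hom.app M).app _ (pb p (pb g m)) = pb (p ≫ g) m := by
  have h := LimTop.unitSec_comp g M (le_refl (g ⁻¹ᵁ U)) p (le_refl (p ⁻¹ᵁ (g ⁻¹ᵁ U))) m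
  simp only [LimTop.unitSec_apply, res_self] at h
  exact h.trans (res_self _ _ _)

lemma app_pb_res {F X' : Scheme.{u}} (ι' : F ⟶ X') (c : X' ⟶ X) {g : F ⟶ X} (hg : ι' ≫ c = g)
    {L : X.Modules} {O : X.Opens} (σ : Γ(L, O)) (hc : ⊤ ≤ c ⁻¹ᵁ O) (hT : ⊤ ≤ g ⁻¹ᵁ O) :
    ((Scheme.Modules.pullbackCongr hg).hom.app L).app ⊤
      (((Scheme.Modules.pullbackComp ι' c).hom.app L).app ⊤
        (pb ι' (res ((Scheme.Modules.pullback c).obj L) hc (pb c σ)))) = res _ hT (pb g σ) := by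
  subst hg
  refine (congrArg (((Scheme.Modules.pullbackComp ι' c).hom.app L).app ⊤)
    (Cube.pb_res ι' hc (pb c σ))).trans ?_
  refine (app_res ((Scheme.Modules.pullbackComp ι' c).hom.app L) (ι'.preimage_mono hc)
    (pb ι' (pb c σ))).trans ?_
  exact congrArg _ (pb_comp ι' c σ)

theorem Coord.pull {n : ℕ} {r : X ⟶ PZ.{u} n} {L : X.Modules} {s : Fin (n + 1) → Γ(L, ⊤)}
    (hr : Coord r L s) (hL : PicF.IsInvertible L) {X' : Scheme.{u}} (c : X' ⟶ X) :
    Coord (c ≫ r) ((Scheme.Modules.pullback c).obj L) fun k => pb c (s k) := by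
  refine ⟨fun k => ?_, fun k l => ?_⟩
  · refine Eq.trans ?_ (AmpleLib.locus_pb c hL (s k)).symm
    rw [← hr.pre k]
    rfl
  · have h := congrArg (pb c) (hr.coef k l)
    rw [Cube.pb_res, Cube.pb_smul, Cube.pb_res] at h
    exact h

theorem Coord.mapIso {n : ℕ} {r : X ⟶ PZ.{u} n} {L L' : X.Modules} {s : Fin (n + 1) → Γ(L, ⊤)}
    (hr : Coord r L s) (e : L ≅ L') : Coord r L' fun k => e.hom.app ⊤ (s k) := by
  refine ⟨fun k => (hr.pre k).trans (AmpleLib.locus_app_iso e (O := ⊤) (s k)).symm, fun k l => ?_⟩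
  rw [← app_res, ← app_res, hr.coef, Scheme.Modules.Hom.app_smul]

theorem Coord.smul {n : ℕ} {r : X ⟶ PZ.{u} n} {L : X.Modules} {s : Fin (n + 1) → Γ(L, ⊤)}
    (hr : Coord r L s) (hL : PicF.IsInvertible L) {b : Γ(X, ⊤)} (hb : IsUnit b) :
    Coord r L fun k => b • s k := by
  refine ⟨fun k => ?_, fun k l => ?_⟩
  · rw [AmpleLib.locus_smul hL b (s k), X.basicOpen_of_isUnit hb, top_inf_eq]
    exact hr.pre k
  · rw [res_smul, res_smul, hr.coef, smul_smul, smul_smul, mul_comm]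

theorem Coord.ext {n : ℕ} {r r' : X ⟶ PZ.{u} n} {L : X.Modules} {s : Fin (n + 1) → Γ(L, ⊤)}
    (hr : Coord r L s) (hr' : Coord r' L s) : r = r' := by
  have hpre : ∀ k, r ⁻¹ᵁ DP k = r' ⁻¹ᵁ DP k := fun k => (hr.pre k).trans (hr'.pre k).symm
  refine ProjMorph.hom_ext_charts (𝒜 := CohB1.polyGrading n (ULift.{u} ℤ)) (fun k => MvPolynomial.X k)
    X_mem MvPolynomial.adjoin_range_X (specULiftZIsTerminal.hom_ext _ _) hpre fun k l => ?_
  rw [ProjMorph.awayToSection_mk_one (X_mem k) (X_mem l), ← Scheme.Hom.app_eq_appLE]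
  have hg : IsGen L (r ⁻¹ᵁ DP k) (res L (le_top : r ⁻¹ᵁ DP k ≤ ⊤) (s k)) := by
    have h := (AmpleLib.isGen_locus (O := ⊤) (s k)).restrict (hr.pre k).le
    rwa [res_res] at h
  refine hg.injective le_rfl ?_
  rw [res_self]
  refine (hr.coef k l).symm.trans ?_
  have h := congrArg (res L (hpre k).le) (hr'.coef k l)
  rw [res_res, res_smul, res_res] at h
  exact h

/-- coordinate morphisms exist -/
theorem exists_coord (q : X ⟶ Y) {L : X.Modules} (hL : PicF.IsInvertible L) {n : ℕ}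
    (s : Fin (n + 1) → Γ(L, ⊤)) (hs : ⊤ ≤ ⨆ k, AmpleLib.locus (O := ⊤) (s k)) :
    ∃ i : X ⟶ CohB1.ProjSpaceOver n Y, i ≫ CohB1.ProjSpaceOver.toBase n Y = q ∧
      Coord (i ≫ p₁ n Y) L s ∧
      Nonempty (L ≅ (Scheme.Modules.pullback i).obj (Twist.twistOver n Y 1)) := by
  obtain ⟨i, h1, h2, h3, h4⟩ := ProjMorph.exists_toProjSpaceOver q hL s (fun x => by
    obtain ⟨k, hk⟩ := Opens.mem_iSup.mp (hs (trivial : x ∈ (⊤ : X.Opens)))
    have hbij := ((isGen_iff_isFrame _).mp (AmpleLib.isGen_locus (O := ⊤) (s k))).stalkComb_bijective x hk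
    refine top_le_iff.mp fun z _ => ?_
    obtain ⟨a, ha⟩ := hbij.2 z
    rw [← ha]
    simp only [LFFrame.stalkComb, Fintype.linearCombination_apply, Fin.sum_univ_one]
    refine Submodule.smul_mem _ _ (Submodule.subset_span ⟨k, ?_⟩)
    exact (L.presheaf.germ_res_apply _ x hk (s k)).symm)
  exact ⟨i, h1, ⟨h2, h3⟩, h4⟩

/-- the morphism to projective space is a closed immersion over a neighbourhood of `y` -/
theorem exists_immersion_nhd {X' : Scheme.{u}} {n : ℕ} (i : X' ⟶ CohB1.ProjSpaceOver n Y)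
    [LocallyOfFiniteType i] (U₁ : Y.Opens)
    [UniversallyClosed (i ∣_ (CohB1.ProjSpaceOver.toBase n Y ⁻¹ᵁ U₁))] {y : Y} (hy : y ∈ U₁)
    {F : Scheme.{u}} (ι' : F ⟶ X') (f' : F ⟶ Spec (Y.residueField y))
    (H : IsPullback ι' f' (i ≫ CohB1.ProjSpaceOver.toBase n Y) (Y.fromSpecResidueField y))
    (j : F ⟶ CohB1.ProjSpaceOver n (Spec (Y.residueField y))) [IsClosedImmersion j]
    (hj : j ≫ CohB1.ProjSpaceOver.toBase n (Spec (Y.residueField y)) = f')
    (hr : ι' ≫ i ≫ p₁ n Y = j ≫ p₁ n (Spec (Y.residueField y))) :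
    ∃ (U : Y.Opens) (W : (CohB1.ProjSpaceOver n Y).Opens), y ∈ U ∧ U ≤ U₁ ∧
      CohB1.ProjSpaceOver.toBase n Y ⁻¹ᵁ U ≤ W ∧ IsImmersion (i ∣_ W) := by
  let g := Y.fromSpecResidueField y
  let p := CohB1.ProjSpaceOver.toBase n Y
  let p' := CohB1.ProjSpaceOver.toBase n (Spec (Y.residueField y))
  let m : CohB1.ProjSpaceOver n (Spec (Y.residueField y)) ⟶ CohB1.ProjSpaceOver n Y :=
    pullback.lift (p₁ n _) (p' ≫ g) (specULiftZIsTerminal.hom_ext _ _)
  have hm₁ : m ≫ p₁ n Y = p₁ n _ := pullback.lift_fst _ _ _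
  have hm₂ : m ≫ p = p' ≫ g := pullback.lift_snd _ _ _
  have hsq : ι' ≫ i = j ≫ m := by
    refine pullback.hom_ext ?_ ?_
    · exact (Category.assoc _ _ _).trans (hr.trans ((congrArg (j ≫ ·) hm₁.symm).trans
        (Category.assoc _ _ _).symm))
    · exact (Category.assoc _ _ _).trans (H.w.trans ((congrArg (· ≫ g) hj.symm).trans
        ((Category.assoc _ _ _).trans ((congrArg (j ≫ ·) hm₂.symm).trans
          (Category.assoc _ _ _).symm))))
  have Hm : IsPullback m p' p g := by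
    refine IsPullback.of_right (h₁₂ := p₁ n Y)
      (v₁₃ := CohB1.ProjSpace.toSpec n (ULift.{u} ℤ)) (h₂₂ := specULiftZIsTerminal.from Y) ?_ hm₂
      (IsPullback.of_hasPullback _ _)
    rw [hm₁, specULiftZIsTerminal.hom_ext (g ≫ specULiftZIsTerminal.from Y) (specULiftZIsTerminal.from _)]
    exact IsPullback.of_hasPullback _ _
  have Hi : IsPullback ι' j i m := by
    refine IsPullback.of_bot ?_ hsq Hm
    rw [hj]
    exact H
  have hz : ∀ z : CohB1.ProjSpaceOver n Y, p z = y →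
      ∃ Wz : (CohB1.ProjSpaceOver n Y).Opens, z ∈ Wz ∧ IsClosedImmersion (i ∣_ Wz) := by
    intro z hzy
    subst hzy
    refine (S2803.result i z).2 ⟨?_, p ⁻¹ᵁ U₁, hy, inferInstance⟩
    let gz := (CohB1.ProjSpaceOver n Y).fromSpecResidueField z
    have hw : gz ≫ p = Spec.map (p.residueFieldMap z) ≫ g :=
      (p.SpecMap_residueFieldMap_fromSpecResidueField z).symm
    let h : Spec ((CohB1.ProjSpaceOver n Y).residueField z) ⟶
        CohB1.ProjSpaceOver n (Spec (Y.residueField (p z))) := Hm.lift gz _ hw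
    have hh : h ≫ m = gz := Hm.lift_fst _ _ _
    let a : i.fiber z ⟶ F := Hi.lift (i.fiberι z) (i.fiberToSpecResidueField z ≫ h)
      ((i.fiber_fac z).trans ((congrArg (i.fiberToSpecResidueField z ≫ ·) hh.symm).trans
        (Category.assoc _ _ _).symm))
    have Ha : IsPullback a (i.fiberToSpecResidueField z) j h := by
      refine IsPullback.of_right (h₁₂ := ι') (v₁₃ := i) (h₂₂ := m) ?_ (Hi.lift_snd _ _ _) Hi
      rw [Hi.lift_fst, hh]
      exact IsPullback.of_hasPullback i gz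
    haveI : IsClosedImmersion (i.fiberToSpecResidueField z) :=
      MorphismProperty.of_isPullback Ha ‹IsClosedImmersion j›
    by_cases he : IsEmpty (i.fiber z)
    · exact Or.inl he
    · haveI : Nonempty (i.fiber z) := not_isEmpty_iff.mp he
      haveI : Surjective (i.fiberToSpecResidueField z) :=
        ⟨fun k => ⟨Classical.arbitrary _, Subsingleton.elim (α := PrimeSpectrum _) _ _⟩⟩
      exact Or.inr (isIso_of_isClosedImmersion_of_surjective _)
  let Wf : {z : CohB1.ProjSpaceOver n Y // p z = y} → (CohB1.ProjSpaceOver n Y).Opens :=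
    fun z => (hz z.1 z.2).choose
  let W := ⨆ z, Wf z
  haveI : MorphismProperty.RespectsRight @IsImmersion @IsOpenImmersion :=
    ⟨fun i hi g hg => by
      have : IsImmersion g := hg
      have : IsOpenImmersion i := hi
      exact inferInstanceAs (IsImmersion (g ≫ i))⟩
  have himm : IsImmersion (i ∣_ W) := by
    refine IsZariskiLocalAtTarget.of_iSup_eq_top (P := @IsImmersion) (fun z => W.ι ⁻¹ᵁ Wf z) ?_ fun z => ?_
    · rw [← Scheme.Hom.preimage_iSup, Scheme.Opens.ι_preimage_self]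
    · haveI : IsClosedImmersion (i ∣_ Wf z) := (hz z.1 z.2).choose_spec.2
      have hW : W.ι ''ᵁ (W.ι ⁻¹ᵁ Wf z) = Wf z := (Scheme.Hom.image_preimage_eq_opensRange_inf _ _).trans
        ((congrArg (· ⊓ Wf z) W.opensRange_ι).trans (inf_eq_right.2 (le_iSup Wf z)))
      exact (MorphismProperty.arrow_mk_iso_iff @IsImmersion
        (morphismRestrictRestrict i W (W.ι ⁻¹ᵁ Wf z) ≪≫ morphismRestrictEq i hW)).mpr inferInstance
  haveI := ProjProper.Basic.isProper_toBase n Y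
  let bad : Set Y := p '' (W : Set _)ᶜ
  have hbad : IsClosed bad := p.isClosedMap _ W.isOpen.isClosed_compl
  refine ⟨U₁ ⊓ ⟨badᶜ, hbad.isOpen_compl⟩, W, ⟨hy, ?_⟩, inf_le_left, ?_, himm⟩
  · rintro ⟨z, hz', hzy⟩
    exact hz' (Opens.mem_iSup.mpr ⟨⟨z, hzy⟩, (hz z hzy).choose_spec.1⟩)
  · intro z hz'
    by_contra hzW
    exact hz'.2 ⟨z, hzW, rfl⟩

/-- shrinking to an open subscheme of the source over a smaller base -/
theorem pn_of_immersion_sub {X' : Scheme.{u}} (c : X' ⟶ X) [IsOpenImmersion c] {q : X ⟶ Y} {n : ℕ}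
    (i : X' ⟶ CohB1.ProjSpaceOver n Y) (hiq : i ≫ CohB1.ProjSpaceOver.toBase n Y = c ≫ q)
    {L : X.Modules}
    (φ : (Scheme.Modules.pullback c).obj L ≅ (Scheme.Modules.pullback i).obj (Twist.twistOver n Y 1))
    (U : Y.Opens) (hU : q ⁻¹ᵁ U ≤ c.opensRange)
    (W : (CohB1.ProjSpaceOver n Y).Opens) (hW : CohB1.ProjSpaceOver.toBase n Y ⁻¹ᵁ U ≤ W)
    [IsImmersion (i ∣_ W)] :
    RelAmple.IsRelVeryAmplePn (q ∣_ U) (L.restrict (q ⁻¹ᵁ U).ι) := by
  have hr : Set.range (q ⁻¹ᵁ U).ι ⊆ Set.range c := by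
    rw [Scheme.Opens.range_ι]; exact hU
  let d := IsOpenImmersion.lift c (q ⁻¹ᵁ U).ι hr
  have hd : d ≫ c = (q ⁻¹ᵁ U).ι := IsOpenImmersion.lift_fac _ _ _
  haveI : IsOpenImmersion (d ≫ c) := by rw [hd]; infer_instance
  haveI : IsOpenImmersion d := IsOpenImmersion.of_comp d c
  let i' : (q ⁻¹ᵁ U).toScheme ⟶ CohB1.ProjSpaceOver n U :=
    pullback.lift (d ≫ i ≫ p₁ n Y) (q ∣_ U) (specULiftZIsTerminal.hom_ext _ _)
  let m : CohB1.ProjSpaceOver n U ⟶ CohB1.ProjSpaceOver n Y :=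
    pullback.map _ _ _ _ (𝟙 _) U.ι (𝟙 _) (by simp) (specULiftZIsTerminal.hom_ext _ _)
  have h1 : i' ≫ p₁ n U = d ≫ i ≫ p₁ n Y := pullback.lift_fst _ _ _
  have h2 : i' ≫ CohB1.ProjSpaceOver.toBase n U = q ∣_ U := pullback.lift_snd _ _ _
  have hdq : d ≫ i ≫ CohB1.ProjSpaceOver.toBase n Y = (q ⁻¹ᵁ U).ι ≫ q := by
    rw [hiq, ← Category.assoc, hd]
  have hm : i' ≫ m = d ≫ i := by
    refine pullback.hom_ext ?_ ?_
    · exact (Category.assoc _ _ _).trans ((congrArg (i' ≫ ·)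
        ((pullback.lift_fst _ _ _).trans (Category.comp_id _))).trans
          (h1.trans (Category.assoc _ _ _).symm))
    · exact (Category.assoc _ _ _).trans ((congrArg (i' ≫ ·) (pullback.lift_snd _ _ _)).trans
        ((Category.assoc _ _ _).symm.trans ((congrArg (· ≫ U.ι) h2).trans
          ((morphismRestrict_ι q U).trans (hdq.symm.trans (Category.assoc _ _ _).symm)))))
  have hr' : Set.range d ⊆ Set.range (i ⁻¹ᵁ W).ι := by
    rw [Scheme.Opens.range_ι]
    rintro _ ⟨z, rfl⟩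
    refine hW (show CohB1.ProjSpaceOver.toBase n Y (i (d z)) ∈ U from ?_)
    rw [← Scheme.Hom.comp_apply, ← Scheme.Hom.comp_apply, hdq, Scheme.Hom.comp_apply]
    exact z.2
  haveI : IsImmersion (d ≫ i) := by
    let d' := IsOpenImmersion.lift (i ⁻¹ᵁ W).ι d hr'
    have hd' : d' ≫ (i ⁻¹ᵁ W).ι = d := IsOpenImmersion.lift_fac _ _ _
    haveI : IsOpenImmersion (d' ≫ (i ⁻¹ᵁ W).ι) := by rw [hd']; infer_instance
    haveI : IsOpenImmersion d' := IsOpenImmersion.of_comp d' (i ⁻¹ᵁ W).ι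
    rw [← hd', Category.assoc, ← morphismRestrict_ι]
    infer_instance
  haveI : IsImmersion (i' ≫ m) := by rw [hm]; infer_instance
  refine ⟨n, i', IsImmersion.of_comp i' m, h2, ⟨?_⟩⟩
  exact (Scheme.Modules.restrictFunctorIsoPullback (q ⁻¹ᵁ U).ι).app L ≪≫
    (Scheme.Modules.pullbackCongr hd.symm).app L ≪≫
    ((Scheme.Modules.pullbackComp d c).app L).symm ≪≫
    (Scheme.Modules.pullback d).mapIso (φ ≪≫ (Scheme.Modules.pullbackComp i (p₁ n Y)).app _) ≪≫
    (Scheme.Modules.pullbackComp d (i ≫ p₁ n Y)).app _ ≪≫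
    (Scheme.Modules.pullbackCongr h1.symm).app _ ≪≫
    ((Scheme.Modules.pullbackComp i' (p₁ n U)).app _).symm

/-- Very ampleness on a fibre with surjective base change spreads to a neighbourhood. -/
theorem exists_nhd_pn_of_epi (q : X ⟶ Y) [IsProper q] {L : X.Modules} (hL : PicF.IsInvertible L) (y : Y)
    (hva : RelAmple.IsRelVeryAmplePn (q.fiberToSpecResidueField y) (CohIII.fiberMod q L y))
    (hepi : Epi (CohBC.bc0 q (Y.fromSpecResidueField y) (q.fiberToSpecResidueField y) (q.fiberι y)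
      (q.fiber_fac y) L)) :
    ∃ U : Y.Opens, y ∈ U ∧ RelAmple.IsRelVeryAmplePn (q ∣_ U) (L.restrict (q ⁻¹ᵁ U).ι) := by
  haveI : L.IsQuasicoherent := ProjTwist.isQCoh_of_isInvertible hL
  obtain ⟨n, j, hj, hjq, t, ht⟩ := exists_coord_of_pn _ hva
  haveI : IsProper (q.fiberToSpecResidueField y) := DegFam.isProper_fiber q y
  haveI : IsClosedImmersion j := by
    haveI := ProjProper.Basic.isProper_toBase n (Spec (Y.residueField y))
    haveI : IsProper (j ≫ CohB1.ProjSpaceOver.toBase n (Spec (Y.residueField y))) := by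
      rw [hjq]; infer_instance
    haveI : IsProper j := IsProper.of_comp j (CohB1.ProjSpaceOver.toBase n (Spec (Y.residueField y)))
    exact (IsClosedImmersion.iff_isProper_and_mono j).2 ⟨inferInstance, inferInstance⟩
  obtain ⟨_, ⟨V, hV, rfl⟩, hyV, -⟩ :=
    Y.isBasis_affineOpens.exists_subset_of_mem_open (Set.mem_univ y) isOpen_univ
  let ι := q.fiberι y
  obtain ⟨b, s, h', hb, hs⟩ := exists_lift_fibre q hV hyV hepi t
  have hFL : PicF.IsInvertible (CohIII.fiberMod q L y) := PicCl.isInvertible_pullback ι hL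
  have hloc : ∀ k, ι ⁻¹ᵁ AmpleLib.locus (s k) = AmpleLib.locus (O := ⊤) (t k) := by
    intro k
    rw [← AmpleLib.locus_pb ι hL (s k)]
    have h := congrArg (AmpleLib.locus (M := CohIII.fiberMod q L y)) (hs k)
    rw [AmpleLib.locus_res, AmpleLib.locus_smul hFL, Scheme.basicOpen_of_isUnit _ hb, top_inf_eq,
      inf_top_eq] at h
    exact h
  let Ω := ⨆ k, AmpleLib.locus (s k)
  let bad : Set Y := q '' (Ω : Set X)ᶜ
  have hbad : IsClosed bad := q.isClosedMap _ Ω.isOpen.isClosed_compl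
  let U₁ : Y.Opens := V ⊓ ⟨badᶜ, hbad.isOpen_compl⟩
  have hy : y ∈ U₁ := by
    refine ⟨hyV, ?_⟩
    rintro ⟨x, hx, hxy⟩
    obtain ⟨w, rfl⟩ : x ∈ Set.range ι := by rw [q.range_fiberι y]; exact hxy
    obtain ⟨k, hk⟩ := Opens.mem_iSup.mp
      ((iSup_DP n).ge (trivial : (j ≫ p₁ n (Spec (Y.residueField y))) w ∈ ⊤))
    have hk' : w ∈ ι ⁻¹ᵁ AmpleLib.locus (s k) := by rw [hloc, ← ht.pre k]; exact hk
    exact hx (Opens.mem_iSup.mpr ⟨k, hk'⟩)
  let c := (q ⁻¹ᵁ U₁).ι
  have hc : ⊤ ≤ c ⁻¹ᵁ (q ⁻¹ᵁ V) := fun x _ => x.2.1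
  let M := (Scheme.Modules.pullback c).obj L
  have hM : PicF.IsInvertible M := PicCl.isInvertible_pullback c hL
  let s' : Fin (n + 1) → Γ(M, ⊤) := fun k => res M hc (pb c (s k))
  obtain ⟨i, hi, hr, ⟨φ⟩⟩ := exists_coord (c ≫ q) hM s' fun x _ => by
    obtain ⟨k, hk⟩ : ∃ k, c x ∈ AmpleLib.locus (s k) := Opens.mem_iSup.mp (by
      by_contra hn
      exact x.2.2 ⟨c x, hn, rfl⟩)
    refine Opens.mem_iSup.mpr ⟨k, ?_⟩
    rw [AmpleLib.locus_res, AmpleLib.locus_pb c hL]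
    exact ⟨hk, trivial⟩
  haveI := ProjProper.Basic.isProper_toBase n Y
  haveI : LocallyOfFiniteType i := by
    haveI : LocallyOfFiniteType (i ≫ CohB1.ProjSpaceOver.toBase n Y) := by rw [hi]; infer_instance
    exact locallyOfFiniteType_of_comp i (CohB1.ProjSpaceOver.toBase n Y)
  haveI : UniversallyClosed (i ∣_ (CohB1.ProjSpaceOver.toBase n Y ⁻¹ᵁ U₁)) := by
    have e : (i ∣_ (CohB1.ProjSpaceOver.toBase n Y ⁻¹ᵁ U₁)) ≫ (CohB1.ProjSpaceOver.toBase n Y ∣_ U₁) =
        (i ≫ CohB1.ProjSpaceOver.toBase n Y) ∣_ U₁ := (morphismRestrict_comp _ _ _).symm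
    have hp : IsProper ((i ≫ CohB1.ProjSpaceOver.toBase n Y) ∣_ U₁) := by
      have key : ∀ f : (q ⁻¹ᵁ U₁).toScheme ⟶ Y, f = c ≫ q → IsProper (f ∣_ U₁) := by
        rintro f rfl
        rw [morphismRestrict_comp]
        haveI : IsIso (c ∣_ (q ⁻¹ᵁ U₁)) := by
          haveI : IsOpenImmersion (c ∣_ (q ⁻¹ᵁ U₁)) := inferInstance
          haveI : Surjective (c ∣_ (q ⁻¹ᵁ U₁)) := ⟨fun z => ⟨⟨⟨z.1, z.2⟩, z.2⟩, by
            refine Subtype.ext ?_
            rw [morphismRestrict_base]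
            rfl⟩⟩
          exact (isIso_iff_isOpenImmersion_and_surjective _).2 ⟨inferInstance, inferInstance⟩
        exact MorphismProperty.comp_mem @IsProper (c ∣_ (q ⁻¹ᵁ U₁)) (q ∣_ U₁) inferInstance
          (IsZariskiLocalAtTarget.restrict ‹IsProper q› U₁)
      exact key _ hi
    haveI : IsProper ((i ∣_ (CohB1.ProjSpaceOver.toBase n Y ⁻¹ᵁ U₁)) ≫
        (CohB1.ProjSpaceOver.toBase n Y ∣_ U₁)) := e.symm ▸ hp
    haveI : IsProper (CohB1.ProjSpaceOver.toBase n Y ∣_ U₁) := IsZariskiLocalAtTarget.restrict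
      (ProjProper.Basic.isProper_toBase n Y) U₁
    have := IsProper.of_comp (i ∣_ (CohB1.ProjSpaceOver.toBase n Y ⁻¹ᵁ U₁))
      (CohB1.ProjSpaceOver.toBase n Y ∣_ U₁)
    infer_instance
  have hιr : Set.range ι ⊆ Set.range c := by
    rw [Scheme.Opens.range_ι, q.range_fiberι y]
    intro x hx
    show q x ∈ U₁
    rw [show q x = y from hx]
    exact hy
  let ι' := IsOpenImmersion.lift c ι hιr
  have hι' : ι' ≫ c = ι := IsOpenImmersion.lift_fac _ _ _
  have H : IsPullback ι' (q.fiberToSpecResidueField y) (i ≫ CohB1.ProjSpaceOver.toBase n Y)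
      (Y.fromSpecResidueField y) := by
    rw [hi]
    have h1 : IsPullback ι' (𝟙 (q.fiber y)) c ι := IsPullback.of_vert_isIso_mono ⟨by simp [hι']⟩
    have h2 := h1.paste_vert (IsPullback.of_hasPullback q (Y.fromSpecResidueField y) :
      IsPullback ι (q.fiberToSpecResidueField y) q (Y.fromSpecResidueField y))
    rwa [Category.id_comp] at h2
  let e : (Scheme.Modules.pullback ι').obj M ≅ CohIII.fiberMod q L y :=
    (Scheme.Modules.pullbackComp ι' c).app L ≪≫ (Scheme.Modules.pullbackCongr hι').app L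
  have he : ∀ k, e.hom.app ⊤ (pb ι' (s' k)) = b • t k := by
    intro k
    rw [← hs k]
    exact app_pb_res ι' c hι' (s k) hc h'
  have h3 : Coord (ι' ≫ i ≫ p₁ n Y) (CohIII.fiberMod q L y) fun k => b • t k := by
    have h := (hr.pull hM ι').mapIso e
    convert h using 1
    exact funext fun k => (he k).symm
  have hr' : ι' ≫ i ≫ p₁ n Y = j ≫ p₁ n (Spec (Y.residueField y)) := h3.ext (ht.smul hFL hb)
  obtain ⟨U, W, hyU, hU, hUW, himm⟩ := exists_immersion_nhd i U₁ hy ι' _ H j hjq hr'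
  haveI := himm
  exact ⟨U, hyU, pn_of_immersion_sub c i hi φ U
    ((q.preimage_mono hU).trans (Scheme.Opens.opensRange_ι _).ge) W hUW⟩

/-- Very ampleness on a fibre with vanishing `H¹` spreads to a neighbourhood. -/
theorem exists_nhd_pn (q : X ⟶ Y) [IsProper q] [Flat q] [LocallyOfFinitePresentation q]
    {L : X.Modules} (hL : PicF.IsInvertible L) (y : Y)
    (hva : RelAmple.IsRelVeryAmplePn (q.fiberToSpecResidueField y) (CohIII.fiberMod q L y))
    (h1 : Subsingleton (CohIII.fiberH q L y 1)) :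
    ∃ U : Y.Opens, y ∈ U ∧ RelAmple.IsRelVeryAmplePn (q ∣_ U) (L.restrict (q ⁻¹ᵁ U).ι) := by
  haveI : L.IsQuasicoherent := ProjTwist.isQCoh_of_isInvertible hL
  have hF : CohB1.IsFP L := (FibreIndCons.isFP_of_isInvertible hL).2
  have hfl := Cube.Seesaw.isFlatOver_of_invertible q hL
  obtain ⟨N, hyN, -, hR⟩ := exists_rExact_zero_of_fibres hF hfl
    ⟨_, isOpen_setOf_subsingleton_fiberH hF hfl 1⟩ (fun _ hz => hz) (show y ∈ _ from h1)
  have H : IsPullback (q.fiberι y) (q.fiberToSpecResidueField y) q (Y.fromSpecResidueField y) :=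
    IsPullback.of_hasPullback _ _
  haveI := isIso_bc0_of_rExact (F := L) (f := q) H fun z =>
      ⟨N, (Scheme.fromSpecResidueField_apply y z).symm ▸ hyN, hR⟩
  exact exists_nhd_pn_of_epi q hL y hva inferInstance

end Groth.Agent.CBC.VA
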