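import Groth.Agent.CBC.ProjPic
import Groth.Agent.FFCurve.CanonicalEmbed
import Groth.Agent.S1522
import Groth.Agent.S1611
import Groth.Agent.S9386
import Groth.Agent.S5005
import Groth.Agent.S9370
import Groth.Agent.S2768
import Groth.Agent.S10135
import Groth.Agent.RelDiv.CurveSmooth
import Groth.Agent.CurvLoci.SmoothDim1
import Groth.Agent.CanonTriv.Basic
import Groth.Agent.ShStabLib.BaseChangeField
import Groth.Agent.CBC.VAFib
import Groth.Agent.CBC.CurveR1
import Groth.Agent.CBC.LocusBC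
import Groth.Agent.CBC.Deg0Thms

/-!
# Very ample modules on a smooth geometrically connected curve over a field, and fibres of families
-/

set_option autoImplicit false
set_option linter.style.haveILetI false

universe u

open CategoryTheory CategoryTheory.Limits AlgebraicGeometry

noncomputable section

namespace Groth.Agent.CBC.CurveVA

open Groth.Agent.CBC.ProjPic

section Field

variable (k : Type u) [Field k] {X : Scheme.{u}} [X.Over (Spec (CommRingCat.of k))]
  [IsProper (X ↘ Spec (CommRingCat.of k))] [Smooth (X ↘ Spec (CommRingCat.of k))]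
  [GeometricallyConnected (X ↘ Spec (CommRingCat.of k))] (hdim : topologicalKrullDim X = 1)

/-- a closed immersion into projective space over a field, in the relative form -/
theorem pn_of_projSpace {L : X.Modules} {n : ℕ} (i : X ⟶ CohB1.ProjSpace n k) [IsClosedImmersion i]
    (hi : i ≫ CohB1.ProjSpace.toSpec n k = X ↘ Spec (CommRingCat.of k))
    (e : (Scheme.Modules.pullback i).obj (Twist.twistProjSpace n k 1) ≅ L) :
    RelAmple.IsRelVeryAmplePn (X ↘ Spec (CommRingCat.of k)) L := by
  let K : CommRingCat.{u} := CommRingCat.of k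
  haveI : IsIso (chartAt n (𝟙 (Spec K))) := (isPullback_chartAt n (𝟙 (Spec K))).isIso_fst_of_isIso
  refine ⟨n, i ≫ chartAt n (𝟙 (Spec K)), inferInstance, ?_, ⟨?_⟩⟩
  · rw [Category.assoc]
    exact (congrArg (i ≫ ·) ((isPullback_chartAt n (𝟙 (Spec K))).w.trans (Category.comp_id _))).trans hi
  · exact e.symm ≪≫ (Scheme.Modules.pullback i).mapIso (pullback_twistOver n (𝟙 (Spec K)) 1).some.symm ≪≫
      (Scheme.Modules.pullbackComp i (chartAt n (𝟙 (Spec K)))).app _

include hdim

theorem isRelVeryAmplePn_of_deg {L : X.Modules} (hL : PicF.IsInvertible L)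
    (hdeg : 2 * (Curv2.genus k X : ℤ) + 1 ≤ Curv2.deg k X L 1) :
    RelAmple.IsRelVeryAmplePn (X ↘ Spec (CommRingCat.of k)) L := by
  haveI := FFCurve.geometricallyIntegral (X := X) k
  obtain ⟨n, i, hci, hi, ⟨e⟩⟩ := S1611.result k X hdim (FFCurve.OmegaBC.finrank_structure k hdim) L hL hdeg
  exact pn_of_projSpace k i hi e

theorem h1_vanish {L : X.Modules} (hL : PicF.IsInvertible L)
    (hdeg : 2 * (Curv2.genus k X : ℤ) - 1 ≤ Curv2.deg k X L 1) :
    Subsingleton (Coh.HH X L 1) := by
  let Kbar := AlgebraicClosure k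
  letI : (Curv2.bc k X Kbar).Over (Spec (CommRingCat.of Kbar)) := ⟨Curv2.bcSnd k X Kbar⟩
  obtain ⟨h1, h2, h3, hdK⟩ := FFCurve.OmegaBC.bc_props (X := X) k hdim
  have hc := VBLib.isCoh_of_ofRank (ProjTwist.isFinLocFreeOfRank_one hL)
  have hO := VBLib.isCoh_of_ofRank (ProjTwist.isFinLocFreeOfRank_one (PicLoc.isInvertible_structureModule X))
  let L' := (Scheme.Modules.pullback (Curv2.bcFst k X Kbar)).obj L
  have hdeg' : Curv2.deg Kbar (Curv2.bc k X Kbar) L' 1 = Curv2.deg k X L 1 := by
    rw [Curv2.deg, Curv2.deg, S7673.euler_pullback k X Kbar _ hc,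
      ← EulerChar.euler_iso Kbar (QCoh.pullbackUnitIso (Curv2.bcFst k X Kbar)),
      S7673.euler_pullback k X Kbar _ hO]
  have hL' : PicF.IsInvertible L' := PicLoc.isInvertible_pullback _ hL
  haveI := S1522.result Kbar (Curv2.bc k X Kbar) hdK L' hL'
    (by rw [hdeg', FFCurve.OmegaBC.genus_bc k]; exact hdeg)
  have h0 := FFCurve.OmegaBC.finrank_HH_bc k hc 1
  rw [Module.finrank_zero_of_subsingleton] at h0
  haveI := CurveCoh.isIntegral_of_smooth k X
  haveI := FFCurve.regCurve_of_smooth (X := X) k hdim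
  haveI : Module.Finite k (Coh.HH X L 1) := CurveCoh.finite_HH_one (k := k) L (FFCurve.hv k hdim) hdim ⟨ProjTwist.isQCoh_of_isInvertible hL, hc.2⟩
  exact (Module.finrank_zero_iff (R := k)).1 h0.symm

theorem deg_omega_pow (n : ℕ) :
    Curv2.deg k X (CohB1.tensorPow (Omega.sheaf (X ↘ Spec (CommRingCat.of k))) n) 1 =
      n * (2 * (Curv2.genus k X : ℤ) - 2) := by
  haveI := CurveCoh.isIntegral_of_smooth k X
  rw [EulerChar.deg_tensorPow k hdim (FFCurve.OmegaBC.isInvertible_omega k hdim),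
    (FFCurve.OmegaBC.finrank_and_deg k hdim).2]

theorem finrank_HH_zero {L : X.Modules} (hL : PicF.IsInvertible L)
    (hdeg : 2 * (Curv2.genus k X : ℤ) - 1 ≤ Curv2.deg k X L 1) :
    (Module.finrank k (Coh.HH X L 0) : ℤ) = Curv2.deg k X L 1 + 1 - Curv2.genus k X := by
  haveI := CurveCoh.isIntegral_of_smooth k X
  haveI := h1_vanish k hdim hL hdeg
  have hO := FFCurve.OmegaBC.finrank_structure (X := X) k hdim
  have hv : ∀ (M : X.Modules) p, 2 ≤ p → Subsingleton (Coh.HH X M p) :=
    fun M p hp => EulerChar.subsingleton_HH_two_le k hdim M hp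
  rw [Curv2.deg, EulerChar.euler_eq_sum k (t := 2) (hv L), EulerChar.euler_eq_sum k (t := 2) (hv _),
    Curv2.genus]
  have h1 : Module.finrank k (Coh.HH X L 1) = 0 := Module.finrank_zero_of_subsingleton
  simp [Finset.sum_range_succ, hO, h1]
  ring

end Field

section Family

variable {X S : Scheme.{u}} (f : X ⟶ S) [IsProper f] [Smooth f] [GeometricallyConnected f]

/-- pullback of differentials to a fibre -/
theorem omega_fibre (s : S) :
    Nonempty ((Scheme.Modules.pullback (f.fiberι s)).obj (Omega.sheaf f) ≅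
      Omega.sheaf (f.fiberToSpecResidueField s)) := by
  haveI : IsProper (f.fiberToSpecResidueField s) := MorphismProperty.pullback_snd _ _ ‹_›
  have hd := S5005.result f
  have hd' := S5005.result (f.fiberToSpecResidueField s)
  have hsq : IsPullback (f.fiberι s) (f.fiberToSpecResidueField s) f (S.fromSpecResidueField s) :=
    IsPullback.of_hasPullback _ _
  obtain ⟨c, hc, -⟩ := S9370.result f (f.fiberToSpecResidueField s) (f.fiberι s) (S.fromSpecResidueField s)
    hsq.w.symm _ (OmegaSh.dOmega f) hd _ (OmegaSh.dOmega (f.fiberToSpecResidueField s)) hd'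
  haveI := S9386.result f (S.fromSpecResidueField s) (f.fiberι s) (f.fiberToSpecResidueField s) hsq _ _ hd _ _ hd' c hc
  exact ⟨asIso c⟩

theorem smoothOne (hdim : ∀ s : S, topologicalKrullDim ↥(f.fiber s) = 1) :
    SmoothOfRelativeDimension 1 f := by
  refine CurvLoci.smoothOfRelativeDimension_of_fibreDim f 1 fun x => ?_
  let s := f.base x
  letI : (f.fiber s).Over (Spec (CommRingCat.of (S.residueField s))) := ⟨f.fiberToSpecResidueField s⟩
  haveI : IsProper ((f.fiber s) ↘ Spec (CommRingCat.of (S.residueField s))) :=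
    (inferInstance : IsProper (pullback.snd f (S.fromSpecResidueField s)))
  haveI : Smooth ((f.fiber s) ↘ Spec (CommRingCat.of (S.residueField s))) :=
    (inferInstance : Smooth (pullback.snd f (S.fromSpecResidueField s)))
  haveI : GeometricallyConnected ((f.fiber s) ↘ Spec (CommRingCat.of (S.residueField s))) :=
    (inferInstance : GeometricallyConnected (pullback.snd f (S.fromSpecResidueField s)))
  haveI := CurveCoh.isIntegral_of_smooth (S.residueField s) (f.fiber s)
  haveI := RelDiv.CurveSmooth.smoothOfRelativeDimension_one (k := S.residueField s) (X := f.fiber s) (hdim s)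
  have h1 := S2768.result 1 ((f.fiber s) ↘ Spec (CommRingCat.of (S.residueField s))) (f.asFiber x)
  haveI : Subsingleton ↥(Spec (CommRingCat.of (S.residueField s))) :=
    inferInstanceAs (Subsingleton (PrimeSpectrum (S.residueField s)))
  rw [S10135.fibreDimAt_of_subsingleton] at h1
  exact h1

theorem isInvertible_omega (hdim : ∀ s : S, topologicalKrullDim ↥(f.fiber s) = 1) :
    PicF.IsInvertible (Omega.sheaf f) := by
  haveI := smoothOne f hdim
  intro x
  obtain ⟨U, hx, ⟨φ⟩⟩ := CanonTriv.isFinLocFreeOfRank_omega f 1 x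
  exact ⟨U, hx, ⟨φ ≪≫ coproductUniqueIso fun _ : Fin 1 => Coh.structureModule (U : Scheme.{u})⟩⟩

theorem pn_of_iso {A B : Scheme.{u}} {h : A ⟶ B} {M N : A.Modules} (e : M ≅ N)
    (H : RelAmple.IsRelVeryAmplePn h M) : RelAmple.IsRelVeryAmplePn h N := by
  obtain ⟨n, i, hi, hc, ⟨φ⟩⟩ := H
  exact ⟨n, i, hi, hc, ⟨e.symm ≪≫ φ⟩⟩

theorem fibre_props (s : S) :
    letI : (f.fiber s).Over (Spec (S.residueField s)) := ⟨f.fiberToSpecResidueField s⟩
    IsProper ((f.fiber s) ↘ Spec (S.residueField s)) ∧ Smooth ((f.fiber s) ↘ Spec (S.residueField s)) ∧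
      GeometricallyConnected ((f.fiber s) ↘ Spec (S.residueField s)) :=
  ⟨(inferInstance : IsProper (pullback.snd f (S.fromSpecResidueField s))),
    (inferInstance : Smooth (pullback.snd f (S.fromSpecResidueField s))),
    (inferInstance : GeometricallyConnected (pullback.snd f (S.fromSpecResidueField s)))⟩

variable (hdim : ∀ s : S, topologicalKrullDim ↥(f.fiber s) = 1) (g : ℕ)
  (hgen : ∀ s : S, letI : (f.fiber s).Over (Spec (S.residueField s)) := ⟨f.fiberToSpecResidueField s⟩
      Curv2.genus (S.residueField s) (f.fiber s) = g)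

include hdim hgen

theorem fibre_veryAmple_of_deg {L : X.Modules} (hL : PicF.IsInvertible L) (s : S)
    (hdeg : letI : (f.fiber s).Over (Spec (S.residueField s)) := ⟨f.fiberToSpecResidueField s⟩
      2 * (g : ℤ) + 1 ≤ Curv2.deg (S.residueField s) (f.fiber s) (CohIII.fiberMod f L s) 1) :
    RelAmple.IsRelVeryAmplePn (f.fiberToSpecResidueField s) (CohIII.fiberMod f L s) ∧
      Subsingleton (CohIII.fiberH f L s 1) := by
  letI : (f.fiber s).Over (Spec (CommRingCat.of (S.residueField s))) := ⟨f.fiberToSpecResidueField s⟩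
  obtain ⟨h1, h2, h3⟩ := fibre_props f s
  haveI : IsProper ((f.fiber s) ↘ Spec (CommRingCat.of (S.residueField s))) := h1
  haveI : Smooth ((f.fiber s) ↘ Spec (CommRingCat.of (S.residueField s))) := h2
  haveI : GeometricallyConnected ((f.fiber s) ↘ Spec (CommRingCat.of (S.residueField s))) := h3
  have hg := hgen s
  have hL' : PicF.IsInvertible (CohIII.fiberMod f L s) := PicLoc.isInvertible_pullback _ hL
  exact ⟨isRelVeryAmplePn_of_deg (S.residueField s) (hdim s) hL' (by rw [hg]; exact hdeg),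
    h1_vanish (S.residueField s) (hdim s) hL' (by rw [hg]; omega)⟩

theorem deg_fibre_omega_pow (n : ℕ) (s : S) :
    letI : (f.fiber s).Over (Spec (S.residueField s)) := ⟨f.fiberToSpecResidueField s⟩
    Curv2.deg (S.residueField s) (f.fiber s) (CohIII.fiberMod f (CohB1.tensorPow (Omega.sheaf f) n) s) 1
      = n * (2 * (g : ℤ) - 2) := by
  letI : (f.fiber s).Over (Spec (CommRingCat.of (S.residueField s))) := ⟨f.fiberToSpecResidueField s⟩
  obtain ⟨h1, h2, h3⟩ := fibre_props f s
  haveI : IsProper ((f.fiber s) ↘ Spec (CommRingCat.of (S.residueField s))) := h1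
  haveI : Smooth ((f.fiber s) ↘ Spec (CommRingCat.of (S.residueField s))) := h2
  haveI : GeometricallyConnected ((f.fiber s) ↘ Spec (CommRingCat.of (S.residueField s))) := h3
  obtain ⟨e₁⟩ := ShStabLib.pullback_tensorPow (f.fiberι s) (Omega.sheaf f) n
  obtain ⟨e₂⟩ := omega_fibre f s
  let e₃ := AmpleLib.tensorPowIso e₂ n
  rw [← hgen s, ← deg_omega_pow (S.residueField s) (hdim s) n]
  exact EulerChar.deg_iso (S.residueField s) (e₁ ≪≫ e₃)

theorem exists_nhd_omega_pn (hg : 2 ≤ g) {n : ℕ} (hn : 3 ≤ n) (s : S) :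
    ∃ U : S.Opens, s ∈ U ∧
      RelAmple.IsRelVeryAmplePn (f ∣_ U) ((CohB1.tensorPow (Omega.sheaf f) n).restrict (f ⁻¹ᵁ U).ι) := by
  have hL : PicF.IsInvertible (CohB1.tensorPow (Omega.sheaf f) n) :=
    AmpleLib.isInvertible_tensorPow (isInvertible_omega f hdim) n
  obtain ⟨h1, h2⟩ := fibre_veryAmple_of_deg f hdim g hgen hL s (by
    rw [deg_fibre_omega_pow f hdim g hgen n s]
    have : (3 : ℤ) * (2 * g - 2) ≤ n * (2 * (g : ℤ) - 2) :=
      mul_le_mul_of_nonneg_right (by exact_mod_cast hn) (by omega)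
    omega)
  exact VA.exists_nhd_pn f hL s h1 h2

omit hdim hgen in
theorem flat_fp {L : X.Modules} (hL : PicF.IsInvertible L) :
    CohB1.IsFP L ∧ FlatMod.IsFlatOver f L :=
  ⟨(FibreIndCons.isFP_of_isInvertible hL).2, Cube.Seesaw.isFlatOver_of_invertible f hL⟩

theorem fibre_H1_of_deg {L : X.Modules} (hL : PicF.IsInvertible L) {d : ℤ} (hd : 2 * (g : ℤ) - 1 ≤ d) (s : S)
    (hdeg : letI : (f.fiber s).Over (Spec (S.residueField s)) := ⟨f.fiberToSpecResidueField s⟩
      Curv2.deg (S.residueField s) (f.fiber s) (CohIII.fiberMod f L s) 1 = d) :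
    Subsingleton (CohIII.fiberH f L s 1) ∧ (CohIII.fiberRank f L 0 s : ℤ) = d + 1 - g := by
  letI : (f.fiber s).Over (Spec (CommRingCat.of (S.residueField s))) := ⟨f.fiberToSpecResidueField s⟩
  obtain ⟨h1, h2, h3⟩ := fibre_props f s
  haveI : IsProper ((f.fiber s) ↘ Spec (CommRingCat.of (S.residueField s))) := h1
  haveI : Smooth ((f.fiber s) ↘ Spec (CommRingCat.of (S.residueField s))) := h2
  haveI : GeometricallyConnected ((f.fiber s) ↘ Spec (CommRingCat.of (S.residueField s))) := h3
  have hL' : PicF.IsInvertible (CohIII.fiberMod f L s) := PicLoc.isInvertible_pullback _ hL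
  rw [← hdeg, ← hgen s] at hd ⊢
  exact ⟨h1_vanish (S.residueField s) (hdim s) hL' hd, finrank_HH_zero (S.residueField s) (hdim s) hL' hd⟩

variable {L : X.Modules} (hL : PicF.IsInvertible L) {d : ℤ} (hd : 2 * (g : ℤ) - 1 ≤ d)
  (hdeg : ∀ s : S, letI : (f.fiber s).Over (Spec (S.residueField s)) := ⟨f.fiberToSpecResidueField s⟩
      Curv2.deg (S.residueField s) (f.fiber s) (CohIII.fiberMod f L s) 1 = d)

include hL hd hdeg

/-- direct image of a line bundle of large fibre degree -/
theorem push_finLocFree {r : ℕ} (hr : (r : ℤ) = d + 1 - g) :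
    FlatMod.IsFinLocFreeOfRank r ((Coh.push f).obj L) := fun y => by
  haveI : L.IsQuasicoherent := ProjTwist.isQCoh_of_isInvertible hL
  obtain ⟨hF, hfl⟩ := flat_fp f hL
  have H := fun s => fibre_H1_of_deg f hdim g hgen hL hd s (hdeg s)
  obtain ⟨N, hy, -, hR⟩ := exists_rExact_zero_of_fibres hF hfl (⊤ : S.Opens) (fun z _ => (H z).1)
    (show y ∈ (⊤ : S.Opens) from trivial)
  obtain ⟨U, n, hyU, ⟨e⟩⟩ := N.exists_free_nhd₀ hfl hR y hy
  have h := N.kerRank_eq_of_free hR hy hyU e
  rw [← fiberRank_eq N.hV y hy N.D (N.w 0)] at h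
  have hn : n = r := by
    have h2 := (H y).2
    rw [h] at h2
    omega
  exact ⟨U, hyU, hn ▸ ⟨e⟩⟩

theorem Rpush_isZero [HasInjectiveResolutions X.Modules] {i : ℕ} (hi : 1 ≤ i) :
    IsZero ((Coh.Rpush f i).obj L) := by
  haveI : L.IsQuasicoherent := ProjTwist.isQCoh_of_isInvertible hL
  obtain ⟨hF, hfl⟩ := flat_fp f hL
  refine isZero_Rpush hF hfl fun y => ?_
  rcases hi.lt_or_eq with h | rfl
  · exact CurveR1.subsingleton_fiberH (f := f) L y (d := 1) (le_of_eq (hdim y)) h
  · exact (fibre_H1_of_deg f hdim g hgen hL hd y (hdeg y)).1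

theorem isIso_bc0 {X' S' : Scheme.{u}} {g' : X' ⟶ X} {f' : X' ⟶ S'} {b : S' ⟶ S}
    (H : IsPullback g' f' f b) : IsIso (CohBC.bc0 f b f' g' H.w L) := by
  haveI : L.IsQuasicoherent := ProjTwist.isQCoh_of_isInvertible hL
  obtain ⟨hF, hfl⟩ := flat_fp f hL
  refine isIso_bc0_of_rExact H fun z => ?_
  obtain ⟨N, hz, -, hR⟩ := exists_rExact_zero_of_fibres hF hfl (⊤ : S.Opens)
    (fun z _ => (fibre_H1_of_deg f hdim g hgen hL hd z (hdeg z)).1) (show b z ∈ (⊤ : S.Opens) from trivial)
  exact ⟨N, hz, hR⟩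

end Family

end Groth.Agent.CBC.CurveVA
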