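import Groth.Agent.CBC.BcSec

/-!
# Base change of direct images (degree zero)
-/

universe u

open CategoryTheory CategoryTheory.Limits Opposite TopologicalSpace AlgebraicGeometry Function
  TensorProduct

namespace Groth.Agent.CBC

open CohAff (inter inter_le)

variable {X S X' S' : Scheme.{u}} {f : X ⟶ S} {g : S' ⟶ S} {f' : X' ⟶ S'} {g' : X' ⟶ X}
  (F : X.Modules)

/-- classes in degree zero as sections of the direct image -/
noncomputable def zeroSec {V : S.Opens} (D : Model f V) :
    (D.K F).H₀ 0 ≃ₗ[Γ(S, V)] Γ((Coh.push f).obj F, V) :=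
  (Submodule.quotEquivOfEqBot _ (by
    ext z
    rw [Submodule.mem_comap, Submodule.mem_bot]
    exact ⟨fun h => Subtype.ext h, fun h => by rw [h]; exact zero_mem _⟩)) ≪≫ₗ
    (secEquiv (f.app V).hom D.hU F D.cov).symm ≪≫ₗ
    { toFun := fun s => s
      invFun := fun s => s
      map_add' := fun _ _ => rfl
      map_smul' := fun r s => congrArg (fun t : Γ(X, f ⁻¹ᵁ V) => t • (show Γ(F, f ⁻¹ᵁ V) from s))
        (QCoh.rres_self (le_refl (f ⁻¹ᵁ V)) (f.app V r))
      left_inv := fun _ => rfl
      right_inv := fun _ => rfl }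

lemma res_zeroSec {V : S.Opens} (D : Model f V) (z : (D.K F).Z₀ 0) (x : Fin 1 → D.ι) :
    QCoh.res F (inter_le' D.U x D.hU)
      (show Γ(F, f ⁻¹ᵁ V) from zeroSec F D (Submodule.Quotient.mk z)) = z.1 x :=
  congrFun (congrArg Subtype.val
    ((secEquiv (f.app V).hom D.hU F D.cov).apply_symm_apply z)) x

/-- the base change map on sections -/
lemma bc0_app_unitSec (w : g' ≫ f = f' ≫ g) {V : S.Opens} {UT : S'.Opens} (h : UT ≤ g ⁻¹ᵁ V)
    (h' : f' ⁻¹ᵁ UT ≤ g' ⁻¹ᵁ (f ⁻¹ᵁ V)) (t : Γ(F, f ⁻¹ᵁ V)) :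
    (CohBC.bc0 f g f' g' w F).app UT (LimTop.unitSec g ((Scheme.Modules.pushforward f).obj F) h
        (show Γ((Scheme.Modules.pushforward f).obj F, V) from t)) =
      (show Γ((Scheme.Modules.pushforward f').obj ((Scheme.Modules.pullback g').obj F), UT) from
        LimTop.unitSec g' F h' t) := by
  rw [LimTop.unitSec_apply, QCoh.app_res]
  have e := ((Scheme.Modules.pullbackPushforwardAdjunction g).homEquiv _ _).apply_symm_apply
    (CohBC.bc0Adj f g f' g' w F)
  rw [Adjunction.homEquiv_unit] at e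
  refine (congrArg _ (congr($(congrArg (fun φ => Scheme.Modules.Hom.app φ V) e) t))).trans ?_
  exact QCoh.res_res ((Scheme.Modules.pullback g').obj F) _ _ _

variable [F.IsQuasicoherent]

/-- in degree zero the base change map is the comparison of the complex -/
theorem bc0_app_iff (H : IsPullback g' f' f g) [IsSeparated f] [QuasiCompact f]
    {V : S.Opens} (hV : IsAffineOpen V) {UT : S'.Opens} (hUT : IsAffineOpen UT)
    (h : UT ≤ g ⁻¹ᵁ V) (D : Model f V) [Algebra Γ(S, V) Γ(S', UT)]
    (halg : algebraMap Γ(S, V) Γ(S', UT) = (g.appLE V UT h).hom) :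
    (Surjective ((CohBC.bc0 f g f' g' H.w F).app UT) ↔ Surjective ((D.K F).Φ 0 Γ(S', UT))) ∧
      (Bijective ((CohBC.bc0 f g f' g' H.w F).app UT) ↔ Bijective ((D.K F).Φ 0 Γ(S', UT))) := by
  rename_i inst
  obtain rfl : inst = (g.appLE V UT h).hom.toAlgebra :=
    Algebra.algebra_ext _ _ fun r => congr($halg r)
  letI := (g.appLE V UT h).hom.toAlgebra
  let R := (Scheme.Modules.pushforward f).obj F
  haveI : R.IsQuasicoherent := QCoh.isQuasicoherent_pushforward f F
  have := QCoh.isQuasicoherent_pullback g' F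
  letI := LimTop.secModule g R h
  haveI : IsScalarTower Γ(S, V) Γ(S', UT) Γ((Scheme.Modules.pullback g).obj R, UT) :=
    IsScalarTower.of_algebraMap_smul fun _ _ => rfl
  have hb := LimTop.isBaseChange_unitSec g R h hV hUT
  let K := D.K F
  let B := Γ(S', UT)
  let e := K.hA 0 ≪≫ₗ zeroSec F D
  let G := (Scheme.Modules.pullback g').obj F
  let D' := Model.bcT H hV hUT h D
  let c := cxBC f g g' f' h halg F D.U D.hU H.w
  let ζ₀ : K.H B 0 →+ Γ((Scheme.Modules.pushforward f').obj G, UT) :=
    (zeroSec G D').toAddEquiv.toAddMonoidHom.comp ((c.h₀ 0).toAddMonoidHom.comp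
      (((K.bc B).hA 0).toAddEquiv.toAddMonoidHom.comp
        (K.hBC B B 0).symm.toAddEquiv.toAddMonoidHom))
  have hζ : Bijective ζ₀ := (zeroSec G D').bijective.comp
    ((SCx.Hom.h₀_bijective c
      (cxBC_bijective f g g' f' h halg F D.U D.hU H.w H hV hUT D.aff) 0).comp
      (((K.bc B).hA 0).bijective.comp (K.hBC B B 0).symm.bijective))
  let β : B ⊗[Γ(S, V)] K.H Γ(S, V) 0 → Γ((Scheme.Modules.pullback g).obj R, UT) :=
    fun z => hb.equiv (e.toLinearMap.lTensor B z)
  have hβ : Bijective β := hb.equiv.bijective.comp (e.lTensor B).bijective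
  have he : ∀ z, (CohBC.bc0 f g f' g' H.w F).app UT (β z) = ζ₀ (K.Φ 0 B z) := fun z => by
    induction z using TensorProduct.induction_on with
    | zero => simp only [β, map_zero]
    | tmul b x =>
      obtain ⟨z, hz⟩ := Submodule.Quotient.mk_surjective _ (K.hA 0 x)
      obtain rfl : (K.hA 0).symm (Submodule.Quotient.mk z) = x := by
        rw [hz, LinearEquiv.symm_apply_apply]
      simp only [β, LinearMap.lTensor_tmul, IsBaseChange.equiv_tmul]
      refine (Scheme.Modules.Hom.app_smul (CohBC.bc0 f g f' g' H.w F) b _).trans ?_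
      have h' : f' ⁻¹ᵁ UT ≤ g' ⁻¹ᵁ (f ⁻¹ᵁ V) :=
        (f'.preimage_mono h).trans (CohCmp.sqLE f g f' g' H.w V)
      have h1 : e ((K.hA 0).symm (Submodule.Quotient.mk z)) = zeroSec F D (Submodule.Quotient.mk z) :=
        congrArg (zeroSec F D) (LinearEquiv.apply_symm_apply (K.hA 0) _)
      refine (congrArg (fun t => b • (CohBC.bc0 f g f' g' H.w F).app UT
        (LimTop.unitSec g R h t)) h1).trans ?_
      refine (congrArg (b • ·) (bc0_app_unitSec F H.w h h' _)).trans ?_
      change _ = zeroSec G D' (c.h₀ 0 ((K.bc B).hA 0 ((K.hBC B B 0).symm _)))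
      rw [SCx.hA_hBC_symm_Φ, map_smul]
      refine Eq.trans ?_ ((zeroSec G D').map_smul b _).symm
      refine congrArg (b • ·) ?_
      change _ = zeroSec G D' (c.h₀ 0 (Submodule.Quotient.mk (K.oneZ B 0 z)))
      rw [SCx.Hom.h₀_mk]
      refine (zeroSec G D').symm.injective ?_
      rw [LinearEquiv.symm_apply_apply]
      obtain ⟨y, hy⟩ := Submodule.Quotient.mk_surjective _ ((zeroSec G D').symm
        (show Γ((Scheme.Modules.pushforward f').obj G, UT) from
          LimTop.unitSec g' F h' (zeroSec F D (Submodule.Quotient.mk z))))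
      refine hy.symm.trans (congrArg Submodule.Quotient.mk (Subtype.ext (funext fun x => ?_)))
      have hy' := (LinearEquiv.symm_apply_eq _).1 hy.symm
      refine ((res_zeroSec G D' y x).symm.trans (congrArg
        (QCoh.res G (inter_le' D'.U x D'.hU)) hy'.symm)).trans ?_
      refine (LimTop.res_unitSec g' F h' _ _).trans ?_
      refine Eq.trans ?_ (show (1 : B) • (show Sec (f'.app UT).hom G
          (inter_le' _ x (bcCov_le g' f' D.U)) from
            LimTop.unitSec g' F (inter_bcCov_le g' f' D.U x) (z.1 x)) = _ from rfl)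
      rw [one_smul]
      refine Eq.trans ?_ (congrArg (LimTop.unitSec g' F (inter_bcCov_le g' f' D.U x))
        (res_zeroSec F D z x))
      exact (LimTop.unitSec_res g' F (inter_le' D.U x D.hU) (inter_bcCov_le g' f' D.U x) _).symm
    | add s t hs ht =>
      have : β (s + t) = β s + β t := by simp only [β, map_add]
      rw [this, map_add, hs, ht, map_add, map_add]
  have key : (fun z => (CohBC.bc0 f g f' g' H.w F).app UT (β z)) = fun z => ζ₀ (K.Φ 0 B z) :=
    funext he
  constructor
  · rw [← Surjective.of_comp_iff' hζ (K.Φ 0 B), ← Surjective.of_comp_iff _ hβ.2]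
    exact Iff.of_eq (congrArg Function.Surjective key)
  · rw [← Bijective.of_comp_iff' hζ (K.Φ 0 B), ← Bijective.of_comp_iff _ hβ]
    exact Iff.of_eq (congrArg Bijective key)

end Groth.Agent.CBC
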