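import Groth.Agent.S17288
import Groth.Agent.S0025
import Groth.Agent.ProperFin.Main

/-!
# Divisors ample on themselves are semi-ample, over a Noetherian ring
-/

set_option autoImplicit false
set_option linter.style.haveILetI false
set_option backward.isDefEq.respectTransparency.types false
universe u
open CategoryTheory CategoryTheory.Limits AlgebraicGeometry TopologicalSpace
open Groth.Agent.QCoh Groth.Agent.Props.GenLocus Groth.Agent.Props.GenTensor
  Groth.Agent.Props.GenProd Groth.Agent.AmpleLib Groth.Agent.ProjTwist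
  Groth.Agent.PullStalk.Sky Groth.Agent.PullStalk.Exact

noncomputable section

namespace Groth.Agent.CBC.EvGG

open Groth.Agent.S17288 (seqT seqT_exact exists_gen_off exists_gen_pow mem_locus_of_lift)

variable {X : Scheme.{u}}

/-- A divisor ample on itself has eventually globally generated multiples. -/
theorem main (A : Type u) [CommRing A] [IsNoetherianRing A] [X.Over (Spec (CommRingCat.of A))]
    [IsProper (X ↘ Spec (CommRingCat.of A))] (D : X.IdealSheafData) (hD : PicF.IsInvertible (ClSub.idealMod D)) (LD : X.Modules)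
    (hLD : ClSub.IsInverseOf LD (ClSub.idealMod D))
    (hample : CohB1.IsAmple ((Scheme.Modules.pullback D.subschemeι).obj LD)) :
    ∀ᶠ m : ℕ in Filter.atTop, Curv2.IsGloballyGenerated (CohB1.tensorPow LD m) := by
  haveI : IsLocallyNoetherian X := LocallyOfFiniteType.isLocallyNoetherian (X ↘ Spec (CommRingCat.of A))
  haveI : CompactSpace X := QuasiCompact.compactSpace_of_compactSpace (X ↘ Spec (CommRingCat.of A))
  haveI : IsNoetherian X := ⟨⟩
  obtain ⟨e⟩ := hLD
  have hL : PicF.IsInvertible LD := PicLaw.isInvertible_of_tensor_right hD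
    (PicCl.isInvertible_of_iso e.symm (LFFrame.isInvertible_structureModule X))
  let i := D.subschemeι
  let P := (Scheme.Modules.pullback i).obj LD
  let O := Coh.structureModule D.subscheme
  have hOi : PicF.IsInvertible O := LFFrame.isInvertible_structureModule _
  have hO : Coh.IsCoh O := VBLib.isCoh_of_ofRank (ProjTwist.isFinLocFreeOfRank_one hOi)
  obtain ⟨n₁, hn₁⟩ := AmpCrit.SerreVan.serre_vanishing (i ≫ (X ↘ Spec (CommRingCat.of A)))
    (L := P) hample O hO
  obtain ⟨n₂, hn₂⟩ := AmpleLib.eventually_globallyGenerated (L := P) hample (F := O) hO.1 hO.2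
  let N' : ℕ → D.subscheme.Modules := fun n => CohB1.tensorMod O (CohB1.tensorPow P n)
  have hpw : ∀ n, PicF.IsInvertible (CohB1.tensorPow LD n) := fun n => isInvertible_tensorPow hL n
  have hφ : ∀ n, Nonempty ((seqT D (CohB1.tensorPow LD n)).X₃ ≅
      (Scheme.Modules.pushforward i).obj (N' n)) := fun n => by
    obtain ⟨π⟩ := AmpCrit.ProjForm.nonempty_projIso i O (hpw n)
    obtain ⟨τ⟩ := AmpleLib.exists_iso_pullback_tensorPow i hL n
    exact ⟨tensComm _ _ ≪≫ π ≪≫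
      (Scheme.Modules.pushforward i).mapIso (tensCongr (Iso.refl O) τ)⟩
  let S := fun n => seqT D (CohB1.tensorPow LD n)
  have hS : ∀ n, (S n).ShortExact := fun n => seqT_exact D (hpw n)
  have h3 : ∀ n, n₁ ≤ n → Subsingleton (Coh.HH X (S n).X₃ 1) := fun n hn => by
    obtain ⟨φ⟩ := hφ n
    haveI : Coh.IsQCoh (N' n) := by
      haveI : O.IsQuasicoherent := hO.1
      haveI : (CohB1.tensorPow P n).IsQuasicoherent :=
        isQCoh_of_isInvertible (isInvertible_tensorPow hample.1 n)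
      exact LimTop.TensorQC.isQuasicoherent_tensM O _
    obtain ⟨a⟩ := S0012.result i (N' n) 1
    haveI := hn₁ n hn 1 one_pos
    haveI : Subsingleton (Coh.HH X ((Scheme.Modules.pushforward i).obj (N' n)) 1) :=
      a.symm.toEquiv.subsingleton
    exact AmpCrit.subsingleton_HH_of_iso φ.symm 1
  have hcoh : ∀ n, Coh.IsCoh (CohB1.tensorPow LD n) := fun n =>
    VBLib.isCoh_of_ofRank (ProjTwist.isFinLocFreeOfRank_one (hpw n))
  let j1 : ∀ n, (S (n + 1)).X₁ ≅ CohB1.tensorPow LD n := fun n =>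
    tensAssoc (CohB1.tensorPow LD n) LD (ClSub.idealMod D) ≪≫ tensCongr (Iso.refl _) e ≪≫ tensOne _
  let j2 : ∀ n, (S n).X₂ ≅ CohB1.tensorPow LD n := fun n => tensOne _
  let H : ℕ → Type u := fun n => Coh.HH X (CohB1.tensorPow LD n) 1
  haveI hfin : ∀ n, Module.Finite A (H n) := fun n =>
    ProperFin.finHH_of_chow (fun Z f hf => S0025.result f) _ (hcoh n) 1
  let φ : ∀ n, H n →ₗ[A] H (n + 1) := fun n =>
    (CohLin.overLin A (CohLin.hMap (j2 (n + 1)).hom 1)).comp
      ((CohLin.overLin A (CohLin.hMap (S (n + 1)).f 1)).comp (CohLin.overLin A (CohLin.hMap (j1 n).inv 1)))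
  let C : ∀ j, H n₁ →ₗ[A] H (n₁ + j) := fun j =>
    Nat.rec (motive := fun j => H n₁ →ₗ[A] H (n₁ + j)) LinearMap.id (fun j c => (φ (n₁ + j)).comp c) j
  have hφs : ∀ n, n₁ ≤ n + 1 → Function.Surjective (φ n) := fun n hn z => by
    obtain ⟨y, hy⟩ := CohLin.exists_hMap_f_eq (hS (n + 1)) (CohLin.hMap (j2 (n + 1)).inv 1 z)
      (@Subsingleton.elim _ (h3 (n + 1) hn) _ _)
    refine ⟨CohLin.hMap (j1 n).hom 1 y, ?_⟩
    show CohLin.hMap (j2 (n + 1)).hom 1 (CohLin.hMap (S (n + 1)).f 1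
      (CohLin.hMap (j1 n).inv 1 (CohLin.hMap (j1 n).hom 1 y))) = z
    rw [← CohLin.hMap_comp (j1 n).hom, (j1 n).hom_inv_id, CohLin.hMap_id, hy, ← CohLin.hMap_comp,
      (j2 (n + 1)).inv_hom_id, CohLin.hMap_id]
  have hCs : ∀ j, Function.Surjective (C j) := fun j => by
    induction j with
    | zero => exact fun z => ⟨z, rfl⟩
    | succ j ih => exact (hφs (n₁ + j) (by omega)).comp ih
  haveI : _root_.IsNoetherian A (H n₁) := isNoetherian_of_isNoetherianRing_of_finite A (H n₁)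
  obtain ⟨j₀, hj₀⟩ := monotone_stabilizes_iff_noetherian.mpr ‹_›
    ⟨fun j => LinearMap.ker (C j), monotone_nat_of_le_succ fun j x hx => by
      show φ (n₁ + j) (C j x) = 0
      rw [LinearMap.mem_ker.1 hx, map_zero]⟩
  refine Filter.eventually_atTop.2 ⟨n₁ + j₀ + n₂ + 1, fun m hm => ?_⟩
  obtain ⟨n, rfl⟩ : ∃ n, m = n + 1 := ⟨m - 1, by omega⟩
  have hinj : Function.Injective (CohLin.overLin A (CohLin.hMap (S (n + 1)).f 1)) := by
    obtain ⟨j, rfl⟩ : ∃ j, n = n₁ + j := ⟨n - n₁, by omega⟩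
    have hker : LinearMap.ker (C j) = LinearMap.ker (C (j + 1)) :=
      (hj₀ j (by omega)).symm.trans (hj₀ (j + 1) (by omega))
    refine (injective_iff_map_eq_zero _).2 fun y hy => ?_
    obtain ⟨x, hx⟩ := hCs j (CohLin.hMap (j1 (n₁ + j)).hom 1 y)
    have hy' : CohLin.hMap (S (n₁ + j + 1)).f 1 y = 0 := hy
    have h1 : C (j + 1) x = 0 := by
      show φ (n₁ + j) (C j x) = 0
      rw [hx]
      show CohLin.hMap (j2 (n₁ + j + 1)).hom 1 (CohLin.hMap (S (n₁ + j + 1)).f 1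
        (CohLin.hMap (j1 (n₁ + j)).inv 1 (CohLin.hMap (j1 (n₁ + j)).hom 1 y))) = 0
      rw [← CohLin.hMap_comp (j1 (n₁ + j)).hom, (j1 (n₁ + j)).hom_inv_id, CohLin.hMap_id, hy', map_zero]
    have h2 : C j x = 0 := LinearMap.mem_ker.1 (hker ▸ LinearMap.mem_ker.2 h1)
    have h4 := congrArg (CohLin.hMap (j1 (n₁ + j)).inv 1) (hx.symm.trans h2)
    rwa [← CohLin.hMap_comp, (j1 (n₁ + j)).hom_inv_id, CohLin.hMap_id, map_zero] at h4
  refine Props.AmpleGG.isGloballyGenerated_of_genLocus fun x => ?_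
  suffices hx : ∃ τ : Γ(CohB1.tensorPow LD (n + 1), ⊤), x ∈ locus τ by
    obtain ⟨τ, hτ⟩ := hx
    exact ⟨homOfSec τ, by rwa [genLocus_homOfSec]⟩
  by_cases hx : x ∈ (D.support : Set X)
  · rw [← Scheme.IdealSheafData.range_subschemeι] at hx
    obtain ⟨z, rfl⟩ := hx
    obtain ⟨φ⟩ := hφ (n + 1)
    have hN'inv : PicF.IsInvertible (N' (n + 1)) :=
      isInvertible_tensorMod hOi (isInvertible_tensorPow hample.1 (n + 1))
    obtain ⟨t, ht⟩ := DimOneAmple.exists_genLocus_mem hN'inv (hn₂ (n + 1) (by omega)) z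
    let u : Γ((S (n + 1)).X₃, ⊤) := φ.inv.app ⊤ t
    obtain ⟨y, hy⟩ := CohLin.exists_hMap_g_eq (hS (n + 1))
      ((ProperFin.h0Sec (S (n + 1)).X₃).symm u)
      (hinj (show CohLin.hMap (S (n + 1)).f 1 _ = CohLin.hMap (S (n + 1)).f 1 0 by
        rw [CohLin.hMap_f_hδ, map_zero]))
    let σ : Γ((S (n + 1)).X₂, ⊤) := ProperFin.h0Sec _ y
    have hgσ : (S (n + 1)).g.app ⊤ σ = u := by
      rw [← ProperFin.h0Sec_hMap, hy, AddEquiv.apply_symm_apply]
    let ψ : CohB1.tensorPow LD (n + 1) ⟶ (Scheme.Modules.pushforward i).obj (N' (n + 1)) :=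
      (j2 (n + 1)).inv ≫ (S (n + 1)).g ≫ φ.hom
    refine ⟨(j2 (n + 1)).hom.app ⊤ σ, mem_locus_of_lift i (hpw _) ψ _ t ?_ ht⟩
    have h1 : (j2 (n + 1)).inv.app ⊤ ((j2 (n + 1)).hom.app ⊤ σ) = σ :=
      congrArg (fun f : (S (n + 1)).X₂ ⟶ (S (n + 1)).X₂ => f.app ⊤ σ) (j2 (n + 1)).hom_inv_id
    show φ.hom.app ⊤ ((S (n + 1)).g.app ⊤ ((j2 (n + 1)).inv.app ⊤ ((j2 (n + 1)).hom.app ⊤ σ))) = t
    rw [h1, hgσ]
    exact congrArg (fun f : (Scheme.Modules.pushforward i).obj (N' (n + 1)) ⟶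
      (Scheme.Modules.pushforward i).obj (N' (n + 1)) => f.app ⊤ t) φ.inv_hom_id
  · obtain ⟨σ, hσ⟩ := exists_gen_off D hL e hx
    exact exists_gen_pow σ hσ (n + 1)

end Groth.Agent.CBC.EvGG

end
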