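import Groth.Agent.CBC.Crit
import Mathlib.RingTheory.Flat.FaithfullyFlat.Basic

/-!
# The kernel comparison at a point, computed over any field
-/

universe u

open TensorProduct Function LinearMap

namespace Groth.Agent.CBC

set_option linter.unusedSectionVars false

variable {A : Type u} [CommRing A] {G L : Type u} [AddCommGroup G] [Module A G]
  [AddCommGroup L] [Module A L] (f : G →ₗ[A] L)
  (x : PrimeSpectrum A) {K : Type u} [Field K] [Algebra A K]

lemma exists_residueAlgebra (h : RingHom.ker (algebraMap A K) = x.asIdeal) :
    ∃ ψ : x.asIdeal.ResidueField →+* K, ψ.comp (algebraMap A x.asIdeal.ResidueField) =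
      algebraMap A K := by
  have hu : x.asIdeal.primeCompl ≤ (IsUnit.submonoid K).comap (algebraMap A K) := fun a ha =>
    isUnit_iff_ne_zero.2 fun h0 => ha (h.le h0)
  exact ⟨Ideal.ResidueField.lift x.asIdeal (algebraMap A K) h.ge hu,
    RingHom.ext fun a => Ideal.ResidueField.lift_algebraMap _ _ h.ge hu a⟩

section Generic

variable {k : Type u} [Field k] [Algebra A k] [Algebra k K] [IsScalarTower A k K]

lemma surjective_baseChange_iff {V W : Type u} [AddCommMonoid V] [Module k V] [AddCommMonoid W]
    [Module k W] (g : V →ₗ[k] W) : Surjective (g.baseChange K) ↔ Surjective g := by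
  rw [LinearMap.baseChange_eq_ltensor]
  refine ⟨fun h v => ?_, fun h => LinearMap.lTensor_surjective K h⟩
  obtain ⟨r, hr⟩ := LinearMap.exists_leftInverse_of_injective (Algebra.linearMap k K)
    (LinearMap.ker_eq_bot.2 (algebraMap k K).injective)
  obtain ⟨t, ht⟩ := h ((1 : K) ⊗ₜ v)
  refine ⟨TensorProduct.lid k V (r.rTensor V t), ?_⟩
  have key : ∀ t : K ⊗[k] V, g (TensorProduct.lid k V (r.rTensor V t)) =
      TensorProduct.lid k W (r.rTensor W (g.lTensor K t)) := fun t => by
    induction t using TensorProduct.induction_on with
    | zero => simp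
    | tmul c x => simp
    | add a b ha hb => simp only [map_add, ha, hb]
  have h1 : r 1 = 1 := by simpa using LinearMap.congr_fun hr 1
  rw [key, ht, rTensor_tmul, h1, TensorProduct.lid_tmul, one_smul]

lemma finrank_field_baseChange {V : Type u} [AddCommMonoid V] [Module k V] :
    Module.finrank K (K ⊗[k] V) = Module.finrank k V := by
  letI := Module.addCommMonoidToAddCommGroup k (M := V)
  have : Module.Free k V := Module.Free.of_divisionRing k V
  exact Module.finrank_baseChange

/-- transitivity of the comparison along a field extension -/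
theorem kerBC_field_comp :
    ∃ (e : LinearMap.ker ((f.baseChange k).baseChange K) ≃ₗ[K]
        LinearMap.ker (f.baseChange K)),
      ∀ w : K ⊗[k] (k ⊗[A] LinearMap.ker f),
        kerBC f K (cb K k (LinearMap.ker f) w) =
          e (kerBC (f.baseChange k) K ((kerBC f k).baseChange K w)) := by
  let e : LinearMap.ker ((f.baseChange k).baseChange K) ≃ₗ[K] LinearMap.ker (f.baseChange K) :=
    (cb K k G).ofSubmodules _ _ (by
      ext z
      simp only [Submodule.mem_map, LinearMap.mem_ker]
      constructor
      · rintro ⟨w, hw, rfl⟩
        change f.baseChange K (cb K k G w) = 0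
        rw [cb_natural, hw, map_zero]
      · intro hz
        refine ⟨(cb K k G).symm z, ?_, LinearEquiv.apply_symm_apply _ _⟩
        refine (cb K k L).injective ?_
        rw [← cb_natural, LinearEquiv.apply_symm_apply, hz, map_zero])
  refine ⟨e, fun w => Subtype.ext ?_⟩
  induction w using TensorProduct.induction_on with
  | zero => simp only [map_zero, Submodule.coe_zero]
  | tmul b t =>
    induction t using TensorProduct.induction_on with
    | zero => simp only [tmul_zero, map_zero, Submodule.coe_zero]
    | tmul a y => simp [e, cb, kerBC_val]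
    | add s t hs ht => simp only [tmul_add, map_add, Submodule.coe_add, hs, ht]
  | add s t hs ht => simp only [map_add, Submodule.coe_add, hs, ht]

variable (k) in
lemma kerBC_surjective_ext_iff : Surjective (kerBC f K) ↔ Surjective (kerBC f k) := by
  obtain ⟨e, he⟩ := kerBC_field_comp (K := K) (k := k) f
  have hb := kerBC_bijective_of_flat_algebra (f.baseChange k) K
  refine Iff.trans ?_ (surjective_baseChange_iff (K := K) (kerBC f k))
  constructor
  · intro hs z
    obtain ⟨w, hw⟩ := hs (e (kerBC (f.baseChange k) K z))
    obtain ⟨w', rfl⟩ := (cb K k (LinearMap.ker f)).surjective w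
    exact ⟨w', hb.1 (e.injective ((he w').symm.trans hw))⟩
  · intro hs z
    obtain ⟨z', rfl⟩ := e.surjective z
    obtain ⟨z'', rfl⟩ := hb.2 z'
    obtain ⟨w, rfl⟩ := hs z''
    exact ⟨_, he w⟩

variable (k) in
lemma finrank_kerBC_ext : Module.finrank K (LinearMap.ker (f.baseChange K)) =
    Module.finrank k (LinearMap.ker (f.baseChange k)) := by
  obtain ⟨e, -⟩ := kerBC_field_comp (K := K) (k := k) f
  exact e.finrank_eq.symm.trans ((LinearEquiv.ofBijective (kerBC (f.baseChange k) K)
    (kerBC_bijective_of_flat_algebra (f.baseChange k) K)).finrank_eq.symm.trans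
      finrank_field_baseChange)

end Generic

/-- surjectivity at a point can be tested on any field -/
theorem kerBC_surjective_field_iff (h : RingHom.ker (algebraMap A K) = x.asIdeal) :
    Surjective (kerBC f K) ↔ Surjective (kerBC f x.asIdeal.ResidueField) := by
  obtain ⟨ψ, hψ⟩ := exists_residueAlgebra x h
  let := ψ.toAlgebra
  have : IsScalarTower A x.asIdeal.ResidueField K := IsScalarTower.of_algebraMap_eq' hψ.symm
  exact kerBC_surjective_ext_iff f x.asIdeal.ResidueField

/-- the dimension at a point can be computed over any field -/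
theorem kerRank_eq_finrank [Module.Free A L] [Module.Finite A L] [Module.Finite A G]
    (h : RingHom.ker (algebraMap A K) = x.asIdeal) :
    kerRank f x = Module.finrank K (LinearMap.ker (f.baseChange K)) := by
  obtain ⟨ψ, hψ⟩ := exists_residueAlgebra x h
  let := ψ.toAlgebra
  have : IsScalarTower A x.asIdeal.ResidueField K := IsScalarTower.of_algebraMap_eq' hψ.symm
  exact (finrank_kerBC_ext f x.asIdeal.ResidueField).symm

end Groth.Agent.CBC
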