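import Groth.Agent.CBC.Window

/-!
# Morphisms of cochain complexes and isomorphisms from relations
-/

universe u v

open TensorProduct Function LinearMap

namespace Groth.Agent.CBC

/-- a relation that matches two submodules gives an isomorphism of the quotients -/
noncomputable def equivOfRel {A : Type*} [CommRing A] {P Q : Type u} [AddCommGroup P] [Module A P]
    [AddCommGroup Q] [Module A Q] (R : Submodule A (P × Q)) (P₀ : Submodule A P) (Q₀ : Submodule A Q)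
    (h₁ : ∀ p, ∃ q, (p, q) ∈ R) (h₂ : ∀ q, ∃ p, (p, q) ∈ R)
    (h : ∀ p q, (p, q) ∈ R → (p ∈ P₀ ↔ q ∈ Q₀)) : (P ⧸ P₀) ≃ₗ[A] Q ⧸ Q₀ :=
  let f := Submodule.mkQ P₀ ∘ₗ LinearMap.fst A P Q ∘ₗ R.subtype
  let g := Submodule.mkQ Q₀ ∘ₗ LinearMap.snd A P Q ∘ₗ R.subtype
  have hf : Surjective f := fun x => by
    obtain ⟨p, rfl⟩ := Submodule.mkQ_surjective _ x
    obtain ⟨q, hq⟩ := h₁ p
    exact ⟨⟨_, hq⟩, rfl⟩
  have hg : Surjective g := fun x => by
    obtain ⟨q, rfl⟩ := Submodule.mkQ_surjective _ x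
    obtain ⟨p, hp⟩ := h₂ q
    exact ⟨⟨_, hp⟩, rfl⟩
  have hk : LinearMap.ker f = LinearMap.ker g := by
    ext ⟨⟨p, q⟩, hpq⟩
    change Submodule.Quotient.mk p = 0 ↔ Submodule.Quotient.mk q = 0
    rw [Submodule.Quotient.mk_eq_zero, Submodule.Quotient.mk_eq_zero]
    exact h p q hpq
  (f.quotKerEquivOfSurjective hf).symm ≪≫ₗ Submodule.quotEquivOfEq _ _ hk ≪≫ₗ
    g.quotKerEquivOfSurjective hg

lemma equivOfRel_mk {A : Type*} [CommRing A] {P Q : Type u} [AddCommGroup P] [Module A P]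
    [AddCommGroup Q] [Module A Q] {R : Submodule A (P × Q)} {P₀ : Submodule A P} {Q₀ : Submodule A Q}
    {h₁ : ∀ p, ∃ q, (p, q) ∈ R} {h₂ : ∀ q, ∃ p, (p, q) ∈ R}
    {h : ∀ p q, (p, q) ∈ R → (p ∈ P₀ ↔ q ∈ Q₀)} {p : P} {q : Q} (hpq : (p, q) ∈ R) :
    equivOfRel R P₀ Q₀ h₁ h₂ h (Submodule.Quotient.mk p) = Submodule.Quotient.mk q := by
  set f := Submodule.mkQ P₀ ∘ₗ LinearMap.fst A P Q ∘ₗ R.subtype with hf0
  have hf : Surjective f := fun x => by
    obtain ⟨p', rfl⟩ := Submodule.mkQ_surjective _ x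
    obtain ⟨q', hq⟩ := h₁ p'
    exact ⟨⟨_, hq⟩, rfl⟩
  have h0 : (f.quotKerEquivOfSurjective hf).symm (Submodule.Quotient.mk p) =
      Submodule.Quotient.mk ⟨(p, q), hpq⟩ := by
    rw [LinearEquiv.symm_apply_eq]
    rfl
  unfold equivOfRel
  simp only [LinearEquiv.trans_apply]
  exact (congrArg _ (congrArg _ h0)).trans rfl

namespace SCx

variable {A : Type u} [CommRing A]

/-- morphisms of complexes -/
structure Hom (K K' : SCx A) where
  f : ∀ n, K.X n →ₗ[A] K'.X n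
  comm : ∀ n x, f (n + 1) (K.d n x) = K'.d n (f n x)

variable {K K' K'' : SCx A} (α : Hom K K')

lemma Hom.mapsTo_Z₀ (n : ℕ) {x : K.X n} (hx : x ∈ K.Z₀ n) : α.f n x ∈ K'.Z₀ n := by
  rw [LinearMap.mem_ker, ← α.comm, show K.d n x = 0 from hx, map_zero]

lemma Hom.mapsTo_B₀ : ∀ (n : ℕ) {x : K.X n}, x ∈ K.B₀ n → α.f n x ∈ K'.B₀ n
  | 0, x, hx => by
    rw [show x = 0 from hx, map_zero]
    exact zero_mem _
  | n + 1, x, hx => by
    obtain ⟨y, rfl⟩ := hx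
    exact ⟨α.f n y, (α.comm n y).symm⟩

/-- the map on cohomology -/
noncomputable def Hom.h₀ (n : ℕ) : K.H₀ n →ₗ[A] K'.H₀ n :=
  Submodule.mapQ _ _ ((α.f n).restrict fun _ hx => α.mapsTo_Z₀ n hx)
    fun _ hx => α.mapsTo_B₀ n hx

lemma Hom.h₀_mk (n : ℕ) (z : K.Z₀ n) :
    α.h₀ n (Submodule.Quotient.mk z) = Submodule.Quotient.mk ⟨α.f n z.1, α.mapsTo_Z₀ n z.2⟩ := rfl

/-- composition -/
def Hom.comp (β : Hom K' K'') : Hom K K'' where
  f n := β.f n ∘ₗ α.f n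
  comm n x := by rw [LinearMap.comp_apply, α.comm, β.comm]; rfl

section Connect

variable (i : Hom K' K) (π : Hom K K'') (n : ℕ)

/-- a cocycle and its image under the connecting map -/
def deltaRel : Submodule A (K''.Z₀ n × K'.Z₀ (n + 1)) where
  carrier := {zc | ∃ b, π.f n b = zc.1.1 ∧ K.d n b = i.f (n + 1) zc.2.1}
  zero_mem' := ⟨0, map_zero _, by
    rw [map_zero]
    exact (map_zero (i.f (n + 1))).symm⟩
  add_mem' := by
    rintro ⟨z, c⟩ ⟨z', c'⟩ ⟨b, hb, hb'⟩ ⟨e, he, he'⟩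
    refine ⟨b + e, ?_, ?_⟩
    · rw [map_add, hb, he]; rfl
    · rw [map_add, hb', he', ← map_add]; rfl
  smul_mem' := by
    rintro r ⟨z, c⟩ ⟨b, hb, hb'⟩
    refine ⟨r • b, ?_, ?_⟩
    · rw [map_smul, hb]; rfl
    · rw [map_smul, hb', ← map_smul]; rfl

variable (hi : ∀ n, Injective (i.f n)) (hπ : ∀ n, Surjective (π.f n))
  (hex : ∀ n x, π.f n x = 0 ↔ ∃ y, i.f n y = x)

include hi hπ hex in
lemma exists_deltaRel (z : K''.Z₀ n) : ∃ c, (z, c) ∈ deltaRel i π n := by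
  obtain ⟨b, hb⟩ := hπ n z.1
  obtain ⟨c, hc⟩ := (hex (n + 1) (K.d n b)).1 (by rw [π.comm, hb]; exact z.2)
  refine ⟨⟨c, hi (n + 2) ?_⟩, b, hb, hc.symm⟩
  rw [i.comm, hc, K.d_d, map_zero]

variable (hv : ∀ x, K.d (n + 1) x = 0 → ∃ b, K.d n b = x)

include hex hv in
lemma exists_deltaRel' (c : K'.Z₀ (n + 1)) : ∃ z, (z, c) ∈ deltaRel i π n := by
  obtain ⟨b, hb⟩ := hv (i.f (n + 1) c.1) (by
    rw [← i.comm, show K'.d (n + 1) c.1 = 0 from c.2, map_zero])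
  refine ⟨⟨π.f n b, ?_⟩, b, rfl, hb⟩
  rw [LinearMap.mem_ker, ← π.comm, hb]
  exact (hex _ _).2 ⟨c.1, rfl⟩

include hi hex in
lemma deltaRel_iff {z : K''.Z₀ n} {c : K'.Z₀ (n + 1)} (h : (z, c) ∈ deltaRel i π n) :
    c.1 ∈ K'.B₀ (n + 1) ↔ ∃ b, K.d n b = 0 ∧ π.f n b = z.1 := by
  obtain ⟨b, hb, hb'⟩ := h
  constructor
  · rintro ⟨y, hy⟩
    refine ⟨b - i.f n y, ?_, ?_⟩
    · rw [map_sub, hb', ← i.comm, hy, sub_self]
    · rw [map_sub, hb, (hex n _).2 ⟨y, rfl⟩, sub_zero]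
  · rintro ⟨b₁, hd, hb₁⟩
    obtain ⟨y, hy⟩ := (hex n (b - b₁)).1 (by rw [map_sub, hb, hb₁, sub_self])
    refine ⟨y, hi (n + 1) ?_⟩
    rw [i.comm, hy, map_sub, hd, sub_zero, hb']

end Connect

section Connect

variable (i : Hom K' K) (π : Hom K K'') (hi : ∀ n, Injective (i.f n))
  (hπ : ∀ n, Surjective (π.f n)) (hex : ∀ n x, π.f n x = 0 ↔ ∃ y, i.f n y = x)
  (hv : ∀ n x, K.d (n + 1) x = 0 → ∃ b, K.d n b = x)

/-- the connecting isomorphism in positive degrees -/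
noncomputable def deltaEquiv (n : ℕ) : K''.H₀ (n + 1) ≃ₗ[A] K'.H₀ (n + 2) :=
  equivOfRel (deltaRel i π (n + 1)) _ _ (exists_deltaRel i π _ hi hπ hex)
    (exists_deltaRel' i π _ hex (hv _)) fun z c h => by
    rw [Submodule.mem_comap, Submodule.mem_comap]
    refine Iff.trans ?_ (deltaRel_iff i π _ hi hex h).symm
    constructor
    · rintro ⟨y, hy⟩
      obtain ⟨y, rfl⟩ := hπ n y
      exact ⟨K.d n y, K.d_d n y, (π.comm n y).trans hy⟩
    · rintro ⟨b, hd, hb⟩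
      obtain ⟨y, rfl⟩ := hv n b hd
      exact ⟨π.f n y, (π.comm n y).symm.trans hb⟩

lemma deltaEquiv_mk {n : ℕ} {z : K''.Z₀ (n + 1)} {c : K'.Z₀ (n + 2)}
    (h : (z, c) ∈ deltaRel i π (n + 1)) :
    deltaEquiv i π hi hπ hex hv n (Submodule.Quotient.mk z) = Submodule.Quotient.mk c :=
  equivOfRel_mk h

/-- the image of degree zero cocycles -/
def zImage : Submodule A (K''.Z₀ 0) :=
  LinearMap.range ((π.f 0).restrict fun _ hx => π.mapsTo_Z₀ 0 hx : K.Z₀ 0 →ₗ[A] K''.Z₀ 0)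

/-- the connecting isomorphism in degree one -/
noncomputable def deltaEquiv₀ : (K''.Z₀ 0 ⧸ zImage π) ≃ₗ[A] K'.H₀ 1 :=
  equivOfRel (deltaRel i π 0) _ _ (exists_deltaRel i π _ hi hπ hex)
    (exists_deltaRel' i π _ hex (hv _)) fun z c h => by
    rw [Submodule.mem_comap]
    refine Iff.trans ?_ (deltaRel_iff i π _ hi hex h).symm
    constructor
    · rintro ⟨y, hy⟩
      exact ⟨y.1, y.2, congrArg Subtype.val hy⟩
    · rintro ⟨b, hd, hb⟩
      exact ⟨⟨b, hd⟩, Subtype.ext hb⟩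

lemma deltaEquiv₀_mk {z : K''.Z₀ 0} {c : K'.Z₀ 1} (h : (z, c) ∈ deltaRel i π 0) :
    deltaEquiv₀ i π hi hπ hex hv (Submodule.Quotient.mk z) = Submodule.Quotient.mk c :=
  equivOfRel_mk h

end Connect

section RId

variable (K : SCx A)

lemma rid_d (n : ℕ) (t : K.X n ⊗[A] A) :
    K.d n (TensorProduct.rid A (K.X n) t) = TensorProduct.rid A (K.X (n + 1)) ((K.d n).rTensor A t) := by
  induction t using TensorProduct.induction_on with
  | zero => simp
  | tmul a b => simp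
  | add a b ha hb => simp only [map_add, ha, hb]

lemma rid_map_Z (n : ℕ) :
    (K.Z A n).map (TensorProduct.rid A (K.X n) : K.X n ⊗[A] A →ₗ[A] K.X n) = K.Z₀ n := by
  ext x
  constructor
  · rintro ⟨t, ht, rfl⟩
    change K.d n (TensorProduct.rid A _ t) = 0
    rw [rid_d, show (K.d n).rTensor A t = 0 from ht, map_zero]
  · intro hx
    refine ⟨(TensorProduct.rid A _).symm x, ?_, LinearEquiv.apply_symm_apply _ _⟩
    change (K.d n).rTensor A _ = 0
    refine (TensorProduct.rid A (K.X (n + 1))).injective ?_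
    rw [← rid_d, LinearEquiv.apply_symm_apply, map_zero]
    exact hx

lemma rid_mem_B : ∀ (n : ℕ) (t : K.X n ⊗[A] A),
    TensorProduct.rid A (K.X n) t ∈ K.B₀ n ↔ t ∈ K.B A n
  | 0, t => (TensorProduct.rid A (K.X 0)).map_eq_zero_iff
  | n + 1, t => by
    constructor
    · rintro ⟨y, hy⟩
      refine ⟨(TensorProduct.rid A _).symm y, (TensorProduct.rid A _).injective ?_⟩
      rw [← rid_d, LinearEquiv.apply_symm_apply, hy]
    · rintro ⟨y, rfl⟩
      exact ⟨TensorProduct.rid A _ y, rid_d K n y⟩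

/-- cohomology with coefficients in `A` is cohomology -/
noncomputable def hA (n : ℕ) : K.H A n ≃ₗ[A] K.H₀ n :=
  Submodule.Quotient.equiv _ _ ((TensorProduct.rid A (K.X n)).ofSubmodules _ _ (rid_map_Z K n)) (by
    ext z
    constructor
    · rintro ⟨w, hw, rfl⟩
      exact (rid_mem_B K n w.1).2 hw
    · intro hz
      refine ⟨((TensorProduct.rid A (K.X n)).ofSubmodules _ _ (rid_map_Z K n)).symm z, ?_,
        LinearEquiv.apply_symm_apply _ _⟩
      refine (rid_mem_B K n _).1 ?_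
      have h1 := congrArg Subtype.val (LinearEquiv.apply_symm_apply
        ((TensorProduct.rid A (K.X n)).ofSubmodules _ _ (rid_map_Z K n)) z)
      exact (congrArg (· ∈ K.B₀ n) h1).mpr hz)

lemma hA_mk (n : ℕ) (z : K.Z A n) : K.hA n (Submodule.Quotient.mk z) =
    Submodule.Quotient.mk (((TensorProduct.rid A (K.X n)).ofSubmodules _ _ (rid_map_Z K n)) z) := rfl

end RId

end SCx

end Groth.Agent.CBC
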