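import Groth.Agent.CBC.Nhd
import Groth.Agent.CBC.FlatH

/-!
# Base change for flat sheaves with flat higher direct images
-/

universe u

open CategoryTheory CategoryTheory.Limits Opposite TopologicalSpace AlgebraicGeometry Function

namespace Groth.Agent.CBC

open CohAff (inter)

/-- base change is bijective over affines of the base change of a relative situation -/
theorem bc_app_bijective_of_flat_Rpush {X S X' Y Y' S' : Scheme.{u}} {a : X ⟶ S} {b : Y ⟶ S}
    {f : X ⟶ Y} (hf : f ≫ b = a) [IsSeparated f] [QuasiCompact f]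
    {g : S' ⟶ S} {gY : Y' ⟶ Y} {b' : Y' ⟶ S'} (hY : IsPullback gY b' b g)
    {gX : X' ⟶ X} {f' : X' ⟶ Y'} (hX : IsPullback gX f' f gY)
    [IsSeparated f'] [QuasiCompact f']
    [HasInjectiveResolutions X.Modules] [HasInjectiveResolutions X'.Modules]
    (F : X.Modules) [F.IsQuasicoherent] (hF : FlatMod.IsFlatOver a F)
    (hR : ∀ n : ℕ, FlatMod.IsFlatOver b ((Coh.Rpush f n).obj F))
    {Δ : RDer.DerivedLES (Scheme.Modules.pushforward f)}
    {Δ' : RDer.DerivedLES (Scheme.Modules.pushforward f')}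
    {E : CohCmp.SectCmp f Δ} {E' : CohCmp.SectCmp f' Δ'}
    (B : CohCmp.GenBC f gY f' gX hX.w E E') (p : ℕ)
    {U : S.Opens} (hU : IsAffineOpen U) {V : Y.Opens} (hV : IsAffineOpen V) (hVU : V ≤ b ⁻¹ᵁ U)
    {T : S'.Opens} (hT : IsAffineOpen T) (hTU : T ≤ g ⁻¹ᵁ U)
    {W : Y'.Opens} (hW : IsAffineOpen W) (hWO : W ≤ gY ⁻¹ᵁ V ⊓ b' ⁻¹ᵁ T) :
    Bijective ((B.bc p F).app W) := by
  obtain ⟨D⟩ := nonempty_model f hV
  let O := gY ⁻¹ᵁ V ⊓ b' ⁻¹ᵁ T
  have hWV : W ≤ gY ⁻¹ᵁ V := hWO.trans inf_le_left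
  -- the rings
  letI : Algebra Γ(Y, V) Γ(Y', W) := (gY.appLE V W hWV).hom.toAlgebra
  letI : Algebra Γ(Y, V) Γ(Y', O) := (gY.appLE V O inf_le_left).hom.toAlgebra
  letI : Algebra Γ(S', T) Γ(Y', O) := (b'.appLE T O inf_le_right).hom.toAlgebra
  letI : Algebra Γ(S, U) Γ(Y, V) := (b.appLE U V hVU).hom.toAlgebra
  letI : Algebra Γ(S, U) Γ(S', T) := (g.appLE U T hTU).hom.toAlgebra
  letI : Algebra Γ(S, U) Γ(Y', O) :=
    ((algebraMap Γ(Y, V) Γ(Y', O)).comp (algebraMap Γ(S, U) Γ(Y, V))).toAlgebra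
  haveI : IsScalarTower Γ(S, U) Γ(Y, V) Γ(Y', O) := IsScalarTower.of_algebraMap_eq fun _ => rfl
  haveI : IsScalarTower Γ(S, U) Γ(S', T) Γ(Y', O) := IsScalarTower.of_algebraMap_eq' (by
    change (b.appLE U V hVU ≫ gY.appLE V O inf_le_left).hom =
      (g.appLE U T hTU ≫ b'.appLE T O inf_le_right).hom
    simp only [Scheme.Hom.appLE_comp_appLE, hY.w])
  letI : Algebra Γ(Y', O) Γ(Y', W) := (Y'.presheaf.map (homOfLE hWO).op).hom.toAlgebra
  haveI : IsScalarTower Γ(Y, V) Γ(Y', O) Γ(Y', W) := IsScalarTower.of_algebraMap_eq' (by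
    change (gY.appLE V W hWV).hom =
      (gY.appLE V O inf_le_left ≫ Y'.presheaf.map (homOfLE hWO).op).hom
    rw [Scheme.Hom.appLE_map])
  haveI : Algebra.IsPushout Γ(S, U) Γ(S', T) Γ(Y, V) Γ(Y', O) := by
    have h1 := (isIso_pushoutSection_iff hY hTU hVU (UY := O) rfl).1
      (isIso_pushoutSection_of_isAffineOpen hY hTU hVU rfl hU hT hV)
    exact CommRingCat.isPushout_iff_isPushout.1 h1.flip
  have hO : IsAffineOpen O := by
    have : IsAffine _ := hU
    have : IsAffine _ := hT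
    have : IsAffine _ := hV
    exact .of_isIso (Scheme.Hom.isPullback_resLE hY hTU hVU rfl).isoPullback.hom
  haveI : Module.Flat Γ(Y', O) Γ(Y', W) := by
    have h := (𝟙 Y' : Y' ⟶ Y').flat_appLE hO hW hWO
    rwa [show (𝟙 Y' : Y' ⟶ Y').appLE O W hWO = Y'.presheaf.map (homOfLE hWO).op by
      simp [Scheme.Hom.appLE]
      exact Category.id_comp _] at h
  -- the terms
  letI : ∀ n, Module Γ(S, U) ((D.K F).X n) := fun n =>
    Module.compHom _ (algebraMap Γ(S, U) Γ(Y, V))
  haveI : ∀ n, IsScalarTower Γ(S, U) Γ(Y, V) ((D.K F).X n) := fun n =>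
    IsScalarTower.of_algebraMap_smul fun _ _ => rfl
  have hle : ∀ i, D.U i ≤ a ⁻¹ᵁ U := fun i => (D.hU i).trans (by
    subst hf
    exact (f.preimage_mono hVU))
  have hsmul : ∀ {O' : X.Opens} (h : O' ≤ f ⁻¹ᵁ V) (h' : O' ≤ a ⁻¹ᵁ U) (r : Γ(S, U)),
      QCoh.rres h (f.app V (algebraMap Γ(S, U) Γ(Y, V) r)) = QCoh.rres h' (a.app U r) := by
    intro O' h h' r
    subst hf
    change (b.appLE U V hVU ≫ f.appLE V O' h) r = ((f ≫ b).appLE U O' h') r
    rw [Scheme.Hom.appLE_comp_appLE]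
  have hflatX : ∀ n, Module.Flat Γ(S, U) ((D.K F).X n) := fun n => by
    have := flat_cx (a.app U).hom D.U hle F
      (fun _ x => flat_sec a hU F (D.aff x) (inter_le' D.U x hle) fun y _ => hF y) n
    refine Module.Flat.of_linearEquiv
      (M := (cx (a.app U).hom D.U hle F).X n)
      ({ toFun := fun s => s
         invFun := fun s => s
         map_add' := fun _ _ => rfl
         map_smul' := fun r s => funext fun x =>
           congrArg (fun t => t • (show Γ(F, inter (X := X.toPresheafedSpace.carrier) D.U x) from s x))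
             (hsmul (inter_le' D.U x D.hU) (inter_le' D.U x hle) r)
         left_inv := fun _ => rfl
         right_inv := fun _ => rfl } : (D.K F).X n ≃ₗ[Γ(S, U)] (cx (a.app U).hom D.U hle F).X n)
  have hflatH : ∀ n, Module.Flat Γ(S, U) (((D.K F).restr Γ(S, U)).H₀ n) := fun n => by
    let M := (Coh.Rpush f n).obj F
    haveI : M.IsQuasicoherent := isQuasicoherent_Rpush f F n
    have hM : Module.Flat Γ(S, U) (Sec (b.app U).hom M hVU) :=
      flat_sec b hU M hV hVU fun y _ => hR n y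
    let K := D.K F
    let ψ : (K.restr Γ(S, U)).Z₀ n →ₗ[Γ(S, U)] Sec (b.app U).hom M hVU :=
      { toFun := fun z => rpushEquiv D F hV n (K.cls₀ z.1 z.2)
        map_add' := fun x y => by
          refine Eq.trans ?_ (map_add (rpushEquiv D F hV n) _ _)
          rfl
        map_smul' := fun r z => by
          refine Eq.trans ?_ ((rpushEquiv D F hV n).map_smul (algebraMap Γ(S, U) Γ(Y, V) r) _)
          rfl }
    have hs : Surjective ψ := fun m => by
      obtain ⟨z, hz⟩ := Submodule.Quotient.mk_surjective _ ((rpushEquiv D F hV n).symm m)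
      refine ⟨⟨z.1, z.2⟩, ?_⟩
      change rpushEquiv D F hV n (Submodule.Quotient.mk z) = m
      rw [hz]
      exact (rpushEquiv D F hV n).apply_symm_apply m
    have hker : ((K.restr Γ(S, U)).B₀ n).comap ((K.restr Γ(S, U)).Z₀ n).subtype =
        LinearMap.ker ψ := by
      ext z
      rw [LinearMap.mem_ker, Submodule.mem_comap]
      refine Iff.trans ?_ (rpushEquiv D F hV n).map_eq_zero_iff.symm
      refine Iff.trans ?_ (Submodule.Quotient.mk_eq_zero _).symm
      rcases n with _ | k <;> exact Iff.rfl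
    exact Module.Flat.of_linearEquiv
      (Submodule.quotEquivOfEq _ _ hker ≪≫ₗ LinearMap.quotKerEquivOfSurjective ψ hs)
  refine (bc_app_bijective_iff B p F hX hV hW hWV D rfl).2 ?_
  exact (D.K F).Φ_bijective_of_flat_cohomology (R := Γ(S, U)) hflatX hflatH
    (fun M _ _ n hn => subsingleton_H hV D F M n hn) (R' := Γ(S', T)) (A' := Γ(Y', O)) Γ(Y', W) p

end Groth.Agent.CBC
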