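import Groth.Agent.LFFrame.Basic
import Groth.Agent.FinCov71.Rank
import Mathlib.LinearAlgebra.Determinant
import Mathlib.LinearAlgebra.InvariantBasisNumber

/-!
# Where sections form a frame
-/

set_option autoImplicit false
set_option backward.isDefEq.respectTransparency false
set_option backward.isDefEq.respectTransparency.types false

universe u

open CategoryTheory CategoryTheory.Limits AlgebraicGeometry TopologicalSpace Opposite Function
open Groth.Agent.PullStalk.Sky Groth.Agent.LFFrame

noncomputable section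

namespace Groth.Agent.CBC.FrameDet

section Alg

variable {R : Type*} [CommRing R] {N : Type*} [AddCommGroup N] [Module R N]

theorem lc_bijective_iff {n : ℕ} (b : Module.Basis (Fin n) R N) (v : Fin n → N) :
    Bijective (Fintype.linearCombination R v) ↔ IsUnit (b.det v) := by
  rw [← Module.Basis.is_basis_iff_det b, Bijective, linearIndependent_iff_injective_fintypeLinearCombination,
    ← LinearMap.range_eq_top, Fintype.range_linearCombination]

theorem eq_of_lc_bijective [Nontrivial R] {n r : ℕ} (b : Module.Basis (Fin r) R N) (v : Fin n → N)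
    (h : Bijective (Fintype.linearCombination R v)) : n = r := by
  have e := (Module.Basis.ofEquivFun (LinearEquiv.ofBijective _ h).symm).indexEquiv b
  simpa using Fintype.card_congr e

end Alg

variable {X Y : Scheme.{u}}

/-- `e` gives a basis of the stalk at `x` -/
def FrameAt (M : X.Modules) {U : X.Opens} {n : ℕ} (e : Fin n → Γ(M, U)) (x : X) (hx : x ∈ U) :
    Prop :=
  Bijective (stalkComb M e x hx)

lemma stalkComb_res (M : X.Modules) {U W : X.Opens} {n : ℕ} (e : Fin n → Γ(M, U)) (h : W ≤ U)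
    (x : X) (hx : x ∈ W) :
    stalkComb M (fun i => M.presheaf.map (homOfLE h).op (e i)) x hx = stalkComb M e x (h hx) :=
  congrArg (Fintype.linearCombination (X.presheaf.stalk x))
    (funext fun i => M.presheaf.germ_res_apply (homOfLE h) x hx (e i))

theorem isFrame_res {M : X.Modules} {U W : X.Opens} {n : ℕ} {e : Fin n → Γ(M, U)}
    (he : IsFrame M U e) (h : W ≤ U) :
    IsFrame M W (fun i => M.presheaf.map (homOfLE h).op (e i)) :=
  isFrame_of_stalkComb_bijective fun x hx => by
    rw [stalkComb_res]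
    exact he.stalkComb_bijective x (h hx)

theorem isFrame_map {M N : X.Modules} (φ : M ≅ N) {U : X.Opens} {n : ℕ} {e : Fin n → Γ(M, U)}
    (he : IsFrame M U e) : IsFrame N U (fun i => φ.hom.app U (e i)) := fun V h => by
  have hfun : comb N (fun i => φ.hom.app U (e i)) h = φ.hom.app V ∘ comb M e h := by
    funext a
    simp only [comb, Function.comp_apply, map_sum, Scheme.Modules.Hom.app_smul]
    refine Finset.sum_congr rfl fun i _ => congrArg (a i • ·) ?_
    exact (NatTrans.naturality_apply φ.hom.mapPresheaf (homOfLE h).op (e i)).symm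
  rw [hfun]
  exact (ConcreteCategory.bijective_of_isIso (φ.hom.app V)).comp (he V h)

/-- the basis of a stalk given by a frame -/
def basisAt {M : X.Modules} {U : X.Opens} {n : ℕ} {e : Fin n → Γ(M, U)} (he : IsFrame M U e)
    (x : X) (hx : x ∈ U) : Module.Basis (Fin n) (X.presheaf.stalk x) (M.presheaf.stalk x) :=
  Module.Basis.ofEquivFun
    (LinearEquiv.ofBijective (stalkComb M e x hx) (he.stalkComb_bijective x hx)).symm

lemma basisAt_apply {M : X.Modules} {U : X.Opens} {n : ℕ} {e : Fin n → Γ(M, U)}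
    (he : IsFrame M U e) (x : X) (hx : x ∈ U) (i : Fin n) :
    basisAt he x hx i = germM M U x hx (e i) := by
  simp [basisAt, stalkComb, Fintype.linearCombination_apply_single]

theorem eq_of_frameAt {M : X.Modules} {U W : X.Opens} {n r : ℕ} {f : Fin r → Γ(M, W)}
    (hf : IsFrame M W f) {e : Fin n → Γ(M, U)} {x : X} {hx : x ∈ U} (hW : x ∈ W)
    (h : FrameAt M e x hx) : n = r :=
  eq_of_lc_bijective (basisAt hf x hW) _ h

theorem eq_of_isFrame {M : X.Modules} {U W : X.Opens} {n r : ℕ} {f : Fin r → Γ(M, W)}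
    (hf : IsFrame M W f) {e : Fin n → Γ(M, U)} (he : IsFrame M U e) {x : X} (hx : x ∈ U)
    (hW : x ∈ W) : n = r :=
  eq_of_frameAt hf hW (he.stalkComb_bijective x hx)

/-- the matrix of sections in a frame on a smaller open -/
theorem exists_det {M : X.Modules} {U W : X.Opens} {n : ℕ} {f : Fin n → Γ(M, W)}
    (hf : IsFrame M W f) (e : Fin n → Γ(M, U)) (h : W ≤ U) :
    ∃ d : Γ(X, W), ∀ (x : X) (hx : x ∈ W), FrameAt M e x (h hx) ↔ x ∈ X.basicOpen d := by
  choose a ha using fun j => (hf W le_rfl).2 (M.presheaf.map (homOfLE h).op (e j))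
  let A : Matrix (Fin n) (Fin n) Γ(X, W) := fun i j => a j i
  refine ⟨A.det, fun x hx => ?_⟩
  rw [X.mem_basicOpen _ _ hx, RingHom.map_det]
  unfold FrameAt stalkComb
  rw [lc_bijective_iff (basisAt hf x hx), Module.Basis.det_apply]
  refine iff_of_eq (congrArg (fun B : Matrix (Fin n) (Fin n) _ => IsUnit B.det) ?_)
  ext i j
  rw [Module.Basis.toMatrix_apply]
  have h1 : germM M U x (h hx) (e j) =
      ∑ k, X.presheaf.germ W x hx (a j k) • basisAt hf x hx k := by
    simp only [basisAt_apply]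
    refine Eq.trans ?_ (germ_comb M f le_rfl (a j) x hx)
    rw [ha]
    exact (M.presheaf.germ_res_apply (homOfLE h) x hx (e j)).symm
  rw [h1, Module.Basis.repr_sum_self]
  rfl

/-- where the sections form a frame -/
def locus (M : X.Modules) {U : X.Opens} {n : ℕ} (e : Fin n → Γ(M, U)) : Set X :=
  {x | ∃ hx : x ∈ U, FrameAt M e x hx}

variable {M : X.Modules}

lemma locus_inter {U W : X.Opens} {n : ℕ} (e : Fin n → Γ(M, U)) {f : Fin n → Γ(M, W)}
    (hf : IsFrame M W f) (h : W ≤ U) : ∃ d : Γ(X, W), (W : Set X) ∩ locus M e = X.basicOpen d := by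
  obtain ⟨d, hd⟩ := exists_det hf e h
  refine ⟨d, Set.ext fun x => ⟨fun ⟨hx, _, hx'⟩ => (hd x hx).1 hx',
    fun hx => ⟨X.basicOpen_le d hx, h (X.basicOpen_le d hx), (hd x (X.basicOpen_le d hx)).2 hx⟩⟩⟩

theorem isOpen_locus (hM : FlatMod.IsFinLocFree M) {U : X.Opens} {n : ℕ} (e : Fin n → Γ(M, U)) :
    IsOpen (locus M e) := by
  refine isOpen_iff_forall_mem_open.2 fun x ⟨hxU, hx⟩ => ?_
  obtain ⟨W, r, f, hxW, hf⟩ := exists_isFrame_of_isFinLocFree hM x
  obtain rfl := eq_of_frameAt hf hxW hx
  obtain ⟨d, hd⟩ := locus_inter e (isFrame_res hf inf_le_left) (inf_le_right : W ⊓ U ≤ U)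
  exact ⟨X.basicOpen d, hd ▸ Set.inter_subset_right, (X.basicOpen d).2,
    hd ▸ ⟨⟨hxW, hxU⟩, hxU, hx⟩⟩

theorem isCompact_locus (hM : FlatMod.IsFinLocFree M) {U : X.Opens} (hU : IsCompact (U : Set X))
    {n : ℕ} (e : Fin n → Γ(M, U)) : IsCompact (locus M e) := by
  have hloc : ∀ x : U, ∃ W : X.Opens, x.1 ∈ W ∧ IsCompact ((W : Set X) ∩ locus M e) := by
    rintro ⟨x, hxU⟩
    obtain ⟨W₀, r, f, hxW₀, hf⟩ := exists_isFrame_of_isFinLocFree hM x
    obtain ⟨_, ⟨W, hW, rfl⟩, hxW, hle⟩ := X.isBasis_affineOpens.exists_subset_of_mem_open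
      (show x ∈ W₀ ⊓ U from ⟨hxW₀, hxU⟩) (W₀ ⊓ U).2
    refine ⟨W, hxW, ?_⟩
    by_cases hrn : r = n
    · subst hrn
      obtain ⟨d, hd⟩ := locus_inter e (isFrame_res hf (show W ≤ W₀ from fun y hy => (hle hy).1))
        (show W ≤ U from fun y hy => (hle hy).2)
      rw [hd]
      exact (hW.basicOpen d).isCompact
    · convert isCompact_empty
      exact Set.eq_empty_iff_forall_notMem.2 fun y ⟨hy, _, hy'⟩ =>
        hrn (eq_of_frameAt hf (hle hy).1 hy').symm
  choose W hxW hW using hloc
  obtain ⟨s, hs⟩ := hU.elim_finite_subcover (fun x : U => (W x : Set X)) (fun x => (W x).2)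
    fun x hx => Set.mem_iUnion.2 ⟨⟨x, hx⟩, hxW _⟩
  have heq : locus M e = ⋃ x ∈ s, (W x : Set X) ∩ locus M e := by
    refine Set.Subset.antisymm (fun y hy => ?_) (Set.iUnion₂_subset fun _ _ => Set.inter_subset_right)
    obtain ⟨x, hx, hyx⟩ := Set.mem_iUnion₂.1 (hs hy.1)
    exact Set.mem_iUnion₂.2 ⟨x, hx, hyx, hy⟩
  rw [heq]
  exact s.finite_toSet.isCompact_biUnion fun x _ => hW x

/-- being a frame at a point can be checked after pullback -/
theorem frameAt_of_pullback (φ : Y ⟶ X) (hM : FlatMod.IsFinLocFree M) {U : X.Opens} {n : ℕ}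
    (e : Fin n → Γ(M, U)) {y : Y} (hy : φ y ∈ U)
    (h : FrameAt ((Scheme.Modules.pullback φ).obj M) (fun i => unitSec φ M U (e i)) y hy) :
    FrameAt M e (φ y) hy := by
  obtain ⟨W, r, f, hyW, hf⟩ := exists_isFrame_of_isFinLocFree hM (φ y)
  let := (φ.stalkMap y).hom.toAlgebra
  let := PullStalk.Basic.moduleOver φ M y
  have : IsScalarTower (X.presheaf.stalk (φ y)) (Y.presheaf.stalk y)
        (((Scheme.Modules.pullback φ).obj M).presheaf.stalk y) :=
      IsScalarTower.of_algebraMap_smul fun _ _ => rfl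
  let b := basisAt hf (φ y) hyW
  have hbc := PullStalk.Basic.isBaseChange_unitStalk φ M y
  let b' := hbc.basis b
  obtain rfl : n = r := eq_of_lc_bijective b' _ h
  unfold FrameAt stalkComb at h ⊢
  rw [lc_bijective_iff b] 
  rw [lc_bijective_iff b', Module.Basis.det_apply] at h
  rw [Module.Basis.det_apply]
  let v : Fin n → M.presheaf.stalk (φ y) := fun i => germM M U (φ y) hy (e i)
  have hmat : b'.toMatrix (fun i => germM ((Scheme.Modules.pullback φ).obj M) (φ ⁻¹ᵁ U) y hy
      (unitSec φ M U (e i))) = (b.toMatrix v).map (φ.stalkMap y).hom := by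
    ext i j
    rw [Module.Basis.toMatrix_apply, Matrix.map_apply, Module.Basis.toMatrix_apply]
    rw [show germM ((Scheme.Modules.pullback φ).obj M) (φ ⁻¹ᵁ U) y hy (unitSec φ M U (e j)) =
      PullStalk.Basic.unitStalk φ M y (v j) from
        (PullStalk.Basic.unitStalkHom_germ φ M y U hy (e j)).symm]
    conv_lhs => rw [← b.sum_repr (v j), map_sum]
    have h1 : ∀ k, PullStalk.Basic.unitStalk φ M y (b.repr (v j) k • b k) =
        (φ.stalkMap y).hom (b.repr (v j) k) • b' k := fun k => by
      rw [LinearMap.map_smul, IsBaseChange.basis_apply]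
      rfl
    simp only [h1, Module.Basis.repr_sum_self]
  rw [hmat] at h
  change IsUnit (((φ.stalkMap y).hom.mapMatrix (b.toMatrix v))).det at h
  rw [← RingHom.map_det] at h
  exact isUnit_of_map_unit _ _ h

end Groth.Agent.CBC.FrameDet
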