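import Groth.Agent.CBC.BCx
import Groth.Agent.FlatCx.More
import Mathlib.RingTheory.Length
import Mathlib.RingTheory.LocalRing.Module
import Mathlib.RingTheory.HopkinsLevitzki
import Mathlib.LinearAlgebra.Dimension.StrongRankCondition
import Groth.Agent.Chevalley.Basic

/-!
# Exchange property over local rings, for windows
-/

universe u

open TensorProduct Function LinearMap

namespace Groth.Agent.CBC

namespace SCx

variable {A : Type u} [CommRing A] {K : SCx A} {p : ℕ} (w : K.Win p)

/-- lifting kernel elements along a map which is surjective on cohomology -/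
lemma Win.exists_lift {M N : Type u} [AddCommGroup M] [Module A M] [AddCommGroup N] [Module A N]
    (g : M →ₗ[A] N) (h : Surjective (K.Hmap g p)) (y : w.G ⊗[A] N) (hy : w.u.rTensor N y = 0) :
    ∃ x : w.G ⊗[A] M, w.u.rTensor M x = 0 ∧ g.lTensor w.G x = y := by
  obtain ⟨x, hx⟩ := h ((w.e N).symm ⟨y, hy⟩)
  refine ⟨(w.e M x).1, (w.e M x).2, ?_⟩
  rw [← w.nat, hx, LinearEquiv.apply_symm_apply]

variable [IsLocalRing A]

include w in
/-- (b) ⇒ (a) -/
theorem Win.rExact_of_surjective_residue
    (h : Surjective (K.Hmap (Algebra.linearMap A (IsLocalRing.ResidueField A)) p)) :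
    K.RExact p := by
  haveI : Module.FinitePresentation A (Cok w.u) := by
    have := w.fp
    exact Module.finitePresentation_of_surjective _ (Submodule.mkQ_surjective _) (by
      rw [Submodule.ker_mkQ, LinearMap.range_eq_map]
      exact (Module.Finite.fg_top (R := A) (M := w.G)).map _)
  have : Module.Free A (Cok w.u) :=
    FlatCx.free_of_lift_residueField (exact_mkQ w.u) (Submodule.mkQ_surjective _) fun y hy => by
      obtain ⟨x, hx, hxy⟩ := w.exists_lift _ h y hy
      refine ⟨x, hx, ?_⟩
      exact hxy
  exact w.rExact_iff.2 inferInstance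

include w in
/-- (c) ⇒ (a) -/
theorem Win.rExact_of_surjective_powers [IsNoetherianRing A]
    (h : ∀ n : ℕ, Surjective (K.Hmap (Ideal.Quotient.factorₐ A (Ideal.pow_le_self
      (I := IsLocalRing.maximalIdeal A) (Nat.succ_ne_zero n))).toLinearMap p)) :
    K.RExact p := by
  haveI : Module.FinitePresentation A (Cok w.u) := Module.finitePresentation_of_finite A _
  let m := IsLocalRing.maximalIdeal A
  obtain ⟨k, hk⟩ := Ideal.exists_pow_inf_eq_pow_smul m (LinearMap.range w.u)
  have : Module.Free A (Cok w.u) :=
    FlatCx.free_of_lift_residueField (exact_mkQ w.u) (Submodule.mkQ_surjective _) fun y hy => by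
      obtain ⟨x, hx, hxy⟩ := w.exists_lift _ (h k) y hy
      obtain ⟨c, rfl⟩ := FlatCx.exists_eq_tmul_mk _ x
      rw [LinearMap.rTensor_tmul, FlatCx.tmul_mk_eq_zero_iff] at hx
      have hmem : w.u c ∈ m • LinearMap.range w.u := by
        have h1 : w.u c ∈ m ^ (k + 1) • (⊤ : Submodule A (Fin w.m → A)) ⊓ LinearMap.range w.u :=
          ⟨hx, ⟨c, rfl⟩⟩
        rw [hk _ (by omega)] at h1
        exact Submodule.smul_mono (Ideal.pow_le_self (by omega)) inf_le_right h1
      rw [← Submodule.map_top, ← Submodule.map_smul'', Submodule.mem_map] at hmem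
      obtain ⟨e, he, hfe⟩ := hmem
      refine ⟨(c - e) ⊗ₜ[A] 1, ?_, ?_⟩
      · rw [LinearMap.rTensor_tmul, map_sub, hfe, sub_self, zero_tmul]
      · rw [← hxy, LinearMap.lTensor_tmul, LinearMap.lTensor_tmul, Submodule.mkQ_apply, sub_tmul]
        have he0 : e ⊗ₜ[A] (Ideal.Quotient.mk m 1) = 0 := (FlatCx.tmul_mk_eq_zero_iff m e).mpr he
        rw [show (Submodule.Quotient.mk 1 : A ⧸ m) = Ideal.Quotient.mk m 1 from rfl, he0, sub_zero]
        rfl
  exact w.rExact_iff.2 inferInstance

end SCx

/-! ### Lengths -/

section Length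

variable {A : Type u} [CommRing A]

/-- lengths after tensoring with a finite free module -/
theorem length_free_tensor (M : Type u) [AddCommGroup M] [Module A M] (d : ℕ) :
    Module.length A ((Fin d → A) ⊗[A] M) = d * Module.length A M := by
  rw [((TensorProduct.comm A (Fin d → A) M) ≪≫ₗ TensorProduct.piScalarRight A A M (Fin d)).length_eq,
    Module.length_pi]
  simp

variable [IsLocalRing A] {G : Type u} [AddCommGroup G] [Module A G] [Module.Finite A G]

theorem eq_bot_of_forall_le_pow [IsNoetherianRing A] {M : Type u} [AddCommGroup M] [Module A M]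
    [Module.Finite A M] (N : Submodule A M) (n₀ : ℕ)
    (h : ∀ n, n₀ ≤ n → N ≤ IsLocalRing.maximalIdeal A ^ (n + 1) • (⊤ : Submodule A M)) : N = ⊥ := by
  have h0 := Ideal.iInf_pow_smul_eq_bot_of_isLocalRing (M := M) (IsLocalRing.maximalIdeal A)
    (IsLocalRing.maximalIdeal.isMaximal A).ne_top
  rw [eq_bot_iff, ← h0]
  exact le_iInf fun i => (h (max i n₀) (le_max_right _ _)).trans
    (Submodule.smul_mono_left (Ideal.pow_le_pow_right ((le_max_left i n₀).trans (Nat.le_succ _))))





theorem length_ker_add {P Q : Type u} [AddCommGroup P] [Module A P] [AddCommGroup Q] [Module A Q]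
    (g : P →ₗ[A] Q) :
    Module.length A P = Module.length A (LinearMap.ker g) + Module.length A (LinearMap.range g) :=
  Module.length_eq_add_of_exact (LinearMap.ker g).subtype g.rangeRestrict
    (Submodule.subtype_injective _) (LinearMap.surjective_rangeRestrict _)
    (by rw [LinearMap.exact_iff, Submodule.range_subtype, LinearMap.ker_rangeRestrict])

theorem length_quot_pow_ne_top [IsNoetherianRing A] (n : ℕ) :
    Module.length A (A ⧸ IsLocalRing.maximalIdeal A ^ n) ≠ ⊤ := by
  have := Groth.Agent.Chevalley.isArtinianRing_quotient_pow A n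
  rw [Module.length_ne_top_iff, isFiniteLength_iff_isNoetherian_isArtinian]
  exact ⟨inferInstance, isArtinian_of_surjective_algebraMap
    (R := A ⧸ IsLocalRing.maximalIdeal A ^ n) Ideal.Quotient.mk_surjective⟩

theorem length_residueField : Module.length A (IsLocalRing.ResidueField A) = 1 := by
  have : IsSimpleModule A (A ⧸ IsLocalRing.maximalIdeal A) :=
    isSimpleModule_iff_quot_maximal.mpr ⟨_, inferInstance, ⟨LinearEquiv.refl _ _⟩⟩
  exact Module.length_eq_one A (A ⧸ IsLocalRing.maximalIdeal A)

omit [Module.Finite A G] in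
theorem tmul_one_eq_zero_iff (x : G) :
    x ⊗ₜ[A] (1 : IsLocalRing.ResidueField A) = 0 ↔
      x ∈ IsLocalRing.maximalIdeal A • (⊤ : Submodule A G) :=
  FlatCx.tmul_mk_eq_zero_iff (IsLocalRing.maximalIdeal A) x

omit [IsLocalRing A] in
theorem baseChange_injective_of_li (k : Type u) [CommRing k] [Algebra A k] {N : Type u}
    [AddCommGroup N] [Module A N] {r : ℕ} (g : Fin r → N)
    (h : LinearIndependent k fun i => (1 : k) ⊗ₜ[A] g i) :
    Injective (((Pi.basisFun A (Fin r)).constr A g).baseChange k) := by
  let bb := (Pi.basisFun A (Fin r)).baseChange k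
  have hv : ((Pi.basisFun A (Fin r)).constr A g).baseChange k =
      bb.constr k fun i => (1 : k) ⊗ₜ[A] g i := by
    refine bb.ext fun i => ?_
    rw [Module.Basis.constr_basis, Module.Basis.baseChange_apply, LinearMap.baseChange_tmul,
      Module.Basis.constr_basis]
  rw [hv, injective_iff_map_eq_zero]
  intro x hx
  rw [Module.Basis.constr_apply] at hx
  exact (LinearEquiv.map_eq_zero_iff _).1 (linearIndependent_iff.1 h _ hx)

omit [IsLocalRing A] in
theorem range_baseChange_constr (k : Type u) [CommRing k] [Algebra A k] {N : Type u}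
    [AddCommGroup N] [Module A N] {r : ℕ} (g : Fin r → N) :
    LinearMap.range (((Pi.basisFun A (Fin r)).constr A g).baseChange k) =
      Submodule.span k (Set.range fun i => (1 : k) ⊗ₜ[A] g i) := by
  let bb := (Pi.basisFun A (Fin r)).baseChange k
  rw [← bb.constr_range (S := k)]
  congr 1
  refine bb.ext fun i => ?_
  rw [Module.Basis.constr_basis, Module.Basis.baseChange_apply, LinearMap.baseChange_tmul,
    Module.Basis.constr_basis]

omit [Module.Finite A G] in
/-- splitting off the largest free summand seen by the closed fibre -/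
theorem exists_split {m : ℕ} (u : G →ₗ[A] (Fin m → A)) :
    ∃ (r : ℕ) (b : (Fin r → A) →ₗ[A] G) (ρ : (Fin m → A) →ₗ[A] (Fin r → A)),
      (∀ c, ρ (u (b c)) = c) ∧
      ∀ g, ρ (u g) = 0 → (u g) ⊗ₜ[A] (1 : IsLocalRing.ResidueField A) = 0 := by
  classical
  obtain ⟨f, hfs, hspan, hind⟩ := Submodule.exists_fun_fin_finrank_span_eq
    (IsLocalRing.ResidueField A) (Set.range fun g => (1 : IsLocalRing.ResidueField A) ⊗ₜ[A] u g)
  choose g hg using hfs
  let b : (Fin _ → A) →ₗ[A] G := (Pi.basisFun A _).constr A g
  have hv : u ∘ₗ b = (Pi.basisFun A _).constr A (fun i => u (g i)) :=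
    (Pi.basisFun A _).ext fun i => by simp [b]
  obtain rfl : f = fun i => (1 : IsLocalRing.ResidueField A) ⊗ₜ[A] u (g i) :=
    funext fun i => (hg i).symm
  have hinj := baseChange_injective_of_li (A := A) (IsLocalRing.ResidueField A) _ hind
  have hrange := range_baseChange_constr (A := A) (IsLocalRing.ResidueField A) fun i => u (g i)
  rw [← hv] at hinj hrange
  obtain ⟨ρ, hρ⟩ :=
    (IsLocalRing.split_injective_iff_lTensor_residueField_injective (u ∘ₗ b)).2 hinj
  refine ⟨_, b, ρ, fun c => LinearMap.congr_fun hρ c, fun g₀ hg₀ => ?_⟩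
  have hmem : (1 : IsLocalRing.ResidueField A) ⊗ₜ[A] u g₀ ∈
      LinearMap.range ((u ∘ₗ b).baseChange (IsLocalRing.ResidueField A)) := by
    rw [hrange, hspan]
    exact Submodule.subset_span ⟨g₀, rfl⟩
  obtain ⟨z, hz⟩ := hmem
  have h2 := congrArg (ρ.baseChange (IsLocalRing.ResidueField A)) hz
  rw [← LinearMap.comp_apply, ← LinearMap.baseChange_comp, hρ, LinearMap.baseChange_id,
    LinearMap.id_apply, LinearMap.baseChange_tmul, hg₀, tmul_zero] at h2
  rw [h2, map_zero] at hz
  have h3 := congrArg (TensorProduct.comm A (IsLocalRing.ResidueField A) (Fin m → A)) hz.symm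
  rw [TensorProduct.comm_tmul, map_zero] at h3
  exact h3

/-- a free cover inducing a bijection on the closed fibre -/
theorem exists_minimal_cover :
    ∃ (d : ℕ) (φ : (Fin d → A) →ₗ[A] G), Surjective φ ∧
      Bijective (φ.rTensor (IsLocalRing.ResidueField A)) := by
  classical
  let bk := Module.finBasis (IsLocalRing.ResidueField A) (IsLocalRing.ResidueField A ⊗[A] G)
  have hs : Surjective (TensorProduct.mk A (IsLocalRing.ResidueField A) G 1) :=
    TensorProduct.mk_surjective A G _ Ideal.Quotient.mk_surjective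
  choose g hg using fun i => hs (bk i)
  have hφ : Surjective ((Pi.basisFun A _).constr A g) := by
    rw [← LinearMap.range_eq_top, Module.Basis.constr_range]
    exact IsLocalRing.span_eq_top_of_tmul_eq_basis g bk hg
  refine ⟨_, (Pi.basisFun A _).constr A g, hφ, ?_, LinearMap.rTensor_surjective _ hφ⟩
  rw [← lTensor_inj_iff_rTensor_inj]
  exact baseChange_injective_of_li (A := A) (IsLocalRing.ResidueField A) g
    (by rw [show (fun i => (1 : IsLocalRing.ResidueField A) ⊗ₜ[A] g i) = bk from funext hg]
        exact bk.linearIndependent)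

omit [IsLocalRing A] [Module.Finite A G] in
/-- the kernel of a retracted map -/
theorem rTensor_eq_of_split {L : Type u} [AddCommGroup L] [Module A L] {r : ℕ}
    (u : G →ₗ[A] L) (b : (Fin r → A) →ₗ[A] G) (ρ : L →ₗ[A] (Fin r → A))
    (π : G →ₗ[A] LinearMap.ker (ρ ∘ₗ u))
    (hπ : ∀ g, (π g).1 + b (ρ (u g)) = g) (M : Type u) [AddCommGroup M] [Module A M]
    (z : G ⊗[A] M) :
    (LinearMap.ker (ρ ∘ₗ u)).subtype.rTensor M (π.rTensor M z) +
      b.rTensor M (ρ.rTensor M (u.rTensor M z)) = z := by
  induction z using TensorProduct.induction_on with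
  | zero => simp
  | tmul g m => simp [← TensorProduct.add_tmul, hπ]
  | add a c ha hc =>
    simp only [map_add]
    rw [add_add_add_comm, ha, hc]

variable [IsNoetherianRing A] {m : ℕ} (u : G →ₗ[A] (Fin m → A))

/-- lengths detect that source and cokernel are flat -/
theorem flat_of_length_eq (n₀ : ℕ)
    (h : ∀ n, n₀ ≤ n → Module.length A
        (LinearMap.ker (u.rTensor (A ⧸ IsLocalRing.maximalIdeal A ^ (n + 1)))) =
      Module.length A (LinearMap.ker (u.rTensor (IsLocalRing.ResidueField A))) *
        Module.length A (A ⧸ IsLocalRing.maximalIdeal A ^ (n + 1))) :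
    Module.Flat A G ∧ Module.Flat A ((Fin m → A) ⧸ LinearMap.range u) := by
  obtain ⟨r, b, ρ, hρ, hzero⟩ := exists_split u
  let G' := LinearMap.ker (ρ ∘ₗ u)
  let π : G →ₗ[A] G' := (LinearMap.id - b ∘ₗ ρ ∘ₗ u).codRestrict G' fun g => by
    simp [G', hρ]
  have hπ : ∀ g, (π g).1 + b (ρ (u g)) = g := fun g => by simp [π]
  let ι := G'.subtype
  let u' := u ∘ₗ ι
  have hπι : π ∘ₗ ι = LinearMap.id := LinearMap.ext fun g => Subtype.ext (by
    have hg : ρ (u g.1) = 0 := g.2
    simp [π, ι, hg])
  haveI : Module.Finite A G' := Module.Finite.of_surjective π fun g => ⟨g.1,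
    LinearMap.congr_fun hπι g⟩
  -- the reduced map
  have hker : ∀ (M : Type u) [AddCommGroup M] [Module A M],
      Module.length A (LinearMap.ker (u'.rTensor M)) =
        Module.length A (LinearMap.ker (u.rTensor M)) := by
    intro M _ _
    have hι : Injective (ι.rTensor M) := fun x y hxy => by
      have := congrArg (π.rTensor M) hxy
      simpa [← LinearMap.comp_apply, ← rTensor_comp, hπι] using this
    let e : LinearMap.ker (u'.rTensor M) →ₗ[A] LinearMap.ker (u.rTensor M) :=
      (ι.rTensor M).restrict fun x hx => by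
        change u.rTensor M (ι.rTensor M x) = 0
        rw [← LinearMap.comp_apply, ← rTensor_comp]
        exact hx
    refine LinearEquiv.length_eq (LinearEquiv.ofBijective e
      ⟨fun x y hxy => Subtype.ext (hι (congrArg Subtype.val hxy)), fun z => ?_⟩)
    have hz := rTensor_eq_of_split u b ρ π hπ M z.1
    rw [show u.rTensor M z.1 = 0 from z.2, map_zero, map_zero, add_zero] at hz
    refine ⟨⟨π.rTensor M z.1, ?_⟩, Subtype.ext hz⟩
    change u'.rTensor M _ = 0
    rw [rTensor_comp, LinearMap.comp_apply, hz]
    exact z.2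
  obtain ⟨d, φ, hφ, hφk⟩ := exists_minimal_cover (A := A) (G := G')
  have hu'k : u'.rTensor (IsLocalRing.ResidueField A) = 0 := by
    refine TensorProduct.ext' fun g x => ?_
    obtain ⟨a, rfl⟩ := IsLocalRing.residue_surjective x
    have h1 : (u' g) ⊗ₜ[A] (1 : IsLocalRing.ResidueField A) = 0 := hzero g.1 g.2
    have h2 : IsLocalRing.residue A a =
        a • (1 : IsLocalRing.ResidueField A) := (Algebra.smul_def _ _).trans (mul_one _) |>.symm
    rw [LinearMap.rTensor_tmul, LinearMap.zero_apply, h2, TensorProduct.tmul_smul, h1, smul_zero]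
  have hk : Module.length A (LinearMap.ker (u.rTensor (IsLocalRing.ResidueField A))) = d := by
    rw [← hker (IsLocalRing.ResidueField A), hu'k, LinearMap.ker_zero, Module.length_top,
      ← (LinearEquiv.ofBijective _ hφk).length_eq, length_free_tensor, length_residueField, mul_one]
  have key : ∀ n, n₀ ≤ n →
      Injective (φ.rTensor (A ⧸ IsLocalRing.maximalIdeal A ^ (n + 1))) ∧
        u'.rTensor (A ⧸ IsLocalRing.maximalIdeal A ^ (n + 1)) = 0 := by
    intro n hn
    let M := A ⧸ IsLocalRing.maximalIdeal A ^ (n + 1)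
    have h0 := h n hn
    rw [← hker M, hk] at h0
    have hs : Surjective (φ.rTensor M) := LinearMap.rTensor_surjective _ hφ
    have hfree : Module.length A ((Fin d → A) ⊗[A] M) = d * Module.length A M := length_free_tensor M d
    have e1 := length_ker_add (A := A) (φ.rTensor M)
    rw [LinearMap.range_eq_top.2 hs, Module.length_top] at e1
    have e2 := length_ker_add (A := A) (u'.rTensor M)
    rw [h0, ← hfree, e1] at e2
    have hnt : Module.length A ((Fin d → A) ⊗[A] M) ≠ ⊤ := by
      rw [hfree]
      exact WithTop.mul_ne_top (ENat.natCast_ne_top d) (length_quot_pow_ne_top (n + 1))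
    rw [e1] at hnt
    have h00 : Module.length A (LinearMap.ker (φ.rTensor M)) = 0 ∧
        Module.length A (LinearMap.range (u'.rTensor M)) = 0 := by
      revert e2 hnt
      generalize Module.length A (LinearMap.ker (φ.rTensor M)) = a
      generalize Module.length A (LinearMap.range (u'.rTensor M)) = c
      generalize Module.length A (G' ⊗[A] M) = t
      intro e2 hnt
      obtain ⟨ha, ht⟩ := WithTop.add_ne_top.mp hnt
      lift a to ℕ using ha
      lift t to ℕ using ht
      have hc : c ≠ ⊤ := fun hc => by rw [hc] at e2; simp at e2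
      lift c to ℕ using hc
      norm_cast at *
      omega
    rw [Module.length_eq_zero_iff, Module.length_eq_zero_iff, Submodule.subsingleton_iff_eq_bot,
      Submodule.subsingleton_iff_eq_bot] at h00
    exact ⟨LinearMap.ker_eq_bot.1 h00.1, LinearMap.range_eq_bot.1 h00.2⟩
  have hφinj : Injective φ := by
    rw [← LinearMap.ker_eq_bot]
    refine eq_bot_of_forall_le_pow _ n₀ fun n hn x hx => ?_
    refine (FlatCx.tmul_mk_eq_zero_iff _ x).1 ((key n hn).1 ?_)
    rw [LinearMap.rTensor_tmul, show φ x = 0 from hx, zero_tmul, map_zero]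
  have hu' : u' = 0 := by
    rw [← LinearMap.range_eq_bot]
    refine eq_bot_of_forall_le_pow _ n₀ fun n hn => ?_
    rintro _ ⟨x, rfl⟩
    refine (FlatCx.tmul_mk_eq_zero_iff _ _).1 ?_
    exact LinearMap.congr_fun (key n hn).2 (x ⊗ₜ[A] 1)
  haveI : Module.Flat A G' := Module.Flat.of_linearEquiv (LinearEquiv.ofBijective φ ⟨hφinj, hφ⟩).symm
  constructor
  · let e : G ≃ₗ[A] G' × (Fin r → A) :=
      LinearEquiv.ofLinear (π.prod (ρ ∘ₗ u)) (ι.coprod b)
        (by
          refine LinearMap.ext fun x => Prod.ext (Subtype.ext ?_) ?_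
          · have hx : ρ (u x.1.1) = 0 := x.1.2
            simp [π, ι, hρ, hx]
          · have hx : ρ (u x.1.1) = 0 := x.1.2
            simp [ι, hρ, hx])
        (LinearMap.ext fun g => by simpa [ι] using hπ g)
    have := flat_prod (A := A) (M := G') (N := Fin r → A)
    exact Module.Flat.of_linearEquiv e
  · let q : (Fin m → A) →ₗ[A] (Fin m → A) := LinearMap.id - (u ∘ₗ b) ∘ₗ ρ
    have hq : ∀ g, q (u g) = 0 := fun g => by
      have h1 : u (π g).1 = 0 := LinearMap.congr_fun hu' (π g)
      have h2 := congrArg u (hπ g)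
      rw [map_add, h1, zero_add] at h2
      simp [q, h2]
    let sec : ((Fin m → A) ⧸ LinearMap.range u) →ₗ[A] (Fin m → A) :=
      Submodule.liftQ _ q (by rintro _ ⟨g, rfl⟩; exact hq g)
    have : Module.Projective A ((Fin m → A) ⧸ LinearMap.range u) :=
      Module.Projective.of_split sec (Submodule.mkQ _) (by
        refine Submodule.linearMap_qext _ (LinearMap.ext fun x => ?_)
        change Submodule.Quotient.mk (x - u (b (ρ x))) = Submodule.Quotient.mk x
        rw [Submodule.Quotient.mk_sub, (Submodule.Quotient.mk_eq_zero _).2 (LinearMap.mem_range_self u (b (ρ x))), sub_zero])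
    infer_instance

omit [IsNoetherianRing A] in
/-- flat source and cokernel make lengths multiplicative -/
theorem length_ker_eq_of_flat [Module.Flat A G] [Module.Flat A ((Fin m → A) ⧸ LinearMap.range u)]
    [Module.FinitePresentation A (LinearMap.ker u)] :
    ∀ (M : Type u) [AddCommGroup M] [Module A M],
      Module.length A (LinearMap.ker (u.rTensor M)) =
        Module.length A (LinearMap.ker (u.rTensor (IsLocalRing.ResidueField A))) *
          Module.length A M := by
  have hex : Exact u (Submodule.mkQ (LinearMap.range u)) := u.exact_map_mkQ_range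
  have := FlatCx.flat_ker hex (Submodule.mkQ_surjective _)
  have : Module.Free A (LinearMap.ker u) := Module.free_of_flat_of_isLocalRing
  let d := Module.finrank A (LinearMap.ker u)
  let e0 : LinearMap.ker u ≃ₗ[A] (Fin d → A) := (Module.finBasis A _).equivFun
  have h1 : ∀ (M : Type u) [AddCommGroup M] [Module A M],
      Module.length A (LinearMap.ker (u.rTensor M)) = d * Module.length A M := by
    intro M _ _
    let e1 : LinearMap.ker u ⊗[A] M ≃ₗ[A] LinearMap.ker (u.rTensor M) :=
      LinearEquiv.ofInjective _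
          (FlatCx.ker_rTensor_subtype_injective hex (Submodule.mkQ_surjective _) M) ≪≫ₗ
        LinearEquiv.ofEq _ _
          (LinearMap.exact_iff.1 (FlatCx.exact_ker_rTensor hex (Submodule.mkQ_surjective _) M)).symm
    rw [← e1.length_eq, (e0.rTensor M).length_eq, length_free_tensor]
  intro M _ _
  rw [h1 M, h1 (IsLocalRing.ResidueField A), length_residueField, mul_one]

end Length

namespace SCx

variable {A : Type u} [CommRing A] [IsLocalRing A] [IsNoetherianRing A] {K : SCx A} {p : ℕ}
  (w : K.Win p)

include w in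
/-- (b) ⇔ (c): exactness in terms of lengths -/
theorem Win.exact_iff_length :
    (K.LExact p ∧ K.RExact p) ↔ ∃ n₀ : ℕ, ∀ n, n₀ ≤ n →
      Module.length A (K.H (A ⧸ IsLocalRing.maximalIdeal A ^ (n + 1)) p) =
        Module.length A (K.H (IsLocalRing.ResidueField A) p) *
          Module.length A (A ⧸ IsLocalRing.maximalIdeal A ^ (n + 1)) := by
  have := w.fp
  rw [w.lExact_iff, w.rExact_iff]
  simp only [fun (M : Type u) [AddCommGroup M] [Module A M] => (w.e M).length_eq]
  constructor
  · rintro ⟨hG, hQ⟩
    haveI : Module.Flat A ((Fin w.m → A) ⧸ LinearMap.range w.u) := hQ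
    haveI : Module.Finite A (LinearMap.ker w.u) := Module.Finite.of_injective _ (Submodule.subtype_injective _)
    haveI := Module.finitePresentation_of_finite A (LinearMap.ker w.u)
    exact ⟨0, fun n _ => length_ker_eq_of_flat w.u _⟩
  · rintro ⟨n₀, h⟩
    exact flat_of_length_eq w.u n₀ h

end SCx

end Groth.Agent.CBC
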