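import Groth.Agent.CBC.AffBase
import Groth.Agent.CBC.Local

/-!
# The functor `M ↦ H^p(X, F ⊗_A M)` and its representing complex
-/

universe u

open CategoryTheory Limits Opposite TopologicalSpace AlgebraicGeometry Function TensorProduct

namespace Groth.Agent.CBC

variable {A : Type u} [CommRing A] {X : Scheme.{u}} [X.Over (Spec (CommRingCat.of A))]
  {F : X.Modules} (R : Rep (A := A) F) (p : ℕ)

/-- the functor `M ↦ H^p(X, F ⊗_A M)` -/
noncomputable abbrev TA (A : Type u) [CommRing A] {X : Scheme.{u}}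
    [X.Over (Spec (CommRingCat.of A))] (F : X.Modules) (p : ℕ) :
    ModuleCat.{u} A ⥤ AddCommGrpCat.{u} :=
  CohIII.tensorAFunctor A F ⋙ CohIII.HAb X p

lemma TA_map {M M' : ModuleCat.{u} A} (f : M ⟶ M') (x : Coh.HH X (tA F M) p) :
    ((TA A F p).map f).hom x = CohPull.mapH (tAMap F f) p x := rfl

namespace Rep

lemma map_e {M M' : ModuleCat.{u} A} (f : M ⟶ M') (x : R.K.H M p) :
    ((TA A F p).map f).hom (R.e M p x) = R.e M' p (R.K.Hmap f.hom p x) :=
  (R.nat f p x).symm

include R in
lemma surjective_map_iff {M M' : ModuleCat.{u} A} (f : M ⟶ M') :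
    Surjective ((TA A F p).map f).hom ↔ Surjective (R.K.Hmap f.hom p) := by
  constructor
  · intro h y
    obtain ⟨x, hx⟩ := h (R.e M' p y)
    obtain ⟨x, rfl⟩ := (R.e M p).surjective x
    exact ⟨x, (R.e M' p).injective ((R.map_e p f x).symm.trans hx)⟩
  · intro h y
    obtain ⟨y, rfl⟩ := (R.e M' p).surjective y
    obtain ⟨x, rfl⟩ := h y
    exact ⟨R.e M p x, R.map_e p f x⟩

include R in
lemma injective_map_iff {M M' : ModuleCat.{u} A} (f : M ⟶ M') :
    Injective ((TA A F p).map f).hom ↔ Injective (R.K.Hmap f.hom p) := by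
  constructor
  · intro h a b hab
    refine (R.e M p).injective (h ?_)
    exact (R.map_e p f a).trans ((congrArg _ hab).trans (R.map_e p f b).symm)
  · intro h a b hab
    obtain ⟨a, rfl⟩ := (R.e M p).surjective a
    obtain ⟨b, rfl⟩ := (R.e M p).surjective b
    refine congrArg _ (h ((R.e M' p).injective ?_))
    exact (R.map_e p f a).symm.trans (hab.trans (R.map_e p f b))

theorem preservesEpi_iff : (TA A F p).PreservesEpimorphisms ↔ R.K.RExact p := by
  constructor
  · intro h M N _ _ _ _ g hg
    have : Epi (ModuleCat.ofHom g) := (ModuleCat.epi_iff_surjective _).2 hg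
    have h1 := h.preserves (ModuleCat.ofHom g)
    rw [AddCommGrpCat.epi_iff_surjective] at h1
    exact (R.surjective_map_iff p (ModuleCat.ofHom g)).1 h1
  · intro h
    refine ⟨fun {M N} f hf => ?_⟩
    rw [AddCommGrpCat.epi_iff_surjective]
    exact (R.surjective_map_iff p f).2 (h M N f.hom ((ModuleCat.epi_iff_surjective f).1 hf))

theorem preservesMono_iff : (TA A F p).PreservesMonomorphisms ↔ R.K.LExact p := by
  constructor
  · intro h M N _ _ _ _ g hg
    have : Mono (ModuleCat.ofHom g) := (ModuleCat.mono_iff_injective _).2 hg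
    have h1 := h.preserves (ModuleCat.ofHom g)
    rw [AddCommGrpCat.mono_iff_injective] at h1
    exact (R.injective_map_iff p (ModuleCat.ofHom g)).1 h1
  · intro h
    refine ⟨fun {M N} f hf => ?_⟩
    rw [AddCommGrpCat.mono_iff_injective]
    exact (R.injective_map_iff p f).2 (h M N f.hom ((ModuleCat.mono_iff_injective f).1 hf))

lemma length_eq (M : ModuleCat.{u} A) :
    Module.length A (Coh.HH X ((CohIII.tensorAFunctor A F).obj M) p) =
      Module.length A (R.K.H M p) :=
  (LinearEquiv.length_eq ({ R.e M p with map_smul' := R.e_smul M p } :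
    R.K.H M p ≃ₗ[A] Coh.HH X (tA F M) p)).symm

end Rep

/-- a representing complex with windows, for a proper flat family -/
theorem exists_rep_win [IsNoetherianRing A] [IsProper (X ↘ Spec (CommRingCat.of A))]
    (hfin : FinCoh.{u}) (hF : Coh.IsCoh F)
    (hfl : FlatMod.IsFlatOver (X ↘ Spec (CommRingCat.of A)) F) :
    ∃ R : Rep (A := A) F, ∀ p, Nonempty (R.K.Win p) := by
  haveI : F.IsQuasicoherent := hF.1
  obtain ⟨R⟩ := nonempty_rep F hfl
  exact ⟨R, R.nonempty_win hF hfin⟩

end Groth.Agent.CBC
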