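import Groth.Agent.VarBC.H0
import Groth.Agent.S0002
import Groth.Agent.ProperFin.Descend
import Groth.Agent.IntProd70.Family
import Mathlib.RingTheory.Etale.Field
import Mathlib.RingTheory.Artinian.Module
import Mathlib.RingTheory.Nilpotent.GeometricallyReduced

/-!
# Global functions of a proper geometrically reduced scheme over a field are étale
-/

set_option autoImplicit false
universe u

open CategoryTheory Limits AlgebraicGeometry TensorProduct

noncomputable section

namespace Groth.Agent.CBC.GeomRedEtale

/-- A finite geometrically reduced field extension is separable. -/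
theorem isSeparable_of_isGeometricallyReduced (k F : Type u) [Field k] [Field F] [Algebra k F]
    [FiniteDimensional k F] [Algebra.IsGeometricallyReduced k F] : Algebra.IsSeparable k F := by
  obtain ⟨s, hs, hsep⟩ := CAlg48.SepGen.exists_separating k F
  have hempty : IsEmpty (s : Set F) := ⟨fun x ↦
    (hs.1.transcendental x) (Algebra.IsAlgebraic.isAlgebraic (R := k) (x : F))⟩
  have hbot : IntermediateField.adjoin k (s : Set F) = ⊥ := by
    rw [Set.isEmpty_coe_sort.mp hempty, IntermediateField.adjoin_empty]
  rw [hbot] at hsep
  exact Algebra.IsSeparable.of_equiv_equiv (IntermediateField.botEquiv k F).toRingEquiv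
    (RingEquiv.refl F) (RingHom.ext fun x ↦ by
      obtain ⟨c, hc⟩ := IntermediateField.mem_bot.mp x.2
      obtain rfl : algebraMap k (⊥ : IntermediateField k F) c = x := Subtype.ext hc
      simp)

/-- A finite algebra over a field that is reduced over the algebraic closure is étale. -/
theorem etale_of_isReduced_tensor (k E : Type u) [Field k] [CommRing E] [Algebra k E] [Module.Finite k E]
    (h : IsReduced (AlgebraicClosure k ⊗[k] E)) : Algebra.Etale k E := by
  let K := AlgebraicClosure k
  have : IsArtinianRing E := IsArtinianRing.of_finite k E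
  have : IsArtinianRing (K ⊗[k] E) := IsArtinianRing.of_finite K _
  have hEg : Algebra.IsGeometricallyReduced k E := (Algebra.isGeometricallyReduced_field_iff k E).mpr h
  have : IsReduced E := Algebra.isReduced_of_isGeometricallyReduced k (A := E)
  refine (Algebra.Etale.iff_exists_algEquiv_prod k E).mpr
    ⟨MaximalSpectrum E, inferInstance, fun m => E ⧸ m.asIdeal, fun m => Ideal.Quotient.field m.asIdeal,
      inferInstance, ?_, fun m => ?_⟩
  · exact AlgEquiv.ofRingEquiv (f := IsArtinianRing.equivPi E) fun c => rfl
  · letI := Ideal.Quotient.field m.asIdeal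
    refine ⟨inferInstance, ?_⟩
    let π := Algebra.TensorProduct.map (AlgHom.id K K) (Ideal.Quotient.mkₐ k m.asIdeal)
    have hπ : Function.Surjective π.toRingHom := LinearMap.lTensor_surjective K
      (g := (Ideal.Quotient.mkₐ k m.asIdeal).toLinearMap) Ideal.Quotient.mk_surjective
    have : IsSemisimpleRing (K ⊗[k] E) := IsArtinianRing.isSemisimpleRing_of_isReduced _
    have : IsSemisimpleRing (K ⊗[k] (E ⧸ m.asIdeal)) := π.toRingHom.isSemisimpleRing_of_surjective hπ
    have : Algebra.IsGeometricallyReduced k (E ⧸ m.asIdeal) :=
      (Algebra.isGeometricallyReduced_field_iff k _).mpr inferInstance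
    exact isSeparable_of_isGeometricallyReduced k _

variable (k : Type u) [Field k] (X : Scheme.{u}) [X.Over (Spec (CommRingCat.of k))]
  [IsProper (X ↘ Spec (CommRingCat.of k))]

attribute [local instance] VarBC.H0.topAlgebra

theorem finite_top : Module.Finite k Γ(X, ⊤) := by
  have := S0002.result k X (Coh.structureModule X) (ProperFin.isCoh_structureModule X) 0
  let e : Coh.HH X (Coh.structureModule X) 0 →ₗ[k] Γ(X, ⊤) :=
    { toFun := fun x => ProperFin.h0Sec (Coh.structureModule X) x
      map_add' := map_add (ProperFin.h0Sec (Coh.structureModule X))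
      map_smul' := fun r x => by
        refine (ProperFin.h0Sec_smul _ (Coh.toGlobal (X ↘ Spec (CommRingCat.of k)) r) x).trans ?_
        rfl }
  exact Module.Finite.of_surjective e (ProperFin.h0Sec (Coh.structureModule X)).surjective

/-- Global functions of a proper geometrically reduced scheme form an étale algebra. -/
theorem etale_top [GeometricallyReduced (X ↘ Spec (CommRingCat.of k))] :
    Algebra.Etale k Γ(X, ⊤) := by
  have := finite_top k X
  have h : IsReduced (Γ(X, ⊤) ⊗[k] AlgebraicClosure k) := VarBC.H0.isReduced_tensor k X (AlgebraicClosure k)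
  exact etale_of_isReduced_tensor k Γ(X, ⊤)
    (isReduced_of_injective (Algebra.TensorProduct.comm k (AlgebraicClosure k) Γ(X, ⊤)).toRingHom
      (Algebra.TensorProduct.comm k (AlgebraicClosure k) Γ(X, ⊤)).injective)

end Groth.Agent.CBC.GeomRedEtale
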