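import Groth.Agent.ProjMorph.VeryAmple
import Groth.Agent.ProjMorph.Eventually
import Groth.Agent.AmpleLib.Tensor
import Groth.Agent.AmpleLib.Twist
import Groth.Agent.Props.AmpleCoeff
import Groth.Agent.Props.AmpleProper
import Groth.Agent.DimOneAmple.AmpleOfGG

/-!
# Normally generated ample invertible modules are very ample
-/

set_option autoImplicit false
set_option linter.style.haveILetI false

open CategoryTheory CategoryTheory.Limits AlgebraicGeometry TopologicalSpace Opposite
open Groth.Agent.QCoh Groth.Agent.Props.GenLocus Groth.Agent.Props.GenTensor Groth.Agent.Props.GenProd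
open Groth.Agent.AmpleLib

universe u

noncomputable section

namespace Groth.Agent.CBC.NormGen

variable {X : Scheme.{u}} {L : X.Modules}

/-- The positive powers are additively generated by products with sections of `L`. -/
def Gen (L : X.Modules) : Prop :=
  ∀ n : ℕ, 1 ≤ n → ∀ σ : Γ(CohB1.tensorPow L (n + 1), ⊤),
    σ ∈ AddSubgroup.closure {t : Γ(CohB1.tensorPow L (n + 1), ⊤) |
      ∃ (m : Γ(CohB1.tensorPow L n, ⊤)) (s : Γ(L, ⊤)), t = tmul m s}

theorem exists_eq_one_tmul (hL : PicF.IsInvertible L) (σ : Γ(CohB1.tensorPow L 1, ⊤)) :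
    ∃ τ : Γ(L, ⊤), σ = pw L τ 1 := by
  have hcov : ∀ x : X, ∃ (W : X.Opens) (e : Γ(L, W)), x ∈ W ∧ IsGen L W e := fun x =>
    let ⟨W, e, h1, h2⟩ := exists_isGen hL x
    ⟨W, e, h1, h2⟩
  choose W e hxW he using hcov
  obtain ⟨τ, hτ⟩ := exists_glue L (V := ⊤) (fun x => (le_top : W x ≤ ⊤))
    (fun x _ => Opens.mem_iSup.mpr ⟨x, hxW x⟩)
    (fun x => co 1 σ le_top (he x) • e x) fun i j => by
      have h : ∀ (V : X.Opens) (i : X) (hi : V ≤ W i),
          res (CohB1.tensorPow L 1) (le_top : V ≤ ⊤) σ =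
            pw L (res L hi (co 1 σ le_top (he i) • e i)) 1 := fun V i hi => by
        rw [res_smul, pw_smul, pow_one, co_res, ← co_spec σ (le_top : V ≤ ⊤) ((he i).restrict hi)]
      have h1 := (h (W i ⊓ W j) i inf_le_left).symm.trans (h (W i ⊓ W j) j inf_le_right)
      obtain ⟨a, ha, -⟩ := (he i).exists_eq (inf_le_left : W i ⊓ W j ≤ W i)
        (res L (inf_le_left : W i ⊓ W j ≤ W i) (co 1 σ le_top (he i) • e i))
      obtain ⟨b, hb, -⟩ := (he i).exists_eq (inf_le_left : W i ⊓ W j ≤ W i)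
        (res L (inf_le_right : W i ⊓ W j ≤ W j) (co 1 σ le_top (he j) • e j))
      have hg := isGen_pw ((he i).restrict (inf_le_left : W i ⊓ W j ≤ W i)) 1
      rw [ha, hb, pw_smul, pw_smul, pow_one, pow_one] at h1
      have hab : a = b := hg.injective le_rfl (by rwa [res_self])
      rw [ha, hb, hab]
  refine ⟨τ, eq_of_locally_eq _ (fun x => (le_top : W x ≤ ⊤))
    (fun x _ => Opens.mem_iSup.mpr ⟨x, hxW x⟩) _ _ fun x => ?_⟩
  rw [res_pw, hτ, pw_smul, pow_one, ← co_spec σ (le_top : W x ≤ ⊤) (he x)]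

theorem co_tmul {j : ℕ} (y : Γ(CohB1.tensorPow L j, ⊤)) (g : Γ(L, ⊤)) {W : X.Opens}
    {e : Γ(L, W)} (he : IsGen L W e) {c : Γ(X, W)}
    (hc : res L (le_top : W ≤ ⊤) g = c • e) :
    co (j + 1) (tmul y g : Γ(CohB1.tensorPow L (j + 1), ⊤)) le_top he = co j y le_top he * c := by
  refine co_unique _ _ _ ?_
  refine (res_tmul le_top y g).trans ?_
  rw [co_spec y le_top he, hc, tmul_smul_left, tmul_smul_right, smul_smul]
  rfl

/-- Coefficients of all positive powers lie in any additive subgroup stable under the ratios. -/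
theorem co_mem (hL : PicF.IsInvertible L) (hgen : Gen L) {W : X.Opens} {e : Γ(L, W)}
    (he : IsGen L W e) (c : Γ(L, ⊤) → Γ(X, W))
    (hc : ∀ τ, res L (le_top : W ≤ ⊤) τ = c τ • e) (P : AddSubgroup Γ(X, W))
    (h1 : ∀ τ, c τ ∈ P) (hmul : ∀ a ∈ P, ∀ τ, a * c τ ∈ P) :
    ∀ n, 1 ≤ n → ∀ σ : Γ(CohB1.tensorPow L n, ⊤), co n σ le_top he ∈ P := by
  intro n hn
  induction n, hn using Nat.le_induction with
  | base =>
    intro σ
    obtain ⟨τ, rfl⟩ := exists_eq_one_tmul hL σ
    have : co 1 (pw L τ 1) (le_top : W ≤ ⊤) he = c τ := co_unique _ _ _ (by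
      rw [res_pw, hc, pw_smul, pow_one])
    rw [this]
    exact h1 τ
  | succ n hn ih =>
    intro σ
    induction hgen n hn σ using AddSubgroup.closure_induction with
    | mem t ht =>
      obtain ⟨m, s, rfl⟩ := ht
      rw [co_tmul m s he (hc s)]
      exact hmul _ (ih m) s
    | zero =>
      rw [show co (n + 1) (0 : Γ(CohB1.tensorPow L (n + 1), ⊤)) (le_top : W ≤ ⊤) he = 0 from
        co_unique _ _ _ (by rw [map_zero, zero_smul])]
      exact P.zero_mem
    | add a b _ _ ha hb =>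
      rw [show co (n + 1) (a + b) (le_top : W ≤ ⊤) he =
          co (n + 1) a le_top he + co (n + 1) b le_top he from co_unique _ _ _ (by
        rw [map_add, co_spec a le_top he, co_spec b le_top he, add_smul])]
      exact P.add_mem ha hb
    | neg a _ ha =>
      rw [show co (n + 1) (-a) (le_top : W ≤ ⊤) he = - co (n + 1) a le_top he from co_unique _ _ _ (by
        rw [map_neg, co_spec a le_top he, neg_smul])]
      exact P.neg_mem ha

/-- A normally generated ample module is globally generated. -/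
theorem exists_mem_locus (hLa : CohB1.IsAmple L) (hgen : Gen L) (x : X) :
    ∃ τ : Γ(L, ⊤), x ∈ locus τ := by
  by_contra hne
  obtain ⟨n, s, hxs, -⟩ := hLa.2.2 x
  obtain ⟨W, e, hxW, he⟩ := exists_isGen hLa.1 x
  have hc : ∀ τ : Γ(L, ⊤), ∃ c : Γ(X, W), res L (le_top : W ≤ ⊤) τ = c • e := fun τ => by
    obtain ⟨c, hc, -⟩ := he.exists_eq le_rfl (res L le_top τ)
    exact ⟨c, by rwa [res_self] at hc⟩
  choose c hc using hc
  let g := (X.presheaf.germ W x hxW).hom
  let P : Ideal Γ(X, W) := (IsLocalRing.maximalIdeal (X.presheaf.stalk x)).comap g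
  have h1 : ∀ τ, c τ ∈ P := fun τ => by
    show g (c τ) ∈ IsLocalRing.maximalIdeal _
    rw [IsLocalRing.mem_maximalIdeal, mem_nonunits_iff]
    intro hu
    have hx : x ∈ X.basicOpen (c τ) := (X.mem_basicOpen (c τ) x hxW).mpr hu
    rw [← locus_inf le_top he τ (hc τ)] at hx
    exact hne ⟨τ, hx.1⟩
  have h2 := co_mem hLa.1 hgen he c hc P.toAddSubgroup h1
    (fun a ha τ => P.mul_mem_right _ ha) (n + 1) (by omega) (sec s ⊤)
  have h3 : x ∈ X.basicOpen (co (n + 1) (sec s ⊤) (le_top : W ≤ ⊤) he) := by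
    rw [← genLocus_inf_eq he s]
    exact ⟨hxs, hxW⟩
  exact (IsLocalRing.mem_maximalIdeal _).mp h2 ((X.mem_basicOpen _ x hxW).mp h3)

theorem exists_finset_mem_closure {R T : Type*} [CommRing R] (A : Set R) (c : T → R) {x : R}
    (hx : x ∈ Subring.closure (A ∪ Set.range c)) :
    ∃ F : Finset T, x ∈ Subring.closure (A ∪ c '' F) := by
  classical
  have mono : ∀ {F G : Finset T}, F ⊆ G →
      Subring.closure (A ∪ c '' F) ≤ Subring.closure (A ∪ c '' G) := fun h =>
    Subring.closure_mono (Set.union_subset_union_right A (Set.image_mono (Finset.coe_subset.mpr h)))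
  induction hx using Subring.closure_induction with
  | mem a ha =>
    rcases ha with ha | ⟨t, rfl⟩
    · exact ⟨∅, Subring.subset_closure (Or.inl ha)⟩
    · exact ⟨{t}, Subring.subset_closure (Or.inr ⟨t, by simp, rfl⟩)⟩
  | zero => exact ⟨∅, Subring.zero_mem _⟩
  | one => exact ⟨∅, Subring.one_mem _⟩
  | add a b _ _ ha hb =>
    obtain ⟨F, hF⟩ := ha; obtain ⟨G, hG⟩ := hb
    exact ⟨F ∪ G, Subring.add_mem _ (mono Finset.subset_union_left hF) (mono Finset.subset_union_right hG)⟩
  | neg a _ ha => obtain ⟨F, hF⟩ := ha; exact ⟨F, Subring.neg_mem _ hF⟩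
  | mul a b _ _ ha hb =>
    obtain ⟨F, hF⟩ := ha; obtain ⟨G, hG⟩ := hb
    exact ⟨F ∪ G, Subring.mul_mem _ (mono Finset.subset_union_left hF) (mono Finset.subset_union_right hG)⟩

/-- On the affine locus of a section finitely many ratios generate. -/
theorem exists_finset_gen {Y : Scheme.{u}} [IsAffine Y] (f : X ⟶ Y) [LocallyOfFiniteType f]
    [CompactSpace X] [QuasiSeparatedSpace X] (hL : PicF.IsInvertible L) (hgen : Gen L)
    (g : Γ(L, ⊤)) (haff : IsAffineOpen (locus g)) :
    ∃ F : Finset Γ(L, ⊤), ∀ c : Γ(L, ⊤) → Γ(X, locus g),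
      (∀ τ ∈ F, res L (le_top : locus g ≤ ⊤) τ = c τ • res L le_top g) →
      Subring.closure (Set.range (f.appLE ⊤ (locus g) le_top) ∪ c '' F) = ⊤ := by
  classical
  have he := isGen_locus g
  have hc : ∀ τ : Γ(L, ⊤), ∃ c : Γ(X, locus g),
      res L (le_top : locus g ≤ ⊤) τ = c • res L le_top g := fun τ => by
    obtain ⟨c, hc, -⟩ := he.exists_eq le_rfl (res L le_top τ)
    exact ⟨c, by rwa [res_self] at hc⟩
  choose c₀ hc₀ using hc
  set A : Set Γ(X, locus g) := Set.range (f.appLE ⊤ (locus g) le_top) with hA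
  set S := Subring.closure (A ∪ Set.range c₀) with hS
  have hmem : ∀ n, 1 ≤ n → ∀ σ : Γ(CohB1.tensorPow L n, ⊤), co n σ le_top he ∈ S :=
    co_mem hL hgen he c₀ hc₀ S.toAddSubgroup
      (fun τ => Subring.subset_closure (Or.inr ⟨τ, rfl⟩))
      (fun a ha τ => S.mul_mem ha (Subring.subset_closure (Or.inr ⟨τ, rfl⟩)))
  have hall : ∀ a : Γ(X, locus g), a ∈ S := fun a => by
    let s : Coh.structureModule X ⟶ CohB1.tensorPow L 1 := homOfSec (pw L g 1)
    have hs : sec s ⊤ = pw L g 1 := by simp only [s, sec_homOfSec, res_self]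
    have hU : locus g = CohB1.genLocus _ s := by
      rw [genLocus_homOfSec]
      exact ((locus_tmul ProjMorph.isInvertible_structureModule hL
        (show Γ(Coh.structureModule X, ⊤) from one' ⊤) g).trans (by
          rw [DimOneAmple.locus_one, top_inf_eq])).symm
    obtain ⟨N, hN⟩ := Props.AmpleCoeff.exists_extend hL s hU (l := 0)
      (show Γ(CohB1.tensorPow L 0, locus g) from a)
    obtain ⟨t, ht⟩ := hN (N + 1) (by omega)
    have h0 : co 0 (show Γ(CohB1.tensorPow L 0, locus g) from a)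
        (inf_le_left : locus g ⊓ locus g ≤ locus g) (he.restrict inf_le_right) =
          rres (inf_le_right : locus g ⊓ locus g ≤ locus g) a := by
      refine co_unique _ _ _ ?_
      exact (mul_one (rres (inf_le_right : locus g ⊓ locus g ≤ locus g) a)).symm
    have h1' : co 1 (sec s ⊤) (le_top : locus g ≤ ⊤) he = 1 :=
      co_unique _ _ _ (by rw [hs, res_pw, one_smul])
    have h2 := ht (locus g) _ he
    rw [h0, h1', map_one, one_pow, one_mul (rres (inf_le_right : locus g ⊓ locus g ≤ locus g) a)] at h2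
    have h3 : a = co (0 + 1 * (N + 1)) (sec t ⊤) le_top he := by
      have h4 := congrArg (rres (le_inf le_rfl le_rfl : locus g ≤ locus g ⊓ locus g)) h2
      rw [rres_rres, rres_rres, rres_self, rres_self] at h4
      exact h4.symm
    rw [h3]
    exact hmem _ (by omega) _
  -- finitely many generators suffice
  letI := (f.appLE ⊤ (locus g) le_top).hom.toAlgebra
  have hfin : Algebra.FiniteType Γ(Y, ⊤) Γ(X, locus g) :=
    f.finiteType_appLE (isAffineOpen_top Y) haff le_top
  obtain ⟨t, ht⟩ := hfin.out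
  choose G hG using fun a : Γ(X, locus g) => exists_finset_mem_closure A c₀ (hall a)
  refine ⟨t.biUnion G, fun c hcF => ?_⟩
  have hcc : ∀ τ ∈ t.biUnion G, c τ = c₀ τ := fun τ hτ =>
    he.injective le_rfl (by rw [res_self, ← hcF τ hτ, ← hc₀ τ])
  have himg : c '' (t.biUnion G : Set Γ(L, ⊤)) = c₀ '' (t.biUnion G : Set Γ(L, ⊤)) :=
    Set.image_congr fun τ hτ => hcc τ hτ
  rw [himg, eq_top_iff]
  intro z _
  have hz : z ∈ (Algebra.adjoin Γ(Y, ⊤) (t : Set Γ(X, locus g))).toSubring :=
    ht.ge (Algebra.mem_top (x := z))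
  rw [Algebra.adjoin_eq_ring_closure] at hz
  refine Subring.closure_le.mpr ?_ hz
  rintro a (ha | ha)
  · exact Subring.subset_closure (Or.inl ha)
  · refine Subring.closure_mono (Set.union_subset_union_right A (Set.image_mono ?_)) (hG a)
    exact Finset.coe_subset.mpr (Finset.subset_biUnion_of_mem G ha)

/-- A normally generated ample invertible module on a scheme universally closed, separated and of
finite type over an affine scheme is very ample. -/
theorem isRelVeryAmplePn {Y : Scheme.{u}} [IsAffine Y] (f : X ⟶ Y) [UniversallyClosed f]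
    [IsSeparated f] [LocallyOfFiniteType f] (hLa : CohB1.IsAmple L) (hgen : Gen L) :
    RelAmple.IsRelVeryAmplePn f L := by
  classical
  haveI := hLa.2.1
  haveI : X.IsSeparated := ⟨by rw [← terminal.comp_from f]; infer_instance⟩
  have hL := hLa.1
  have haff : ∀ g : Γ(L, ⊤), IsAffineOpen (locus g) := fun g => by
    have h := Props.AmpleProper.isAffineOpen_genLocus f hLa (homOfSec (pw L g 1))
    rw [genLocus_homOfSec] at h
    refine (?_ : locus (pw L g 1) = locus g) ▸ h
    exact (locus_tmul ProjMorph.isInvertible_structureModule hL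
      (show Γ(Coh.structureModule X, ⊤) from one' ⊤) g).trans (by
        rw [DimOneAmple.locus_one, top_inf_eq])
  choose g hg using exists_mem_locus hLa hgen
  obtain ⟨T, hT⟩ := isCompact_univ.elim_finite_subcover
    (fun x : X => ((locus (g x)) : Set X)) (fun x => (locus (g x)).2)
    fun x _ => Set.mem_iUnion.2 ⟨x, hg x⟩
  let G : Finset Γ(L, ⊤) := T.image g
  choose F hF using fun τ : Γ(L, ⊤) => exists_finset_gen f hL hgen τ (haff τ)
  let All : Finset Γ(L, ⊤) := insert 0 (G ∪ G.biUnion F)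
  obtain ⟨n, hn⟩ : ∃ n, All.card = n + 1 := ⟨All.card - 1, by
    have : 0 < All.card := Finset.card_pos.mpr ⟨0, Finset.mem_insert_self _ _⟩
    omega⟩
  let E := All.equivFinOfCardEq hn
  let s : Fin (n + 1) → ProjUP.Γm L := fun i => ((E.symm i : All) : Γ(L, ⊤))
  let J : Set (Fin (n + 1)) := {i | (s i : Γ(L, ⊤)) ∈ G}
  refine ProjMorph.isRelVeryAmplePn_of_sections f hL s J ?_ (fun i _ => haff _) ?_
  · intro x _
    obtain ⟨y, hy, hxy⟩ := Set.mem_iUnion₂.1 (hT (Set.mem_univ x))
    have hyG : g y ∈ G := Finset.mem_image_of_mem g hy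
    have hyA : g y ∈ All := Finset.mem_insert_of_mem (Finset.mem_union_left _ hyG)
    have hsy : (s (E ⟨g y, hyA⟩) : Γ(L, ⊤)) = g y := by simp [s]
    refine Opens.mem_iSup.2 ⟨E ⟨g y, hyA⟩, Opens.mem_iSup.2 ⟨?_, ?_⟩⟩
    · show (s (E ⟨g y, hyA⟩) : Γ(L, ⊤)) ∈ G
      rw [hsy]; exact hyG
    · exact (congrArg (fun τ : Γ(L, ⊤) => locus τ) hsy).ge hxy
  · intro i hi c hc
    have hsub : ∀ τ ∈ F (s i), τ ∈ All := fun τ hτ =>
      Finset.mem_insert_of_mem (Finset.mem_union_right _ (Finset.mem_biUnion.mpr ⟨s i, hi, hτ⟩))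
    let c' : Γ(L, ⊤) → Γ(X, locus (O := ⊤) (s i)) := fun τ =>
      if h : τ ∈ All then c (E ⟨τ, h⟩) else 0
    have key := hF (s i) c' fun τ hτ => by
      have h := hc (E ⟨τ, hsub τ hτ⟩)
      simp only [c', dif_pos (hsub τ hτ)]
      simpa [s] using h
    refine top_le_iff.mp (key.ge.trans (Subring.closure_mono ?_))
    rintro a (ha | ⟨τ, hτ, rfl⟩)
    · exact Or.inl ha
    · exact Or.inr ⟨E ⟨τ, hsub τ hτ⟩, by simp [c', dif_pos (hsub τ hτ)]⟩

end Groth.Agent.CBC.NormGen

end
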