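import Groth.Agent.CBC.TensorA
import Groth.Agent.CBC.Setup

/-!
# The Čech complex tensored with a module computes `H^p(X, F ⊗_A M)`, naturally in `M`
-/

universe u

open CategoryTheory Limits Opposite TopologicalSpace AlgebraicGeometry Function TensorProduct
  MonoidalCategory

namespace Groth.Agent.CBC

open Groth.Agent.CohAff (inter inter_le cd cd_apply)
open Groth.Agent.KFlat Groth.Agent.KFlat.StalkTensor Groth.Agent.PullStalk.Sky

section Generic

variable {X : Scheme.{u}}

/-- `g ⊗ 𝟙` -/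
noncomputable def tensR {M M' : X.Modules} (N : X.Modules) (g : M ⟶ M') :
    tensM M N ⟶ tensM M' N := (DCoh.tensorRightMod N).map g

lemma tensR_tmulSec {M M' N : X.Modules} (g : M ⟶ M') (U : X.Opens)
    (m : Γ(M, U)) (n : Γ(N, U)) :
    Scheme.Modules.Hom.app (tensR N g) U (tmulSec U m n) = tmulSec U (g.app U m) n := by
  have hn := (preAdj X.sheaf).unit.naturality
    ((ModSite.toPre X.sheaf).map g ▷ (ModSite.toPre X.sheaf).obj N)
  exact (congr($(hn).app (op U) ((show ((ModSite.toPre X.sheaf).obj M).obj (op U) from m)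
    ⊗ₜ[X.sheaf.obj.obj (op U)] (show ((ModSite.toPre X.sheaf).obj N).obj (op U) from n)))).symm

variable {A : Type u} [CommRing A] {W : X.Opens} (φ : A →+* Γ(X, W)) (F : X.Modules)

/-- restriction of sections, linearly -/
noncomputable def resSec {V V' : X.Opens} (h : V ≤ W) (hV : V' ≤ V) :
    Sec φ F h →ₗ[A] Sec φ F (hV.trans h) where
  toFun s := (show Sec φ F (hV.trans h) from QCoh.res F hV (show Γ(F, V) from s))
  map_add' a b := map_add (QCoh.res F hV).hom _ _
  map_smul' r s := rs_sec_smul φ F h hV r s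

end Generic

namespace SCx

variable {A : Type u} [CommRing A] {K K' : SCx A} {M : Type u} [AddCommGroup M] [Module A M]
  (E : ∀ n, K.X n ⊗[A] M ≃ₗ[A] K'.X n)
  (hE : ∀ n z, E (n + 1) ((K.d n).rTensor M z) = K'.d n (E n z))

include hE in
lemma map_Z_of_equiv (n : ℕ) : (K.Z M n).map (E n).toLinearMap = K'.Z₀ n := by
  ext y
  constructor
  · rintro ⟨z, hz, rfl⟩
    change K'.d n (E n z) = 0
    rw [← hE, show (K.d n).rTensor M z = 0 from hz, map_zero]
  · intro hy
    refine ⟨(E n).symm y, (E (n + 1)).injective ?_, (E n).apply_symm_apply y⟩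
    rw [hE, LinearEquiv.apply_symm_apply, map_zero]
    exact hy

include hE in
lemma map_B_of_equiv : ∀ n, (K.B M n).map (E n).toLinearMap = K'.B₀ n
  | 0 => Submodule.map_bot _
  | n + 1 => by
    change (LinearMap.range ((K.d n).rTensor M)).map _ = LinearMap.range (K'.d n)
    ext y
    constructor
    · rintro ⟨_, ⟨x, rfl⟩, rfl⟩
      exact ⟨E n x, (hE n x).symm⟩
    · rintro ⟨x, rfl⟩
      exact ⟨_, ⟨(E n).symm x, rfl⟩, (hE n _).trans (congrArg _ ((E n).apply_symm_apply x))⟩

/-- the equivalence on cocycles -/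
noncomputable def zEquiv (n : ℕ) : K.Z M n ≃ₗ[A] K'.Z₀ n :=
  (E n).ofSubmodules _ _ (map_Z_of_equiv E hE n)

/-- the equivalence on cohomology -/
noncomputable def hEquivOf (n : ℕ) : K.H M n ≃ₗ[A] K'.H₀ n :=
  Submodule.Quotient.equiv _ _ (zEquiv E hE n) (by
    ext y
    rw [Submodule.mem_map, Submodule.mem_comap]
    constructor
    · rintro ⟨z, hz, rfl⟩
      exact (map_B_of_equiv E hE n).le ⟨z.1, hz, rfl⟩
    · intro hy
      obtain ⟨z, hz, hzy⟩ := (map_B_of_equiv E hE n).ge hy
      exact ⟨⟨z, K.B_le M n hz⟩, hz, Subtype.ext hzy⟩)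

lemma hEquivOf_mk (n : ℕ) (z : K.Z M n) :
    hEquivOf E hE n (Submodule.Quotient.mk z) = Submodule.Quotient.mk (zEquiv E hE n z) := rfl

lemma zEquiv_val (n : ℕ) (z : K.Z M n) : (zEquiv E hE n z).1 = E n z.1 := rfl

end SCx

variable {A : Type u} [CommRing A] {X : Scheme.{u}} [X.Over (Spec (CommRingCat.of A))]
variable (F : X.Modules)

/-- functoriality of `M ↦ F ⊗ M` -/
noncomputable def tAMap {M M' : ModuleCat.{u} A} (f : M ⟶ M') : tA F M ⟶ tA (X := X) F M' :=
  tensR F ((Scheme.Modules.pullback (X ↘ Spec (CommRingCat.of A))).map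
    (tilde.map (R := CommRingCat.of A) f))

lemma tensorAFunctor_map {M M' : ModuleCat.{u} A} (f : M ⟶ M') :
    (CohIII.tensorAFunctor A F).map f = tAMap F f := rfl

lemma topSec_natural {M M' : ModuleCat.{u} A} (f : M ⟶ M') (m : M) :
    (tilde.map (R := CommRingCat.of A) f).app ⊤ (topSec M m) = topSec M' (f.hom m) :=
  congr($(tilde.toOpen_map_app (R := CommRingCat.of A) f ⊤) m)

lemma uA_natural {M M' : ModuleCat.{u} A} (f : M ⟶ M') (W : X.Opens) (m : M) :
    ((Scheme.Modules.pullback (X ↘ Spec (CommRingCat.of A))).map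
      (tilde.map (R := CommRingCat.of A) f)).app W (uA M W m) = uA M' W (f.hom m) :=
  (LimTop.unitSec_map (X ↘ Spec (CommRingCat.of A)) (tilde (R := CommRingCat.of A) M)
    (le_preimage_top W) _ _).trans (congrArg _ (topSec_natural f m))

lemma kap_natural {M M' : ModuleCat.{u} A} (f : M ⟶ M') (W : X.Opens)
    (z : Sec (φA (A := A)) F (le_top : W ≤ ⊤) ⊗[A] M) :
    (show Sec (φA (A := A)) (tA F M') (le_top : W ≤ ⊤) from
      (tAMap F f).app W (show Γ(tA F M, W) from kap F M W z)) =
      kap F M' W (f.hom.lTensor _ z) := by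
  induction z using TensorProduct.induction_on with
  | zero =>
    rw [map_zero, map_zero]
    exact map_zero ((tAMap F f).app W).hom
  | tmul s m =>
    refine (congrArg _ (kap_tmul F M W s m)).trans ?_
    refine (tensR_tmulSec _ W (uA M W m) (show Γ(F, W) from s)).trans ?_
    rw [LinearMap.lTensor_tmul, kap_tmul]
    exact congrArg (fun t => tmulSec (N := F) W t (show Γ(F, W) from s)) (uA_natural f W m)
  | add a b ha hb =>
    rw [map_add, map_add, map_add]
    exact (map_add ((tAMap F f).app W).hom _ _).trans (congrArg₂ (· + ·) ha hb)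

lemma kap_res (M : ModuleCat.{u} A) {W W' : X.Opens} (h : W' ≤ W)
    (z : Sec (φA (A := A)) F (le_top : W ≤ ⊤) ⊗[A] M) :
    resSec (φA (A := A)) (tA F M) (le_top : W ≤ ⊤) h (kap F M W z) =
      kap F M W' ((resSec (φA (A := A)) F (le_top : W ≤ ⊤) h).rTensor M z) := by
  induction z using TensorProduct.induction_on with
  | zero => rw [map_zero, map_zero, map_zero, map_zero]
  | tmul s m =>
    rw [kap_tmul, LinearMap.rTensor_tmul, kap_tmul]
    refine (tmulSec_res (homOfLE h) (uA M W m) (show Γ(F, W) from s)).trans ?_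
    exact congrArg (fun t => tmulSec W' t (show Γ(F, W') from
      resSec (φA (A := A)) F (le_top : W ≤ ⊤) h s))
      (LimTop.res_unitSec (X ↘ Spec (CommRingCat.of A)) (tilde (R := CommRingCat.of A) M)
        (le_preimage_top W) h (topSec M m))
  | add a b ha hb => rw [map_add, map_add, map_add, map_add, ha, hb]

variable {ι : Type u} [Finite ι] (U : ι → X.Opens)

/-- the complex of `F` over `A` -/
noncomputable abbrev KA : SCx A := cx (φA (A := A)) U (fun _ => le_top) F

/-- `(∏ x, S x) ⊗ M → ∏ x, T x` -/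
noncomputable def tmap (M : ModuleCat.{u} A) (n : ℕ) :
    (KA (A := A) F U).X n ⊗[A] M →ₗ[A] (KA (A := A) (tA F M) U).X n :=
  LinearMap.pi fun x => kap F M (inter (X := X.toPresheafedSpace.carrier) U x) ∘ₗ
    (LinearMap.proj (R := A) (φ := fun x => Sec (φA (A := A)) F (inter_le' U x fun _ => le_top)) x).rTensor M

lemma tmap_tmul (M : ModuleCat.{u} A) (n : ℕ) (s : (KA (A := A) F U).X n) (m : M)
    (x : Fin (n + 1) → ι) :
    tmap F U M n (s ⊗ₜ m) x = kap F M _ (s x ⊗ₜ m) := rfl

theorem tmap_bijective [F.IsQuasicoherent] (haff : ∀ {n : ℕ} (x : Fin (n + 1) → ι),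
    IsAffineOpen (inter (X := X.toPresheafedSpace.carrier) U x)) (M : ModuleCat.{u} A) (n : ℕ) :
    Bijective (tmap F U M n) := by
  classical
  cases nonempty_fintype ι
  let e : (KA (A := A) F U).X n ⊗[A] M ≃ₗ[A]
      ∀ x : Fin (n + 1) → ι, Sec (φA (A := A)) F (inter_le' U x fun _ => le_top) ⊗[A] M :=
    TensorProduct.comm A _ _ ≪≫ₗ TensorProduct.piRight A A M _ ≪≫ₗ
      LinearEquiv.piCongrRight fun x => TensorProduct.comm A _ _
  let e' : (∀ x : Fin (n + 1) → ι, Sec (φA (A := A)) F (inter_le' U x fun _ => le_top) ⊗[A] M)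
      ≃ₗ[A] (KA (A := A) (tA F M) U).X n :=
    LinearEquiv.piCongrRight fun x => LinearEquiv.ofBijective _ (kap_bijective F M (haff x))
  have key : tmap F U M n = (e ≪≫ₗ e').toLinearMap := by
    refine TensorProduct.ext' fun s m => funext fun x => ?_
    rw [tmap_tmul]
    simp [e, e']
  rw [key]
  exact (e ≪≫ₗ e').bijective

lemma tmap_d (M : ModuleCat.{u} A) (n : ℕ) (z : (KA (A := A) F U).X n ⊗[A] M) :
    tmap F U M (n + 1) (((KA (A := A) F U).d n).rTensor M z) =
      (KA (A := A) (tA F M) U).d n (tmap F U M n z) := by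
  induction z using TensorProduct.induction_on with
  | zero => rw [map_zero, map_zero, map_zero, map_zero]
  | tmul s m =>
    funext y
    rw [LinearMap.rTensor_tmul, tmap_tmul]
    refine Eq.trans ?_ (cd_apply (tA F M).presheaf U n (toC _ U _ _ (tmap F U M n (s ⊗ₜ m))) y).symm
    refine Eq.trans (congrArg (fun t => kap F M _ (t ⊗ₜ m))
      (cd_apply F.presheaf U n (toC _ U (fun _ => le_top) F s) y)) ?_
    refine ((congrArg (kap F M _) (TensorProduct.sum_tmul ..)).trans (map_sum _ _ _)).trans ?_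
    refine Finset.sum_congr rfl fun j _ => ?_
    refine Eq.trans ((congrArg (kap F M _) (TensorProduct.smul_tmul' _ _ _).symm).trans
      (map_zsmul _ _ _)) ?_
    refine congrArg (fun t => _ • t) ?_
    exact (kap_res F M (CohAff.inter_comp_le U y (Fin.succAbove j)) (s _ ⊗ₜ m)).symm
  | add a b ha hb => rw [map_add, map_add, map_add, map_add, ha, hb]

lemma tmap_natural {M M' : ModuleCat.{u} A} (f : M ⟶ M') (n : ℕ)
    (z : (KA (A := A) F U).X n ⊗[A] M) :
    (cxMap (φA (A := A)) U (fun _ => le_top) (tAMap F f)).f n (tmap F U M n z) =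
      tmap F U M' n (f.hom.lTensor _ z) := by
  induction z using TensorProduct.induction_on with
  | zero => rw [map_zero, map_zero, map_zero, map_zero]
  | tmul s m =>
    funext x
    rw [LinearMap.lTensor_tmul, tmap_tmul]
    exact kap_natural F f _ (s x ⊗ₜ m)
  | add a b ha hb => rw [map_add, map_add, map_add, map_add, ha, hb]

section HH

variable [F.IsQuasicoherent] (hcov : ⨆ i, U i = ⊤) (haff : ∀ {n : ℕ} (x : Fin (n + 1) → ι),
  IsAffineOpen (inter (X := X.toPresheafedSpace.carrier) U x))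

lemma isQuasicoherent_tA (M : ModuleCat.{u} A) : (tA (X := X) F M).IsQuasicoherent := by
  haveI : (pullTilde (X := X) M).IsQuasicoherent := QCoh.isQuasicoherent_pullback _ _
  exact LimTop.TensorQC.isQuasicoherent_tensM (pullTilde (X := X) M) F

/-- the degreewise equivalence -/
noncomputable def tEquiv (M : ModuleCat.{u} A) (n : ℕ) :
    (KA (A := A) F U).X n ⊗[A] M ≃ₗ[A] (KA (A := A) (tA F M) U).X n :=
  LinearEquiv.ofBijective _ (tmap_bijective F U haff M n)

lemma tEquiv_d (M : ModuleCat.{u} A) (n : ℕ) (z : (KA (A := A) F U).X n ⊗[A] M) :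
    tEquiv F U haff M (n + 1) (((KA (A := A) F U).d n).rTensor M z) =
      (KA (A := A) (tA F M) U).d n (tEquiv F U haff M n z) := tmap_d F U M n z

/-- `H^p(K ⊗ M) → H^p(X, F ⊗ M)` -/
noncomputable def tH (M : ModuleCat.{u} A) (n : ℕ) :
    (KA (A := A) F U).H M n →+ Coh.HH X (tA (X := X) F M) n :=
  (hTop (φA (A := A)) hcov (tA F M) n).comp
    (SCx.hEquivOf (tEquiv F U haff M) (tEquiv_d F U haff M) n).toAddMonoidHom

lemma tH_bijective (M : ModuleCat.{u} A) (n : ℕ) : Bijective (tH F U hcov haff M n) := by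
  have := isQuasicoherent_tA F M
  exact (hTop_bijective (φA (A := A)) hcov (tA F M) haff n).comp
    (SCx.hEquivOf (tEquiv F U haff M) (tEquiv_d F U haff M) n).bijective

lemma tH_smul (M : ModuleCat.{u} A) (n : ℕ) (a : A) (x : (KA (A := A) F U).H M n) :
    tH F U hcov haff M n (a • x) =
      (show Coh.Γtop X from φA (A := A) a) • tH F U hcov haff M n x :=
  (congrArg _ (map_smul (SCx.hEquivOf (tEquiv F U haff M) (tEquiv_d F U haff M) n) a x)).trans
    (hTop_smul (φA (A := A)) hcov (tA F M) n a _)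

lemma hEquivOf_natural {M M' : ModuleCat.{u} A} (f : M ⟶ M') (n : ℕ)
    (x : (KA (A := A) F U).H M n) :
    SCx.hEquivOf (tEquiv F U haff M') (tEquiv_d F U haff M') n ((KA (A := A) F U).Hmap f.hom n x) =
      (cxMap (φA (A := A)) U (fun _ => le_top) (tAMap F f)).h₀ n
        (SCx.hEquivOf (tEquiv F U haff M) (tEquiv_d F U haff M) n x) := by
  obtain ⟨z, rfl⟩ := Submodule.Quotient.mk_surjective _ x
  rw [SCx.Hmap_mk, SCx.hEquivOf_mk, SCx.hEquivOf_mk, SCx.Hom.h₀_mk]
  refine congrArg Submodule.Quotient.mk (Subtype.ext ?_)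
  exact (tmap_natural F U f n z.1).symm

lemma tH_apply (M : ModuleCat.{u} A) (n : ℕ) (x : (KA (A := A) F U).H M n) :
    tH F U hcov haff M n x = hTop (φA (A := A)) hcov (tA F M) n
      (SCx.hEquivOf (tEquiv F U haff M) (tEquiv_d F U haff M) n x) := rfl

lemma tH_natural {M M' : ModuleCat.{u} A} (f : M ⟶ M') (n : ℕ) (x : (KA (A := A) F U).H M n) :
    tH F U hcov haff M' n ((KA (A := A) F U).Hmap f.hom n x) =
      CohPull.mapH (tAMap F f) n (tH F U hcov haff M n x) := by
  rw [tH_apply, tH_apply, hEquivOf_natural]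
  exact hTop_natural (φA (A := A)) hcov (tA F M) (tAMap F f) n _

end HH

end Groth.Agent.CBC
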