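import Groth.Agent.CBC.Glob
import Groth.Agent.CBC.TensorCx
import Groth.Agent.HomShQC.Stalk
import Groth.Agent.KoszSh77.Descent
import Groth.Agent.Props.QProj
import Groth.Agent.VBLib.Basic

/-!
# Homomorphisms out of a locally free module into `F ⊗_A M`

For `E` finite locally free, `Hom (E, F ⊗_A M) = Γ (X, 𝓗om (E, F) ⊗_A M)` naturally in `M`.
-/

universe u

open CategoryTheory Limits Opposite TopologicalSpace AlgebraicGeometry Function TensorProduct
open Groth.Agent.PullStalk.Sky

noncomputable section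

namespace Groth.Agent.CBC.HomTensor

open Groth.Agent Groth.Agent.QCoh Groth.Agent.KFlat.StalkTensor

section Alg

variable {A B G P S T : Type u} [CommRing A] [CommRing B] [Algebra A B]
  [AddCommGroup G] [Module A G] [Module B G] [IsScalarTower A B G]
  [AddCommGroup P] [Module B P]
  [AddCommGroup S] [Module A S] [Module B S] [IsScalarTower A B S]
  [AddCommGroup T] [Module A T] [Module B T]
  (M : Type u) [AddCommGroup M] [Module A M]
  (ev : G ≃ₗ[B] (P →ₗ[B] S)) (κ : S ⊗[A] M →ₗ[A] T)
  (hκB : ∀ (b : B) (s : S) (m : M), κ ((b • s) ⊗ₜ m) = b • κ (s ⊗ₜ m))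

/-- `g ⊗ m ↦ (x ↦ g x ⊗ m)` -/
def θ : G ⊗[A] M →+ (P →ₗ[B] T) :=
  TensorProduct.liftAddHom
    { toFun := fun g =>
        { toFun := fun m =>
            { toFun := fun x => κ (ev g x ⊗ₜ m)
              map_add' := fun x y => by rw [map_add, add_tmul, map_add]
              map_smul' := fun b x => by rw [map_smul, hκB, RingHom.id_apply] }
          map_zero' := LinearMap.ext fun x => by simp
          map_add' := fun m n => LinearMap.ext fun x => by simp [tmul_add] }
      map_zero' := AddMonoidHom.ext fun m => LinearMap.ext fun x => by simp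
      map_add' := fun g g' => AddMonoidHom.ext fun m => LinearMap.ext fun x => by simp [add_tmul] }
    (fun a g m => LinearMap.ext fun x => by
      change κ (ev (a • g) x ⊗ₜ m) = κ (ev g x ⊗ₜ (a • m))
      rw [← IsScalarTower.algebraMap_smul B a g, map_smul, LinearMap.smul_apply,
        IsScalarTower.algebraMap_smul, TensorProduct.smul_tmul])

lemma θ_tmul (g : G) (m : M) (x : P) : θ M ev κ hκB (g ⊗ₜ m) x = κ (ev g x ⊗ₜ m) := rfl

include hκB in
theorem θ_bijective (hκ : Bijective κ) [Module.Finite B P] [Module.Projective B P] :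
    Bijective (θ M ev κ hκB) := by
  obtain ⟨n, f, g, hf, -, hfg⟩ := Module.Finite.exists_comp_eq_id_of_projective B P
  let p : Fin n → P := fun j => f (Pi.single j 1)
  let c : Fin n → (P →ₗ[B] B) := fun j => (LinearMap.proj j).comp g
  let L : Fin n → (S →ₗ[A] G) := fun j =>
    { toFun := fun s => ev.symm ((c j).smulRight s)
      map_add' := fun s t => by
        rw [← map_add]; congr 1; ext x; simp [smul_add]
      map_smul' := fun a s => by
        rw [RingHom.id_apply, ← IsScalarTower.algebraMap_smul B a (ev.symm ((c j).smulRight s)),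
          ← map_smul]
        congr 1; ext x
        change c j x • (a • s) = algebraMap A B a • (c j x • s)
        rw [← IsScalarTower.algebraMap_smul B a s, smul_smul, smul_smul, mul_comm] }
  have hdual : ∀ x : P, ∑ j, c j x • p j = x := fun x => by
    have e : f (g x) = x := congr($hfg x)
    conv_rhs => rw [← e, ← Finset.univ_sum_single (g x), map_sum]
    exact Finset.sum_congr rfl fun j _ => by
      rw [← map_smul, ← Pi.single_smul, smul_eq_mul, mul_one]; rfl
  let e := LinearEquiv.ofBijective κ hκ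
  let ψ : (P →ₗ[B] T) → G ⊗[A] M := fun h => ∑ j, (L j).rTensor M (e.symm (h (p j)))
  refine ⟨LeftInverse.injective (g := ψ) fun z => ?_, fun h => ⟨ψ h, ?_⟩⟩
  · induction z using TensorProduct.induction_on with
    | zero => simp [ψ]
    | tmul g₀ m =>
      simp only [ψ, θ_tmul]
      have : ∀ j, e.symm (κ (ev g₀ (p j) ⊗ₜ m)) = ev g₀ (p j) ⊗ₜ m := fun j => e.symm_apply_apply _
      simp only [this, LinearMap.rTensor_tmul, ← TensorProduct.sum_tmul]
      congr 1
      apply ev.injective
      rw [map_sum]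
      ext x
      simp only [LinearMap.sum_apply, L, LinearMap.coe_mk, AddHom.coe_mk, LinearEquiv.apply_symm_apply,
        LinearMap.smulRight_apply, ← map_smul, ← map_sum, hdual]
    | add a b ha hb =>
      simp only [ψ, map_add, LinearMap.add_apply] at ha hb ⊢
      rw [Finset.sum_add_distrib, ha, hb]
  · ext x
    have key : ∀ (j : Fin n) (z : S ⊗[A] M),
        θ M ev κ hκB ((L j).rTensor M z) x = c j x • κ z := fun j z => by
      induction z using TensorProduct.induction_on with
      | zero => simp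
      | tmul s m => simp [θ_tmul, L, hκB]
      | add a b ha hb => simp [map_add, ha, hb, smul_add]
    simp only [ψ, map_sum, LinearMap.sum_apply, key]
    have : ∀ j, κ (e.symm (h (p j))) = h (p j) := fun j => e.apply_symm_apply _
    simp only [this, ← map_smul, ← map_sum, hdual]

end Alg

variable {A : Type u} [CommRing A] {X : Scheme.{u}} [X.Over (Spec (CommRingCat.of A))]
  (E F : X.Modules) [E.IsQuasicoherent] [F.IsQuasicoherent]

lemma sec_res {G : X.Modules} {U V : X.Opens} (h : V ≤ U) (g : Γ(RefHull.homSh E G, U)) (m : Γ(E, U)) :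
    res G h (HomShQC.sec E G g m) = HomShQC.sec E G (res (RefHull.homSh E G) h g) (res E h m) :=
  HomShQC.sec_ext G fun y hy => by
    refine (HomShQC.germM_res G h y hy _).trans ?_
    refine (HomShQC.germM_sec E G g m ⟨y, h hy⟩).trans ?_
    refine Eq.trans ?_ (HomShQC.germM_sec E G _ _ ⟨y, hy⟩).symm
    exact congrArg (g.1 ⟨y, h hy⟩) (HomShQC.germM_res E h y hy m).symm

/-- sections over an affine open of `𝓗om (E, F) ⊗_A M`, as linear maps -/
theorem exists_secMap (hH : (RefHull.homSh E F).IsQuasicoherent) (hE : FlatMod.IsFinLocFree E)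
    (M : ModuleCat.{u} A) {W : X.Opens} (hW : IsAffineOpen W) :
    ∃ b : Γ(tA (RefHull.homSh E F) M, W) →+ (Γ(E, W) →ₗ[Γ(X, W)] Γ(tA F M, W)), Bijective b ∧
      ∀ (g : Γ(RefHull.homSh E F, W)) (m : M) (e : Γ(E, W)),
        b (tmulSec W (uA M W m) g) e = tmulSec W (uA M W m) (HomShQC.sec E F g e) := by
  letI : Algebra A Γ(X, W) :=
    ((QCoh.rres (le_top : W ≤ ⊤)).hom.comp (φA (A := A) (X := X))).toAlgebra
  let S := Sec (φA (A := A)) F (le_top : W ≤ ⊤)
  let G := Sec (φA (A := A)) (RefHull.homSh E F) (le_top : W ≤ ⊤)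
  let T := Sec (φA (A := A)) (tA F M) (le_top : W ≤ ⊤)
  letI : Module Γ(X, W) S := secMod (φA (A := A)) F (le_top : W ≤ ⊤)
  letI : Module Γ(X, W) G := secMod (φA (A := A)) (RefHull.homSh E F) (le_top : W ≤ ⊤)
  letI : Module Γ(X, W) T := secMod (φA (A := A)) (tA F M) (le_top : W ≤ ⊤)
  haveI : IsScalarTower A Γ(X, W) S := IsScalarTower.of_algebraMap_smul fun _ _ => rfl
  haveI : IsScalarTower A Γ(X, W) G := IsScalarTower.of_algebraMap_smul fun _ _ => rfl
  haveI := Props.QProj.projective_sections E hE hW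
  haveI : Module.FinitePresentation Γ(X, W) Γ(E, W) := Props.QProj.finitePresentation_sections E hE hW
  haveI : Module.Finite Γ(X, W) Γ(E, W) := inferInstance
  let ev : G ≃ₗ[Γ(X, W)] (Γ(E, W) →ₗ[Γ(X, W)] S) := HomShQC.secEquiv E F hW
  have hκB : ∀ (b : Γ(X, W)) (s : S) (m : M), kap F M W ((b • s) ⊗ₜ m) = b • kap F M W (s ⊗ₜ m) :=
    fun b s m => tmulSec_smul_right W b (uA M W m) (show Γ(F, W) from s)
  let θ' : G ⊗[A] M →+ (Γ(E, W) →ₗ[Γ(X, W)] Γ(tA F M, W)) := θ (T := T) M ev (kap F M W) hκB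
  have hθ : Bijective θ' := θ_bijective M ev (kap F M W) hκB (kap_bijective F M hW)
  let k := LinearEquiv.ofBijective (kap (RefHull.homSh E F) M W)
    (kap_bijective (RefHull.homSh E F) M hW)
  refine ⟨θ'.comp k.symm.toAddMonoidHom, hθ.comp k.symm.bijective, fun g m e => ?_⟩
  have hk : k.symm (tmulSec W (uA M W m) g) = (show G from g) ⊗ₜ[A] m :=
    k.symm_apply_eq.mpr rfl
  change θ' (k.symm (tmulSec W (uA M W m) g)) e = _
  rw [hk]
  rfl

variable [hH : (RefHull.homSh E F).IsQuasicoherent] (hE : FlatMod.IsFinLocFree E)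

/-- the chosen map of `exists_secMap` -/
def secMap (M : ModuleCat.{u} A) (W : X.affineOpens) :
    Γ(tA (RefHull.homSh E F) M, W.1) →+ (Γ(E, W.1) →ₗ[Γ(X, W.1)] Γ(tA F M, W.1)) :=
  (exists_secMap E F hH hE M W.2).choose

lemma secMap_bijective (M : ModuleCat.{u} A) (W : X.affineOpens) :
    Bijective (secMap E F hE M W) := (exists_secMap E F hH hE M W.2).choose_spec.1

lemma secMap_tmul (M : ModuleCat.{u} A) (W : X.affineOpens) (g : Γ(RefHull.homSh E F, W.1)) (m : M)
    (e : Γ(E, W.1)) : secMap E F hE M W (tmulSec W.1 (uA M W.1 m) g) e =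
      tmulSec W.1 (uA M W.1 m) (HomShQC.sec E F g e) :=
  (exists_secMap E F hH hE M W.2).choose_spec.2 g m e

lemma kap_surj (M : ModuleCat.{u} A) (W : X.affineOpens) (x : Γ(tA (RefHull.homSh E F) M, W.1)) :
    ∃ z, (show Γ(tA (RefHull.homSh E F) M, W.1) from kap (RefHull.homSh E F) M W.1 z) = x :=
  (kap_bijective (RefHull.homSh E F) M W.2).2 x

lemma kap_induction (M : ModuleCat.{u} A) (W : X.affineOpens)
    {P : Γ(tA (RefHull.homSh E F) M, W.1) → Prop} (h0 : P 0) (hadd : ∀ a b, P a → P b → P (a + b))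
    (ht : ∀ (g : Γ(RefHull.homSh E F, W.1)) (m : M), P (tmulSec W.1 (uA M W.1 m) g))
    (x : Γ(tA (RefHull.homSh E F) M, W.1)) : P x := by
  obtain ⟨z, rfl⟩ := kap_surj E F M W x
  induction z using TensorProduct.induction_on with
  | zero => exact (map_zero (kap (RefHull.homSh E F) M W.1)).symm ▸ h0
  | tmul s m => exact ht s m
  | add a b ha hb => exact (map_add (kap (RefHull.homSh E F) M W.1) a b).symm ▸ hadd _ _ ha hb

lemma secMap_res (M : ModuleCat.{u} A) (U V : X.affineOpens) (h : V.1 ≤ U.1)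
    (x : Γ(tA (RefHull.homSh E F) M, U.1)) (e : Γ(E, U.1)) :
    res (tA F M) h (secMap E F hE M U x e) =
      secMap E F hE M V (res (tA (RefHull.homSh E F) M) h x) (res E h e) := by
  induction x using kap_induction with
  | h0 => simp
  | ht s m =>
    have hu : res (pullTilde (X := X) M) h (uA M U.1 m) = uA M V.1 m :=
      LimTop.res_unitSec (X ↘ Spec (CommRingCat.of A)) (tilde (R := CommRingCat.of A) M)
        (le_preimage_top U.1) h (topSec M m)
    have e1 := tmulSec_res (homOfLE h) (uA M U.1 m) (show Γ(RefHull.homSh E F, U.1) from s)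
    have e2 := tmulSec_res (homOfLE h) (uA M U.1 m)
      (HomShQC.sec E F (show Γ(RefHull.homSh E F, U.1) from s) e)
    rw [secMap_tmul]
    refine e2.trans ?_
    refine Eq.trans ?_ (congrArg (fun t => secMap E F hE M V t (res E h e)) e1).symm
    refine (congrArg₂ (fun a b => tmulSec V.1 a b) hu (sec_res E h s e)).trans ?_
    refine Eq.trans ?_ (congrArg (fun a => secMap E F hE M V (tmulSec V.1 a _) (res E h e)) hu).symm
    exact (secMap_tmul E F hE M V _ m _).symm
  | hadd a b ha hb =>
    rw [map_add, LinearMap.add_apply, map_add, map_add, map_add, LinearMap.add_apply, ha, hb]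

lemma secMap_natural {M M' : ModuleCat.{u} A} (f : M ⟶ M') (W : X.affineOpens)
    (x : Γ(tA (RefHull.homSh E F) M, W.1)) (e : Γ(E, W.1)) :
    (tAMap F f).app W.1 (secMap E F hE M W x e) =
      secMap E F hE M' W ((tAMap (RefHull.homSh E F) f).app W.1 x) e := by
  induction x using kap_induction with
  | h0 => simp
  | ht s m =>
    rw [secMap_tmul]
    refine (tensR_tmulSec _ W.1 (uA M W.1 m) _).trans ?_
    refine Eq.trans ?_ (congrArg (fun t => secMap E F hE M' W t e)
      (tensR_tmulSec _ W.1 (uA M W.1 m) s)).symm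
    refine (congrArg (fun t => tmulSec W.1 t _) (uA_natural f W.1 m)).trans ?_
    refine Eq.trans ?_ (congrArg (fun t => secMap E F hE M' W (tmulSec W.1 t _) e)
      (uA_natural f W.1 m)).symm
    exact (secMap_tmul E F hE M' W s _ e).symm
  | hadd a b ha hb =>
    rw [map_add, LinearMap.add_apply, map_add, map_add, map_add, LinearMap.add_apply, ha, hb]

lemma exists_secHom (M : ModuleCat.{u} A) (x : Γ(tA (RefHull.homSh E F) M, ⊤)) :
    ∃ φ : E ⟶ tA F M, ∀ (W : X.affineOpens) (e : Γ(E, W.1)),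
      φ.app W.1 e = secMap E F hE M W (res _ le_top x) e :=
  KoszSh77.exists_hom_of_basis (B := X.affineOpens) X.isBasis_affineOpens
    (fun W => secMap E F hE M W (res _ le_top x)) fun U V h e => by
      rw [secMap_res E F hE M U V h, res_res]

lemma hom_ext_affines {G G' : X.Modules} (φ ψ : G ⟶ G')
    (h : ∀ (W : X.affineOpens) (e : Γ(G, W.1)), φ.app W.1 e = ψ.app W.1 e) : φ = ψ := by
  refine Scheme.Modules.hom_ext φ ψ fun U => ?_
  ext e
  refine eq_of_locally_eq G' (U := fun i : {W : X.affineOpens // W.1 ≤ U} => i.1.1) (fun i => i.2)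
    (fun x hx => ?_) _ _ fun i => ?_
  · obtain ⟨W, hW, hxW, hWU⟩ := Opens.isBasis_iff_nbhd.mp X.isBasis_affineOpens hx
    exact Opens.mem_iSup.2 ⟨⟨⟨W, hW⟩, hWU⟩, hxW⟩
  · rw [← app_res, ← app_res, h]

/-- `Γ (X, 𝓗om (E, F) ⊗_A M) → Hom (E, F ⊗_A M)` -/
def secHom (M : ModuleCat.{u} A) : Γ(tA (RefHull.homSh E F) M, ⊤) →+ (E ⟶ tA F M) :=
  AddMonoidHom.mk' (fun x => (exists_secHom E F hE M x).choose) fun x y =>
    hom_ext_affines _ _ fun W e => by
      rw [(exists_secHom E F hE M (x + y)).choose_spec, map_add, map_add, LinearMap.add_apply,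
        Scheme.Modules.Hom.add_app]
      exact congrArg₂ (· + ·) ((exists_secHom E F hE M x).choose_spec W e).symm
        ((exists_secHom E F hE M y).choose_spec W e).symm

lemma secHom_app (M : ModuleCat.{u} A) (x : Γ(tA (RefHull.homSh E F) M, ⊤)) (W : X.affineOpens)
    (e : Γ(E, W.1)) : (secHom E F hE M x).app W.1 e = secMap E F hE M W (res _ le_top x) e :=
  (exists_secHom E F hE M x).choose_spec W e

theorem secHom_bijective [X.IsSeparated] (M : ModuleCat.{u} A) : Bijective (secHom E F hE M) := by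
  have hcov : (⊤ : X.Opens) ≤ ⨆ W : X.affineOpens, W.1 := fun x _ => by
    obtain ⟨W, hW, hxW, -⟩ := Opens.isBasis_iff_nbhd.mp X.isBasis_affineOpens (Opens.mem_top x)
    exact Opens.mem_iSup.2 ⟨⟨W, hW⟩, hxW⟩
  refine ⟨fun x y hxy => ?_, fun φ => ?_⟩
  · refine eq_of_locally_eq _ (fun W : X.affineOpens => le_top) hcov x y fun W =>
      (secMap_bijective E F hE M W).1 (LinearMap.ext fun e => ?_)
    rw [← secHom_app, ← secHom_app, hxy]
  · let ℓ : ∀ W : X.affineOpens, Γ(E, W.1) →ₗ[Γ(X, W.1)] Γ(tA F M, W.1) := fun W =>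
      { toFun := fun e => φ.app W.1 e
        map_add' := map_add _
        map_smul' := fun r e => Scheme.Modules.Hom.app_smul φ r e }
    choose s hs using fun W : X.affineOpens => (secMap_bijective E F hE M W).2 (ℓ W)
    have hres : ∀ (U V : X.affineOpens) (h : V.1 ≤ U.1), res _ h (s U) = s V := fun U V h => by
      refine (secMap_bijective E F hE M V).1 (LinearMap.ext fun e => ?_)
      rw [hs V]
      let D : {f : Γ(X, U.1) // X.basicOpen f ≤ V.1} → X.affineOpens := fun f =>
        ⟨X.basicOpen f.1, U.2.basicOpen f.1⟩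
      refine eq_of_locally_eq (tA F M) (U := fun f => (D f).1) (fun f => f.2) (fun x hx => ?_) _ _
        fun f => ?_
      · obtain ⟨f, hf, hxf⟩ := U.2.exists_basicOpen_le ⟨x, hx⟩ (h hx)
        exact Opens.mem_iSup.2 ⟨⟨f, hf⟩, hxf⟩
      rw [secMap_res E F hE M V (D f) f.2, res_res]
      obtain ⟨n, t, ht⟩ := (isLocalizingAt E U.2 f.1).surj (res E f.2 e)
      have key : secMap E F hE M (D f) (res _ (X.basicOpen_le f.1) (s U))
          (res E (X.basicOpen_le f.1) t) = φ.app (D f).1 (res E (X.basicOpen_le f.1) t) := by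
        rw [← secMap_res E F hE M U (D f) (X.basicOpen_le f.1), hs U]
        exact (app_res φ (X.basicOpen_le f.1) t).symm
      rw [ht, map_smul, Scheme.Modules.Hom.app_smul] at key
      have cancel : ∀ (c : Γ(X, X.basicOpen f.1)) (a b : Γ(tA F M, X.basicOpen f.1)),
          IsUnit c → c • a = c • b → a = b := fun c a b hc h => hc.smul_left_cancel.mp h
      refine cancel _ _ _ ((RingedSpace.isUnit_res_basicOpen _ f.1).pow n) (key.trans ?_)
      exact congrArg (_ • ·) (app_res φ f.2 e)
    obtain ⟨x, hx⟩ := exists_glue (tA (RefHull.homSh E F) M) (fun W : X.affineOpens => le_top) hcov s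
      fun U V => by
        let W : X.affineOpens := ⟨U.1 ⊓ V.1, U.2.inf V.2⟩
        exact (hres U W inf_le_left).trans (hres V W inf_le_right).symm
    refine ⟨x, hom_ext_affines _ _ fun W e => ?_⟩
    rw [secHom_app, hx W, hs W]
    rfl

lemma secHom_natural {M M' : ModuleCat.{u} A} (f : M ⟶ M')
    (x : Γ(tA (RefHull.homSh E F) M, ⊤)) :
    secHom E F hE M' ((tAMap (RefHull.homSh E F) f).app ⊤ x) = secHom E F hE M x ≫ tAMap F f :=
  hom_ext_affines _ _ fun W e => by
    rw [secHom_app, ← app_res, Scheme.Modules.Hom.comp_app, ConcreteCategory.comp_apply, secHom_app,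
      secMap_natural]

omit hH in
lemma flat_homSh (hfl : FlatMod.IsFlatOver (X ↘ Spec (CommRingCat.of A)) F)
    (hfp : CohB1.IsFP E) (hE : FlatMod.IsFinLocFree E) :
    FlatMod.IsFlatOver (X ↘ Spec (CommRingCat.of A)) (RefHull.homSh E F) := fun x => by
  let π := X ↘ Spec (CommRingCat.of A)
  let R := X.presheaf.stalk x
  let R₀ := (Spec (CommRingCat.of A)).presheaf.stalk (π.base x)
  letI : Algebra R₀ R := (π.stalkMap x).hom.toAlgebra
  letI := FlatMod.moduleStalkOver π F x
  letI := FlatMod.moduleStalkOver π (RefHull.homSh E F) x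
  haveI : IsScalarTower R₀ R (F.presheaf.stalk x) := IsScalarTower.of_algebraMap_smul fun _ _ => rfl
  haveI : IsScalarTower R₀ R ((RefHull.homSh E F).presheaf.stalk x) :=
    IsScalarTower.of_algebraMap_smul fun _ _ => rfl
  haveI : Module.Free R (E.presheaf.stalk x) := (Props.QProj.free_stalk E hE x).1
  haveI : Module.Finite R (E.presheaf.stalk x) := HomShQC.finite_stalk E
    (show CohB1.IsFT E from by haveI : SheafOfModules.IsFinitePresentation.{u} E := hfp
                               exact inferInstanceAs (SheafOfModules.IsFiniteType.{u} E)) x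
  let b := Module.Free.chooseBasis R (E.presheaf.stalk x)
  let e : ((RefHull.homSh E F).presheaf.stalk x) ≃ₗ[R]
      (Module.Free.ChooseBasisIndex R (E.presheaf.stalk x) → F.presheaf.stalk x) :=
    (LinearEquiv.ofBijective _ (HomShQC.evalStalk_bijective E F hfp x)).trans (b.constr R).symm
  haveI : Module.Flat R₀ (F.presheaf.stalk x) := hfl x
  let ι := Module.Free.ChooseBasisIndex R (E.presheaf.stalk x)
  classical
  haveI : Module.Flat R₀ (ι →₀ F.presheaf.stalk x) :=
    Module.Flat.of_linearEquiv (finsuppLEquivDirectSum R₀ (F.presheaf.stalk x) ι)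
  haveI : Module.Flat R₀ (ι → F.presheaf.stalk x) :=
    Module.Flat.of_linearEquiv (Finsupp.linearEquivFunOnFinite R₀ (F.presheaf.stalk x) ι).symm
  exact Module.Flat.of_linearEquiv (e.restrictScalars R₀)

end Groth.Agent.CBC.HomTensor

namespace Groth.Agent.CBC.HomTensor

open Groth.Agent

variable {A : Type u} [CommRing A] {X : Scheme.{u}} [X.Over (Spec (CommRingCat.of A))]

/-- homomorphisms out of a locally free module are corepresented -/
theorem exists_homEquiv [IsNoetherianRing A] [IsProper (X ↘ Spec (CommRingCat.of A))] (hfin : FinCoh.{u})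
    {E F : X.Modules} (hE : FlatMod.IsFinLocFree E) (hF : Coh.IsCoh F)
    (hfl : FlatMod.IsFlatOver (X ↘ Spec (CommRingCat.of A)) F) :
    ∃ (Q : ModuleCat.{u} A) (e : ∀ M : ModuleCat.{u} A, (E ⟶ tA F M) ≃+ (Q ⟶ M)),
      Module.Finite A Q ∧
        ∀ {M M' : ModuleCat.{u} A} (f : M ⟶ M') (φ : E ⟶ tA F M),
          e M' (φ ≫ tAMap F f) = e M φ ≫ f := by
  haveI : IsNoetherianRing (CommRingCat.of A) := ‹IsNoetherianRing A›
  haveI : IsLocallyNoetherian X :=
    LocallyOfFiniteType.isLocallyNoetherian (X ↘ Spec (CommRingCat.of A))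
  haveI : X.IsSeparated :=
    ⟨(Subsingleton.elim _ _ : (X ↘ Spec (CommRingCat.of A)) ≫ terminal.from _ = terminal.from X) ▸
      inferInstanceAs (IsSeparated ((X ↘ Spec (CommRingCat.of A)) ≫ terminal.from (Spec (CommRingCat.of A))))⟩
  have hEc : Coh.IsCoh E := VBLib.isCoh_of_isFinLocFree hE
  haveI : E.IsQuasicoherent := hEc.1
  haveI : F.IsQuasicoherent := hF.1
  have hH : Coh.IsCoh (RefHull.homSh E F) := HomShQC.isCoh_homSh E F hEc hF
  haveI : (RefHull.homSh E F).IsQuasicoherent := hH.1
  obtain ⟨R, hw⟩ := exists_rep_win (F := RefHull.homSh E F) hfin hH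
    (flat_homSh E F hfl (HomShQC.isFP_of_isCoh E hEc) hE)
  obtain ⟨w⟩ := hw 0
  obtain ⟨hf, hp⟩ := w.projective_of_lExact (lExact_zero R.K R.flat)
  let Q := ModuleCat.of A (Corep w.u)
  let i := R.globalIso w
  let s := fun M : ModuleCat.{u} A =>
    AddEquiv.ofBijective (secHom E F hE M) (secHom_bijective E F hE M)
  let j : ∀ M : ModuleCat.{u} A, Γ(tA (RefHull.homSh E F) M, ⊤) ≃+ (Q ⟶ M) := fun M =>
    ((i.app M).toLinearEquiv.toAddEquiv : (GA A (RefHull.homSh E F)).obj M ≃+ (Q ⟶ M))
  refine ⟨Q, fun M => (s M).symm.trans (j M), Module.Finite.quotient A _, fun {M M'} f φ => ?_⟩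
  obtain ⟨x, rfl⟩ := (s M).surjective φ
  have e1 : (s M').symm (s M x ≫ tAMap F f) = (tAMap (RefHull.homSh E F) f).app ⊤ x :=
    (s M').symm_apply_eq.mpr (secHom_natural E F hE f x).symm
  refine (congrArg (j M') e1).trans ?_
  refine Eq.trans ?_ (congrArg (fun y => j M y ≫ f) ((s M).symm_apply_apply x)).symm
  exact congr($(i.hom.naturality f) x)

end Groth.Agent.CBC.HomTensor
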