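import Groth.Agent.CBC.BcSec
import Groth.Agent.CBC.DescendWin
import Groth.Agent.CBC.Field
import Groth.Agent.TwistFlat.OpenBC

/-!
# Cohomology and base change over arbitrary bases: neighbourhoods with windows
-/

universe u

open CategoryTheory CategoryTheory.Limits Opposite TopologicalSpace AlgebraicGeometry Function
  TensorProduct

namespace Groth.Agent.CBC

section Alg

variable {A : Type u} [CommRing A] {K : SCx A} {p : ℕ} (w : K.Win p)

/-- the cokernel after base change detects right exactness -/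
theorem rExact_bc_of_flat (B : Type u) [CommRing B] [Algebra A B]
    (h : Module.Flat B (B ⊗[A] Cok w.u)) : (K.bc B).RExact p := by
  refine (w.bc B).rExact_iff.2 ?_
  let e := TensorProduct.piScalarRight A B B (Fin w.m)
  let π : (Fin w.m → B) →ₗ[B] B ⊗[A] Cok w.u :=
    (Submodule.mkQ (LinearMap.range w.u)).baseChange B ∘ₗ e.symm.toLinearMap
  have hs : Surjective (Submodule.mkQ (LinearMap.range w.u) |>.baseChange B) :=
    LinearMap.lTensor_surjective B (Submodule.mkQ_surjective _)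
  have hex : Exact (w.u.baseChange B) ((Submodule.mkQ (LinearMap.range w.u)).baseChange B) :=
    lTensor_exact B (exact_mkQ w.u) (Submodule.mkQ_surjective _)
  have hπ : LinearMap.range (w.uB B) = LinearMap.ker π := by
    refine Submodule.ext fun y => ⟨?_, fun hy => ?_⟩
    · rintro ⟨t, rfl⟩
      rw [LinearMap.mem_ker]
      change (Submodule.mkQ (LinearMap.range w.u)).baseChange B (e.symm (e (w.u.baseChange B t))) = 0
      rw [LinearEquiv.symm_apply_apply]
      exact hex.apply_apply_eq_zero t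
    · obtain ⟨t, ht⟩ := (hex _).1 (show _ = 0 from hy)
      refine ⟨t, ?_⟩
      change e (w.u.baseChange B t) = y
      rw [ht]
      exact e.apply_symm_apply y
  exact Module.Flat.of_linearEquiv (Submodule.quotEquivOfEq _ _ hπ ≪≫ₗ
    LinearMap.quotKerEquivOfSurjective π (hs.comp e.symm.surjective))

end Alg

variable {X S : Scheme.{u}} {f : X ⟶ S} {F : X.Modules}

/-- an affine neighbourhood with windows -/
structure Nhd (f : X ⟶ S) (F : X.Modules) where
  V : S.Opens
  hV : IsAffineOpen V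
  D : Model f V
  w : ∀ p, (D.K F).Win p

section Basic

variable [IsProper f] [LocallyOfFinitePresentation f] [F.IsQuasicoherent] (hF : CohB1.IsFP F)
  (hfl : FlatMod.IsFlatOver f F)

include hF hfl in
theorem exists_nhd_of_affine {V : S.Opens} (hV : IsAffineOpen V) : ∃ N : Nhd f F, N.V = V := by
  obtain ⟨D, hD⟩ := exists_model_win' hF hfl hV
  exact ⟨⟨V, hV, D, fun p => (hD p).some⟩, rfl⟩

include hF hfl in
theorem exists_nhd (s : S) : ∃ N : Nhd f F, s ∈ N.V := by
  obtain ⟨_, ⟨V, hV, rfl⟩, hs, -⟩ :=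
    S.isBasis_affineOpens.exists_subset_of_mem_open (Set.mem_univ s) isOpen_univ
  obtain ⟨N, hN⟩ := exists_nhd_of_affine hF hfl hV
  exact ⟨N, hN ▸ hs⟩

variable (N : Nhd f F)

include hfl in
omit [IsProper f] [LocallyOfFinitePresentation f] in
lemma Nhd.flat (n : ℕ) : Module.Flat Γ(S, N.V) ((N.D.K F).X n) := N.D.flat_K F N.hV hfl n

omit [LocallyOfFinitePresentation f] in
include hfl in
/-- restriction of a neighbourhood to a basic open -/
theorem Nhd.exists_restrict (r : Γ(S, N.V)) : ∃ N' : Nhd f F, N'.V = S.basicOpen r ∧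
    (∀ p, (N.D.K F).RExact p → (N'.D.K F).RExact p) ∧
    (∀ p, (N.D.K F).LExact p → (N'.D.K F).LExact p) ∧
    ∀ p, Module.Free (Localization.Away r) (Localization.Away r ⊗[Γ(S, N.V)] Cok (N.w p).u) →
      (N'.D.K F).RExact p := by
  let V' := S.basicOpen r
  have hle : V' ≤ (𝟙 S : S ⟶ S) ⁻¹ᵁ N.V := CohBase.id_le (S.basicOpen_le r)
  have H : IsPullback (𝟙 X) f f (𝟙 S) := IsPullback.of_id_fst
  have hV' : IsAffineOpen V' := N.hV.basicOpen r
  letI : Algebra Γ(S, N.V) Γ(S, V') := ((𝟙 S : S ⟶ S).appLE N.V V' hle).hom.toAlgebra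
  let D' : Model f V' := Model.bcT H N.hV hV' hle N.D
  let α := cxBC f (𝟙 S) (𝟙 X) f hle rfl F N.D.U N.D.hU H.w
  let β := cxMap (f.app V').hom (bcCov (𝟙 X) f (UT := V') N.D.U) (bcCov_le (𝟙 X) f N.D.U)
    ((Scheme.Modules.pullbackId X).hom.app F)
  have hβ : ∀ n, Bijective (β.f n) := fun n => by
    have hiso : ∀ O, Bijective (((Scheme.Modules.pullbackId X).hom.app F).app O) := fun O =>
      ConcreteCategory.bijective_of_isIso _
    refine ⟨fun a b hab => funext fun x => (hiso _).1 (congrFun hab x), fun s => ?_⟩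
    choose t ht using fun x : Fin (n + 1) → N.D.ι => (hiso _).2 (s x)
    exact ⟨t, funext ht⟩
  have hb : ∀ n, Bijective ((α.comp β).f n) := fun n =>
    (hβ n).comp (cxBC_bijective f (𝟙 S) (𝟙 X) f hle rfl F N.D.U N.D.hU H.w H N.hV hV' N.D.aff n)
  let e := fun n => LinearEquiv.ofBijective _ (hb n)
  refine ⟨⟨V', hV', D', fun p => SCx.Win.ofEquiv e (α.comp β).comm ((N.w p).bc Γ(S, V'))⟩, rfl,
    fun p h => (h.bc Γ(S, V')).of_equiv e (α.comp β).comm,
    fun p h => (h.bc Γ(S, V')).of_equiv e (α.comp β).comm, fun p h => ?_⟩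
  refine (rExact_bc_of_flat (N.w p) Γ(S, V') ?_).of_equiv e (α.comp β).comm
  haveI : IsLocalization.Away r Γ(S, V') := by
    have h0 := N.hV.isLocalization_basicOpen r
    refine @IsLocalization.isLocalization_of_algEquiv _ _ _ _ _ _ _ _ _ h0 ?_
    exact
      { (RingEquiv.refl Γ(S, V')) with
        commutes' := fun a => by
          have : (𝟙 S : S ⟶ S).appLE N.V V' hle = S.presheaf.map (homOfLE hle).op := by
            simp [Scheme.Hom.appLE]
            exact Category.id_comp _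
          exact congr($(this.symm) a) }
  exact flat_tensor_of_algHom
    (IsLocalization.algEquiv (Submonoid.powers r) (Localization.Away r) Γ(S, V')).toAlgHom _
    inferInstance

omit [LocallyOfFinitePresentation f] in
include hfl in
/-- restriction into a smaller open -/
theorem Nhd.exists_le {U : S.Opens} {s : S} (hsV : s ∈ N.V) (hsU : s ∈ U) :
    ∃ N' : Nhd f F, s ∈ N'.V ∧ N'.V ≤ U ∧
      (∀ p, (N.D.K F).RExact p → (N'.D.K F).RExact p) ∧
      ∀ p, (N.D.K F).LExact p → (N'.D.K F).LExact p := by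
  obtain ⟨r, hr, hsr⟩ := N.hV.exists_basicOpen_le ⟨s, hsU⟩ hsV
  obtain ⟨N', hN', h1, h2, -⟩ := N.exists_restrict hfl r
  exact ⟨N', hN' ▸ hsr, hN' ▸ hr, h1, h2⟩

/-- surjectivity of the comparison at the point `s` -/
def Nhd.SurjAt (s : S) (hs : s ∈ N.V) (p : ℕ) : Prop :=
  Surjective (kerBC (N.w p).u (N.hV.primeIdealOf ⟨s, hs⟩).asIdeal.ResidueField)

omit [LocallyOfFinitePresentation f] in
include hfl in
/-- surjectivity at a point spreads to right exactness on a neighbourhood -/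
theorem Nhd.exists_rExact_of_surjAt {s : S} (hs : s ∈ N.V) {p : ℕ} (h : N.SurjAt s hs p) :
    ∃ N' : Nhd f F, s ∈ N'.V ∧ (N'.D.K F).RExact p ∧
      ∀ q, (N.D.K F).RExact q → (N'.D.K F).RExact q := by
  have := (N.w p).fp
  obtain ⟨r, hr, hfree, -⟩ := exists_good_of_surjective (N.w p).u _ h
  obtain ⟨N', hN', h1, -, h3⟩ := N.exists_restrict hfl r
  refine ⟨N', hN' ▸ ?_, h3 p hfree, h1⟩
  have h4 : N.hV.primeIdealOf ⟨s, hs⟩ ∈ PrimeSpectrum.basicOpen r := hr
  rw [← N.hV.fromSpec_preimage_basicOpen] at h4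
  exact (congrArg (· ∈ S.basicOpen r) (N.hV.fromSpec_primeIdealOf ⟨s, hs⟩)).mp h4

omit [IsProper f] [LocallyOfFinitePresentation f] [F.IsQuasicoherent] in
lemma Nhd.surjAt_of_rExact {s : S} (hs : s ∈ N.V) {p : ℕ} (h : (N.D.K F).RExact p) :
    N.SurjAt s hs p := by
  have := (N.w p).rExact_iff.1 h
  exact (kerBC_bijective_of_flat _ _).2

end Basic

section BaseChange

variable [IsProper f] [F.IsQuasicoherent] [HasInjectiveResolutions X.Modules]
  {Δ : RDer.DerivedLES (Scheme.Modules.pushforward f)} {E : CohCmp.SectCmp f Δ}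

/-- a morphism bijective on the small affine opens is an isomorphism -/
theorem isIso_of_small_affine {Y : Scheme.{u}} {M N : Y.Modules} (φ : M ⟶ N)
    (P : Y.Opens → Prop) (hP : ∀ y : Y, ∃ W, y ∈ W ∧ P W) (hPle : ∀ W W', W' ≤ W → P W → P W')
    (h : ∀ W, IsAffineOpen W → P W → Bijective (φ.app W)) : IsIso φ := by
  have hcov : ∀ V : Y.Opens, V ≤ ⨆ W : {W : Y.affineOpens // W.1 ≤ V ∧ P W.1}, W.1.1 := by
    intro V y hy
    obtain ⟨W, hyW, hW⟩ := hP y
    obtain ⟨_, ⟨W', hW', rfl⟩, hyW', hle⟩ :=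
      Y.isBasis_affineOpens.exists_subset_of_mem_open (show y ∈ W ⊓ V from ⟨hyW, hy⟩) (W ⊓ V).2
    exact Opens.mem_iSup.2 ⟨⟨⟨W', hW'⟩, fun z hz => (hle hz).2,
      hPle W W' (fun z hz => (hle hz).1) hW⟩, hyW'⟩
  rw [Scheme.Modules.Hom.isIso_iff_isIso_app]
  intro V
  have hinj : ∀ (V : Y.Opens) (x : Γ(M, V)), φ.app V x = 0 → x = 0 := fun V x hx => by
    refine QCoh.eq_zero_of_locally_eq_zero _
      (fun W : {W : Y.affineOpens // W.1 ≤ V ∧ P W.1} => W.2.1) (hcov V) _ fun W => ?_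
    apply (h W.1.1 W.1.2 W.2.2).1
    rw [QCoh.app_res, hx, map_zero, map_zero]
  refine (ConcreteCategory.isIso_iff_bijective _).2
    ⟨(injective_iff_map_eq_zero _).2 (hinj V), fun x => ?_⟩
  choose a ha using fun W : {W : Y.affineOpens // W.1 ≤ V ∧ P W.1} =>
    (h W.1.1 W.1.2 W.2.2).2 (QCoh.res N W.2.1 x)
  have hloc : ∀ W W', QCoh.res M (inf_le_left : W.1.1 ⊓ W'.1.1 ≤ W.1.1) (a W) =
      QCoh.res M (inf_le_right : W.1.1 ⊓ W'.1.1 ≤ W'.1.1) (a W') := fun W W' => by
    refine sub_eq_zero.1 (hinj _ _ ?_)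
    rw [map_sub, QCoh.app_res, QCoh.app_res, ha, ha, QCoh.res_res, QCoh.res_res, sub_self]
  obtain ⟨y, hy⟩ := QCoh.exists_glue M
    (fun W : {W : Y.affineOpens // W.1 ≤ V ∧ P W.1} => W.2.1) (hcov V) a hloc
  refine ⟨y, QCoh.eq_of_locally_eq N (fun W : {W : Y.affineOpens // W.1 ≤ V ∧ P W.1} => W.2.1)
    (hcov V) _ _ fun W => ?_⟩
  rw [← QCoh.app_res, hy, ha]

/-- base change over right exact neighbourhoods -/
theorem isIso_bc_of_rExact {X' S' : Scheme.{u}} {g' : X' ⟶ X} {f' : X' ⟶ S'} {g : S' ⟶ S}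
    (H : IsPullback g' f' f g) [HasInjectiveResolutions X'.Modules]
    {Δ' : RDer.DerivedLES (Scheme.Modules.pushforward f')} {E' : CohCmp.SectCmp f' Δ'}
    (B : CohCmp.GenBC f g f' g' H.w E E') (p : ℕ)
    (h : ∀ z : S', ∃ N : Nhd f F, g z ∈ N.V ∧ (N.D.K F).RExact p) : IsIso (B.bc p F) := by
  haveI : IsProper f' := MorphismProperty.of_isPullback H ‹IsProper f›
  refine isIso_of_small_affine (B.bc p F)
    (fun W => ∃ N : Nhd f F, W ≤ g ⁻¹ᵁ N.V ∧ (N.D.K F).RExact p) (fun z => ?_)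
    (fun W W' hW => fun ⟨N, h1, h2⟩ => ⟨N, hW.trans h1, h2⟩) fun W hW => ?_
  · obtain ⟨N, h1, h2⟩ := h z
    exact ⟨g ⁻¹ᵁ N.V, h1, N, le_rfl, h2⟩
  · rintro ⟨N, h1, h2⟩
    letI : Algebra Γ(S, N.V) Γ(S', W) := (g.appLE N.V W h1).hom.toAlgebra
    refine (bc_app_bijective_iff B p F H N.hV hW h1 N.D rfl).2 ((N.w p).Φ_bijective_iff _ |>.2 ?_)
    have := (N.w p).rExact_iff.1 h2
    exact kerBC_bijective_of_flat _ _

variable {s : S} [HasInjectiveResolutions (f.fiber s).Modules]
  {Δs : RDer.DerivedLES (Scheme.Modules.pushforward (f.fiberToSpecResidueField s))}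
  {Es : CohCmp.SectCmp (f.fiberToSpecResidueField s) Δs}
  (Bs : CohCmp.GenBC f (S.fromSpecResidueField s) (f.fiberToSpecResidueField s) (f.fiberι s)
    (f.fiber_fac s) E Es)

/-- surjectivity of the base change map of the fibre -/
theorem epi_bc_iff (N : Nhd f F) (hs : s ∈ N.V) (p : ℕ) :
    Epi (Bs.bc p F) ↔ N.SurjAt s hs p := by
  have := (N.w p).fp
  let g := S.fromSpecResidueField s
  have H : IsPullback (f.fiberι s) (f.fiberToSpecResidueField s) f g :=
    IsPullback.of_hasPullback f g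
  haveI : IsProper (f.fiberToSpecResidueField s) :=
    MorphismProperty.of_isPullback H ‹IsProper f›
  have hle : ⊤ ≤ g ⁻¹ᵁ N.V := fromSpecResidueField_le s hs
  have hT := isAffineOpen_top (Spec (S.residueField s))
  letI : Algebra Γ(S, N.V) Γ(Spec (S.residueField s), ⊤) := (g.appLE N.V ⊤ hle).hom.toAlgebra
  have hfield : IsField Γ(Spec (S.residueField s), ⊤) :=
    (Scheme.ΓSpecIso (S.residueField s)).commRingCatIsoToRingEquiv.toMulEquiv.isField
      (Field.toIsField (S.residueField s))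
  letI := hfield.toField
  have hker : RingHom.ker (algebraMap Γ(S, N.V) Γ(Spec (S.residueField s), ⊤)) =
      (N.hV.primeIdealOf ⟨s, hs⟩).asIdeal := by
    rw [← ker_eval N.hV s hs]
    ext a
    rw [RingHom.mem_ker, RingHom.mem_ker]
    change g.appLE N.V ⊤ hle a = 0 ↔ _
    rw [fromSpecResidueField_appLE]
    exact map_eq_zero_iff _ (ConcreteCategory.bijective_of_isIso
      (Scheme.ΓSpecIso (S.residueField s)).inv).1
  rw [Nhd.SurjAt, ← kerBC_surjective_field_iff (N.w p).u _ hker, ← (N.w p).Φ_surjective_iff,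
    ← bc_app_surjective_iff Bs p F H N.hV hT hle N.D rfl]
  haveI : ((Coh.Rpush f p).obj F).IsQuasicoherent := isQuasicoherent_Rpush f F p
  haveI : ((Scheme.Modules.pullback g).obj ((Coh.Rpush f p).obj F)).IsQuasicoherent :=
    QCoh.isQuasicoherent_pullback g _
  haveI := QCoh.isQuasicoherent_pullback (f.fiberι s) F
  haveI : ((Coh.Rpush (f.fiberToSpecResidueField s) p).obj
      ((Scheme.Modules.pullback (f.fiberι s)).obj F)).IsQuasicoherent :=
    isQuasicoherent_Rpush _ _ p
  refine ⟨fun _ => QCoh.app_surjective_of_epi _ hT, fun h => ?_⟩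
  refine CohAff.epi_of_affine_surjective _ fun O _ => ?_
  by_cases hO : O = ⊤
  · subst hO
    exact h
  · intro t
    refine ⟨0, ?_⟩
    refine (map_zero _).trans (QCoh.eq_zero_of_locally_eq_zero _
      (U := fun i : PEmpty.{u + 1} => i.elim) (fun i => i.elim) ?_ t fun i => i.elim).symm
    intro z hz
    haveI : Subsingleton (Spec (S.residueField s)) :=
      inferInstanceAs (Subsingleton (PrimeSpectrum (S.residueField s)))
    exact absurd (top_unique fun z' _ => Subsingleton.elim z z' ▸ hz) hO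

end BaseChange

section Local

variable [IsProper f] [F.IsQuasicoherent] [HasInjectiveResolutions X.Modules]

omit [HasInjectiveResolutions X.Modules] in
/-- locally free from free neighbourhoods -/
theorem isFinLocFree_restrict {M : S.Modules} {V : S.Opens}
    (h : ∀ x ∈ V, ∃ (U : S.Opens) (n : ℕ), x ∈ U ∧
      Nonempty (M.restrict U.ι ≅ FlatMod.freeMod U n)) :
    FlatMod.IsFinLocFree (M.restrict V.ι) := by
  intro x
  obtain ⟨U, n, hxU, ⟨e⟩⟩ := h x.1 x.2
  let U' := V.ι ⁻¹ᵁ U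
  let t : U'.toScheme ⟶ U.toScheme := IsOpenImmersion.lift U.ι (U'.ι ≫ V.ι) (by
    rintro _ ⟨z, rfl⟩
    rw [Scheme.Opens.range_ι]
    exact z.2)
  haveI : IsOpenImmersion t := by
    have : IsOpenImmersion (t ≫ U.ι) := by rw [IsOpenImmersion.lift_fac]; infer_instance
    exact IsOpenImmersion.of_comp t U.ι
  refine ⟨U', n, hxU, ⟨?_⟩⟩
  exact ((Scheme.Modules.restrictFunctorComp U'.ι V.ι).symm.app M) ≪≫
    (((Scheme.Modules.restrictFunctorComp t U.ι).symm ≪≫
      Scheme.Modules.restrictFunctorCongr (IsOpenImmersion.lift_fac _ _ _)).app M).symm ≪≫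
    (Scheme.Modules.restrictFunctor t).mapIso (e ≪≫ (Props.QProj.freeModIso _ n).symm) ≪≫
    Props.QProj.restrictFreeIso t _ ≪≫ Props.QProj.freeModIso _ n

omit [HasInjectiveResolutions X.Modules] in
/-- locally free modules have flat sections on small affine opens -/
theorem flat_sections_of_finLocFree {M : S.Modules} [M.IsQuasicoherent] {V : S.Opens}
    (h : FlatMod.IsFinLocFree (M.restrict V.ι)) {W : S.Opens} (hW : IsAffineOpen W) (hWV : W ≤ V) :
    Module.Flat Γ(S, W) Γ(M, W) := by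
  haveI : (M.restrict V.ι).IsQuasicoherent := Scheme.Modules.isQuasicoherent_restrictFunctor _ M
  let W' := V.ι ⁻¹ᵁ W
  have hW' : IsAffineOpen W' := by
    refine (V.ι.isAffineOpen_iff_of_isOpenImmersion).1 ?_
    rwa [Scheme.Hom.image_preimage_eq_opensRange_inf, Scheme.Opens.opensRange_ι, inf_eq_right.2 hWV]
  have := Props.QProj.projective_sections _ h hW'
  have e : V.ι ''ᵁ W' = W := by
    rw [Scheme.Hom.image_preimage_eq_opensRange_inf, Scheme.Opens.opensRange_ι, inf_eq_right.2 hWV]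
  have h1 : Module.Flat Γ(S, V.ι ''ᵁ W') Γ(M, V.ι ''ᵁ W') :=
    (TwistFlat.flat_and_finite_iff (A := Γ(V.toScheme, W')) (N := Γ(M.restrict V.ι, W'))
      (N' := Γ(M, V.ι ''ᵁ W')) (V.ι.appIso W').symm.commRingCatIsoToRingEquiv
      (AddEquiv.refl Γ(M, V.ι ''ᵁ W'))
      (fun a m => QCoh.restrict_smul V.ι M a m)).1.1
        (inferInstanceAs (Module.Flat Γ(V.toScheme, W') Γ(M.restrict V.ι, W')))
  exact e ▸ h1

variable (N : Nhd f F) {p : ℕ}

include N in
/-- sections over a neighbourhood as a kernel -/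
noncomputable def Nhd.secKer (p : ℕ) :
    Γ((Coh.Rpush f p).obj F, N.V) ≃ₗ[Γ(S, N.V)] LinearMap.ker (N.w p).u :=
  CBC.secKer N.hV N.D (N.w p)

/-- exactness on both sides gives local freeness -/
theorem Nhd.exists_free_nhd (hR : (N.D.K F).RExact p) (hL : (N.D.K F).LExact p) :
    ∀ y ∈ N.V, ∃ (U : S.Opens) (n : ℕ), y ∈ U ∧
      Nonempty (((Coh.Rpush f p).obj F).restrict U.ι ≅ FlatMod.freeMod U n) := by
  intro y hy
  let M := (Coh.Rpush f p).obj F
  haveI : M.IsQuasicoherent := isQuasicoherent_Rpush f F p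
  have := (N.w p).fp
  have := (N.w p).rExact_iff.1 hR
  have := (N.w p).lExact_iff.1 hL
  have := finite_ker (N.w p).u
  have := projective_ker (N.w p).u
  have : Module.Finite Γ(S, N.V) Γ(M, N.V) := Module.Finite.equiv (N.secKer p).symm
  have : Module.Projective Γ(S, N.V) Γ(M, N.V) := Module.Projective.of_equiv (N.secKer p).symm
  exact Props.QProj.exists_free_nhd M N.hV hy (Module.finitePresentation_of_projective _ _)
    (Props.QProj.free_stalk_of_flat M N.hV hy)

omit [HasInjectiveResolutions X.Modules] in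
/-- exactness on both sides gives locally constant dimension -/
theorem Nhd.isLocallyConstant_fiberRank (hR : (N.D.K F).RExact p) (hL : (N.D.K F).LExact p) :
    IsLocallyConstant (fun v : N.V => CohIII.fiberRank f F p v.1) := by
  have := (N.w p).fp
  have := (N.w p).rExact_iff.1 hR
  have := (N.w p).lExact_iff.1 hL
  have h1 := (isLocallyConstant_kerRank (N.w p).u).comp_continuous
    (show Continuous fun v : N.V => N.hV.primeIdealOf v from
      N.hV.isoSpec.hom.continuous)
  rwa [show (fun v : N.V => CohIII.fiberRank f F p v.1) =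
    kerRank (N.w p).u ∘ fun v : N.V => N.hV.primeIdealOf v from
    funext fun v => fiberRank_eq N.hV v.1 v.2 N.D (N.w p)]

/-- vanishing fibres over an affine open -/
theorem Nhd.exact_of_fibres_zero
    (h : ∀ y ∈ N.V, Subsingleton (CohIII.fiberH f F y p)) :
    (N.D.K F).RExact p ∧ (N.D.K F).LExact p ∧ Subsingleton Γ((Coh.Rpush f p).obj F, N.V) := by
  have := (N.w p).fp
  obtain ⟨h1, h2, h3⟩ := of_forall_ker_eq_bot (N.w p).u fun x => by
    have h0 := (subsingleton_fiberH_iff N.hV (pt N.hV x) (pt_mem N.hV x) N.D (N.w p)).1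
      (h (pt N.hV x) (pt_mem N.hV x))
    rw [← kerRank_pt N.hV N.D (N.w p)] at h0
    have : Module.Finite x.asIdeal.ResidueField
        (LinearMap.ker ((N.w p).u.baseChange x.asIdeal.ResidueField)) :=
      Module.Finite.iff_fg.2 (IsNoetherian.noetherian _)
    exact (Module.finrank_zero_iff (R := x.asIdeal.ResidueField)
      (M := LinearMap.ker ((N.w p).u.baseChange x.asIdeal.ResidueField))).1 h0
  exact ⟨(N.w p).rExact_iff.2 h1, (N.w p).lExact_iff.2 h3,
    (N.secKer p).toEquiv.subsingleton⟩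

end Local

section Vanish

variable [IsProper f] [LocallyOfFinitePresentation f] [F.IsQuasicoherent] (hF : CohB1.IsFP F)
  (hfl : FlatMod.IsFlatOver f F)

include hF hfl in
/-- the vanishing locus of fibre cohomology is open -/
theorem isOpen_setOf_subsingleton_fiberH (p : ℕ) :
    IsOpen {s : S | Subsingleton (CohIII.fiberH f F s p)} := by
  refine isOpen_iff_forall_mem_open.2 fun s hs => ?_
  obtain ⟨N, hsN⟩ := exists_nhd hF hfl s
  have := (N.w p).fp
  have h1 := kerRank_le_eventually (N.w p).u (N.hV.primeIdealOf ⟨s, hsN⟩)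
  have h0 : kerRank (N.w p).u (N.hV.primeIdealOf ⟨s, hsN⟩) = 0 := by
    rw [← fiberRank_eq N.hV s hsN N.D (N.w p)]
    exact (subsingleton_fiberH_iff N.hV s hsN N.D (N.w p)).1 hs
  obtain ⟨O, hO, hOo, hxO⟩ := eventually_nhds_iff.1 h1
  refine ⟨N.hV.fromSpec '' O, ?_, N.hV.fromSpec.isOpenEmbedding.isOpenMap O hOo,
    ⟨_, hxO, N.hV.fromSpec_primeIdealOf ⟨s, hsN⟩⟩⟩
  rintro _ ⟨x, hx, rfl⟩
  refine (subsingleton_fiberH_iff N.hV (pt N.hV x) (pt_mem N.hV x) N.D (N.w p)).2 ?_
  rw [← kerRank_pt N.hV N.D (N.w p)]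
  exact Nat.le_zero.1 ((hO x hx).trans h0.le)

omit [LocallyOfFinitePresentation f] in
include hfl in
/-- flat kernels above a degree give exactness -/
theorem Nhd.exact_of_flat_ker (N : Nhd f F) {k : ℕ}
    (h : ∀ i, k < i → Module.Flat Γ(S, N.V) (LinearMap.ker (N.w i).u)) :
    ∀ i, k ≤ i → (N.D.K F).RExact i := by
  have hK := N.flat hfl
  have hL : ∀ i, k < i → (N.D.K F).RExact i → (N.D.K F).LExact i := fun i hi hr => by
    have := (N.w i).fp
    have := (N.w i).rExact_iff.1 hr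
    have := h i hi
    exact (N.w i).lExact_iff.2 (flat_source_of_flat_ker (N.w i).u)
  have hR : ∀ j i, k ≤ i → Nat.card N.D.ι ≤ i + j → (N.D.K F).RExact i := by
    intro j
    induction j with
    | zero =>
      intro i _ hi M M' _ _ _ _ g _ y
      have := subsingleton_H N.hV N.D F M' i (by omega)
      exact ⟨0, Subsingleton.elim _ _⟩
    | succ j ih =>
      intro i hi hij
      exact (SCx.rExact_iff_lExact_succ _ i hK).2
        (hL (i + 1) (by omega) (ih (i + 1) (by omega) (by omega)))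
  exact fun i hi => hR (Nat.card N.D.ι) i hi (by omega)

end Vanish

end Groth.Agent.CBC
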