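import Groth.Agent.PicCl.Basic
import Groth.Agent.S0234
import Groth.Agent.S2821
import Groth.Agent.S11107
import Groth.Agent.S4433
import Groth.Prelude.Def_AbDual
import Mathlib.AlgebraicGeometry.Sites.Fpqc
import Mathlib.AlgebraicGeometry.Morphisms.Finite
import Mathlib.RingTheory.DiscreteValuationRing.Basic

/-!
# Points of relative Picard schemes extend over discrete valuation rings
-/

set_option autoImplicit false

universe u

open CategoryTheory CategoryTheory.Limits AlgebraicGeometry TopologicalSpace Opposite Function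

noncomputable section

namespace Groth.Agent.CBC.PicDVR

variable {X S : Scheme.{u}} (f : X ⟶ S)

theorem xt_square {T T' : Over S} (g : T' ⟶ T) :
    IsPullback (PicF.XTmap f g) (pullback.snd f T'.hom) (pullback.snd f T.hom) g.left := by
  refine IsPullback.of_right ?_ (Groth.Agent.PicCl.XTmap_snd f g) (IsPullback.of_hasPullback f T.hom)
  rw [Groth.Agent.PicCl.XTmap_fst, Over.w g]
  exact IsPullback.of_hasPullback f T'.hom

/-- the generic point of a discrete valuation ring is open -/
theorem isOpenImmersion_gen (R K : Type u) [CommRing R] [IsDomain R] [IsDiscreteValuationRing R]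
    [Field K] [Algebra R K] [IsFractionRing R K] :
    IsOpenImmersion (Spec.map (CommRingCat.ofHom (algebraMap R K))) := by
  obtain ⟨ϖ, hϖ⟩ := IsDiscreteValuationRing.exists_irreducible R
  haveI : IsLocalization.Away ϖ K := by
    have hinj := IsFractionRing.injective R K
    refine (isLocalization_iff _ _).2 ⟨?_, fun x => ?_, fun {a b} e => ⟨1, by rw [hinj e]⟩⟩
    · rintro ⟨_, n, rfl⟩
      exact isUnit_iff_ne_zero.2 ((map_ne_zero_iff _ hinj).2 (pow_ne_zero n hϖ.ne_zero))
    · obtain ⟨a, d, hd, rfl⟩ := IsFractionRing.div_surjective (A := R) x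
      obtain ⟨n, hn⟩ := IsDiscreteValuationRing.associated_pow_irreducible (nonZeroDivisors.ne_zero hd) hϖ
      obtain ⟨v, hv⟩ := hn
      refine ⟨⟨a * (v : R), ⟨ϖ ^ n, n, rfl⟩⟩, ?_⟩
      change algebraMap R K a / algebraMap R K d * algebraMap R K (ϖ ^ n) = algebraMap R K (a * v)
      rw [← hv, map_mul, map_mul, ← mul_assoc, div_mul_cancel₀ _ ((map_ne_zero_iff _ hinj).2 (nonZeroDivisors.ne_zero hd))]
  exact IsOpenImmersion.of_isLocalization ϖ

/-- classes on the generic fibre extend -/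
theorem exists_extend [IsProper f] [Smooth f] (R : Type u) [CommRing R] [IsDomain R]
    [IsDiscreteValuationRing R] (T : Over S) (b : Spec (CommRingCat.of R) ≅ T.left)
    {U : Scheme.{u}} (u : U ⟶ T.left) [IsOpenImmersion u]
    (c : PicF.Cl (PicF.XT f (AbDual.ovr T u))) (hc : PicF.IsInvertibleCl c) :
    ∃ c₁ : PicF.Cl (PicF.XT f T), PicF.IsInvertibleCl c₁ ∧
      PicF.pullCl (PicF.XTmap f (AbDual.ovrHom T u)) c₁ = c := by
  let π : PicF.XT f T ⟶ Spec (CommRingCat.of R) := pullback.snd f T.hom ≫ b.inv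
  haveI : Smooth (pullback.snd f T.hom) := MorphismProperty.pullback_snd f T.hom ‹_›
  haveI : Smooth π := inferInstanceAs (Smooth (pullback.snd f T.hom ≫ b.inv))
  haveI : IsLocallyNoetherian (PicF.XT f T) := LocallyOfFiniteType.isLocallyNoetherian π
  let j := PicF.XTmap f (AbDual.ovrHom T u)
  haveI : IsOpenImmersion j :=
    MorphismProperty.of_isPullback (P := @IsOpenImmersion) (xt_square f (AbDual.ovrHom T u)).flip
      (inferInstanceAs (IsOpenImmersion u))
  obtain ⟨L, rfl, hL⟩ := hc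
  let e := j.isoOpensRange
  obtain ⟨L', hL', ⟨φ⟩⟩ := S0234.result (PicF.XT f T) j.opensRange
    ((Scheme.Modules.pullback e.inv).obj L) (PicCl.isInvertible_pullback e.inv hL) fun x _ => by
      haveI := S11107.isRegularLocalRing_stalk π x
      haveI := (S2821.result ((PicF.XT f T).presheaf.stalk x)).1
      exact (S2821.result _).2
  refine ⟨PicF.cl L', ⟨L', rfl, hL'⟩, ?_⟩
  have h1 : PicF.pullCl j.opensRange.ι (PicF.cl L') = PicF.pullCl e.inv (PicF.cl L) :=
    PicCl.cl_eq_of_iso ((Scheme.Modules.restrictFunctorIsoPullback j.opensRange.ι).symm.app L' ≪≫ φ)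
  calc PicF.pullCl j (PicF.cl L') = PicF.pullCl (e.hom ≫ j.opensRange.ι) (PicF.cl L') := by
        rw [Scheme.Hom.isoOpensRange_hom_ι]
    _ = PicF.pullCl e.hom (PicF.pullCl e.inv (PicF.cl L)) := by rw [PicCl.pullCl_comp, h1]
    _ = _ := by rw [← PicCl.pullCl_comp, Iso.hom_inv_id, PicCl.pullCl_id]

/-- a class over a finite extension -/
theorem exists_finite_class {P : Over S} {φ : ∀ T : Over S, PicF.Cl (PicF.XT f T) → (T ⟶ P)}
    (hP : AbDual.IsRelPicK Scheme.fppfPrecoverage f P φ) {K : Type u} [Field K] (T : Over S)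
    (t : Spec (CommRingCat.of K) ≅ T.left) (g : T ⟶ P) :
    ∃ (L : Type u) (_ : Field L) (_ : Algebra K L) (_ : Module.Finite K L)
      (c : PicF.Cl (PicF.XT f (AbDual.ovr T (Spec.map (CommRingCat.ofHom (algebraMap K L)) ≫ t.hom)))),
      PicF.IsInvertibleCl c ∧
        φ _ c = AbDual.ovrHom T (Spec.map (CommRingCat.ofHom (algebraMap K L)) ≫ t.hom) ≫ g := by
  obtain ⟨Rs, hRs, hsurj⟩ := hP.locallySurjective T g
  obtain ⟨pt⟩ : Nonempty ↥(Spec (CommRingCat.of K)) := inferInstanceAs (Nonempty (PrimeSpectrum K))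
  obtain ⟨_, _, @⟨U, u, hu⟩, z, -⟩ := hRs.1 (t.hom pt)
  haveI : LocallyOfFinitePresentation u := (hRs.2 hu).2
  let v : U ⟶ Spec (CommRingCat.of K) := u ≫ t.inv
  haveI : LocallyOfFiniteType v := inferInstanceAs (LocallyOfFiniteType (u ≫ t.inv))
  haveI : JacobsonSpace ↥(Spec (CommRingCat.of K)) := inferInstanceAs (JacobsonSpace (PrimeSpectrum K))
  haveI : JacobsonSpace U := LocallyOfFiniteType.jacobsonSpace v
  obtain ⟨w, -, hw⟩ := nonempty_inter_closedPoints (Z := (Set.univ : Set U)) ⟨z, trivial⟩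
    isOpen_univ.isLocallyClosed
  haveI := isClosed_singleton_iff_isClosedImmersion.mp hw
  haveI hfin : IsFinite (U.fromSpecResidueField w ≫ v) :=
    (isFinite_iff_locallyOfFiniteType_of_jacobsonSpace (f := U.fromSpecResidueField w ≫ v)).mpr
      inferInstance
  obtain ⟨i, hi⟩ := Spec.map_surjective (U.fromSpecResidueField w ≫ v)
  rw [← hi, IsFinite.SpecMap_iff] at hfin
  letI : Algebra K (U.residueField w) := i.hom.toAlgebra
  have hfac : Spec.map (CommRingCat.ofHom (algebraMap K (U.residueField w))) ≫ t.hom =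
      U.fromSpecResidueField w ≫ u := by
    change Spec.map i ≫ t.hom = _
    rw [hi]
    simp [v]
  obtain ⟨c, hc, hc'⟩ := hsurj u hu
  let T' := AbDual.ovr T (Spec.map (CommRingCat.ofHom (algebraMap K (U.residueField w))) ≫ t.hom)
  let h : T' ⟶ AbDual.ovr T u := Over.homMk (U.fromSpecResidueField w) (by
    show U.fromSpecResidueField w ≫ u ≫ T.hom =
      (Spec.map (CommRingCat.ofHom (algebraMap K (U.residueField w))) ≫ t.hom) ≫ T.hom
    rw [hfac, Category.assoc])
  refine ⟨U.residueField w, inferInstance, inferInstance, hfin,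
    PicF.pullCl (PicF.XTmap f h) c, PicCl.isInvertibleCl_pullCl _ hc, ?_⟩
  refine (hP.natural _ _ h c hc).trans ?_
  rw [hc', ← Category.assoc]
  congr 1
  exact Over.OverMorphism.ext (by simpa [h] using hfac.symm)

/-- descent of a point along a dominating extension of discrete valuation rings -/
theorem exists_descend {P : Scheme.{u}} (sP : P ⟶ S) (R : Type u) [CommRing R] [IsDomain R]
    [IsDiscreteValuationRing R] (b : Spec (CommRingCat.of R) ⟶ S) {K : Type u} [Field K] [Algebra R K]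
    [IsFractionRing R K] (g : Spec (CommRingCat.of K) ⟶ P) {L : Type u} [Field L] [Algebra K L]
    [Algebra R L] [IsScalarTower R K L] (R' : ValuationSubring L) (φ : R →+* R')
    (hφ : R'.subtype.comp φ = algebraMap R L) (hdom : ∀ a ∈ IsLocalRing.maximalIdeal R, R'.valuation (algebraMap R L a) < 1)
    (h : Spec (CommRingCat.of R') ⟶ P)
    (hS : h ≫ sP = Spec.map (CommRingCat.ofHom φ) ≫ b)
    (hgen : Spec.map (CommRingCat.ofHom R'.subtype) ≫ h = Spec.map (CommRingCat.ofHom (algebraMap K L)) ≫ g) :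
    ∃ gR : Spec (CommRingCat.of R) ⟶ P, gR ≫ sP = b ∧
      Spec.map (CommRingCat.ofHom (algebraMap R K)) ≫ gR = g := by
  let O := P.presheaf.stalk (h (IsLocalRing.closedPoint R'))
  let p := h (IsLocalRing.closedPoint R')
  let ψ' : O ⟶ CommRingCat.of R' := Scheme.stalkClosedPointTo h
  have hψ' : Spec.map ψ' ≫ P.fromSpecStalk p = h := Scheme.Spec_stalkClosedPointTo_fromSpecStalk h
  let p' := g (IsLocalRing.closedPoint K)
  have hsp : p' ⤳ p := by
    obtain ⟨z⟩ : Nonempty ↥(Spec (CommRingCat.of L)) := inferInstanceAs (Nonempty (PrimeSpectrum L))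
    have e1 : (Spec.map (CommRingCat.ofHom (algebraMap K L)) ≫ g) z = p' := by
      rw [Scheme.Hom.comp_apply]
      haveI : Subsingleton ↥(Spec (CommRingCat.of K)) := inferInstanceAs (Subsingleton (PrimeSpectrum K))
      exact congrArg g (Subsingleton.elim _ _)
    rw [← e1, ← hgen, Scheme.Hom.comp_apply]
    exact (IsLocalRing.specializes_closedPoint _).map h.continuous
  let ψ : O ⟶ CommRingCat.of K := P.presheaf.stalkSpecializes hsp ≫ Scheme.stalkClosedPointTo g
  have hψ : Spec.map ψ ≫ P.fromSpecStalk p = g := by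
    rw [Spec.map_comp, Category.assoc]
    refine (congrArg (_ ≫ ·) (Scheme.SpecMap_stalkSpecializes_fromSpecStalk hsp)).trans ?_
    exact Scheme.Spec_stalkClosedPointTo_fromSpecStalk g
  have key : ψ ≫ CommRingCat.ofHom (algebraMap K L) = ψ' ≫ CommRingCat.ofHom R'.subtype := by
    refine Spec.map_injective ((cancel_mono (P.fromSpecStalk p)).1 ?_)
    simp only [Spec.map_comp, Category.assoc]
    rw [hψ, hψ', hgen]
  have hmem : ∀ o : O, ∃ r : R, algebraMap R K r = ψ.hom o := by
    intro o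
    have hL : algebraMap K L (ψ.hom o) ∈ R' :=
      congr($key o) ▸ (ψ'.hom o).2
    rcases ValuationRing.isInteger_or_isInteger R (ψ.hom o) with ⟨r, hr⟩ | ⟨r, hr⟩
    · exact ⟨r, hr⟩
    by_cases hu : IsUnit r
    · refine ⟨(hu.unit⁻¹ : Rˣ), ?_⟩
      rw [map_units_inv, IsUnit.unit_spec, hr, inv_inv]
    by_cases h0 : ψ.hom o = 0
    · exact ⟨0, by rw [map_zero, h0]⟩
    exfalso
    have h1 := hdom r ((IsLocalRing.mem_maximalIdeal _).2 hu)
    rw [IsScalarTower.algebraMap_apply R K L, hr, map_inv₀, map_inv₀] at h1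
    have h2 := (R'.valuation_le_one_iff _).2 hL
    have h3 : R'.valuation (algebraMap K L (ψ.hom o)) ≠ 0 :=
      (Valuation.ne_zero_iff _).2 (fun hz => h0 ((algebraMap K L).injective (hz.trans (map_zero _).symm)))
    exact absurd h1 (not_lt.2 (one_le_inv_iff₀.2 ⟨zero_lt_iff.2 h3, h2⟩))
  choose r hr using hmem
  have hinj := IsFractionRing.injective R K
  let ψR : O ⟶ CommRingCat.of R := CommRingCat.ofHom
    { toFun := r
      map_zero' := hinj (((hr 0).trans ψ.hom.map_zero).trans (algebraMap R K).map_zero.symm)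
      map_one' := hinj (((hr 1).trans ψ.hom.map_one).trans (algebraMap R K).map_one.symm)
      map_add' := fun a a' => hinj (((hr _).trans (ψ.hom.map_add a a')).trans
        ((congrArg₂ (· + ·) (hr a) (hr a')).symm.trans ((algebraMap R K).map_add _ _).symm))
      map_mul' := fun a a' => hinj (((hr _).trans (ψ.hom.map_mul a a')).trans
        ((congrArg₂ (· * ·) (hr a) (hr a')).symm.trans ((algebraMap R K).map_mul _ _).symm)) }
  have hψR : ψR ≫ CommRingCat.ofHom (algebraMap R K) = ψ := by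
    ext o; exact hr o
  let gR : Spec (CommRingCat.of R) ⟶ P := Spec.map ψR ≫ P.fromSpecStalk p
  have hgR : Spec.map (CommRingCat.ofHom (algebraMap R K)) ≫ gR = g := by
    rw [← Category.assoc, ← Spec.map_comp, hψR, hψ]
  refine ⟨gR, ?_, hgR⟩
  have hφ' : CommRingCat.ofHom φ ≫ CommRingCat.ofHom R'.subtype = CommRingCat.ofHom (algebraMap R L) := by
    ext a; exact congr($hφ a)
  have hq : Spec.map (CommRingCat.ofHom φ) ≫ gR = h := by
    rw [← Category.assoc, ← Spec.map_comp, ← hψ']
    congr 2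
    ext o
    change ((φ (r o) : R') : L) = ((ψ'.hom o : R') : L)
    change R'.subtype (φ (r o)) = R'.subtype (ψ'.hom o)
    rw [← RingHom.comp_apply R'.subtype φ, hφ, IsScalarTower.algebraMap_apply R K L, hr]
    exact congr($key o)
  letI : Algebra R R' := φ.toAlgebra
  have hinjφ : Injective φ := fun a a' e => hinj ((algebraMap K L).injective (by
    rw [← IsScalarTower.algebraMap_apply, ← IsScalarTower.algebraMap_apply, ← hφ, RingHom.comp_apply,
      RingHom.comp_apply, e]))
  haveI : Module.IsTorsionFree R R' := Module.isTorsionFree_iff_algebraMap_injective.2 hinjφ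
  haveI : Module.Flat R R' := inferInstance
  haveI : IsLocalHom (algebraMap R R') := ⟨fun a ha => by
    by_contra hu
    have h1 := hdom a ((IsLocalRing.mem_maximalIdeal _).2 hu)
    rw [show algebraMap R L a = (φ a : L) from (congr($hφ a)).symm] at h1
    exact absurd ((R'.valuation_eq_one_iff _).1 ha) h1.ne⟩
  haveI : Module.FaithfullyFlat R R' := Module.FaithfullyFlat.of_flat_of_isLocalHom
  haveI : Flat (Spec.map (CommRingCat.ofHom φ)) :=
    HasRingHomProperty.Spec_iff.2 (RingHom.flat_algebraMap_iff.2 inferInstance)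
  haveI : AlgebraicGeometry.Surjective (Spec.map (CommRingCat.ofHom φ)) :=
    ⟨PrimeSpectrum.comap_surjective_of_faithfullyFlat (A := R) (B := R')⟩
  haveI : Epi (Spec.map (CommRingCat.ofHom φ)) := Flat.epi_of_flat_of_surjective _
  rw [← cancel_epi (Spec.map (CommRingCat.ofHom φ)), reassoc_of% hq, hS]

/-- transport of a class along an equality of compositions -/
theorem exists_transport {P : Over S} {φ : ∀ T : Over S, PicF.Cl (PicF.XT f T) → (T ⟶ P)}
    (hP : AbDual.IsRelPicK Scheme.fppfPrecoverage f P φ) {V W Z B : Scheme.{u}} (b : B ⟶ S)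
    (genK : W ⟶ B) (sK : V ⟶ W) (α : Z ⟶ B) (gen' : V ⟶ Z) (hsq : gen' ≫ α = sK ≫ genK)
    (gK : AbDual.ovr (Over.mk b) genK ⟶ P)
    (c : PicF.Cl (PicF.XT f (AbDual.ovr (AbDual.ovr (Over.mk b) genK) (sK ≫ (Iso.refl W).hom))))
    (hc : PicF.IsInvertibleCl c)
    (hcφ : φ _ c = AbDual.ovrHom (AbDual.ovr (Over.mk b) genK) (sK ≫ (Iso.refl W).hom) ≫ gK) :
    ∃ c' : PicF.Cl (PicF.XT f (AbDual.ovr (Over.mk (α ≫ b)) gen')), PicF.IsInvertibleCl c' ∧
      (φ _ c').left = sK ≫ gK.left := by
  let s : AbDual.ovr (Over.mk (α ≫ b)) gen' ⟶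
      AbDual.ovr (AbDual.ovr (Over.mk b) genK) (sK ≫ (Iso.refl W).hom) := Over.homMk (𝟙 V) (by
    simp [reassoc_of% hsq])
  refine ⟨PicF.pullCl (PicF.XTmap f s) c, PicCl.isInvertibleCl_pullCl _ hc, ?_⟩
  rw [hP.natural _ _ s c hc, hcφ]
  simp [s]

/-- points of the Picard scheme extend over discrete valuation rings -/
theorem exists_lift [IsProper f] [Smooth f] (P : Over S) (φ : ∀ T : Over S, PicF.Cl (PicF.XT f T) → (T ⟶ P))
    (hP : AbDual.IsRelPicK Scheme.fppfPrecoverage f P φ)
    (R : Type u) [CommRing R] [IsDomain R] [IsDiscreteValuationRing R]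
    (b : Spec (CommRingCat.of R) ⟶ S)
    (gK : AbDual.ovr (Over.mk b) (Spec.map (CommRingCat.ofHom (algebraMap R (FractionRing R)))) ⟶ P) :
    ∃ gR : Over.mk b ⟶ P,
      AbDual.ovrHom (Over.mk b) (Spec.map (CommRingCat.ofHom (algebraMap R (FractionRing R)))) ≫ gR = gK := by
  let K := FractionRing R
  let genK : Spec (CommRingCat.of K) ⟶ Spec (CommRingCat.of R) := Spec.map (CommRingCat.ofHom (algebraMap R K))
  let TK := AbDual.ovr (Over.mk b) genK
  obtain ⟨L, _, _, _, c, hc, hcφ⟩ := exists_finite_class f hP TK (Iso.refl _) gK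
  letI : Algebra R L := ((algebraMap K L).comp (algebraMap R K)).toAlgebra
  haveI : IsScalarTower R K L := IsScalarTower.of_algebraMap_eq fun _ => rfl
  obtain ⟨R', hR', hmem, hdom⟩ := S4433.result R
    (IsDiscreteValuationRing.not_isField R) K L (IntermediateField.fg_top K L)
  haveI := hR'
  let α : R →+* R' := (algebraMap R L).codRestrict R'.toSubring hmem
  let sK : Spec (CommRingCat.of L) ⟶ Spec (CommRingCat.of K) := Spec.map (CommRingCat.ofHom (algebraMap K L))
  let gen' : Spec (CommRingCat.of L) ⟶ Spec (CommRingCat.of R') := Spec.map (CommRingCat.ofHom R'.subtype)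
  have hsq : gen' ≫ Spec.map (CommRingCat.ofHom α) = sK ≫ genK := by
    rw [← Spec.map_comp, ← Spec.map_comp]; rfl
  let T' : Over S := Over.mk (Spec.map (CommRingCat.ofHom α) ≫ b)
  obtain ⟨c', hc', hcφ'⟩ := exists_transport f hP b genK sK (Spec.map (CommRingCat.ofHom α)) gen' hsq gK c hc hcφ
  haveI : IsOpenImmersion gen' := isOpenImmersion_gen R' L
  obtain ⟨c₁, hc₁, hc₁'⟩ := exists_extend f R' T' (Iso.refl _) gen' c' hc'
  let h : T' ⟶ P := φ T' c₁
  have hh' : gen' ≫ h.left = sK ≫ gK.left := by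
    rw [← hcφ', ← hc₁', hP.natural _ _ _ c₁ hc₁]
    rfl
  obtain ⟨gR, h1, h2⟩ := exists_descend P.hom R b gK.left R' α (RingHom.ext fun _ => rfl) hdom h.left
    (Over.w h) hh'
  exact ⟨Over.homMk gR h1, Over.OverMorphism.ext h2⟩

end Groth.Agent.CBC.PicDVR
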