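import Groth.Agent.CBC.TrivBundle
import Groth.Agent.CBC.OConn
import Groth.Agent.TwistFlat.Chart
import Groth.Agent.TwistFlat.Main
import Groth.Agent.GrModLib.TwistInt
import Groth.Agent.PicPn.Main
import Groth.Agent.ProjTwist.Pn.Coh
import Groth.Agent.ProjTwist.Pn.H0
import Groth.Agent.ProjTwist.Zero
import Groth.Agent.ProjProper.Basic
import Groth.Agent.CohOps.PnSmooth
import Groth.Agent.ProjForm.Unit
import Groth.Agent.CohBase.PushEdge
import Groth.Agent.PicLaw.Calc
import Groth.Agent.KFlat.PullTensor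
import Mathlib.Topology.LocallyConstant.Basic

/-!
# Invertible modules on projective space over a connected base
-/

set_option autoImplicit false

universe u

open CategoryTheory CategoryTheory.Limits AlgebraicGeometry TopologicalSpace Opposite Function

noncomputable section

namespace Groth.Agent.CBC.ProjPic

open Groth.Agent.QCoh Groth.Agent.Props.GenLocus Groth.Agent.Props.GenTensor
  Groth.Agent.Props.GenPull Groth.Agent.ProjTwist

variable (r : ℕ) {S : Scheme.{u}}

section Chart

variable {K : CommRingCat.{u}} (g : Spec K ⟶ S)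

/-- the canonical map of `ℤ` -/
def toK (K : CommRingCat.{u}) : ULift.{u} ℤ →+* K :=
  (Int.castRingHom K).comp ULift.ringEquiv.toRingHom

theorem isPullback_from :
    IsPullback (ProperFin.pnMap r (toK K)) (CohB1.ProjSpace.toSpec r K)
      (CohB1.ProjSpace.toSpec r (ULift.{u} ℤ)) (g ≫ specULiftZIsTerminal.from S) := by
  rw [show g ≫ specULiftZIsTerminal.from S = Spec.map (CommRingCat.ofHom (toK K)) from
    specULiftZIsTerminal.hom_ext _ _]
  exact ProperFin.isPullback_pnMap r _

/-- projective space over a point of the base, mapping to projective space over the base -/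
def chartAt : CohB1.ProjSpace r K ⟶ CohB1.ProjSpaceOver r S :=
  pullback.lift (ProperFin.pnMap r (toK K)) (CohB1.ProjSpace.toSpec r K ≫ g)
    (by rw [Category.assoc]; exact (isPullback_from r g).w)

theorem chartAt_fst :
    chartAt r g ≫ pullback.fst (CohB1.ProjSpace.toSpec r (ULift.{u} ℤ))
      (specULiftZIsTerminal.from S) = ProperFin.pnMap r (toK K) :=
  pullback.lift_fst _ _ _

theorem isPullback_chartAt :
    IsPullback (chartAt r g) (CohB1.ProjSpace.toSpec r K) (CohB1.ProjSpaceOver.toBase r S) g := by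
  refine IsPullback.of_right ?_ (pullback.lift_snd _ _ _)
    (IsPullback.of_hasPullback (CohB1.ProjSpace.toSpec r (ULift.{u} ℤ))
      (specULiftZIsTerminal.from S))
  exact (chartAt_fst r g).symm ▸ isPullback_from r g

theorem pullback_twistOver (d : ℤ) :
    Nonempty ((Scheme.Modules.pullback (chartAt r g)).obj (Twist.twistOver r S d) ≅
      Twist.twistProjSpace r K d) :=
  ⟨(Scheme.Modules.pullbackComp _ _).app _ ≪≫
    (Scheme.Modules.pullbackCongr (chartAt_fst r g)).app _ ≪≫
    (GrModLib.nonempty_pullback_twist_int r (toK K) d).some⟩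

end Chart

/-! ### Twists -/

theorem twistOver_zero :
    Nonempty (Twist.twistOver r S 0 ≅ Coh.structureModule (CohB1.ProjSpaceOver r S)) :=
  ⟨(Scheme.Modules.pullback _).mapIso (twistZeroIso _).symm ≪≫ QCoh.pullbackUnitIso _⟩

theorem twistOver_add (a b c : ℤ) (h : a + b = c) :
    Nonempty (CohB1.tensorMod (Twist.twistOver r S a) (Twist.twistOver r S b) ≅
      Twist.twistOver r S c) :=
  ⟨(KFlat.PullTensor.pullTensorIso _ _ _).symm ≪≫ (Scheme.Modules.pullback _).mapIso
    ((nonempty_twistProjSpace_tensor r (ULift.{u} ℤ) a b).some ≪≫ eqToIso (by rw [h]))⟩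

theorem untwist {N : (CohB1.ProjSpaceOver r S).Modules} (hN : PicF.IsInvertible N) (a b : ℤ)
    (h : a + b = 0) :
    Nonempty (CohB1.tensorMod (CohB1.tensorMod N (Twist.twistOver r S a)) (Twist.twistOver r S b) ≅
      N) := by
  obtain ⟨e₁⟩ := PicLaw.tensor_assoc hN (TwistFlat.isInvertible_twistOver r S a)
    (TwistFlat.isInvertible_twistOver r S b)
  obtain ⟨e₂⟩ := twistOver_add (S := S) r a b 0 h
  obtain ⟨e₃⟩ := twistOver_zero (S := S) r
  exact ⟨e₁ ≪≫ tensCongr (Iso.refl _) (e₂ ≪≫ e₃) ≪≫ tensOne N⟩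

/-! ### Fibres -/

variable (s : S)

/-- projective space over the residue field, mapping to projective space over the base -/
abbrev cc : CohB1.ProjSpace r (S.residueField s) ⟶ CohB1.ProjSpaceOver r S :=
  chartAt r (S.fromSpecResidueField s)

/-- the fibre is projective space over the residue field -/
def fibIso : CohB1.ProjSpace r (S.residueField s) ≅ (CohB1.ProjSpaceOver.toBase r S).fiber s :=
  (isPullback_chartAt r (S.fromSpecResidueField s)).isoPullback

theorem fibIso_hom_ι : (fibIso r s).hom ≫ (CohB1.ProjSpaceOver.toBase r S).fiberι s = cc r s :=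
  (isPullback_chartAt r (S.fromSpecResidueField s)).isoPullback_hom_fst

theorem fibIso_hom_toSpec :
    (fibIso r s).hom ≫ (CohB1.ProjSpaceOver.toBase r S).fiberToSpecResidueField s =
      CohB1.ProjSpace.toSpec r (S.residueField s) :=
  (isPullback_chartAt r (S.fromSpecResidueField s)).isoPullback_hom_snd

theorem nonempty_proj : Nonempty (CohB1.ProjSpace r (S.residueField s)) :=
  ⟨(PicPn.η (n := r) (K := S.residueField s) : ProjectiveSpectrum _)⟩

theorem bijective_toGlobal (K : Type u) [Field K] :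
    Bijective (Coh.toGlobal (CohB1.ProjSpace.toSpec r K)) := by
  let P := CohB1.ProjSpace r K
  haveI : Nonempty P := ⟨(PicPn.η (n := r) (K := K) : ProjectiveSpectrum _)⟩
  haveI : Nonempty (⊤ : P.Opens) := ⟨⟨Classical.arbitrary P, trivial⟩⟩
  let O := Coh.structureModule P
  letI : P.Over (Spec (CommRingCat.of K)) := ⟨CohB1.ProjSpace.toSpec r K⟩
  haveI : Nontrivial (Coh.Γtop P) := inferInstanceAs (Nontrivial Γ(P, ⊤))
  refine ⟨(Coh.toGlobal (CohB1.ProjSpace.toSpec r K)).injective, fun x => ?_⟩
  have hdim : Module.finrank K (Coh.HH P O 0) = 1 := by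
    let E := CohLin.hIso (X := P) (twistZeroIso (CohB1.polyGrading r K)) 0
    refine (LinearEquiv.ofBijective (CohLin.overLin K E.toLinearMap) E.bijective).finrank_eq.trans ?_
    refine (Pn.h0Equiv r K 0).finrank_eq.symm.trans ?_
    exact (LinearEquiv.ofBijective (Algebra.linearMap K (CohB1.polyGrading r K 0))
      (ProjProper.Basic.bijective_algebraMap_zero r K)).finrank_eq.symm.trans
      (Module.finrank_self K)
  let v₀ : Coh.HH P O 0 := (ProperFin.h0Sec O).symm (one' ⊤)
  have hv₀ : v₀ ≠ 0 := fun h => by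
    have h2 : (one' ⊤ : Γ(O, ⊤)) = 0 := by
      rw [← (ProperFin.h0Sec O).apply_symm_apply (one' ⊤)]
      change ProperFin.h0Sec O v₀ = 0
      rw [h, map_zero]
    exact (one_ne_zero (α := Γ(P, ⊤))) h2
  obtain ⟨c, hc⟩ := exists_smul_eq_of_finrank_eq_one hdim hv₀
    ((ProperFin.h0Sec O).symm (show Γ(O, ⊤) from x))
  refine ⟨c, ?_⟩
  have h1 := congrArg (ProperFin.h0Sec O) hc
  rw [AddEquiv.apply_symm_apply] at h1
  refine Eq.trans ?_ ((ProperFin.h0Sec_smul O (Coh.toGlobal (CohB1.ProjSpace.toSpec r K) c) v₀).symm.trans h1)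
  rw [AddEquiv.apply_symm_apply]
  exact (mul_one _).symm

theorem bijective_fiber :
    Bijective (algebraMap (S.residueField s) Γ((CohB1.ProjSpaceOver.toBase r S).fiber s, ⊤)) := by
  have h := bijective_toGlobal r (S.residueField s)
  have hcomp : (fibIso r s).hom.appTop.hom ∘
      algebraMap (S.residueField s) Γ((CohB1.ProjSpaceOver.toBase r S).fiber s, ⊤) =
      Coh.toGlobal (CohB1.ProjSpace.toSpec r (S.residueField s)) := by
    funext c
    rw [← fibIso_hom_toSpec r s]
    rfl
  haveI : IsIso (fibIso r s).hom.appTop := inferInstanceAs (IsIso ((fibIso r s).hom.app ⊤))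
  refine (Bijective.of_comp_iff' (ConcreteCategory.bijective_of_isIso (fibIso r s).hom.appTop) _).1 ?_
  change Bijective ((fibIso r s).hom.appTop.hom ∘ _)
  rw [hcomp]
  exact h

theorem fiberMod_iso {M : (CohB1.ProjSpaceOver r S).Modules}
    (e : (Scheme.Modules.pullback (cc r s)).obj M ≅
      Coh.structureModule (CohB1.ProjSpace r (S.residueField s))) :
    Nonempty (CohIII.fiberMod (CohB1.ProjSpaceOver.toBase r S) M s ≅
      Coh.structureModule ((CohB1.ProjSpaceOver.toBase r S).fiber s)) := by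
  have h : (fibIso r s).inv ≫ cc r s = (CohB1.ProjSpaceOver.toBase r S).fiberι s := by
    rw [← fibIso_hom_ι, Iso.inv_hom_id_assoc]
  exact ⟨(Scheme.Modules.pullbackCongr h.symm).app M ≪≫
    ((Scheme.Modules.pullbackComp (fibIso r s).inv (cc r s)).app M).symm ≪≫
    (Scheme.Modules.pullback _).mapIso e ≪≫ QCoh.pullbackUnitIso _⟩

theorem subsingleton_fiberH_one {M : (CohB1.ProjSpaceOver r S).Modules}
    (e : (Scheme.Modules.pullback (cc r s)).obj M ≅
      Coh.structureModule (CohB1.ProjSpace r (S.residueField s))) :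
    Subsingleton (CohIII.fiberH (CohB1.ProjSpaceOver.toBase r S) M s 1) := by
  let P := CohB1.ProjSpace r (S.residueField s)
  let Fs := (CohB1.ProjSpaceOver.toBase r S).fiber s
  obtain ⟨φ⟩ := fiberMod_iso r s e
  have h0 : Subsingleton (Coh.HH P (Coh.structureModule P) 1) := by
    have h1 := Pn.subsingleton_twist (n := r) (R := S.residueField s) 0 0 (Or.inr (by omega))
    exact @Equiv.subsingleton _ _
      (CohLin.hIso (X := P) (twistZeroIso (CohB1.polyGrading r (S.residueField s))) 1).toEquiv h1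
  let ε := (fibIso r s).hom
  haveI : (Coh.structureModule P).IsQuasicoherent := ProjTwist.isQuasicoherent_structureModule P
  haveI : IsIso (SheafOfModules.unitToPushforwardObjUnit ε.toRingCatSheafHom :
      Coh.structureModule Fs ⟶ (Coh.push ε).obj (Coh.structureModule P)) := by
    refine CBC.isIso_of_small_affine _ (fun _ => True) (fun y => ⟨⊤, trivial, trivial⟩)
      (fun _ _ _ _ => trivial) fun W _ _ => ?_
    exact ConcreteCategory.bijective_of_isIso (ε.app W)
  obtain ⟨E⟩ := ProjForm.nonempty_HH_pullback ε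
    (fun i => CohBase.PushEdge.isZero_Rpush_of_isAffineHom ε (Coh.structureModule P) i)
    ⟨(asIso (SheafOfModules.unitToPushforwardObjUnit ε.toRingCatSheafHom :
      Coh.structureModule Fs ⟶ (Coh.push ε).obj (Coh.structureModule P))).symm⟩
    (L := Coh.structureModule Fs)
    (fun _ => ⟨⊤, 1, trivial, ⟨Scheme.Modules.restrictUnitIso _ ≪≫
      (coproductUniqueIso fun _ : Fin 1 => Coh.structureModule ((⊤ : Fs.Opens) : Scheme.{u})).symm⟩⟩) 1
  have h2 : Subsingleton (Coh.HH Fs (Coh.structureModule Fs) 1) := by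
    have h3 := (CohLin.hIso (QCoh.pullbackUnitIso ε) 1).toEquiv.subsingleton
    exact E.symm.toEquiv.subsingleton
  exact (CohLin.hIso φ 1).toEquiv.subsingleton

/-- a module trivial on the fibre has a generator over a neighbourhood -/
theorem exists_gen {M : (CohB1.ProjSpaceOver r S).Modules} (hM : PicF.IsInvertible M)
    (e : (Scheme.Modules.pullback (cc r s)).obj M ≅
      Coh.structureModule (CohB1.ProjSpace r (S.residueField s))) :
    ∃ (V : S.Opens) (_ : s ∈ V) (g : Γ(M, CohB1.ProjSpaceOver.toBase r S ⁻¹ᵁ V)),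
      IsGen M (CohB1.ProjSpaceOver.toBase r S ⁻¹ᵁ V) g := by
  let π := CohB1.ProjSpaceOver.toBase r S
  haveI : IsProper π := ProjProper.Basic.isProper_toBase r S
  haveI : Smooth π := CohOps.PnSmooth.smooth_toBase r S
  haveI : M.IsQuasicoherent := ProjTwist.isQCoh_of_isInvertible hM
  have hfl := Cube.Seesaw.isFlatOver_of_invertible π hM
  have hF : CohB1.IsFP M := Props.QProj.isFP M
    (fun x => let ⟨U, hx, ⟨φ⟩⟩ := ProjTwist.isFinLocFreeOfRank_one hM x; ⟨U, 1, hx, ⟨φ⟩⟩)
  obtain ⟨N, hsN, -, hR⟩ := exists_rExact_zero_of_fibres hF hfl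
    ⟨_, isOpen_setOf_subsingleton_fiberH hF hfl 1⟩ (fun _ h => h)
    (show s ∈ {y | Subsingleton (CohIII.fiberH π M y 1)} from subsingleton_fiberH_one r s e)
  haveI := isIso_bc0_of_rExact (F := M)
    (IsPullback.of_hasPullback π (S.fromSpecResidueField s))
    (fun z => ⟨N, fromSpecResidueField_le s hsN (Set.mem_univ z), hR⟩)
  obtain ⟨φ⟩ := fiberMod_iso r s e
  haveI : Nonempty (π.fiber s) := ⟨(fibIso r s).hom (nonempty_proj r s).some⟩
  have hne : Nontrivial (CohIII.fiberH π M s 0) := by
    have := Cube.Seesaw.nontrivial_of_iso (L := CohIII.fiberMod π M s) ⟨φ⟩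
    exact (ProperFin.h0Sec (CohIII.fiberMod π M s)).toEquiv.nontrivial
  obtain ⟨σ, hσ⟩ := TrivBundle.exists_section_of_epi π N.hV s hsN hne
    (inferInstanceAs (Epi (CohBC.bc0 _ _ _ _
      (IsPullback.of_hasPullback π (S.fromSpecResidueField s)).w M)))
  exact TrivBundle.exists_gen_of_section π hM s hsN (bijective_fiber r s) ⟨φ⟩ σ hσ

/-- a generator over a neighbourhood trivialises the fibre -/
theorem trivial_of_gen {M : (CohB1.ProjSpaceOver r S).Modules} {V : S.Opens} (hs : s ∈ V)
    {g : Γ(M, CohB1.ProjSpaceOver.toBase r S ⁻¹ᵁ V)}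
    (hg : IsGen M (CohB1.ProjSpaceOver.toBase r S ⁻¹ᵁ V) g) :
    Nonempty ((Scheme.Modules.pullback (cc r s)).obj M ≅
      Coh.structureModule (CohB1.ProjSpace r (S.residueField s))) := by
  have htop : (⊤ : (CohB1.ProjSpace r (S.residueField s)).Opens) ≤
      cc r s ⁻¹ᵁ (CohB1.ProjSpaceOver.toBase r S ⁻¹ᵁ V) := fun x _ => by
    change CohB1.ProjSpaceOver.toBase r S (cc r s x) ∈ V
    rw [← Scheme.Hom.comp_apply, (isPullback_chartAt r (S.fromSpecResidueField s)).w,
      Scheme.Hom.comp_apply, Scheme.fromSpecResidueField_apply]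
    exact hs
  exact Cube.Seesaw.iso_of_gen _ ((isGen_pb (cc r s) hg).restrict htop)

theorem pullback_base_trivial {L : S.Modules} (hL : PicF.IsInvertible L) :
    Nonempty ((Scheme.Modules.pullback (cc r s)).obj
      ((Scheme.Modules.pullback (CohB1.ProjSpaceOver.toBase r S)).obj L) ≅
      Coh.structureModule (CohB1.ProjSpace r (S.residueField s))) := by
  obtain ⟨V, g, hs, hg⟩ := exists_isGen hL s
  exact trivial_of_gen r s hs (isGen_pb _ hg)

/-! ### Main statements -/

theorem exists_of_trivial_fibres {M : (CohB1.ProjSpaceOver r S).Modules} (hM : PicF.IsInvertible M)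
    (h : ∀ s : S, Nonempty ((Scheme.Modules.pullback (cc r s)).obj M ≅
      Coh.structureModule (CohB1.ProjSpace r (S.residueField s)))) :
    ∃ L : S.Modules, PicF.IsInvertible L ∧
      Nonempty (M ≅ (Scheme.Modules.pullback (CohB1.ProjSpaceOver.toBase r S)).obj L) := by
  let π := CohB1.ProjSpaceOver.toBase r S
  haveI : IsProper π := ProjProper.Basic.isProper_toBase r S
  haveI : Smooth π := CohOps.PnSmooth.smooth_toBase r S
  have happ := OConn.bijective_app π (bijective_fiber r)
  have hloc : ∀ s : S, ∃ (V : S.Opens) (_ : s ∈ V) (g : Γ(M, π ⁻¹ᵁ V)),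
      IsGen M (π ⁻¹ᵁ V) g := fun s => exists_gen r s hM (h s).some
  haveI := TrivBundle.isIso_counit π happ hloc
  refine ⟨(Scheme.Modules.pushforward π).obj M, fun s => ?_,
    ⟨(asIso ((Scheme.Modules.pullbackPushforwardAdjunction π).counit.app M)).symm⟩⟩
  obtain ⟨V, hs, g, hg⟩ := hloc s
  exact ⟨V, hs, LFFrame.IsFrame.nonempty_restrict_iso (e := fun _ => g)
    ((isGen_iff_isFrame _).1 (TrivBundle.isGen_push π happ hg))⟩

theorem exists_eq_pullback_twist [ConnectedSpace S] (hr : 1 ≤ r)
    {N : (CohB1.ProjSpaceOver r S).Modules} (hN : PicF.IsInvertible N) :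
    ∃ (L : S.Modules) (d : ℤ), PicF.IsInvertible L ∧
      Nonempty (N ≅ CohB1.tensorMod
        ((Scheme.Modules.pullback (CohB1.ProjSpaceOver.toBase r S)).obj L)
        (Twist.twistOver r S d)) := by
  choose deg hdeg using fun s : S => PicPn.exists_iso_twist
    (PicCl.isInvertible_pullback (cc r s) hN)
  have hM : ∀ d, PicF.IsInvertible (CohB1.tensorMod N (Twist.twistOver r S d)) := fun d =>
    PicLaw.isInvertible_tensor hN (TwistFlat.isInvertible_twistOver r S d)
  have htriv : ∀ (s : S) (d : ℤ), deg s + d = 0 →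
      Nonempty ((Scheme.Modules.pullback (cc r s)).obj (CohB1.tensorMod N (Twist.twistOver r S d)) ≅
        Coh.structureModule (CohB1.ProjSpace r (S.residueField s))) := fun s d h =>
    ⟨KFlat.PullTensor.pullTensorIso _ _ _ ≪≫
      tensCongr (hdeg s).some (pullback_twistOver r _ d).some ≪≫
      (nonempty_twistProjSpace_tensor r _ _ _).some ≪≫ eqToIso (by rw [h]; rfl) ≪≫
      (twistZeroIso _).symm⟩
  have huniq : ∀ (s : S) (d : ℤ),
      Nonempty ((Scheme.Modules.pullback (cc r s)).obj (CohB1.tensorMod N (Twist.twistOver r S d)) ≅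
        Coh.structureModule (CohB1.ProjSpace r (S.residueField s))) → deg s + d = 0 := fun s d ⟨e⟩ =>
    PicPn.degree_unique hr _ _ ((nonempty_twistProjSpace_tensor r (S.residueField s) _ _).some.symm ≪≫
      (tensCongr (hdeg s).some (pullback_twistOver r _ d).some).symm ≪≫
      (KFlat.PullTensor.pullTensorIso _ _ _).symm ≪≫ e ≪≫ twistZeroIso _)
  have hlc : IsLocallyConstant deg := (IsLocallyConstant.iff_eventually_eq deg).2 fun s => by
    obtain ⟨V, hs, g, hg⟩ := exists_gen r s (hM (-deg s)) (htriv s _ (by omega)).some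
    refine Filter.mem_of_superset (V.2.mem_nhds hs) fun s' hs' => ?_
    have := huniq s' _ (trivial_of_gen r s' hs' hg)
    change deg s' = deg s
    omega
  obtain ⟨s₀⟩ := (inferInstance : Nonempty S)
  obtain ⟨L, hL, ⟨e⟩⟩ := exists_of_trivial_fibres r (hM (-deg s₀)) fun s =>
    htriv s _ (by rw [hlc.apply_eq_of_preconnectedSpace s s₀]; omega)
  exact ⟨L, deg s₀, hL, ⟨(untwist r hN (-deg s₀) (deg s₀) (by omega)).some.symm ≪≫
    tensCongr e (Iso.refl _)⟩⟩

theorem unique_of_iso [Nonempty S] (hr : 1 ≤ r) {L L' : S.Modules} (hL : PicF.IsInvertible L)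
    (hL' : PicF.IsInvertible L') {d d' : ℤ}
    (e : CohB1.tensorMod ((Scheme.Modules.pullback (CohB1.ProjSpaceOver.toBase r S)).obj L)
        (Twist.twistOver r S d) ≅
      CohB1.tensorMod ((Scheme.Modules.pullback (CohB1.ProjSpaceOver.toBase r S)).obj L')
        (Twist.twistOver r S d')) :
    d = d' ∧ Nonempty (L ≅ L') := by
  let π := CohB1.ProjSpaceOver.toBase r S
  haveI : IsProper π := ProjProper.Basic.isProper_toBase r S
  haveI : Smooth π := CohOps.PnSmooth.smooth_toBase r S
  obtain ⟨s⟩ := ‹Nonempty S›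
  obtain rfl : d = d' := PicPn.degree_unique hr _ _
    ((oneTens _).symm ≪≫
      (tensCongr (pullback_base_trivial r s hL).some (pullback_twistOver r _ d).some).symm ≪≫
      (KFlat.PullTensor.pullTensorIso _ _ _).symm ≪≫ (Scheme.Modules.pullback (cc r s)).mapIso e ≪≫
      KFlat.PullTensor.pullTensorIso _ _ _ ≪≫
      tensCongr (pullback_base_trivial r s hL').some (pullback_twistOver r _ d').some ≪≫ oneTens _)
  refine ⟨rfl, ?_⟩
  have happ := OConn.bijective_app π (bijective_fiber r)
  haveI := TrivBundle.isIso_unit π happ hL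
  haveI := TrivBundle.isIso_unit π happ hL'
  exact ⟨asIso ((Scheme.Modules.pullbackPushforwardAdjunction π).unit.app L) ≪≫
    (Scheme.Modules.pushforward π).mapIso
      ((untwist r (PicCl.isInvertible_pullback π hL) d (-d) (by omega)).some.symm ≪≫
        tensCongr e (Iso.refl _) ≪≫
        (untwist r (PicCl.isInvertible_pullback π hL') d (-d) (by omega)).some) ≪≫
    (asIso ((Scheme.Modules.pullbackPushforwardAdjunction π).unit.app L')).symm⟩

/-- on a point of relative dimension zero all twists are trivial -/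
theorem exists_eq_pullback_zero {N : (CohB1.ProjSpaceOver 0 S).Modules}
    (hN : PicF.IsInvertible N) :
    ∃ L : S.Modules, PicF.IsInvertible L ∧
      Nonempty (N ≅ CohB1.tensorMod
        ((Scheme.Modules.pullback (CohB1.ProjSpaceOver.toBase 0 S)).obj L)
        (Twist.twistOver 0 S 0)) := by
  obtain ⟨L, hL, ⟨e⟩⟩ := exists_of_trivial_fibres 0 hN fun s => by
    obtain ⟨d, ⟨φ⟩⟩ := PicPn.exists_iso_twist (PicCl.isInvertible_pullback (cc 0 s) hN)
    have htop : (⊤ : (CohB1.ProjSpace 0 (S.residueField s)).Opens) ≤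
        stdOpen 0 (S.residueField s) 0 := fun x _ => by
      obtain ⟨i, hi⟩ := Opens.mem_iSup.1
        ((iSup_stdOpen 0 (S.residueField s)).ge (Opens.mem_top x))
      rwa [Fin.fin_one_eq_zero i] at hi
    exact ⟨φ ≪≫ (Cube.Seesaw.iso_of_gen _ ((PicPn.isGen_pg d 0).restrict htop)).some⟩
  exact ⟨L, hL, ⟨e ≪≫ (tensOne _).symm ≪≫
    tensCongr (Iso.refl _) (twistOver_zero (S := S) 0).some.symm⟩⟩

end Groth.Agent.CBC.ProjPic
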