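import Groth.Agent.CohBase.HonPull

/-!
# Pullback of cohomology classes along a composite
-/

universe u

open CategoryTheory CategoryTheory.Limits AlgebraicGeometry TopologicalSpace Opposite

namespace Groth.Agent.CBC.PullComp

open Groth.Agent Groth.Agent.CohBase

section Top

variable {X Y Z : TopCat.{u}} (b : X ⟶ Y) (a : Y ⟶ Z)

/-- The composite of the two adjunctions, for the direct image along the composite. -/
noncomputable def compAdj (c : X ⟶ Z) (hc : c = b ≫ a) :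
    CohPull.inv a ⋙ CohPull.inv b ⊣ CohTop.push c :=
  ((CohPull.invPushAdj a).comp (CohPull.invPushAdj b)).ofNatIsoRight
    (NatIso.ofComponents (fun _ => Iso.refl _) (by intros; subst hc; rfl) :
      CohTop.push b ⋙ CohTop.push a ≅ CohTop.push (b ≫ a))
      |> fun adj => hc ▸ adj

/-- Inverse images compose. -/
noncomputable def invComp (c : X ⟶ Z) (hc : c = b ≫ a) :
    CohPull.inv c ≅ CohPull.inv a ⋙ CohPull.inv b :=
  Adjunction.leftAdjointUniq (CohPull.invPushAdj c) (compAdj b a c hc)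

lemma invComp_unit_app (M : CohTop.Ab Z) (O : Opens Z) (s : M.obj.obj (op O)) :
    ((invComp b a (b ≫ a) rfl).hom.app M).hom.app (op ((Opens.map (b ≫ a)).obj O))
        (((CohPull.invPushAdj (b ≫ a)).unit.app M).hom.app (op O) s) =
      ((CohPull.invPushAdj b).unit.app ((CohPull.inv a).obj M)).hom.app (op ((Opens.map a).obj O))
        (((CohPull.invPushAdj a).unit.app M).hom.app (op O) s) := by
  have h := Adjunction.unit_leftAdjointUniq_hom_app (CohPull.invPushAdj (b ≫ a))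
    (compAdj b a (b ≫ a) rfl) M
  refine (ConcreteCategory.congr_hom (congrArg (fun φ => φ.hom.app (op O)) h) s).trans ?_
  simp [compAdj, Adjunction.ofNatIsoRight, Adjunction.mkOfHomEquiv, Adjunction.comp_unit_app]
  rfl

/-- Two pullbacks of classes are the pullback along the composite. -/
theorem pullAb_pullAb (M : CohTop.Ab Z) (p : ℕ) (x : Sheaf.H M p) :
    CohPull.pullAb b _ p (CohPull.pullAb a M p x) =
      Sheaf.H.map ((invComp b a (b ≫ a) rfl).hom.app M) p (CohPull.pullAb (b ≫ a) M p x) := by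
  refine eq_of_degree_zero (CohPull.inv a ⋙ CohPull.inv b)
    (fun N q => (CohPull.pullAb b _ q).comp (CohPull.pullAb a N q))
    (fun N q => (Sheaf.H.map ((invComp b a (b ≫ a) rfl).hom.app N) q).comp
      (CohPull.pullAb (b ≫ a) N q)) ?_ ?_ ?_ p M x
  · intro S hS q y
    exact (congrArg (CohPull.pullAb b _ (q + 1)) (pullAb_δH a hS q y)).trans
      (pullAb_δH b (hS.map_of_exact (CohPull.inv a)) q _)
  · intro S hS q y
    exact (congrArg _ (pullAb_δH (b ≫ a) hS q y)).trans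
      (δH_natural (hS.map_of_exact (CohPull.inv (b ≫ a)))
        (hS.map_of_exact (CohPull.inv a ⋙ CohPull.inv b))
        (S.mapNatTrans (invComp b a (b ≫ a) rfl).hom) q _).symm
  · intro N y
    apply (Sheaf.H.equiv₀ _ isTerminalTop).injective
    refine (CohPull.equiv₀_pullAb b _ _).trans ?_
    rw [CohPull.equiv₀_pullAb a N y]
    refine Eq.trans ?_ (Sheaf.H.equiv₀_naturality isTerminalTop
      ((invComp b a (b ≫ a) rfl).hom.app N) _)
    rw [CohPull.equiv₀_pullAb]
    exact (invComp_unit_app b a N ⊤ _).symm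

/-- Pullback of classes along a composite, followed by a map. -/
theorem map_pullAb_pullAb {M : CohTop.Ab Z} {N : CohTop.Ab X}
    (P : (CohPull.inv b).obj ((CohPull.inv a).obj M) ⟶ N) {c : X ⟶ Z} (hc : c = b ≫ a)
    (Q : (CohPull.inv c).obj M ⟶ N)
    (h : ∀ (O : Opens Z) (O' : Opens X) (hO : O' ≤ (Opens.map c).obj O)
      (hO' : O' ≤ (Opens.map b).obj ((Opens.map a).obj O)) (s : M.obj.obj (op O)),
      Q.hom.app (op O') (((CohPull.inv c).obj M).obj.map (homOfLE hO).op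
          (((CohPull.invPushAdj c).unit.app M).hom.app (op O) s)) =
        P.hom.app (op O') (((CohPull.inv b).obj ((CohPull.inv a).obj M)).obj.map (homOfLE hO').op
          (((CohPull.invPushAdj b).unit.app ((CohPull.inv a).obj M)).hom.app (op ((Opens.map a).obj O))
            (((CohPull.invPushAdj a).unit.app M).hom.app (op O) s))))
    (p : ℕ) (x : Sheaf.H M p) :
    Sheaf.H.map P p (CohPull.pullAb b _ p (CohPull.pullAb a M p x)) =
      Sheaf.H.map Q p (CohPull.pullAb c M p x) := by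
  subst hc
  rw [pullAb_pullAb, ← Sheaf.H.map_comp_apply]
  congr 2
  apply ((CohPull.invPushAdj (b ≫ a)).homEquiv _ _).injective
  rw [Adjunction.homEquiv_unit, Adjunction.homEquiv_unit]
  ext O s
  have h' := h O.unop ((Opens.map (b ≫ a)).obj O.unop) le_rfl le_rfl s
  have hid : ∀ (G : CohTop.Ab X) (V : Opens X) (hV : V ≤ V) (t : G.obj.obj (op V)),
      G.obj.map (homOfLE hV).op t = t := fun G V hV t => by
    rw [show (homOfLE hV).op = 𝟙 (op V) from rfl, CategoryTheory.Functor.map_id]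
    rfl
  refine Eq.trans ?_ (((congrArg _ (hid _ _ _ _)).symm.trans h').trans (congrArg _ (hid _ _ _ _))).symm
  exact congrArg (P.hom.app (op ((Opens.map (b ≫ a)).obj O.unop))) (invComp_unit_app b a M O.unop s)

end Top

section Sch

local notation "rs" => Groth.Agent.QCoh.res

variable {X Y Z : Scheme.{u}}

/-- `theta` on pulled back sections. -/
lemma theta_app_unit (φ : X ⟶ Y) (M : Y.Modules) (O : Y.Opens) (O' : X.Opens) (h : O' ≤ φ ⁻¹ᵁ O)
    (s : Γ(M, O)) :
    (CohPull.theta φ M).hom.app (op O') (((CohPull.inv φ.base).obj (Coh.toAb M)).obj.map (homOfLE h).op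
        (((CohPull.invPushAdj φ.base).unit.app (Coh.toAb M)).hom.app (op O) s)) =
      LimTop.unitSec φ M h s := by
  have e : (CohPull.invPushAdj φ.base).homEquiv _ _ (CohPull.theta φ M) =
      (ModShf.toAbFunctor Y).map ((Scheme.Modules.pullbackPushforwardAdjunction φ).unit.app M) :=
    Equiv.apply_symm_apply _ _
  rw [Adjunction.homEquiv_unit] at e
  have e' := ConcreteCategory.congr_hom (congrArg (fun q => q.hom.app (op O)) e) s
  rw [LimTop.unitSec_apply]
  refine (ConcreteCategory.congr_hom ((CohPull.theta φ M).hom.naturality (homOfLE h).op) _).trans ?_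
  exact congrArg (((Scheme.Modules.pullback φ).obj M).presheaf.map (homOfLE h).op) e'

/-- `pullOnIso` on pulled back sections. -/
lemma pullOnIso_app (g : X ⟶ Y) (U : Y.Opens) (U' : X.Opens) (h : U' ≤ g ⁻¹ᵁ U) (F : Y.Modules)
    (O : U.toScheme.Opens) (O' : U'.toScheme.Opens) (hO : O' ≤ g.resLE U U' h ⁻¹ᵁ O)
    (hO' : U'.ι ''ᵁ O' ≤ g ⁻¹ᵁ (U.ι ''ᵁ O)) (s : Γ(F, U.ι ''ᵁ O)) :
    (CohPull.pullOnIso g U U' h F).hom.app O'
        (LimTop.unitSec (g.resLE U U' h) (F.restrict U.ι) hO s) =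
      LimTop.unitSec g F hO' s := by
  let φ := g.resLE U U' h
  have hφ : φ ≫ U.ι = U'.ι ≫ g := Scheme.Hom.resLE_comp_ι g h
  have i1 : O ≤ U.ι ⁻¹ᵁ (U.ι ''ᵁ O) := (U.ι.preimage_image_eq O).ge
  have i4 : O' ≤ U'.ι ⁻¹ᵁ (U'.ι ''ᵁ O') := (U'.ι.preimage_image_eq O').ge
  have i5 : O' ≤ (φ ≫ U.ι) ⁻¹ᵁ (U.ι ''ᵁ O) := hO.trans (φ.preimage_mono i1)
  have e1 : ((Scheme.Modules.pullback φ).map ((Scheme.Modules.restrictFunctorIsoPullback U.ι).hom.app F)).app O'
      (LimTop.unitSec φ (F.restrict U.ι) hO s) =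
      LimTop.unitSec φ _ hO (LimTop.unitSec U.ι F (U := U.ι ''ᵁ O) i1 s) :=
    (LimTop.unitSec_map φ (F.restrict U.ι) hO ((Scheme.Modules.restrictFunctorIsoPullback U.ι).hom.app F) s).trans
      (congrArg (LimTop.unitSec φ ((Scheme.Modules.pullback U.ι).obj F) hO)
        (restrictFunctorIsoPullback_app U.ι F O s))
  have e2 : ((Scheme.Modules.pullbackComp φ U.ι).hom.app F).app O'
      (LimTop.unitSec φ _ hO (LimTop.unitSec U.ι F (U := U.ι ''ᵁ O) i1 s)) =
      LimTop.unitSec (φ ≫ U.ι) F (U := U.ι ''ᵁ O) i5 s :=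
    LimTop.unitSec_comp _ _ _ _ _ _
  have e3 : ((Scheme.Modules.pullbackCongr hφ).hom.app F).app O'
      (LimTop.unitSec (φ ≫ U.ι) F (U := U.ι ''ᵁ O) i5 s) =
      LimTop.unitSec (U'.ι ≫ g) F (i4.trans ((U'.ι.preimage_mono hO').trans (Scheme.Hom.comp_preimage _ _ _).ge)) s :=
    LimTop.unitSec_congr _ _ _ hφ s
  have e4 : ((Scheme.Modules.pullbackComp U'.ι g).inv.app F).app O'
      (LimTop.unitSec (U'.ι ≫ g) F (i4.trans ((U'.ι.preimage_mono hO').trans (Scheme.Hom.comp_preimage _ _ _).ge)) s) =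
      LimTop.unitSec U'.ι _ i4 (LimTop.unitSec g F hO' s) := by
    rw [← LimTop.unitSec_comp g F hO' U'.ι i4 s, ← ConcreteCategory.comp_apply,
      ← Scheme.Modules.Hom.comp_app, ← NatTrans.comp_app, Iso.hom_inv_id]
    rfl
  have e5 : ((Scheme.Modules.restrictFunctorIsoPullback U'.ι).inv.app _).app O'
      (LimTop.unitSec U'.ι _ i4 (LimTop.unitSec g F hO' s)) = LimTop.unitSec g F hO' s := by
    rw [← restrictFunctorIsoPullback_app, ← ConcreteCategory.comp_apply,
      ← Scheme.Modules.Hom.comp_app, Iso.hom_inv_id_app]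
    rfl
  change ((Scheme.Modules.restrictFunctorIsoPullback U'.ι).inv.app _).app O'
    (((Scheme.Modules.pullbackComp U'.ι g).inv.app F).app O'
      (((Scheme.Modules.pullbackCongr hφ).hom.app F).app O'
        (((Scheme.Modules.pullbackComp φ U.ι).hom.app F).app O'
          (((Scheme.Modules.pullback φ).map
            ((Scheme.Modules.restrictFunctorIsoPullback U.ι).hom.app F)).app O'
            (LimTop.unitSec φ (F.restrict U.ι) hO s))))) = _
  rw [e1, e2, e3, e4, e5]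

lemma image_le (g : X ⟶ Y) (U : Y.Opens) (U' : X.Opens) (h : U' ≤ g ⁻¹ᵁ U)
    (O : U.toScheme.Opens) (O' : U'.toScheme.Opens) (hO : O' ≤ g.resLE U U' h ⁻¹ᵁ O) :
    U'.ι ''ᵁ O' ≤ g ⁻¹ᵁ (U.ι ''ᵁ O) := by
  rintro _ ⟨z, hz, rfl⟩
  exact ⟨g.resLE U U' h z, hO hz,
    (congr(($(Scheme.Hom.resLE_comp_ι g h) : U'.toScheme → Y) z) : _)⟩

/-- The natural map behind `pullOn` on pulled back sections. -/
lemma pullOnNat_app (g : X ⟶ Y) (U : Y.Opens) (U' : X.Opens) (h : U' ≤ g ⁻¹ᵁ U) (F : Y.Modules)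
    (O : U.toScheme.Opens) (O' : U'.toScheme.Opens) (hO : O' ≤ g.resLE U U' h ⁻¹ᵁ O)
    (hO' : U'.ι ''ᵁ O' ≤ g ⁻¹ᵁ (U.ι ''ᵁ O)) (s : Γ(F, U.ι ''ᵁ O)) :
    ((pullOnNat g U U' h).app F).hom.app (op O')
      (((CohPull.inv (g.resLE U U' h).base).obj ((CohCmp.toAbOn Y U).obj F)).obj.map (homOfLE hO).op
        (((CohPull.invPushAdj (g.resLE U U' h).base).unit.app ((CohCmp.toAbOn Y U).obj F)).hom.app
          (op O) s)) =
      LimTop.unitSec g F hO' s :=
  (congrArg (fun t => (CohPull.pullOnIso g U U' h F).hom.app O' t)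
    (theta_app_unit (g.resLE U U' h) (F.restrict U.ι) O O' hO s)).trans
    (pullOnIso_app g U U' h F O O' hO hO' s)

lemma resLE_base_comp (f : X ⟶ Y) (g : Y ⟶ Z) (U : Z.Opens) (U' : Y.Opens) (U'' : X.Opens)
    (h : U' ≤ g ⁻¹ᵁ U) (h' : U'' ≤ f ⁻¹ᵁ U') (h'' : U'' ≤ (f ≫ g) ⁻¹ᵁ U) :
    ((f ≫ g).resLE U U'' h'').base = (f.resLE U' U'' h').base ≫ (g.resLE U U' h).base := by
  have e : (f ≫ g).resLE U U'' h'' = f.resLE U' U'' h' ≫ g.resLE U U' h :=
    by simp [← cancel_mono U.ι]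
  exact (congrArg (fun q : U''.toScheme ⟶ U.toScheme => q.base) e).trans (Scheme.Hom.comp_base _ _)

/-- Pullback of classes along a composite. -/
theorem pullOn_pullOn (f : X ⟶ Y) (g : Y ⟶ Z) (U : Z.Opens) (U' : Y.Opens) (U'' : X.Opens)
    (h : U' ≤ g ⁻¹ᵁ U) (h' : U'' ≤ f ⁻¹ᵁ U') (h'' : U'' ≤ (f ≫ g) ⁻¹ᵁ U) (F : Z.Modules) (p : ℕ)
    (x : Coh.HHon Z F U p) :
    Sheaf.H.map ((CohCmp.toAbOn X U'').map ((Scheme.Modules.pullbackComp f g).hom.app F)) p
        (CohPull.pullOn f U' U'' h' _ p (CohPull.pullOn g U U' h F p x)) =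
      CohPull.pullOn (f ≫ g) U U'' h'' F p x := by
  refine (congrArg _ (pullOn_eq f U' U'' h' _ p _)).trans ?_
  refine (congrArg (fun t => Sheaf.H.map ((CohCmp.toAbOn X U'').map _) p
    (Sheaf.H.map _ p (CohPull.pullAb (f.resLE U' U'' h').base _ p t))) (pullOn_eq g U U' h F p x)).trans ?_
  refine (congrArg (fun t => Sheaf.H.map ((CohCmp.toAbOn X U'').map _) p (Sheaf.H.map _ p t))
    (pullAb_map (f.resLE U' U'' h').base ((pullOnNat g U U' h).app F) p _)).trans ?_
  refine Eq.trans ?_ (pullOn_eq (f ≫ g) U U'' h'' F p x).symm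
  refine ((congrArg _ (Sheaf.H.map_comp_apply _ _ _).symm).trans
    (Sheaf.H.map_comp_apply _ _ _).symm).trans ?_
  have hc := resLE_base_comp f g U U' U'' h h' h''
  refine map_pullAb_pullAb _ _ _ hc _ (fun O O' hO hO' s => ?_) p x
  refine (pullOnNat_app (f ≫ g) U U'' h'' F O O' hO (image_le _ _ _ _ _ _ hO) s).trans ?_
  let P := (g.resLE U U' h) ⁻¹ᵁ O
  have hP : U'.ι ''ᵁ P ≤ g ⁻¹ᵁ (U.ι ''ᵁ O) := image_le g U U' h O P le_rfl
  have hP' : U''.ι ''ᵁ O' ≤ f ⁻¹ᵁ (U'.ι ''ᵁ P) := image_le f U' U'' h' P O' hO'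
  refine (LimTop.unitSec_comp g F hP f hP' s).symm.trans ?_
  refine congrArg (fun t => ((Scheme.Modules.pullbackComp f g).hom.app F).app (U''.ι ''ᵁ O') t) ?_
  refine (pullOnNat_app f U' U'' h' _ P O' hO' hP' _).symm.trans ?_
  refine congrArg (fun t => ((pullOnNat f U' U'' h').app _).hom.app (op O') t) ?_
  refine (congrArg (fun t => ((CohPull.inv (f.resLE U' U'' h').base).obj _).obj.map (homOfLE hO').op t) ?_).trans
    (ConcreteCategory.congr_hom (((CohPull.inv (f.resLE U' U'' h').base).map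
      ((pullOnNat g U U' h).app F)).hom.naturality (homOfLE hO').op) _).symm
  refine (congrArg _ ?_).trans
    (ConcreteCategory.congr_hom (congrArg (fun q => q.hom.app (op P))
      ((CohPull.invPushAdj (f.resLE U' U'' h').base).unit.naturality ((pullOnNat g U U' h).app F))) _)
  refine (pullOnNat_app g U U' h F O P le_rfl hP s).symm.trans ?_
  refine congrArg (fun t => ((pullOnNat g U U' h).app F).hom.app (op P) t) ?_
  rw [show (homOfLE (le_refl P)).op = 𝟙 (op P) from rfl]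
  exact ConcreteCategory.congr_hom (((CohPull.inv (g.resLE U U' h).base).obj _).obj.map_id (op P)) _

end Sch

end Groth.Agent.CBC.PullComp
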