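import Groth.Agent.CohAff.CechH
import Groth.Agent.CohBase.PullDelta
import Groth.Agent.LimTop.PullSec

/-!
# Pullback of Čech classes

The natural map from Čech cocycles to sheaf cohomology commutes with connecting maps and with
pullback along a continuous map and along a morphism of schemes.
-/

universe u

open CategoryTheory CategoryTheory.Limits Opposite TopologicalSpace AlgebraicGeometry

namespace Groth.Agent.CBC

open Groth.Agent.CohAff

section Delta

variable {X : TopCat.{u}} {ι : Type u} {U : ι → Opens X} (hU : ⨆ i, U i = ⊤)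

lemma cmap_zero_eq {P Q : TopCat.Presheaf AddCommGrpCat.{u} X} {φ : P ⟶ Q} (n : ℕ)
    {c : Cochain P U n} (h : c = 0) : cmap φ U n c = 0 := by rw [h, map_zero]

lemma cd_cmap_g_eq_zero {S : ShortComplex (AbSh X)} {n : ℕ} {c : Cochain S.X₁.obj U (n + 1)}
    {b : Cochain S.X₂.obj U n} (hb : cd S.X₂.obj U n b = cmap S.f.hom U (n + 1) c) :
    cd S.X₃.obj U n (cmap S.g.hom U n b) = 0 := by
  rw [cd_cmap, hb]
  exact cmap_g_f U (n + 1) c

/-- `toH` commutes with connecting maps. -/
theorem toH_δ {S : ShortComplex (AbSh X)} (hS : S.ShortExact) {n : ℕ}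
    (c : Cochain S.X₁.obj U (n + 1)) (hc : cd S.X₁.obj U (n + 1) c = 0)
    (b : Cochain S.X₂.obj U n) (hb : cd S.X₂.obj U n b = cmap S.f.hom U (n + 1) c) :
    toH hU (n + 1) S.X₁ c hc =
      CohBase.δH hS n (toH hU n S.X₃ (cmap S.g.hom U n b) (cd_cmap_g_eq_zero hb)) := by
  have := hS.mono_f
  have := hS.epi_g
  let T : ShortComplex (AbSh X) :=
    ShortComplex.mk (S.f ≫ η S.X₂) (cokernel.π _) (cokernel.condition _)
  have hT : T.ShortExact :=
    { exact := ShortComplex.exact_cokernel _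
      mono_f := mono_comp S.f (η S.X₂)
      epi_g := inferInstanceAs (Epi (cokernel.π (S.f ≫ η S.X₂))) }
  let α : S ⟶ T :=
    { τ₁ := 𝟙 _
      τ₂ := η S.X₂
      τ₃ := hS.exact.desc (η S.X₂ ≫ cokernel.π (S.f ≫ η S.X₂))
        ((Category.assoc _ _ _).symm.trans (cokernel.condition _))
      comm₁₂ := by simp [T]
      comm₂₃ := (hS.exact.g_desc _ _).symm }
  let γ : qt S.X₁ ⟶ T.X₃ := cokernel.desc (η S.X₁) (gdMap S.f ≫ cokernel.π (S.f ≫ η S.X₂))
    (((Category.assoc _ _ _).symm.trans (congrArg (· ≫ _) (η_naturality S.f).symm)).trans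
      (cokernel.condition _))
  let β : gdSeq S.X₁ ⟶ T :=
    { τ₁ := 𝟙 _
      τ₂ := gdMap S.f
      τ₃ := γ
      comm₁₂ := (Category.id_comp _).trans (η_naturality S.f)
      comm₂₃ := (cokernel.π_desc _ _ _).symm }
  obtain ⟨b', hb'⟩ := exists_bound S.X₁ hc
  rw [toH_succ_eq hU S.X₁ hc hb']
  have e1 : cd T.X₂.obj U n (cmap (η S.X₂).hom U n b) = cmap T.f.hom U (n + 1) c := by
    rw [cd_cmap, hb]
    rfl
  have e2 : cd T.X₂.obj U n (cmap (gdMap S.f).hom U n b') = cmap T.f.hom U (n + 1) c := by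
    rw [cd_cmap, hb', ← cmap_comp]
    exact congrArg (fun φ : S.X₁ ⟶ gd S.X₂ => cmap φ.hom U (n + 1) c) (η_naturality S.f).symm
  have hd : cd T.X₂.obj U n (cmap (gdMap S.f).hom U n b' - cmap (η S.X₂).hom U n b) = 0 := by
    rw [map_sub, e2, e1, sub_self]
  have k1 : CohBase.δH hT n (toH hU n T.X₃ (cmap T.g.hom U n (cmap (η S.X₂).hom U n b))
      (cd_cmap_g_eq_zero e1)) =
      CohBase.δH hS n (toH hU n S.X₃ (cmap S.g.hom U n b) (cd_cmap_g_eq_zero hb)) := by
    have ee : cmap T.g.hom U n (cmap (η S.X₂).hom U n b) = cmap α.τ₃.hom U n (cmap S.g.hom U n b) := by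
      rw [← cmap_comp, ← cmap_comp]
      exact congrArg (fun φ : S.X₂ ⟶ T.X₃ => cmap φ.hom U n b) α.comm₂₃
    rw [toH_congr hU ee _ (by rw [cd_cmap, cd_cmap_g_eq_zero hb, map_zero]),
      toH_map hU α.τ₃ _ (cd_cmap_g_eq_zero hb), CohBase.δH_natural hS hT α]
    exact Sheaf.H.map_id_apply _
  have k2 : CohBase.δH hT n (toH hU n T.X₃ (cmap T.g.hom U n (cmap (gdMap S.f).hom U n b'))
      (cd_cmap_g_eq_zero e2)) =
      gdδ S.X₁ (toH hU n (qt S.X₁) (cmap (gπ S.X₁).hom U n b') (cd_quot_eq_zero S.X₁ hb')) := by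
    have ee : cmap T.g.hom U n (cmap (gdMap S.f).hom U n b') =
        cmap γ.hom U n (cmap (gπ S.X₁).hom U n b') := by
      rw [← cmap_comp, ← cmap_comp]
      exact congrArg (fun φ : gd S.X₁ ⟶ T.X₃ => cmap φ.hom U n b')
        (show gdMap S.f ≫ T.g = gπ S.X₁ ≫ γ from (cokernel.π_desc _ _ _).symm)
    rw [toH_congr hU ee _ (by rw [cd_cmap, cd_quot_eq_zero S.X₁ hb', map_zero])]
    refine (congrArg (CohBase.δH hT n)
      (toH_map hU γ _ (cd_quot_eq_zero S.X₁ hb'))).trans ?_
    refine (CohBase.δH_natural (gdSeq_shortExact S.X₁) hT β n _).trans ?_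
    exact Sheaf.H.map_id_apply _
  rw [← k1, ← k2]
  have e3 : cmap T.g.hom U n (cmap (gdMap S.f).hom U n b') = cmap T.g.hom U n (cmap (η S.X₂).hom U n b) +
      cmap T.g.hom U n (cmap (gdMap S.f).hom U n b' - cmap (η S.X₂).hom U n b) := by
    rw [← map_add, add_sub_cancel]
  have hz : cd T.X₃.obj U n (cmap T.g.hom U n (cmap (gdMap S.f).hom U n b' - cmap (η S.X₂).hom U n b)) = 0 := by
    rw [cd_cmap, hd, map_zero]
  rw [toH_congr hU e3 _ (by rw [map_add, cd_cmap_g_eq_zero e1, hz, add_zero]),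
    toH_add hU T.X₃ _ _ (cd_cmap_g_eq_zero e1) hz, map_add]
  refine (congrArg (_ + ·) ?_).trans (add_zero _)
  exact (congrArg (CohBase.δH hT n) (toH_map hU T.g _ hd)).trans (CohBase.δH_map hT n _)

end Delta

section Pull

variable {X Y : TopCat.{u}} (f : X ⟶ Y) {ι : Type u} (U : ι → Opens Y)

/-- the inverse image of a family of opens -/
abbrev pcov : ι → Opens X := fun i => (Opens.map f).obj (U i)

lemma inter_pcov_le {n : ℕ} (x : Fin (n + 1) → ι) :
    inter (pcov f U) x ≤ (Opens.map f).obj (inter U x) := fun z hz => by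
  change f z ∈ inter U x
  rw [mem_inter]
  exact fun a => (mem_inter.1 hz) a

lemma iSup_pcov (hU : ⨆ i, U i = ⊤) : ⨆ i, pcov f U i = ⊤ := eq_top_iff.2 fun z _ => by
  obtain ⟨i, hi⟩ := Opens.mem_iSup.1 (hU.ge (show f z ∈ (⊤ : Opens Y) from trivial))
  exact Opens.mem_iSup.2 ⟨i, hi⟩

/-- the unit of inverse image on sections over an open -/
noncomputable def invUnit (F : AbSh Y) {V : Opens Y} {W : Opens X} (h : W ≤ (Opens.map f).obj V) :
    F.obj.obj (op V) →+ ((CohPull.inv f).obj F).obj.obj (op W) :=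
  (res ((CohPull.inv f).obj F).obj h).comp (((CohPull.invPushAdj f).unit.app F).hom.app (op V)).hom

lemma invUnit_apply (F : AbSh Y) {V : Opens Y} {W : Opens X} (h : W ≤ (Opens.map f).obj V)
    (s : F.obj.obj (op V)) : invUnit f F h s =
      res ((CohPull.inv f).obj F).obj h (((CohPull.invPushAdj f).unit.app F).hom.app (op V) s) := rfl

lemma invUnit_naturality {F G : AbSh Y} (φ : F ⟶ G) {V : Opens Y} {W : Opens X}
    (h : W ≤ (Opens.map f).obj V) (s : F.obj.obj (op V)) :
    invUnit f G h (φ.hom.app (op V) s) =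
      ((CohPull.inv f).map φ).hom.app (op W) (invUnit f F h s) := by
  rw [invUnit_apply, invUnit_apply]
  refine Eq.trans ?_ (res_app ((CohPull.inv f).map φ).hom h _)
  exact congrArg (res _ h)
    (congr_arg (fun t => (t.hom.app (op V)) s) ((CohPull.invPushAdj f).unit.naturality φ))

lemma invUnit_res (F : AbSh Y) {V V' : Opens Y} {W W' : Opens X}
    (h : W ≤ (Opens.map f).obj V) (h' : W' ≤ (Opens.map f).obj V') (i : V' ≤ V) (j : W' ≤ W)
    (s : F.obj.obj (op V)) :
    invUnit f F h' (res F.obj i s) = res _ j (invUnit f F h s) := by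
  rw [invUnit_apply, invUnit_apply]
  refine Eq.trans ?_ (res_res ((CohPull.inv f).obj F).obj h j _).symm
  refine Eq.trans (congrArg (res _ h') (res_app ((CohPull.invPushAdj f).unit.app F).hom i s).symm) ?_
  exact res_res ((CohPull.inv f).obj F).obj ((Opens.map f).map (homOfLE i)).le h' _

/-- pullback of cochains -/
noncomputable def pullC (F : AbSh Y) (n : ℕ) :
    Cochain F.obj U n →+ Cochain ((CohPull.inv f).obj F).obj (pcov f U) n :=
  AddMonoidHom.mk' (fun c x => invUnit f F (inter_pcov_le f U x) (c x))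
    fun a b => funext fun x => map_add (invUnit f F (inter_pcov_le f U x)) (a x) (b x)

lemma pullC_apply (F : AbSh Y) {n : ℕ} (c : Cochain F.obj U n) (x : Fin (n + 1) → ι) :
    pullC f U F n c x = invUnit f F (inter_pcov_le f U x) (c x) := rfl

lemma cd_pullC (F : AbSh Y) (n : ℕ) (c : Cochain F.obj U n) :
    cd _ (pcov f U) n (pullC f U F n c) = pullC f U F (n + 1) (cd F.obj U n c) := by
  funext x
  rw [cd_apply, pullC_apply, cd_apply, map_sum]
  refine Finset.sum_congr rfl fun j _ => ?_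
  rw [map_zsmul]
  exact congrArg _ (invUnit_res f F _ _ _ _ _).symm

lemma pullC_cmap {F G : AbSh Y} (φ : F ⟶ G) (n : ℕ) (c : Cochain F.obj U n) :
    pullC f U G n (cmap φ.hom U n c) =
      cmap ((CohPull.inv f).map φ).hom (pcov f U) n (pullC f U F n c) :=
  funext fun _ => invUnit_naturality f φ _ _

lemma pullC_cd_eq_zero (F : AbSh Y) {n : ℕ} {c : Cochain F.obj U n} (hc : cd F.obj U n c = 0) :
    cd _ (pcov f U) n (pullC f U F n c) = 0 := by rw [cd_pullC, hc, map_zero]

/-- `toH` commutes with inverse image. -/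
theorem pullAb_toH (hU : ⨆ i, U i = ⊤) : ∀ (n : ℕ) (F : AbSh Y) (c : Cochain F.obj U n)
    (hc : cd F.obj U n c = 0),
    CohPull.pullAb f F n (toH hU n F c hc) =
      toH (iSup_pcov f U hU) n ((CohPull.inv f).obj F) (pullC f U F n c)
        (pullC_cd_eq_zero f U F hc)
  | 0, F, c, hc => by
    obtain ⟨s, hs⟩ := exists_aug_eq F hU hc
    rw [toH_zero_eq hU F hc hs, toH_zero_eq (iSup_pcov f U hU) _ _
      (s := ((CohPull.invPushAdj f).unit.app F).hom.app (op ⊤) s) ?_]
    · apply (Sheaf.H.equiv₀ ((CohPull.inv f).obj F) isTerminalTop).injective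
      rw [CohPull.equiv₀_pullAb, AddEquiv.apply_symm_apply]
      exact (AddEquiv.apply_symm_apply _ _).symm
    · subst hs
      funext x
      rw [pullC_apply]
      exact ((invUnit_res f F (V := ⊤) (W := ⊤) le_top _ le_top le_top s).trans
        (congrArg (res _ _) (res_self _ _ _))).symm
  | n + 1, F, c, hc => by
    obtain ⟨b, hb⟩ := exists_bound F hc
    rw [toH_succ_eq hU F hc hb]
    refine (CohBase.pullAb_δH f (gdSeq_shortExact F) n _).trans ?_
    refine (congrArg _ (pullAb_toH hU n (qt F) _ (cd_quot_eq_zero F hb))).trans ?_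
    have hb' : cd ((gdSeq F).map (CohPull.inv f)).X₂.obj (pcov f U) n (pullC f U (gd F) n b) =
        cmap ((gdSeq F).map (CohPull.inv f)).f.hom (pcov f U) (n + 1) (pullC f U F (n + 1) c) := by
      refine (cd_pullC f U (gd F) n b).trans ?_
      exact (congrArg (pullC f U (gd F) (n + 1)) hb).trans (pullC_cmap f U (η F) (n + 1) c)
    rw [toH_congr (iSup_pcov f U hU) (pullC_cmap f U (gπ F) n b) _
      (cd_cmap_g_eq_zero (S := (gdSeq F).map (CohPull.inv f)) hb')]
    exact (toH_δ (iSup_pcov f U hU) ((gdSeq_shortExact F).map_of_exact (CohPull.inv f)) _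
      (pullC_cd_eq_zero f U F hc) _ hb').symm

end Pull

section Scheme

variable {X Y : Scheme.{u}} (g : X ⟶ Y) {ι : Type u} (U : ι → Y.Opens) (M : Y.Modules)

lemma invUnit_theta {V : Y.Opens} {W : X.Opens} (h : W ≤ g ⁻¹ᵁ V) (s : Γ(M, V)) :
    (CohPull.theta g M).hom.app (op W) (invUnit g.base (Coh.toAb M) h s) =
      LimTop.unitSec g M h s := by
  refine Eq.trans (congrArg ((CohPull.theta g M).hom.app (op W))
    (invUnit_apply g.base (Coh.toAb M) h s)) ?_
  refine (res_app (CohPull.theta g M).hom h _).symm.trans ?_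
  refine (congrArg (res (Coh.toAb ((Scheme.Modules.pullback g).obj M)).obj h) ?_).trans
    (LimTop.unitSec_apply g M h s).symm
  have h1 : (CohPull.invPushAdj g.base).homEquiv _ _ (CohPull.theta g M) =
      (SheafOfModules.toSheaf Y.ringCatSheaf).map
        ((Scheme.Modules.pullbackPushforwardAdjunction g).unit.app M) := Equiv.apply_symm_apply _ _
  exact congr_arg (fun t => (t.hom.app (op V)) s) ((Adjunction.homEquiv_unit _ _ _ _).symm.trans h1)

/-- pullback of cochains of a module -/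
noncomputable def pullM (n : ℕ) (c : Cochain (Coh.toAb M).obj U n) :
    Cochain (Coh.toAb ((Scheme.Modules.pullback g).obj M)).obj (pcov g.base U) n :=
  fun x => LimTop.unitSec g M (inter_pcov_le g.base U x) (c x)

lemma pullM_eq (n : ℕ) (c : Cochain (Coh.toAb M).obj U n) :
    pullM g U M n c = cmap (CohPull.theta g M).hom (pcov g.base U) n (pullC g.base U (Coh.toAb M) n c) :=
  funext fun _ => (invUnit_theta g M _ _).symm

lemma pullM_cd_eq_zero {n : ℕ} {c : Cochain (Coh.toAb M).obj U n}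
    (hc : cd (Coh.toAb M).obj U n c = 0) : cd _ (pcov g.base U) n (pullM g U M n c) = 0 := by
  rw [pullM_eq, cd_cmap, pullC_cd_eq_zero g.base U _ hc, map_zero]

/-- `toH` commutes with pullback of O-modules. -/
theorem pullMod_toH (hU : ⨆ i, U i = ⊤) (n : ℕ) (c : Cochain (Coh.toAb M).obj U n)
    (hc : cd (Coh.toAb M).obj U n c = 0) :
    CohPull.pullMod g M n (toH hU n (Coh.toAb M) c hc) =
      toH (iSup_pcov g.base U hU) n (Coh.toAb ((Scheme.Modules.pullback g).obj M)) (pullM g U M n c)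
        (pullM_cd_eq_zero g U M hc) := by
  refine (congrArg (Sheaf.H.map (CohPull.theta g M) n) (pullAb_toH g.base U hU n _ c hc)).trans ?_
  refine (toH_map (iSup_pcov g.base U hU) (CohPull.theta g M) _ _).symm.trans ?_
  exact toH_congr _ (pullM_eq g U M n c).symm _ _

end Scheme

end Groth.Agent.CBC
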