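import Groth.Agent.CBC.CechTop
import Groth.Agent.CBC.CechBC
import Groth.Agent.CBC.Field
import Groth.Agent.CohAff.RcIso
import Groth.Agent.QCoh.Qcqs
import Groth.Agent.QCoh.Pullback
import Groth.Prelude.Def_ega3

/-!
# Čech models of higher direct images and of the cohomology of base changes
-/

universe u

open CategoryTheory Limits Opposite TopologicalSpace AlgebraicGeometry Function TensorProduct

namespace Groth.Agent.CBC

open Groth.Agent.CohAff (inter inter_le le_inter mem_inter FRes)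

section Model

variable {X S : Scheme.{u}}

/-- a finite affine covering of the preimage of an open -/
structure Model (f : X ⟶ S) (V : S.Opens) where
  ι : Type u
  fin : Finite ι
  U : ι → X.Opens
  hU : ∀ i, U i ≤ f ⁻¹ᵁ V
  cov : f ⁻¹ᵁ V ≤ ⨆ i, U i
  aff : ∀ {n : ℕ} (x : Fin (n + 1) → ι),
    IsAffineOpen (inter (X := X.toPresheafedSpace.carrier) U x)

attribute [instance] Model.fin

variable (f : X ⟶ S) {V : S.Opens}

theorem nonempty_model [IsSeparated f] [QuasiCompact f] (hV : IsAffineOpen V) :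
    Nonempty (Model f V) := by
  obtain ⟨s, hs, e⟩ := isCompact_and_isOpen_iff_finite_and_eq_biUnion_affineOpens.mp
    ⟨f.isCompact_preimage hV.isCompact, (f ⁻¹ᵁ V).2⟩
  have : Finite s := hs.to_subtype
  have hle : ∀ i : s, i.1.1 ≤ f ⁻¹ᵁ V := fun i x hx => by
    show x ∈ ((f ⁻¹ᵁ V : X.Opens) : Set X)
    rw [e]
    exact Set.mem_biUnion i.2 hx
  refine ⟨⟨s, inferInstance, fun i => i.1.1, hle, fun x hx => ?_, fun {n} x => ?_⟩⟩
  · obtain ⟨W, hW, hxW⟩ := Set.mem_iUnion₂.1 (show x ∈ ⋃ W ∈ s, ((W : X.Opens) : Set X) from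
      e ▸ (hx : x ∈ ((f ⁻¹ᵁ V : X.Opens) : Set X)))
    exact Opens.mem_iSup.2 ⟨⟨W, hW⟩, hxW⟩
  · induction n with
    | zero =>
      have h0 : inter (X := X.toPresheafedSpace.carrier) (fun i : s => i.1.1) x = (x 0).1.1 :=
        le_antisymm (inter_le _ x 0) (le_inter fun a => by rw [Fin.eq_zero a])
      rw [h0]
      exact (x 0).1.2
    | succ n ih =>
      have h0 : inter (X := X.toPresheafedSpace.carrier) (fun i : s => i.1.1) x =
          (x 0).1.1 ⊓ inter (X := X.toPresheafedSpace.carrier) (fun i : s => i.1.1) (x ∘ Fin.succ) :=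
        le_antisymm (le_inf (inter_le _ x 0) (CohAff.inter_comp_le _ x Fin.succ))
          (le_inter fun a => by
            induction a using Fin.cases with
            | zero => exact inf_le_left
            | succ a => exact inf_le_right.trans (inter_le _ (x ∘ Fin.succ) a))
      rw [h0]
      exact (isAffineHom_diagonal_iff.mp (inferInstance : IsAffineHom (pullback.diagonal f))) V hV
        _ (hle _) _ ((inter_le _ (x ∘ Fin.succ) 0).trans (hle _)) (x 0).1.2 (ih (x ∘ Fin.succ))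

variable {f} (D : Model f V) (F : X.Modules)

/-- the complex computing `R f_* F` over `V` -/
noncomputable abbrev Model.K : SCx Γ(S, V) := cxS f F D.U D.hU

lemma Model.flat_K [F.IsQuasicoherent] (hV : IsAffineOpen V) (hfl : FlatMod.IsFlatOver f F)
    (n : ℕ) : Module.Flat Γ(S, V) ((D.K F).X n) :=
  flat_cx (f.app V).hom D.U D.hU F
    (fun _ x => flat_sec f hV F (D.aff x) (inter_le' D.U x D.hU) fun y _ => hfl y) n

end Model

section Rpush

variable {X S : Scheme.{u}} {f : X ⟶ S} {V : S.Opens}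

/-- an isomorphism of modules on sections, linearly -/
noncomputable def isoApp {M N : S.Modules} (e : M ≅ N) : Γ(M, V) ≃ₗ[Γ(S, V)] Γ(N, V) where
  toFun := e.hom.app V
  invFun := e.inv.app V
  map_add' := map_add (e.hom.app V).hom
  map_smul' r x := Scheme.Modules.Hom.app_smul e.hom r x
  left_inv x := by
    change (e.hom.app V ≫ e.inv.app V) x = x
    rw [← Scheme.Modules.Hom.comp_app, e.hom_inv_id]
    rfl
  right_inv x := by
    change (e.inv.app V ≫ e.hom.app V) x = x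
    rw [← Scheme.Modules.Hom.comp_app, e.inv_hom_id]
    rfl

variable (R : FRes X)

/-- the class of a cocycle, linearly -/
noncomputable def πA (n : ℕ) :
    Sec (f.app V).hom (R.Z (n + 1)) (le_refl (f ⁻¹ᵁ V)) →ₗ[Γ(S, V)] Γ(R.Rc f n, V) where
  toFun := R.π' f n V
  map_add' := map_add (R.π' f n V)
  map_smul' r x := (congrArg (fun t : Γ(X, f ⁻¹ᵁ V) => R.π' f n V (t • (show Γ(R.Z (n + 1), f ⁻¹ᵁ V) from x)))
    (QCoh.rres_self (le_refl (f ⁻¹ᵁ V)) (f.app V r))).trans (R.π'_smul f n r x)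

variable [(R.Z 0).IsQuasicoherent] [IsSeparated f] [QuasiCompact f]

/-- sections of the model of the higher direct image -/
noncomputable def rcSec (hV : IsAffineOpen V) (n : ℕ) :
    (Sec (f.app V).hom (R.Z (n + 1)) (le_refl (f ⁻¹ᵁ V)) ⧸
      exSub (f.app V).hom _ _ (R.p n)) ≃ₗ[Γ(S, V)] Γ(R.Rc f n, V) :=
  quotEquiv (πA R n) _ (by
    ext x
    exact ⟨fun h => R.ex_of_π'_eq_zero f hV n x h, fun h => R.π'_eq_zero_of_ex f n h⟩)
    (R.π'_surjective f hV n)

variable (D : Model f V) (F : X.Modules) [F.IsQuasicoherent] [HasInjectiveResolutions X.Modules]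

/-- degree zero sections -/
noncomputable def zeroEquiv : (D.K F).H₀ 0 ≃ₗ[Γ(S, V)] Γ((Coh.push f).obj F, V) :=
  (Submodule.quotEquivOfEqBot _ (by
    ext z
    rw [Submodule.mem_comap, Submodule.mem_bot]
    exact ⟨fun h => Subtype.ext h, fun h => by rw [h]; exact zero_mem _⟩)) ≪≫ₗ
    (secEquiv (f.app V).hom D.hU F D.cov).symm ≪≫ₗ
    { toFun := fun s => s
      invFun := fun s => s
      map_add' := fun _ _ => rfl
      map_smul' := fun r s => congrArg (fun t : Γ(X, f ⁻¹ᵁ V) => t • (show Γ(F, f ⁻¹ᵁ V) from s))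
        (QCoh.rres_self (le_refl (f ⁻¹ᵁ V)) (f.app V r))
      left_inv := fun _ => rfl
      right_inv := fun _ => rfl }

/-- the sections of `R^p f_* F` over an affine open are Čech cohomology -/
noncomputable def rpushEquiv (hV : IsAffineOpen V) :
    ∀ p : ℕ, (D.K F).H₀ p ≃ₗ[Γ(S, V)] Γ((Coh.Rpush f p).obj F, V)
  | 0 => zeroEquiv D F ≪≫ₗ isoApp ((Scheme.Modules.pushforward f).rightDerivedZeroIsoSelf.app F).symm
  | p + 1 =>
    resEquiv (f.app V).hom D.hU D.aff D.cov p (FRes.ofMod F) (CohAff.good_affCov F) ≪≫ₗ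
      rcSec (FRes.ofMod F) hV p ≪≫ₗ isoApp ((FRes.ofMod F).rpushIsoRc f p).symm

end Rpush

section Fibre

variable {X S T X' : Scheme.{u}} {f : X ⟶ S} (g : T ⟶ S) (p : X' ⟶ X) (q : X' ⟶ T)
  {V : S.Opens} (hV : IsAffineOpen V) (D : Model f V) (F : X.Modules) [F.IsQuasicoherent]
  (H : IsPullback p q f g) [IsAffine T] (hT : ⊤ ≤ g ⁻¹ᵁ V) [Algebra Γ(S, V) Γ(T, ⊤)]
  (halg : algebraMap Γ(S, V) Γ(T, ⊤) = (g.appLE V ⊤ hT).hom)

omit [F.IsQuasicoherent] [IsAffine T] [Algebra Γ(S, V) Γ(T, ⊤)] in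
include H hT in
lemma iSup_bcCov : ⨆ i, bcCov p q (UT := (⊤ : T.Opens)) D.U i = ⊤ := by
  refine top_unique fun x _ => ?_
  have h1 : f (p x) = g (q x) := congrArg (fun φ : X' ⟶ S => φ x) H.w
  have h2 : p x ∈ f ⁻¹ᵁ V := by
    change f (p x) ∈ V
    rw [h1]
    exact hT trivial
  obtain ⟨i, hi⟩ := Opens.mem_iSup.1 (D.cov h2)
  exact Opens.mem_iSup.2 ⟨i, hi, trivial⟩

/-- cohomology of a base change is cohomology of the complex with coefficients -/
noncomputable def bcEquiv (n : ℕ) :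
    (D.K F).H Γ(T, ⊤) n ≃+ Coh.HH X' ((Scheme.Modules.pullback p).obj F) n :=
  haveI := QCoh.isQuasicoherent_pullback p F
  ((SCx.hBC (D.K F) Γ(T, ⊤) Γ(T, ⊤) n).symm.toAddEquiv.trans
    (((D.K F).bc Γ(T, ⊤)).hA n).toAddEquiv).trans
      ((LinearEquiv.ofBijective ((cxBC f g p q hT halg F D.U D.hU H.w).h₀ n)
        (SCx.Hom.h₀_bijective _
          (cxBC_bijective f g p q hT halg F D.U D.hU H.w H hV (isAffineOpen_top T) D.aff) n)).toAddEquiv.trans
        (AddEquiv.ofBijective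
          (hTop (q.app ⊤).hom (iSup_bcCov g p q D H hT) ((Scheme.Modules.pullback p).obj F) n)
          (hTop_bijective _ _ _
            (isAffineOpen_inter_bcCov f g p q hT D.U D.hU H hV (isAffineOpen_top T) D.aff) n)))

lemma bcEquiv_smul (n : ℕ) (b : Γ(T, ⊤)) (x : (D.K F).H Γ(T, ⊤) n) :
    bcEquiv g p q hV D F H hT halg n
        ((D.K F).Hmap (LinearMap.mulLeft Γ(S, V) b) n x) =
      (show Coh.Γtop X' from q.app ⊤ b) • bcEquiv g p q hV D F H hT halg n x := by
  have h1 : (SCx.hBC (D.K F) Γ(T, ⊤) Γ(T, ⊤) n).symm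
      ((D.K F).Hmap (LinearMap.mulLeft Γ(S, V) b) n x) =
        b • (SCx.hBC (D.K F) Γ(T, ⊤) Γ(T, ⊤) n).symm x := by
    rw [LinearEquiv.symm_apply_eq]
    rw [← SCx.smul_id_Hmap ((D.K F).bc Γ(T, ⊤)) Γ(T, ⊤) n b, SCx.hBC_natural,
      LinearEquiv.apply_symm_apply]
    congr 1
  change hTop _ _ _ n _ = _
  refine Eq.trans ?_ (hTop_smul (q.app ⊤).hom (iSup_bcCov g p q D H hT)
    ((Scheme.Modules.pullback p).obj F) n b _)
  refine congrArg _ ?_
  change (cxBC f g p q hT halg F D.U D.hU H.w).h₀ n (((D.K F).bc Γ(T, ⊤)).hA n _) = _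
  exact (congrArg (fun t => (cxBC f g p q hT halg F D.U D.hU H.w).h₀ n
      (((D.K F).bc Γ(T, ⊤)).hA n t)) h1).trans
    ((congrArg _ (map_smul _ _ _)).trans (map_smul _ _ _))

end Fibre

section Ring

lemma Hmap_comp {A : Type u} [CommRing A] (K : SCx A) {M N P : Type u} [AddCommGroup M] [Module A M]
    [AddCommGroup N] [Module A N] [AddCommGroup P] [Module A P] (g : M →ₗ[A] N) (h : N →ₗ[A] P)
    (n : ℕ) (x : K.H M n) : K.Hmap h n (K.Hmap g n x) = K.Hmap (h ∘ₗ g) n x := by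
  obtain ⟨z, rfl⟩ := Submodule.Quotient.mk_surjective _ x
  rw [SCx.Hmap_mk, SCx.Hmap_mk, SCx.Hmap_mk]
  exact congrArg Submodule.Quotient.mk (Subtype.ext (LinearMap.lTensor_comp_apply _ _ _ _).symm)

lemma Hmap_id {A : Type u} [CommRing A] (K : SCx A) {M : Type u} [AddCommGroup M] [Module A M]
    (n : ℕ) (x : K.H M n) : K.Hmap (LinearMap.id : M →ₗ[A] M) n x = x := by
  obtain ⟨z, rfl⟩ := Submodule.Quotient.mk_surjective _ x
  rw [SCx.Hmap_mk]
  exact congrArg Submodule.Quotient.mk (Subtype.ext (LinearMap.lTensor_id_apply _ _ _))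

lemma Hmap_symm_apply {A : Type u} [CommRing A] (K : SCx A) {M N : Type u} [AddCommGroup M]
    [Module A M] [AddCommGroup N] [Module A N] (e : M ≃ₗ[A] N) (n : ℕ) (x : K.H M n) :
    K.Hmap e.symm.toLinearMap n (K.Hmap e.toLinearMap n x) = x := by
  rw [Hmap_comp, show e.symm.toLinearMap ∘ₗ e.toLinearMap = LinearMap.id from
    LinearMap.ext e.symm_apply_apply, Hmap_id]


variable {X S X' : Scheme.{u}} {f : X ⟶ S} {R : Type u} [CommRing R]
  (g : Spec (CommRingCat.of R) ⟶ S) (p : X' ⟶ X) (q : X' ⟶ Spec (CommRingCat.of R))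
  {V : S.Opens} (hV : IsAffineOpen V) (D : Model f V) (F : X.Modules) [F.IsQuasicoherent]
  (H : IsPullback p q f g) (hT : ⊤ ≤ g ⁻¹ᵁ V) [Algebra Γ(S, V) R]
  (halg : ∀ a, g.appLE V ⊤ hT a =
    (Scheme.ΓSpecIso (CommRingCat.of R)).inv (algebraMap Γ(S, V) R a))

/-- `Γ(Spec R) ≅ R` over the base -/
noncomputable def specΓ :
    letI := (g.appLE V ⊤ hT).hom.toAlgebra
    R ≃ₗ[Γ(S, V)] Γ(Spec (CommRingCat.of R), ⊤) :=
  letI := (g.appLE V ⊤ hT).hom.toAlgebra
  { (Scheme.ΓSpecIso (CommRingCat.of R)).commRingCatIsoToRingEquiv.symm.toAddEquiv with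
    map_smul' := fun a r => by
      change (Scheme.ΓSpecIso (CommRingCat.of R)).inv (a • r) =
        g.appLE V ⊤ hT a * (Scheme.ΓSpecIso (CommRingCat.of R)).inv r
      rw [Algebra.smul_def, map_mul, halg] }

/-- cohomology of the base change to a ring -/
noncomputable def ringEquiv (n : ℕ) :
    (D.K F).H R n ≃+ Coh.HH X' ((Scheme.Modules.pullback p).obj F) n :=
  letI := (g.appLE V ⊤ hT).hom.toAlgebra
  { toFun := fun x => bcEquiv g p q hV D F H hT rfl n
      ((D.K F).Hmap (specΓ g hT halg).toLinearMap n x)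
    invFun := fun y => (D.K F).Hmap (specΓ g hT halg).symm.toLinearMap n
      ((bcEquiv g p q hV D F H hT rfl n).symm y)
    left_inv := fun x => by
      simp only [AddEquiv.symm_apply_apply]
      exact Hmap_symm_apply (D.K F) (specΓ g hT halg) n x
    right_inv := fun y => by
      refine (congrArg (bcEquiv g p q hV D F H hT rfl n) ?_).trans (AddEquiv.apply_symm_apply _ y)
      exact Hmap_symm_apply (D.K F) (specΓ g hT halg).symm n _
    map_add' := fun a b => by rw [map_add, map_add] }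

lemma ringEquiv_smul (n : ℕ) (r : R) (x : (D.K F).H R n) :
    ringEquiv g p q hV D F H hT halg n ((D.K F).Hmap (LinearMap.mulLeft Γ(S, V) r) n x) =
      Coh.toGlobal q r • ringEquiv g p q hV D F H hT halg n x := by
  letI := (g.appLE V ⊤ hT).hom.toAlgebra
  refine Eq.trans ?_ (bcEquiv_smul g p q hV D F H hT rfl n
    ((Scheme.ΓSpecIso (CommRingCat.of R)).inv r) _)
  refine congrArg (bcEquiv g p q hV D F H hT rfl n) ?_
  obtain ⟨z, rfl⟩ := Submodule.Quotient.mk_surjective _ x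
  rw [SCx.Hmap_mk, SCx.Hmap_mk, SCx.Hmap_mk, SCx.Hmap_mk]
  refine congrArg Submodule.Quotient.mk (Subtype.ext ?_)
  change (specΓ g hT halg).toLinearMap.lTensor _ (LinearMap.lTensor _ (LinearMap.mulLeft _ r) z.1) =
    LinearMap.lTensor _ (LinearMap.mulLeft _ _) ((specΓ g hT halg).toLinearMap.lTensor _ z.1)
  rw [← LinearMap.comp_apply, ← LinearMap.lTensor_comp, ← LinearMap.comp_apply,
    ← LinearMap.lTensor_comp]
  congr 2
  ext t
  exact map_mul (Scheme.ΓSpecIso (CommRingCat.of R)).inv.hom r t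

end Ring

end Groth.Agent.CBC
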