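import Groth.Agent.CBC.Cech
import Groth.Agent.CohBase.HonTheory
import Groth.Agent.QCoh.Qcqs

/-!
# The comparison `H^p(f⁻¹V, F) → Γ(V, R^p f_* F)` is linear over `Γ(V)`
-/

universe u

open CategoryTheory CategoryTheory.Limits AlgebraicGeometry TopologicalSpace Opposite

namespace Groth.Agent.CBC

variable {X : Scheme.{u}}

/-- a function on `W` as a global function of the open subscheme -/
noncomputable def gW (W : X.Opens) (r : Γ(X, W)) : Coh.Γtop W.toScheme :=
  (W.ι.appIso ⊤).hom (QCoh.rres W.ι_image_top.le r)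

/-- multiplication by a function on `W` -/
noncomputable def smW (W : X.Opens) (M : X.Modules) (r : Γ(X, W)) :
    (CohCmp.toAbOn X W).obj M ⟶ (CohCmp.toAbOn X W).obj M :=
  Coh.smulAb (M.restrict W.ι) (gW W r)

lemma rres_gW (W : X.Opens) (r : Γ(X, W)) (O : W.toScheme.Opens) (h : W.ι ''ᵁ O ≤ W) :
    (W.ι.appIso O).inv (QCoh.rres (le_top : O ≤ ⊤) (gW W r)) = QCoh.rres h r := by
  rw [QCoh.appIso_inv_rres, gW]
  exact (congrArg (QCoh.rres _) (congr($((W.ι.appIso ⊤).hom_inv_id) _))).trans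
    (QCoh.rres_rres _ _ r)

lemma smW_app (W : X.Opens) (M : X.Modules) (r : Γ(X, W)) (O : W.toScheme.Opens)
    (h : W.ι ''ᵁ O ≤ W) (m : Γ(M, W.ι ''ᵁ O)) :
    (smW W M r).hom.app (op O) m = QCoh.rres h r • m := by
  rw [← rres_gW W r O h]
  exact QCoh.restrict_smul W.ι M (QCoh.rres (le_top : O ≤ ⊤) (gW W r))
    ((M.restrictAppIso W.ι O).inv m)

lemma smW_natural (W : X.Opens) {M N : X.Modules} (ψ : M ⟶ N) (r : Γ(X, W)) :
    smW W M r ≫ (CohCmp.toAbOn X W).map ψ = (CohCmp.toAbOn X W).map ψ ≫ smW W N r := by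
  apply CategoryTheory.Sheaf.hom_ext
  ext ⟨O⟩ m
  change Scheme.Modules.Hom.app ψ (W.ι ''ᵁ O) ((smW W M r).hom.app (op O) m) =
    (smW W N r).hom.app (op O) (Scheme.Modules.Hom.app ψ (W.ι ''ᵁ O) m)
  have hO : W.ι ''ᵁ O ≤ W := (W.ι.image_mono le_top).trans W.ι_image_top.le
  exact (congrArg (Scheme.Modules.Hom.app ψ (W.ι ''ᵁ O)) (smW_app W M r O hO m)).trans
    ((Scheme.Modules.Hom.app_smul ψ _ _).trans (smW_app W N r O hO _).symm)

/-- multiplication on the restricted short complex -/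
noncomputable def smSeq (W : X.Opens) (S : ShortComplex X.Modules) (r : Γ(X, W)) :
    S.map (CohCmp.toAbOn X W) ⟶ S.map (CohCmp.toAbOn X W) where
  τ₁ := smW W S.X₁ r
  τ₂ := smW W S.X₂ r
  τ₃ := smW W S.X₃ r
  comm₁₂ := smW_natural W S.f r
  comm₂₃ := smW_natural W S.g r

lemma sectH0_smul (W : X.Opens) (M : X.Modules) (r : Γ(X, W)) (s : Γ(M, W)) :
    Sheaf.H.map (smW W M r) 0 (CohPull.sectH0 M W s) = CohPull.sectH0 M W (r • s) := by
  apply (Sheaf.H.equiv₀ (Coh.toAb (M.restrict W.ι)) isTerminalTop).injective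
  rw [CohBase.equiv₀_sectH0]
  refine (Sheaf.H.equiv₀_naturality isTerminalTop (smW W M r) _).symm.trans ?_
  refine (congrArg (fun t => (smW W M r).hom.app (op ⊤) t) (CohBase.equiv₀_sectH0 M W s)).trans ?_
  exact (smW_app W M r ⊤ W.ι_image_top.le _).trans (QCoh.res_smul M W.ι_image_top.le r s).symm

variable {Y : Scheme.{u}} (f : X ⟶ Y) [HasInjectiveResolutions X.Modules]
  {Δ : RDer.DerivedLES (Scheme.Modules.pushforward f)} (E : CohCmp.SectCmp f Δ)

/-- the comparison is linear -/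
theorem ε_smul : ∀ (p : ℕ) (F : X.Modules) (V : Y.Opens) (a : Γ(Y, V))
    (x : Coh.HHon X F (f ⁻¹ᵁ V) p),
    E.ε V F p (Sheaf.H.map (smW (f ⁻¹ᵁ V) F (f.app V a)) p x) = a • E.ε V F p x := by
  intro p
  induction p with
  | zero =>
    intro F V a x
    obtain ⟨s, rfl⟩ := (CohPull.sectH0 F (f ⁻¹ᵁ V)).surjective x
    rw [sectH0_smul, E.zero, E.zero]
    exact Scheme.Modules.Hom.app_smul ((Scheme.Modules.pushforward f).toRightDerivedZero.app F) a s
  | succ p ih =>
    intro F V a x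
    obtain ⟨S, rfl, hS, hI⟩ := CohBase.exists_embedding_mod F
    obtain ⟨z, rfl⟩ := CohBase.δH_surjective (CohBase.toAbOn_shortExact hS (f ⁻¹ᵁ V)) p
      (CohBase.subsingleton_toAbOn_of_injective _ p) x
    refine (congrArg (E.ε V S.X₁ (p + 1)) (CohBase.δH_natural (CohBase.toAbOn_shortExact hS _)
      (CohBase.toAbOn_shortExact hS _) (smSeq (f ⁻¹ᵁ V) S (f.app V a)) p z).symm).trans ?_
    refine (E.delta V S hS (CohBase.toAbOn_shortExact hS _) p _).trans ?_
    refine (congrArg ((Δ.δ S hS p (p + 1) rfl).app V) (ih S.X₃ V a z)).trans ?_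
    refine (Scheme.Modules.Hom.app_smul (Δ.δ S hS p (p + 1) rfl) a _).trans ?_
    exact congrArg (a • ·) (E.delta V S hS (CohBase.toAbOn_shortExact hS _) p z).symm

end Groth.Agent.CBC
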