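import Groth.Agent.CBC.CechTop
import Groth.Agent.LimTop.TensorQC
import Groth.Agent.LimTop.PullSec
import Groth.Agent.QCoh.Pullback
import Groth.Agent.S0010
import Groth.Prelude.Def_ega3

/-!
# `Γ(W, F ⊗ π^* M~) = Γ(W, F) ⊗ M` and the Čech complex of `F ⊗_A M`
-/

universe u

open CategoryTheory Limits Opposite TopologicalSpace AlgebraicGeometry Function TensorProduct

namespace Groth.Agent.CBC

open Groth.Agent.CohAff (inter inter_le cd cd_apply)
open Groth.Agent.KFlat.StalkTensor Groth.Agent.PullStalk.Sky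

section Stalkwise

variable {X : Scheme.{u}} {H : X.Modules} [H.IsQuasicoherent] {W : X.Opens} (hW : IsAffineOpen W)
  {Q : Type u} [AddCommGroup Q] [Module Γ(X, W) Q] {θ : Q →ₗ[Γ(X, W)] Γ(H, W)}

/-- a stalkwise localization of a quasi-coherent module is bijective -/
theorem bijective_of_stalkwise (hθ : LimTop.IsStalkwiseLoc hW θ) : Bijective θ := by
  refine ⟨(injective_iff_map_eq_zero θ).2 fun q hq => ?_, LimTop.surjective_of_stalkwise hθ⟩
  obtain ⟨n, hn⟩ := LimTop.exists_pow_smul_eq_zero_of_res hθ (r := 1) (q := q) (by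
    rw [hq, map_zero])
  simpa using hn

end Stalkwise

variable {A : Type u} [CommRing A] {X : Scheme.{u}} [X.Over (Spec (CommRingCat.of A))]

/-- functions of `A` on `X` -/
noncomputable abbrev φA : A →+* Γ(X, ⊤) := Coh.toGlobal (X ↘ Spec (CommRingCat.of A))

/-- the module on `X` attached to an `A`-module -/
noncomputable abbrev pullTilde (M : ModuleCat.{u} A) : X.Modules :=
  (Scheme.Modules.pullback (X ↘ Spec (CommRingCat.of A))).obj (tilde (R := CommRingCat.of A) M)

/-- sections as a module over the functions -/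
@[reducible]
noncomputable def secMod {B : Type u} [CommRing B] {Y : Scheme.{u}} {W₀ : Y.Opens}
    (φ : B →+* Γ(Y, W₀)) (G : Y.Modules) {V : Y.Opens} (h : V ≤ W₀) :
    Module Γ(Y, V) (Sec φ G h) :=
  show Module Γ(Y, V) Γ(G, V) from inferInstance

variable (F : X.Modules)

/-- `F ⊗_A M` as a sheaf -/
noncomputable abbrev tA (M : ModuleCat.{u} A) : X.Modules := tensM (pullTilde (X := X) M) F

lemma tensorAFunctor_obj (M : ModuleCat.{u} A) :
    (CohIII.tensorAFunctor A F).obj M = tA F M := rfl

lemma le_preimage_top (W : X.Opens) :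
    W ≤ (X ↘ Spec (CommRingCat.of A)) ⁻¹ᵁ (⊤ : (Spec (CommRingCat.of A)).Opens) := le_top

/-- `m` as a global section of `M~` -/
noncomputable def topSec (M : ModuleCat.{u} A) (m : M) :
    Γ(tilde (R := CommRingCat.of A) M, (⊤ : (Spec (CommRingCat.of A)).Opens)) :=
  (tilde.toOpen (R := CommRingCat.of A) M ⊤).hom m

lemma topSec_add (M : ModuleCat.{u} A) (a b : M) :
    topSec M (a + b) = topSec M a + topSec M b :=
  map_add (tilde.toOpen (R := CommRingCat.of A) M ⊤).hom a b

lemma topSec_smul (M : ModuleCat.{u} A) (a : A) (m : M) :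
    topSec M (a • m) = (Spec (CommRingCat.of A)).presheaf.map
      (⊤ : (Spec (CommRingCat.of A)).Opens).leTop.op
      ((Scheme.ΓSpecIso (CommRingCat.of A)).inv a) • topSec M m :=
  (map_smul (tilde.toOpen (R := CommRingCat.of A) M ⊤).hom a m).trans
    (Scheme.Modules.smul_Spec_def (R := CommRingCat.of A) a _)

lemma topSec_bijective (M : ModuleCat.{u} A) : Bijective (topSec M) :=
  (ConcreteCategory.isIso_iff_bijective (tilde.toOpen (R := CommRingCat.of A) M ⊤)).1
    (tilde.isIso_toOpen_top (R := CommRingCat.of A) (M := M))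

variable (M : ModuleCat.{u} A) (W : X.Opens)

/-- `m` as a section of the pulled back module -/
noncomputable def uA : M →ₗ[A] Sec (φA (A := A)) (pullTilde (X := X) M) (le_top : W ≤ ⊤) where
  toFun m := LimTop.unitSec (X ↘ Spec (CommRingCat.of A)) (tilde (R := CommRingCat.of A) M)
    (le_preimage_top W) (topSec M m)
  map_add' a b := (congrArg _ (topSec_add M a b)).trans (map_add (LimTop.unitSec
    (X ↘ Spec (CommRingCat.of A)) (tilde (R := CommRingCat.of A) M) (le_preimage_top W)) _ _)
  map_smul' a m := by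
    refine (congrArg _ (topSec_smul M a m)).trans ?_
    refine (LimTop.unitSec_smul (X ↘ Spec (CommRingCat.of A)) (tilde (R := CommRingCat.of A) M)
      (le_preimage_top W) _ _).trans ?_
    refine congrArg (fun r : Γ(X, W) => r • _) ?_
    change ((Scheme.ΓSpecIso (CommRingCat.of A)).inv ≫ (Spec (CommRingCat.of A)).presheaf.map _ ≫
      (X ↘ Spec (CommRingCat.of A)).appLE ⊤ W (le_preimage_top W)) a =
      ((Scheme.ΓSpecIso (CommRingCat.of A)).inv ≫ (X ↘ Spec (CommRingCat.of A)).appTop ≫
        X.presheaf.map (homOfLE le_top).op) a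
    rw [Scheme.Hom.map_appLE]
    rfl

/-- `s ⊗ m ↦ s ⊗ m` -/
noncomputable def kap :
    Sec (φA (A := A)) F (le_top : W ≤ ⊤) ⊗[A] M →ₗ[A] Sec (φA (A := A)) (tA F M) (le_top : W ≤ ⊤) :=
  TensorProduct.lift (LinearMap.mk₂ A
    (fun s m => (show Sec (φA (A := A)) (tA F M) (le_top : W ≤ ⊤) from tmulSec W (uA M W m) s))
    (fun s s' m => tmulSec_add_right W (uA M W m) s s')
    (fun a s m => tmulSec_smul_right W _ (uA M W m) s)
    (fun s m m' => (congrArg (fun t => tmulSec (N := F) W t s) (map_add (uA M W) m m')).trans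
      (tmulSec_add_left W (uA M W m) (uA M W m') s))
    (fun a s m => (congrArg (fun t => tmulSec (N := F) W t s) (map_smul (uA M W) a m)).trans
      (tmulSec_smul_left W _ (uA M W m) s)))

lemma kap_tmul (s : Sec (φA (A := A)) F (le_top : W ≤ ⊤)) (m : M) :
    kap F M W (s ⊗ₜ m) = tmulSec W (uA M W m) s := rfl

variable {W} (hW : IsAffineOpen W)

set_option maxHeartbeats 1000000 in
include hW in
theorem isBaseChange_uA :
    letI := ((QCoh.rres (le_top : W ≤ ⊤)).hom.comp (φA (A := A) (X := X))).toAlgebra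
    letI := secMod (φA (A := A)) (pullTilde (X := X) M) (le_top : W ≤ ⊤)
    haveI : IsScalarTower A Γ(X, W) (Sec (φA (A := A)) (pullTilde (X := X) M) (le_top : W ≤ ⊤)) :=
      IsScalarTower.of_algebraMap_smul fun _ _ => rfl
    IsBaseChange Γ(X, W) (uA M W) := by
  let π := X ↘ Spec (CommRingCat.of A)
  let Mt := tilde (R := CommRingCat.of A) M
  let B₀ := Γ(Spec (CommRingCat.of A), ⊤)
  letI : Algebra A B₀ := (Scheme.ΓSpecIso (CommRingCat.of A)).inv.hom.toAlgebra
  letI := (π.appLE ⊤ W (le_preimage_top W)).hom.toAlgebra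
  letI : Algebra A Γ(X, W) := ((QCoh.rres (le_top : W ≤ ⊤)).hom.comp (φA (A := A) (X := X))).toAlgebra
  haveI : IsScalarTower A B₀ Γ(X, W) := IsScalarTower.of_algebraMap_eq fun _ => rfl
  letI : Module A Γ(Mt, ⊤) := Module.compHom _ (algebraMap A B₀)
  haveI : IsScalarTower A B₀ Γ(Mt, ⊤) := IsScalarTower.of_algebraMap_smul fun _ _ => rfl
  let v : M →ₗ[A] Γ(Mt, ⊤) :=
    { toFun := topSec M
      map_add' := topSec_add M
      map_smul' := fun a m => (topSec_smul M a m).trans (congrArg (fun r : B₀ => r • _)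
          (congr($((Spec (CommRingCat.of A)).presheaf.map_id _)
            ((Scheme.ΓSpecIso (CommRingCat.of A)).inv a)))) }
  have hv : Bijective v := topSec_bijective M
  have hsurj : Surjective (TensorProduct.mk A B₀ M 1) := fun z => by
    induction z using TensorProduct.induction_on with
    | zero => exact ⟨0, map_zero _⟩
    | tmul b m =>
      obtain ⟨a, rfl⟩ : ∃ a, algebraMap A B₀ a = b :=
        ⟨(Scheme.ΓSpecIso (CommRingCat.of A)).hom b,
          congr($((Scheme.ΓSpecIso (CommRingCat.of A)).hom_inv_id) b)⟩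
      exact ⟨a • m, by rw [TensorProduct.mk_apply, TensorProduct.tmul_smul,
        TensorProduct.smul_tmul', Algebra.smul_def, mul_one]⟩
    | add a b ha hb =>
      obtain ⟨x, rfl⟩ := ha
      obtain ⟨y, rfl⟩ := hb
      exact ⟨x + y, map_add _ _ _⟩
  have h1 : IsBaseChange B₀ v := by
    suffices hbij : Bijective (v.liftBaseChange B₀) from
      IsBaseChange.of_equiv (LinearEquiv.ofBijective _ hbij) fun m =>
        (LinearMap.liftBaseChange_tmul _ _ _ _).trans (one_smul _ _)
    refine ⟨?_, ?_⟩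
    · intro a b hab
      obtain ⟨a, rfl⟩ := hsurj a
      obtain ⟨b, rfl⟩ := hsurj b
      simp only [TensorProduct.mk_apply, LinearMap.liftBaseChange_tmul, one_smul] at hab
      rw [hv.1 hab]
    · intro z
      obtain ⟨m, rfl⟩ := hv.2 z
      exact ⟨1 ⊗ₜ m, by simp⟩
  letI := LimTop.secModule π Mt (le_preimage_top W)
  haveI : IsScalarTower B₀ Γ(X, W) Γ((Scheme.Modules.pullback π).obj Mt, W) :=
    IsScalarTower.of_algebraMap_smul fun _ _ => rfl
  letI : Module A Γ((Scheme.Modules.pullback π).obj Mt, W) :=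
    inferInstanceAs (Module A (Sec (φA (A := A)) (pullTilde (X := X) M) (le_top : W ≤ ⊤)))
  haveI : IsScalarTower A Γ(X, W) Γ((Scheme.Modules.pullback π).obj Mt, W) :=
    IsScalarTower.of_algebraMap_smul fun _ _ => rfl
  haveI : IsScalarTower A B₀ Γ((Scheme.Modules.pullback π).obj Mt, W) :=
    IsScalarTower.of_algebraMap_smul fun _ _ => rfl
  have h2 := LimTop.isBaseChange_unitSec π Mt (le_preimage_top W) (isAffineOpen_top _) hW
  have h3 := h1.comp h2
  letI := secMod (φA (A := A)) (pullTilde (X := X) M) (le_top : W ≤ ⊤)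
  haveI : IsScalarTower A Γ(X, W) (Sec (φA (A := A)) (pullTilde (X := X) M) (le_top : W ≤ ⊤)) :=
    IsScalarTower.of_algebraMap_smul fun _ _ => rfl
  refine IsBaseChange.of_equiv h3.equiv fun m => ?_
  exact (h3.equiv_tmul 1 m).trans (one_smul _ _)

variable [F.IsQuasicoherent]

include hW in
/-- sections of `F ⊗ π^* M~` over an affine open -/
theorem kap_bijective : Bijective (kap F M W) := by
  haveI : (pullTilde (X := X) M).IsQuasicoherent := QCoh.isQuasicoherent_pullback _ _
  haveI := LimTop.TensorQC.isQuasicoherent_tensM (pullTilde (X := X) M) F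
  letI : Algebra A Γ(X, W) :=
    ((QCoh.rres (le_top : W ≤ ⊤)).hom.comp (φA (A := A) (X := X))).toAlgebra
  let N := Sec (φA (A := A)) (pullTilde (X := X) M) (le_top : W ≤ ⊤)
  let S := Sec (φA (A := A)) F (le_top : W ≤ ⊤)
  letI : Module Γ(X, W) N := secMod (φA (A := A)) (pullTilde (X := X) M) (le_top : W ≤ ⊤)
  letI : Module Γ(X, W) S := secMod (φA (A := A)) F (le_top : W ≤ ⊤)
  haveI : IsScalarTower A Γ(X, W) N := IsScalarTower.of_algebraMap_smul fun _ _ => rfl
  haveI : IsScalarTower A Γ(X, W) S := IsScalarTower.of_algebraMap_smul fun _ _ => rfl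
  have hbc : IsBaseChange Γ(X, W) (uA M W) := isBaseChange_uA M hW
  let eL := (AlgebraTensorModule.cancelBaseChange A Γ(X, W) Γ(X, W) S M).symm ≪≫ₗ
      TensorProduct.congr (LinearEquiv.refl _ S) hbc.equiv ≪≫ₗ
      TensorProduct.comm Γ(X, W) S N
  let e : S ⊗[A] M ≃ N ⊗[Γ(X, W)] S := eL.toEquiv
  have hb := bijective_of_stalkwise hW
    (LimTop.TensorQC.isStalkwiseLoc_secMap (pullTilde (X := X) M) F hW)
  have key : ∀ z, kap F M W z = LimTop.TensorQC.secMap (pullTilde (X := X) M) F W (e z) := by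
    intro z
    induction z using TensorProduct.induction_on with
    | zero =>
      exact (map_zero (kap F M W)).trans ((congrArg _ (map_zero eL)).trans (map_zero _)).symm
    | tmul s m =>
      refine (kap_tmul F M W s m).trans ?_
      simp only [e, eL, LinearEquiv.coe_toEquiv, LinearEquiv.trans_apply,
        AlgebraTensorModule.cancelBaseChange_symm_tmul, TensorProduct.congr_tmul,
        LinearEquiv.refl_apply, IsBaseChange.equiv_tmul, one_smul, TensorProduct.comm_tmul]
      rfl
    | add a b ha hb =>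
      simp only [e, eL, LinearEquiv.coe_toEquiv, map_add] at ha hb ⊢
      rw [ha, hb]
      exact (map_add (LimTop.TensorQC.secMap (pullTilde (X := X) M) F W) _ _).symm
  rw [show ⇑(kap F M W) = LimTop.TensorQC.secMap (pullTilde (X := X) M) F W ∘ e from funext key]
  exact hb.comp e.bijective

end Groth.Agent.CBC
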