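import Groth.Agent.CBC.CechOn
import Groth.Agent.CBC.SectLin
import Groth.Agent.CBC.Noeth

/-!
# The comparison from the Čech complex to sections of higher direct images over affine opens
-/

universe u

open CategoryTheory CategoryTheory.Limits Opposite TopologicalSpace AlgebraicGeometry Function

namespace Groth.Agent.CBC

open Groth.Agent.CohAff (inter inter_le le_inter mem_inter Cochain cd cd_apply cd_cd cmap cd_cmap
  toH toH_congr toH_add toH_map toH_cd res res_res res_self)

section ClSmul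

variable {X : Scheme.{u}} {ι : Type u} {W : X.Opens} {U : ι → X.Opens} (hU : ∀ i, U i ≤ W)
  (hcov : W ≤ ⨆ i, U i) (M : X.Modules) {A : Type u} [CommRing A] (φ : A →+* Γ(X, W))

/-- Čech classes are linear -/
lemma cl_smul (n : ℕ) (a : A) (x : (cx φ U hU M).H₀ n) :
    cl hU hcov M φ n (a • x) = Sheaf.H.map (smW W M (φ a)) n (cl hU hcov M φ n x) := by
  obtain ⟨z, rfl⟩ := Submodule.Quotient.mk_surjective _ x
  rw [← Submodule.Quotient.mk_smul, cl_mk, cl_mk]
  refine Eq.trans (toH_congr _ ?_ _ ((cd_cmap _ _ _ _).trans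
      ((congrArg _ (wC_cd_eq_zero M z.2)).trans (map_zero _))))
    (toH_map _ (smW W M (φ a)) _ (wC_cd_eq_zero M z.2))
  funext y
  refine Eq.trans ?_ (smW_app W M (φ a) _
    ((image_inter_wcov_le y).trans (inter_le' U y hU)) (wC M n (toC φ U hU M z.1) y)).symm
  refine (QCoh.res_smul M (image_inter_wcov_le y) _ _).trans ?_
  exact congrArg (fun r : Γ(X, W.ι ''ᵁ inter (X := W.toScheme.toPresheafedSpace.carrier) (wcov W U) y) =>
    r • (show Γ(M, W.ι ''ᵁ inter (X := W.toScheme.toPresheafedSpace.carrier) (wcov W U) y) from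
      wC (W := W) M n (toC φ U hU M z.1) y)) (QCoh.rres_rres _ _ _)

end ClSmul

variable {X S : Scheme.{u}} {f : X ⟶ S} [HasInjectiveResolutions X.Modules]
  {Δ : RDer.DerivedLES (Scheme.Modules.pushforward f)} (E : CohCmp.SectCmp f Δ)
  {V : S.Opens} (D : Model f V) (F : X.Modules) (p : ℕ)

/-- from Čech cohomology to sections of the higher direct image -/
noncomputable def θ : (D.K F).H₀ p →ₗ[Γ(S, V)] Γ((Coh.Rpush f p).obj F, V) where
  toFun x := E.ε V F p (cl D.hU D.cov F (f.app V).hom p x)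
  map_add' x y := (congrArg (E.ε V F p) (map_add _ x y)).trans (map_add _ _ _)
  map_smul' a x := (congrArg (E.ε V F p) (cl_smul D.hU D.cov F (f.app V).hom p a x)).trans
    (ε_smul f E p F V a _)

lemma θ_apply (x : (D.K F).H₀ p) : θ E D F p x = E.ε V F p (cl D.hU D.cov F (f.app V).hom p x) := rfl

section Loc

variable {E D F p} (a : Γ(S, V))

/-- the covering over a basic open -/
abbrev locU (D : Model f V) (a : Γ(S, V)) : D.ι → X.Opens := fun i => D.U i ⊓ f ⁻¹ᵁ S.basicOpen a

lemma locU_le (i : D.ι) : locU D a i ≤ f ⁻¹ᵁ S.basicOpen a := inf_le_right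

lemma locU_le_U (i : D.ι) : locU D a i ≤ D.U i := inf_le_left

lemma locU_cov : f ⁻¹ᵁ S.basicOpen a ≤ ⨆ i, locU D a i := fun z hz => by
  obtain ⟨i, hi⟩ := Opens.mem_iSup.1 (D.cov (f.preimage_mono (S.basicOpen_le a) hz))
  exact Opens.mem_iSup.2 ⟨i, hi, hz⟩

lemma inter_locU {n : ℕ} (x : Fin (n + 1) → D.ι) :
    inter (X := X.toPresheafedSpace.carrier) (locU D a) x =
      X.basicOpen (QCoh.rres (inter_le' D.U x D.hU) (f.app V a)) := by
  rw [QCoh.rres, Scheme.basicOpen_res, ← Scheme.preimage_basicOpen]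
  refine le_antisymm (le_inf (inter_mono (locU_le_U a) x) ((inter_le _ x 0).trans (locU_le a _))) ?_
  exact le_inter fun j => le_inf (inf_le_left.trans (inter_le D.U x j)) inf_le_right

lemma locU_aff {n : ℕ} (x : Fin (n + 1) → D.ι) :
    IsAffineOpen (inter (X := X.toPresheafedSpace.carrier) (locU D a) x) := by
  rw [inter_locU]
  exact (D.aff x).basicOpen _

/-- the base ring acting over the basic open -/
noncomputable abbrev φloc : Γ(S, V) →+* Γ(X, f ⁻¹ᵁ S.basicOpen a) :=
  (QCoh.rres (f.preimage_mono (S.basicOpen_le a))).hom.comp (f.app V).hom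

lemma φloc_eq (b : Γ(S, V)) :
    φloc a b = f.app (S.basicOpen a) (QCoh.rres (S.basicOpen_le a) b) :=
  (congr($(f.naturality (homOfLE (S.basicOpen_le a)).op) b)).symm

variable (D F) in
/-- the complex over a basic open -/
noncomputable abbrev locK : SCx Γ(S, V) := cx (φloc (f := f) a) (locU D a) (locU_le a) F

variable (D F) in
/-- restriction to a basic open -/
noncomputable def locHom : SCx.Hom (D.K F) (locK D F a) where
  f n :=
    { toFun := fun s => ofC (φloc (f := f) a) (locU D a) (locU_le a) F (refC (locU_le_U a) F.presheaf n (toC (f.app V).hom D.U D.hU F s))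
      map_add' := fun s t => map_add (refC (locU_le_U a) F.presheaf n) _ _
      map_smul' := fun b s => funext fun x => (QCoh.res_smul F (inter_mono (locU_le_U a) x) _ _).trans (by
        refine congrArg (fun r : Γ(X, inter (X := X.toPresheafedSpace.carrier) (locU D a) x) =>
          r • QCoh.res F (inter_mono (locU_le_U a) x) (toC (f.app V).hom D.U D.hU F s x)) ?_
        exact (QCoh.rres_rres _ _ _).trans (QCoh.rres_rres _ _ _).symm) }
  comm n s := funext fun x => (congrFun (cd_refC (locU_le_U a) F.presheaf n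
    (toC (f.app V).hom D.U D.hU F s)) x).symm

lemma locHom_apply (n : ℕ) (s : (D.K F).X n) (x : Fin (n + 1) → D.ι) :
    toC (φloc (f := f) a) (locU D a) (locU_le a) F ((locHom D F a).f n s) x =
      QCoh.res F (inter_mono (locU_le_U a) x) (toC (f.app V).hom D.U D.hU F s x) := rfl

lemma cx_pow_smul_apply {ι : Type u} {W : X.Opens} {U : ι → X.Opens} (hU : ∀ i, U i ≤ W)
    (φ : Γ(S, V) →+* Γ(X, W)) {n : ℕ} (k : ℕ) (s : (cx φ U hU F).X n) (x : Fin (n + 1) → ι) :
    toC φ U hU F (a ^ k • s) x =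
      QCoh.rres (inter_le' U x hU) (φ a) ^ k • (show Γ(F, inter U x) from toC φ U hU F s x) := by
  rw [cx_smul_apply, map_pow, map_pow]

variable [F.IsQuasicoherent]

lemma comp_loc {n : ℕ} (x : Fin (n + 1) → D.ι) :
    QCoh.IsLocalizingOn F (inter_mono (locU_le_U (D := D) a) x)
      (QCoh.rres (inter_le' D.U x D.hU) (f.app V a)) := by
  have h := QCoh.isLocalizingAt F (D.aff x) (QCoh.rres (inter_le' D.U x D.hU) (f.app V a))
  have e := inter_locU a x
  constructor
  · intro s
    obtain ⟨m, t, ht⟩ := h.surj (QCoh.res F e.ge s)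
    refine ⟨m, t, ?_⟩
    have := congrArg (QCoh.res F e.le) ht
    rwa [QCoh.res_res, QCoh.res_smul, map_pow, QCoh.rres_rres, QCoh.res_res, QCoh.res_self] at this
  · intro t ht
    refine h.eq_zero t ?_
    have := congrArg (QCoh.res F e.ge) ht
    rwa [QCoh.res_res, map_zero] at this

lemma loc_surj (n : ℕ) (c : (locK D F a).X n) :
    ∃ (k : ℕ) (s : (D.K F).X n), (locHom D F a).f n s = a ^ k • c := by
  classical
  cases nonempty_fintype D.ι
  choose m t ht using fun x => (comp_loc (F := F) a x).surj (toC (φloc (f := f) a) (locU D a) (locU_le a) F c x)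
  let k := Finset.univ.sup m
  refine ⟨k, ofC (f.app V).hom D.U D.hU F fun x =>
    QCoh.rres (inter_le' D.U x D.hU) (f.app V a) ^ (k - m x) • t x, funext fun x => ?_⟩
  refine Eq.trans ?_ (cx_pow_smul_apply a (locU_le a) (φloc a) k c x).symm
  refine (QCoh.res_smul F _ _ _).trans ?_
  rw [map_pow, ht, QCoh.rres_rres, smul_smul, ← pow_add,
    Nat.sub_add_cancel (Finset.le_sup (Finset.mem_univ x))]
  congr 2
  exact (QCoh.rres_rres _ _ _).symm

lemma loc_ker (n : ℕ) (s : (D.K F).X n) (hs : (locHom D F a).f n s = 0) :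
    ∃ k : ℕ, a ^ k • s = 0 := by
  classical
  cases nonempty_fintype D.ι
  choose m hm using fun x => (comp_loc (F := F) a x).eq_zero
    (toC (f.app V).hom D.U D.hU F s x) (congrFun hs x)
  refine ⟨Finset.univ.sup m, funext fun x => ?_⟩
  refine (cx_pow_smul_apply a D.hU _ _ s x).trans ?_
  rw [← Nat.sub_add_cancel (Finset.le_sup (f := m) (Finset.mem_univ x)), pow_add, mul_smul, hm,
    smul_zero]
  rfl

lemma loc_h₀_surj (n : ℕ) (y : (locK D F a).H₀ n) :
    ∃ (k : ℕ) (x : (D.K F).H₀ n), (locHom D F a).h₀ n x = a ^ k • y := by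
  obtain ⟨z, rfl⟩ := Submodule.Quotient.mk_surjective _ y
  obtain ⟨k, s, hs⟩ := loc_surj a n z.1
  obtain ⟨m, hm⟩ := loc_ker a (n + 1) ((D.K F).d n s) (by
    rw [(locHom D F a).comm, hs, map_smul]
    exact (congrArg (a ^ k • ·) (show (locK D F a).d n z.1 = 0 from z.2)).trans (smul_zero _))
  refine ⟨m + k, Submodule.Quotient.mk ⟨a ^ m • s, ?_⟩, ?_⟩
  · change (D.K F).d n (a ^ m • s) = 0
    rw [map_smul, hm]
  · rw [SCx.Hom.h₀_mk, ← Submodule.Quotient.mk_smul]
    refine congrArg Submodule.Quotient.mk (Subtype.ext ?_)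
    change (locHom D F a).f n (a ^ m • s) = a ^ (m + k) • z.1
    rw [map_smul, hs, smul_smul, ← pow_add]

lemma loc_h₀_ker (n : ℕ) (x : (D.K F).H₀ n) (hx : (locHom D F a).h₀ n x = 0) :
    ∃ k : ℕ, a ^ k • x = 0 := by
  obtain ⟨z, rfl⟩ := Submodule.Quotient.mk_surjective _ x
  rw [SCx.Hom.h₀_mk, Submodule.Quotient.mk_eq_zero, Submodule.mem_comap] at hx
  rcases n with _ | n
  · obtain ⟨k, hk⟩ := loc_ker a 0 z.1 hx
    exact ⟨k, (Submodule.Quotient.mk_smul ..).symm.trans
      ((congrArg Submodule.Quotient.mk (Subtype.ext hk : a ^ k • z = 0)).trans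
        (Submodule.Quotient.mk_zero _))⟩
  · obtain ⟨b, hb⟩ := hx
    obtain ⟨k, t, ht⟩ := loc_surj a n b
    obtain ⟨m, hm⟩ := loc_ker a (n + 1) (a ^ k • z.1 - (D.K F).d n t) (by
      rw [map_sub, (locHom D F a).comm, ht, map_smul, map_smul]
      exact sub_eq_zero.2 (congrArg (a ^ k • ·) hb.symm))
    refine ⟨m + k, (Submodule.Quotient.mk_smul ..).symm.trans
      ((Submodule.Quotient.mk_eq_zero _).2 ⟨a ^ m • t, ?_⟩)⟩
    change (D.K F).d n (a ^ m • t) = a ^ (m + k) • z.1
    rw [map_smul, pow_add, mul_smul]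
    exact (sub_eq_zero.1 ((smul_sub _ _ _).symm.trans hm)).symm

omit [F.IsQuasicoherent] in
lemma resLE_cl (n : ℕ) (x : (D.K F).H₀ n) :
    CohPull.resLE F (f.preimage_mono (S.basicOpen_le a)) n (cl D.hU D.cov F (f.app V).hom n x) =
      cl (locU_le a) (locU_cov a) F (φloc a) n ((locHom D F a).h₀ n x) := by
  obtain ⟨z, rfl⟩ := Submodule.Quotient.mk_surjective _ x
  rw [SCx.Hom.h₀_mk, cl_mk, cl_mk]
  exact resLE_clZ _ D.cov (locU_cov a) (locU_le_U a) F _ z.2

omit [F.IsQuasicoherent] in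
lemma ψ_smul (b : Γ(S, V)) (y : (locK D F a).H₀ p) :
    E.ε (S.basicOpen a) F p (cl (locU_le a) (locU_cov a) F (φloc a) p (b • y)) =
      QCoh.rres (S.basicOpen_le a) b •
        E.ε (S.basicOpen a) F p (cl (locU_le a) (locU_cov a) F (φloc a) p y) := by
  rw [cl_smul, φloc_eq, ε_smul]

end Loc

/-- over an affine open the comparison is bijective -/
theorem θ_bijective [IsSeparated f] [QuasiCompact f] [F.IsQuasicoherent] (hV : IsAffineOpen V) :
    Bijective (θ E D F p) := by
  let R := (Coh.Rpush f p).obj F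
  have : R.IsQuasicoherent := isQuasicoherent_Rpush f F p
  have htop : ∀ (I : Ideal Γ(S, V)), (∀ y ∈ V, ∃ a, y ∈ S.basicOpen a ∧ ∃ k : ℕ, a ^ k ∈ I) →
      (1 : Γ(S, V)) ∈ I := by
    intro I h
    have h1 : Ideal.span (I.radical : Set Γ(S, V)) = ⊤ := by
      refine hV.iSup_basicOpen_eq_self_iff.1 (le_antisymm (iSup_le fun r => S.basicOpen_le _)
        fun y hy => ?_)
      obtain ⟨a, hya, k, hk⟩ := h y hy
      exact Opens.mem_iSup.2 ⟨⟨a, k, hk⟩, hya⟩
    rw [Ideal.span_eq] at h1
    exact (Ideal.eq_top_iff_one I).1 (Ideal.radical_eq_top.1 h1)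
  refine ⟨(injective_iff_map_eq_zero _).2 fun x hx => ?_, fun t => ?_⟩
  · have := htop (LinearMap.ker (LinearMap.toSpanSingleton Γ(S, V) ((D.K F).H₀ p) x)) fun y hy => by
      obtain ⟨W, hW, hyW, h0⟩ := (CohBase.cmpOf E).exists_locally_eq_zero p F V _ hx y hy
      obtain ⟨a, haW, hya⟩ := hV.exists_basicOpen_le ⟨y, hyW⟩ hy
      have h1 : CohPull.resLE F (f.preimage_mono (S.basicOpen_le a)) p
          (cl D.hU D.cov F (f.app V).hom p x) = 0 := by
        exact ((CohBase.honTheory X).res_res p F (f.preimage_mono hW) (f.preimage_mono haW) _).symm.trans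
          ((congrArg _ h0).trans (map_zero _))
      rw [resLE_cl, map_eq_zero_iff _ (cl_bijective (locU_le a) (locU_cov a) F (φloc a)
        (locU_aff a) p).1] at h1
      obtain ⟨k, hk⟩ := loc_h₀_ker a p x h1
      exact ⟨a, hya, k, hk⟩
    simpa using this
  · have := htop (Submodule.comap (LinearMap.toSpanSingleton Γ(S, V) Γ(R, V) t)
        (LinearMap.range (θ E D F p))) fun y hy => by
      obtain ⟨W, hW, hyW, x', hx'⟩ := (CohBase.cmpOf E).exists_locally p F V t y hy
      obtain ⟨a, haW, hya⟩ := hV.exists_basicOpen_le ⟨y, hyW⟩ hy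
      obtain ⟨z', hz'⟩ := (cl_bijective (locU_le a) (locU_cov a) F (φloc a) (locU_aff a) p).2
        (CohPull.resLE F (f.preimage_mono haW) p x')
      obtain ⟨k, z, hz⟩ := loc_h₀_surj a p z'
      have h2 : QCoh.res R (S.basicOpen_le a) (θ E D F p z - a ^ k • t) = 0 := by
        rw [map_sub, sub_eq_zero, θ_apply]
        refine ((CohBase.cmpOf E).res p F (S.basicOpen_le a) _).symm.trans ?_
        refine (congrArg (E.ε _ F p) (resLE_cl a p z)).trans ?_
        rw [hz, ψ_smul, hz']
        refine (congrArg _ (((CohBase.cmpOf E).res p F haW x').trans (congrArg _ hx'))).trans ?_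
        rw [QCoh.res_res, QCoh.res_smul]
      obtain ⟨m, hm⟩ := (QCoh.isLocalizingAt R hV a).eq_zero _ h2
      refine ⟨a, hya, m + k, a ^ m • z, ?_⟩
      rw [map_smul]
      change _ = a ^ (m + k) • t
      rw [pow_add, mul_smul]
      exact sub_eq_zero.1 ((smul_sub _ _ _).symm.trans hm)
    simpa using this

end Groth.Agent.CBC
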