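import Groth.Agent.DefAmple27.Point
import Groth.Agent.NodalLib.NodeSplit
import Groth.Agent.AmpleLib.Ideal
import Groth.Agent.ResK0.Rank
import Groth.Agent.S7374
import Groth.Agent.S16188
import Groth.Agent.S17288
import Groth.Agent.FormalFun.TowerVan
import Groth.Agent.VBLib.RRGeom
import Groth.Agent.FBase.BC
import Groth.Agent.EulerChar.Restrict
import Groth.Agent.RedSub.Basic
import Groth.Agent.BigVol.PowReg
import Groth.Prelude.Def_CurvBase

/-!
# `H¹` of twisted ideals of subcurves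
-/

set_option autoImplicit false
universe u
open AlgebraicGeometry CategoryTheory CategoryTheory.Limits

noncomputable section

namespace Groth.Agent.CBC.TreeH1

open Groth.Agent.QCoh Groth.Agent.ProjTwist TopologicalSpace OmegaSh
open Groth.Agent.PullStalk.Sky Groth.Agent.PullStalk.Exact Groth.Agent.Omega.Stalks

set_option linter.style.haveILetI false
set_option backward.isDefEq.respectTransparency.types false
set_option maxHeartbeats 400000

variable {k : Type u} [Field k] [IsAlgClosed k] {C : Scheme.{u}} [C.Over (Spec (CommRingCat.of k))]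
  [IsProper (C ↘ (Spec (CommRingCat.of k)))] [IsReduced C] [ConnectedSpace C]

local notation "I⟦" T "⟧" => Scheme.IdealSheafData.vanishingIdeal T

include k in
/-- The ideal of a connected closed subset has no `H¹`. -/
theorem h1_ideal (hg : Subsingleton (Coh.HH C (Coh.structureModule C) 1)) (T : Closeds C)
    (hT : _root_.IsConnected (T : Set C)) : Subsingleton (Coh.HH C (ClSub.idealMod I⟦T⟧) 1) := by
  let D : C.IdealSheafData := I⟦T⟧
  haveI : IsReduced D.subscheme := RedSub.isReduced_vanishingIdeal T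
  have hrange : Set.range D.subschemeι = (T : Set C) := by
    rw [Scheme.IdealSheafData.range_subschemeι, Scheme.IdealSheafData.coe_support_vanishingIdeal]
  haveI : ConnectedSpace D.subscheme := by
    refine connectedSpace_iff_univ.2 ⟨?_, D.subschemeι.isEmbedding.isInducing.isPreconnected_image.1 ?_⟩
    · obtain ⟨x, hx⟩ := hT.nonempty
      rw [← hrange] at hx
      obtain ⟨z, -⟩ := hx
      exact ⟨z, trivial⟩
    · rw [Set.image_univ, hrange]; exact hT.isPreconnected
  letI : D.subscheme.Over (Spec (CommRingCat.of k)) := ⟨D.subschemeι ≫ (C ↘ Spec (CommRingCat.of k))⟩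
  haveI : IsProper (D.subscheme ↘ Spec (CommRingCat.of k)) := by
    show IsProper (D.subschemeι ≫ _)
    infer_instance
  haveI : GeometricallyConnected (D.subscheme ↘ Spec (CommRingCat.of k)) :=
    FBase.BC.geometricallyConnected_of_isSepClosed _
  haveI : GeometricallyReduced (D.subscheme ↘ Spec (CommRingCat.of k)) :=
    FBase.BC.geometricallyReduced_of_isReduced_of_perfectField _
  have h0 := VBLib.finrank_H0_structure_eq_one (VBLib.bijective_toGlobal_of_geometrically k D.subscheme)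
  obtain ⟨e⟩ := EulerChar.nonempty_pushEquiv (A := k) D.subschemeι rfl (Coh.structureModule D.subscheme)
    (ProjTwist.isQuasicoherent_structureModule _) 0
  have h1 : Module.finrank k (Coh.HH C (ClSub.quotMod D) 0) = 1 := e.finrank_eq.trans h0
  let S := ShortComplex.mk (ClSub.idealModι D) (ClSub.toSubscheme D) (kernel.condition _)
  have hS : S.ShortExact := EulerChar.shortExact_ideal D
  obtain ⟨x, hx⟩ : ∃ x, CohLin.hMap S.g 0 x ≠ 0 := by
    by_contra h
    push Not at h
    have htop : ∀ y, GrModLib.topMap S.g y = 0 := fun y => by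
      let e₂ := Sheaf.H.equiv₀ (Coh.toAb S.X₂) isTerminalTop
      obtain ⟨z, rfl⟩ := e₂.surjective y
      refine (Sheaf.H.equiv₀_naturality _ _ z).trans ?_
      exact (congrArg _ (h z)).trans (map_zero _)
    have hsec : Props.GenLocus.sec S.g ⊤ = 0 := htop _
    have hg : S.g = 0 := Scheme.Modules.hom_ext _ _ fun U => ConcreteCategory.hom_ext _ _ fun a => by
      refine (Props.GenLocus.app_eq S.g U a).trans ?_
      rw [← Props.GenLocus.sec_res S.g (le_top : U ≤ ⊤), hsec, map_zero, smul_zero]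
      rfl
    haveI := hS.epi_g
    have hz : IsZero S.X₃ := (IsZero.iff_id_eq_zero _).2 (by
      rw [← cancel_epi S.g, hg, zero_comp, zero_comp])
    have : Subsingleton (Coh.HH C S.X₃ 0) := subsingleton_of_forall_eq 0 fun z => by
      rw [← CohLin.hMap_id S.X₃ 0 z, hz.eq_of_src (𝟙 S.X₃) 0]
      exact map_zero (CohLin.hMapHom S.X₃ S.X₃ 0 z)
    have h0' : Module.finrank k (Coh.HH C S.X₃ 0) = 0 := Module.finrank_zero_of_subsingleton
    exact one_ne_zero (h1.symm.trans h0')
  haveI := hg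
  refine subsingleton_of_forall_eq 0 fun y => ?_
  obtain ⟨z, rfl⟩ := CohLin.exists_hδ_eq hS (n := 0) y (Subsingleton.elim _ _)
  obtain ⟨c, hc⟩ := (finrank_eq_one_iff_of_nonzero' (CohLin.overLin k (CohLin.hMap S.g 0) x)
    (by rwa [CohLin.overLin_apply])).1 h1 z
  rw [← hc, ← map_smul, CohLin.overLin_apply]
  exact CohLin.hδ_hMap_g hS _

variable {F : C.Modules} {r : ℕ}

include k in
theorem nonempty_kerIso (IT IZ J : C.IdealSheafData) (hJ : J = IT ⊓ IZ) :
    Nonempty (ClSub.idealMod J ≅ kernel (Abelian.factorThruImage (ClSub.idealModι IT ≫ ClSub.toSubscheme IZ))) := by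
  haveI := EulerChar.isNoetherian k (X := C)
  have hle : J ≤ IT := hJ ▸ inf_le_left
  have hle' : J ≤ IZ := hJ ▸ inf_le_right
  let c : ClSub.idealMod IT ⟶ ClSub.quotMod IZ := ClSub.idealModι IT ≫ ClSub.toSubscheme IZ
  let c₀ := Abelian.factorThruImage c
  have hc : c₀ ≫ Abelian.image.ι c = c := Abelian.image.fac c
  let a := NodalLib.leHom hle
  have hac : a ≫ c = 0 := by
    show a ≫ ClSub.idealModι IT ≫ ClSub.toSubscheme IZ = 0
    rw [← Category.assoc, NodalLib.leHom_ι, ← NodalLib.leHom_ι hle', Category.assoc]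
    exact (congrArg (_ ≫ ·) (kernel.condition _)).trans comp_zero
  have hac₀ : a ≫ c₀ = 0 := by
    rw [← cancel_mono (Abelian.image.ι c), Category.assoc, hc, hac, zero_comp]
  let φ : ClSub.idealMod J ⟶ kernel c₀ := kernel.lift c₀ a hac₀
  have hk : kernel.ι c₀ ≫ c = 0 :=
    (congrArg (kernel.ι c₀ ≫ ·) hc.symm).trans (by rw [← Category.assoc, kernel.condition, zero_comp])
  haveI : (ClSub.idealMod J).IsQuasicoherent := AmpleLib.isQCoh_idealMod _
  haveI : (ClSub.idealMod IT).IsQuasicoherent := AmpleLib.isQCoh_idealMod _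
  haveI : (Abelian.image c).IsQuasicoherent :=
    (CohDev.isCoh_image c (BigVol.PowReg.isCoh_idealMod IT) (EulerChar.isCoh_quotMod k IZ).1).1
  haveI : (kernel c₀).IsQuasicoherent := QCoh.isQuasicoherent_kernel c₀
  haveI : IsIso φ := CohAff.isIso_of_affine_bijective _ fun W hW => by
    have hφι : ∀ s, idealSect IT W ((kernel.ι c₀).app W (φ.app W s)) = idealSect J W s := fun s =>
      congrArg (fun m : ClSub.idealMod J ⟶ Coh.structureModule C => m.app W s)
        ((congrArg (· ≫ ClSub.idealModι IT) (kernel.lift_ι c₀ a hac₀)).trans (NodalLib.leHom_ι hle))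
    refine ⟨fun s t h => idealSect_injective _ W ((hφι s).symm.trans
      ((congrArg (fun v => idealSect IT W ((kernel.ι c₀).app W v)) h).trans (hφι t))), fun s => ?_⟩
    let b := idealSect IT W ((kernel.ι c₀).app W s)
    have hb1 : b ∈ IT.ideal ⟨W, hW⟩ := IdealSh.IdealMod.sect_mem IT ⟨W, hW⟩ _
    have hb2 : b ∈ IZ.ideal ⟨W, hW⟩ := (IdealSh.IdealMod.mem_ideal_iff IZ ⟨W, hW⟩ b).mpr
      (congrArg (fun m : kernel c₀ ⟶ ClSub.quotMod IZ => m.app W s) hk)
    have hb : b ∈ J.ideal ⟨W, hW⟩ := by rw [hJ]; exact ⟨hb1, hb2⟩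
    obtain ⟨t, ht⟩ := IdealSh.IdealMod.exists_sect _ W b ((IdealSh.IdealMod.mem_ideal_iff _ ⟨W, hW⟩ b).mp hb)
    exact ⟨t, QCoh.app_injective_of_mono (kernel.ι c₀) W (idealSect_injective IT W ((hφι t).trans ht))⟩
  exact ⟨asIso φ⟩

omit [IsAlgClosed k] [IsReduced C] [ConnectedSpace C] in
include k in
theorem h1_aux (hdim : topologicalKrullDim C = 1) (F M Q : C.Modules) (hA : Coh.IsCoh (CohDev.tens F M))
    (hAg : Curv2.IsGloballyGenerated (CohDev.tens F M)) (eQ : Q ≅ CohDev.tens Q M)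
    (h1 : Subsingleton (Coh.HH C Q 1)) : Subsingleton (Coh.HH C (CohB1.tensorMod F Q) 1) := by
  haveI := EulerChar.isNoetherian k (X := C)
  obtain ⟨ι, hι, p, hp⟩ := DefAmple27.exists_epi_tensor Q hA hAg
  haveI := hp
  have hs : Subsingleton (Coh.HH C (∐ fun _ : ι => Q) 1) :=
    haveI : ∀ _ : ι, Subsingleton (Coh.HH C Q 1) := fun _ => h1
    CohLin.subsingleton_sigma _ 1
  have hm : Subsingleton (Coh.HH C (CohB1.tensorMod Q (CohDev.tens F M)) 1) :=
    DefAmple27.h1_of_epi (k := k) hdim p hs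
  have h2 : Subsingleton (Coh.HH C (CohB1.tensorMod (CohB1.tensorMod F Q) M) 1) :=
    @AmpCrit.subsingleton_HH_of_iso C _ _ ((ProjTwist.tensAssoc Q F M).symm ≪≫
      ProjTwist.tensCongr (ProjTwist.tensComm Q F) (Iso.refl M)) 1 hm
  exact @AmpCrit.subsingleton_HH_of_iso C _ _
    (ProjTwist.tensAssoc F Q M ≪≫ ProjTwist.tensCongr (Iso.refl F) eQ.symm) 1 h2

include k in
theorem h1_quot (hdim : topologicalKrullDim C = 1) (hF : FlatMod.IsFinLocFreeOfRank r F)
    (IZ : C.IdealSheafData) (hg : Curv2.IsGloballyGenerated ((Scheme.Modules.pullback IZ.subschemeι).obj F))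
    {Q : C.Modules} (hQ : Coh.IsQCoh Q) (j : Q ⟶ ClSub.quotMod IZ) [Mono j]
    (h1 : Subsingleton (Coh.HH C Q 1)) : Subsingleton (Coh.HH C (CohB1.tensorMod F Q) 1) := by
  haveI := EulerChar.isNoetherian k (X := C)
  haveI : Q.IsQuasicoherent := hQ
  have hKilled : CohDev.Killed IZ.subschemeι.ker Q := by
    rw [Scheme.IdealSheafData.ker_subschemeι]
    intro W b hb m
    refine QCoh.app_injective_of_mono j W.1 ?_
    refine (Scheme.Modules.Hom.app_smul j b m).trans ?_
    refine Eq.trans ?_ (map_zero _).symm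
    show (IZ.subschemeι.app W.1 b) * _ = 0
    rw [(IdealSh.IdealMod.mem_ideal_iff IZ W b).mp hb, zero_mul]
  let ι := IZ.subschemeι
  let M : C.Modules := (Scheme.Modules.pushforward ι).obj (Coh.structureModule IZ.subscheme)
  have hM : Coh.IsCoh M := EulerChar.isCoh_quotMod k IZ
  have hA : Coh.IsCoh (CohDev.tens F M) := CohDev.isCoh_tens hF hM
  have hAg : Curv2.IsGloballyGenerated (CohDev.tens F M) :=
    DefAmple27.gg_of_epi (EulerChar.tensQuotIso ι F).inv inferInstance
      (FormalFun.isGloballyGenerated_push ι hg)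
  exact h1_aux (k := k) hdim F M Q hA hAg
    (CohDev.unitIsoOfKilled ι hKilled ≪≫ (EulerChar.tensQuotIso ι Q).symm) h1

include k in
theorem step (hdim : topologicalKrullDim C = 1) (hg : Subsingleton (Coh.HH C (Coh.structureModule C) 1))
    (hF : FlatMod.IsFinLocFreeOfRank r F) (T : Closeds C) (hT : _root_.IsConnected (T : Set C))
    (IZ J : C.IdealSheafData) (hJ : J = I⟦T⟧ ⊓ IZ)
    (hgg : Curv2.IsGloballyGenerated ((Scheme.Modules.pullback IZ.subschemeι).obj F))
    (hI' : Subsingleton (Coh.HH C (CohB1.tensorMod F (ClSub.idealMod J)) 1)) :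
    Subsingleton (Coh.HH C (CohB1.tensorMod F (ClSub.idealMod I⟦T⟧)) 1) := by
  haveI := EulerChar.isNoetherian k (X := C)
  obtain ⟨φ⟩ := nonempty_kerIso (k := k) I⟦T⟧ IZ J hJ
  let c : ClSub.idealMod I⟦T⟧ ⟶ ClSub.quotMod IZ := ClSub.idealModι I⟦T⟧ ≫ ClSub.toSubscheme IZ
  let c₀ := Abelian.factorThruImage c
  let S := ShortComplex.mk (kernel.ι c₀) c₀ (kernel.condition c₀)
  have hS : S.ShortExact :=
    { exact := ShortComplex.exact_of_f_is_kernel _ (kernelIsKernel c₀)
      mono_f := inferInstanceAs (Mono (kernel.ι c₀))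
      epi_g := inferInstanceAs (Epi (Abelian.factorThruImage c)) }
  have hVS := CohDev.tens_shortExact hF hS
  haveI : Subsingleton (Coh.HH C (S.map ((DCoh.tensorBi (X := C)).obj F)).X₁ 1) :=
    @AmpCrit.subsingleton_HH_of_iso C _ _ (ProjTwist.tensCongr (Iso.refl F) φ) 1 hI'
  have hQ : Coh.IsCoh (Abelian.image c) :=
    CohDev.isCoh_image c (BigVol.PowReg.isCoh_idealMod _) (EulerChar.isCoh_quotMod k IZ).1
  have hQ1 : Subsingleton (Coh.HH C (Abelian.image c) 1) :=
    DefAmple27.h1_of_epi (k := k) hdim c₀ (h1_ideal (k := k) hg T hT)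
  haveI : Subsingleton (Coh.HH C (S.map ((DCoh.tensorBi (X := C)).obj F)).X₃ 1) :=
    h1_quot (k := k) hdim hF IZ hgg hQ.1 (Abelian.image.ι c) hQ1
  exact CohLin.subsingleton_X₂ hVS (n := 1)

include k in
theorem base (hdim : topologicalKrullDim C = 1) (hg : Subsingleton (Coh.HH C (Coh.structureModule C) 1))
    (F : C.Modules) (T : Closeds C) (htop : T = ⊤) :
    Subsingleton (Coh.HH C (CohB1.tensorMod F (ClSub.idealMod I⟦T⟧)) 1) := by
  have hz : IsZero (ClSub.idealMod I⟦T⟧) := by
    refine CohDev.isZero_of_support_eq_empty (Set.eq_empty_iff_forall_notMem.2 fun x hx => ?_)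
    refine hx (subsingleton_of_forall_eq 0 fun t => ?_)
    obtain ⟨U, hU, hxU, -⟩ := exists_isAffineOpen_mem_and_subset (X := C) (Opens.mem_top x)
    have ht : idealStalk I⟦T⟧ x t ∈ NodalLib.stalkId I⟦T⟧ x := ⟨t, rfl⟩
    have hbot : (I⟦T⟧).ideal ⟨U, hU⟩ = ⊥ := eq_bot_iff.2 fun a ha => by
      rw [htop, Scheme.IdealSheafData.vanishingIdeal_top] at ha
      have hnil : IsNilpotent a := ha
      exact (Submodule.mem_bot _).2 hnil.eq_zero
    have hst : NodalLib.stalkId I⟦T⟧ x = ⊥ := by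
      rw [NodalLib.stalkId_eq _ (U := ⟨U, hU⟩) hxU, hbot, Ideal.map_bot]
    rw [hst, Submodule.mem_bot] at ht
    exact idealStalk_injective _ x (ht.trans (map_zero _).symm)
  haveI := KFlat.additive_tensorBi_flip F
  have hz' : IsZero (CohB1.tensorMod F (ClSub.idealMod I⟦T⟧)) :=
    (((DCoh.tensorBi (X := C)).flip.obj F).map_isZero hz).of_iso (ProjTwist.tensComm F _)
  haveI : Epi (0 : Coh.structureModule C ⟶ CohB1.tensorMod F (ClSub.idealMod I⟦T⟧)) :=
    ⟨fun a b _ => hz'.eq_of_src a b⟩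
  exact DefAmple27.h1_of_epi (k := k) hdim (0 : Coh.structureModule C ⟶ _) hg

end Groth.Agent.CBC.TreeH1

end
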