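import Groth.Agent.EulerChar.CurvePoint
import Groth.Agent.JacPts.Basic
import Groth.Agent.VarDim.Curve
import Groth.Agent.PicAlg.IdealPull
import Groth.Agent.IdealSh.EffCartier
import Groth.Agent.FBase.BC
import Groth.Agent.AbSch51.Fibre
import Groth.Agent.CMReg.FieldBC
import Groth.Agent.CBC.DegFam

/-!
# Twisting to one section and no `H¹`
-/

set_option autoImplicit false
set_option linter.style.haveILetI false

universe u

open CategoryTheory CategoryTheory.Limits AlgebraicGeometry TopologicalSpace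
open Groth.Agent.PullStalk.Sky Groth.Agent.PullStalk.Exact
open Groth.Agent.Props.GenLocus Groth.Agent.AmpleLib

noncomputable section

namespace Groth.Agent.EulerChar

variable {X : Scheme.{u}} (k : Type u) [Field k] [X.Over (Spec (CommRingCat.of k))]
  [IsProper (X ↘ Spec (CommRingCat.of k))] [IsIntegral X] (hdim : topologicalKrullDim X = 1)

include k hdim in
/-- Away from the zeros of a section any good point may be subtracted. -/
theorem exists_sub_points [IsAlgClosed k] {N : X.Modules} (hN : PicF.IsInvertible N)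
    [Subsingleton (Coh.HH X N 1)] (hpos : 0 < Module.finrank k (Coh.HH X N 0)) :
    ∃ Z : Set X, IsClosed Z ∧ genericPoint X ∉ Z ∧ ∀ x : X, x ∉ Z → IsClosed ({x} : Set X) →
      (IsLocalRing.maximalIdeal (X.presheaf.stalk x)).IsPrincipal →
      Subsingleton (Coh.HH X (CohDev.tens N (ClSub.idealMod (IntMult.ptIdeal x))) 1) ∧
      Module.finrank k (Coh.HH X (CohDev.tens N (ClSub.idealMod (IntMult.ptIdeal x))) 0) + 1 =
        Module.finrank k (Coh.HH X N 0) := by
  haveI := isNoetherian k (X := X)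
  have hO := PicLoc.isInvertible_structureModule X
  have hOc := VBLib.isCoh_of_ofRank (ProjTwist.isFinLocFreeOfRank_one hO)
  have hN1 := ProjTwist.isFinLocFreeOfRank_one hN
  have hNc := VBLib.isCoh_of_ofRank hN1
  haveI := Module.nontrivial_of_finrank_pos hpos
  obtain ⟨σ, hσ⟩ := exists_ne (0 : Coh.HH X N 0)
  let B := CohDev.tens N (Coh.structureModule X)
  obtain ⟨σ', hσ'⟩ : ∃ σ' : Coh.HH X B 0, σ' ≠ 0 := by
    obtain ⟨τ, hτ⟩ := (CohLin.hIso (tensOne' N) 0).surjective σ
    exact ⟨τ, fun h => hσ (by rw [← hτ, h, map_zero])⟩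
  have hB : PicF.IsInvertible B := isInvertible_tensorMod hN hO
  let s := homOfSec (ProperFin.h0Sec B σ')
  have hsec : sec s ⊤ = ProperFin.h0Sec B σ' := by
    rw [show sec s ⊤ = _ from sec_homOfSec (ProperFin.h0Sec B σ') ⊤, QCoh.res_self]
  have hs : s ≠ 0 := fun h0 => hσ' ((ProperFin.h0Sec B).injective (by
    rw [map_zero, ← hsec, h0]
    rfl))
  have hBc := isCoh_tens k hN1 hOc
  have hK : Coh.IsCoh (cokernel s) := CohDev.isCoh_cokernel s hOc.1 hBc
  refine ⟨_, CohDev.isClosed_support hK,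
    CohDev.not_mem_support_cokernel s (bijective_stalk_generic hO hB s hs).2, fun x hxZ hxc hp => ?_⟩
  have hD := isEffCartier_ptIdeal k hdim hxc hp
  have hI := IdealSh.IdealMod.isInvertible_of_isEffCartierIdeal _ hD
  have hIc := VBLib.isCoh_of_ofRank (ProjTwist.isFinLocFreeOfRank_one hI)
  have hQ := isCoh_quotMod k (IntMult.ptIdeal x)
  have hQd := (TopDimLib.topDim_le_of_subset (support_quotMod_subset _)).trans
    (dim_support_divisor _ hdim.le hD)
  obtain ⟨f, g, w, hw⟩ := exists_tens_seq k hN1 (shortExact_ideal (IntMult.ptIdeal x))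
  have hCc := isCoh_tens k hN1 hQ
  have hCd : topologicalKrullDim ↥(CohB1.support (CohDev.tens N (ClSub.quotMod (IntMult.ptIdeal x)))) ≤ 0 :=
    (TopDimLib.topDim_le_of_subset (CohDev.support_tens_subset N _)).trans hQd
  have hC1 : Module.finrank k (Coh.HH X (CohDev.tens N (ClSub.quotMod (IntMult.ptIdeal x))) 0) = 1 := by
    have h := euler_tens_of_support k hN1 hQ hQd
    rw [euler_eq_finrank_of_support k hCc hCd, euler_eq_finrank_of_support k hQ hQd,
      finrank_quotMod_ptIdeal k x] at h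
    simp only [Nat.cast_one, mul_one] at h
    exact_mod_cast h
  have hxC : x ∈ CohB1.support (CohDev.tens N (ClSub.quotMod (IntMult.ptIdeal x))) := by
    haveI := hNc.2
    haveI := hNc.1
    haveI := hQ.1
    haveI := hQ.2
    refine (LimTop.TensorQC.mem_support_tensM _ _ x).2 ⟨fun hsub => ?_, fun hsub => ?_⟩
    · obtain ⟨e⟩ := stalk_ofRank hN1 x
      haveI := e.toEquiv.subsingleton_congr.2 hsub
      exact one_ne_zero (congrFun (Subsingleton.elim (1 : Fin 1 → X.presheaf.stalk x) 0) 0)
    · have h := euler_of_isZero k (CohDev.isZero_of_support_eq_empty (M := ClSub.quotMod (IntMult.ptIdeal x))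
        (Set.eq_empty_iff_forall_notMem.2 fun z hz => by
          have hzx : z ∈ closure ({x} : Set X) :=
            CohDev.coe_support_ptIdeal x ▸ support_quotMod_subset _ hz
          rw [hxc.closure_eq, Set.mem_singleton_iff] at hzx
          exact hz (hzx ▸ hsub)))
      rw [euler_eq_finrank_of_support k hQ hQd, finrank_quotMod_ptIdeal k x] at h
      norm_num at h
  have hgne : CohLin.overLin k (CohLin.hMap g 0) ≠ 0 := fun h0 => by
    have hz : CohLin.hMap g 0 σ' = 0 := LinearMap.congr_fun h0 σ'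
    have h1 : stalkLin g x (germM B ⊤ x trivial (sec s ⊤)) = 0 := by
      rw [stalkLin_germ, hsec]
      refine Eq.trans (congrArg (germM _ ⊤ x trivial) ((ProperFin.h0Sec_hMap g σ').symm.trans
        ((congrArg (ProperFin.h0Sec _) hz).trans (map_zero _)))) ?_
      exact map_zero _
    refine hxC (subsingleton_of_forall_eq 0 fun c => ?_)
    obtain ⟨-, -, hgs⟩ := stalk_exact hw x
    obtain ⟨m, rfl⟩ := hgs c
    have hsurj : Function.Surjective (stalkLin s x) := fun m => by
      have hS : (ShortComplex.mk s (cokernel.π s) (cokernel.condition s)).ShortExact :=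
        { exact := ShortComplex.exact_of_g_is_cokernel _ (cokernelIsCokernel s)
          mono_f := mono_of_ne_zero hO hB s hs
          epi_g := inferInstanceAs (Epi (cokernel.π s)) }
      obtain ⟨-, he, -⟩ := stalk_exact hS x
      exact (he m).1 (@Subsingleton.elim _ (not_not.1 hxZ) _ _)
    obtain ⟨a, rfl⟩ := hsurj m
    obtain ⟨W, hxW, r, rfl⟩ := exists_germM_eq _ x a
    rw [stalkLin_germ]
    have e : s.app W r = (show Γ(X, W) from r) • sec s W := app_eq s W r
    rw [e, germM_smul, map_smul, ← sec_res s (le_top : W ≤ ⊤)]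
    refine Eq.trans (congrArg (fun z => _ • stalkLin g x z)
      (B.presheaf.germ_res_apply (homOfLE (le_top : W ≤ ⊤)) x hxW (sec s ⊤))) ?_
    exact (congrArg (fun z => _ • z) h1).trans (smul_zero _)
  haveI := finite_HH k _ hCc 0
  have hgsur : Function.Surjective (CohLin.overLin k (CohLin.hMap g 0)) := LinearMap.range_eq_top.1
    (Submodule.eq_top_of_finrank_eq (le_antisymm (Submodule.finrank_le _) (by
      rw [hC1]
      exact Nat.one_le_iff_ne_zero.2 fun h => hgne (LinearMap.range_eq_bot.1 (Submodule.finrank_eq_zero.1 h)))))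
  haveI : Subsingleton (Coh.HH X B 1) := (CohLin.hIso (tensOne' N) 1).toEquiv.subsingleton
  have hA1 : Subsingleton (Coh.HH X (CohDev.tens N (ClSub.idealMod (IntMult.ptIdeal x))) 1) :=
    subsingleton_of_forall_eq 0 fun y => by
      obtain ⟨z, rfl⟩ := CohLin.exists_hδ_eq hw y (Subsingleton.elim _ _)
      obtain ⟨t, rfl⟩ := hgsur z
      exact CohLin.hδ_hMap_g hw t
  refine ⟨hA1, ?_⟩
  have hA := isCoh_tens k hN1 hIc
  have h2 : ∀ {M : X.Modules}, Coh.IsCoh M → Subsingleton (Coh.HH X M 1) →
      Curv2.euler k X M = (Module.finrank k (Coh.HH X M 0) : ℤ) := fun hM h => by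
    rw [euler_eq_sum k (t := 1) fun p hp => ?_]
    · simp
    · rcases Nat.lt_or_ge 1 p with hp' | hp'
      · exact subsingleton_HH_two_le k hdim _ hp'
      · obtain rfl : p = 1 := le_antisymm hp' hp
        exact h
  have h3 := euler_add' k f g w hw hA hBc hCc
  rw [euler_eq_finrank_of_support k hCc hCd, hC1, h2 hA hA1, h2 hBc inferInstance,
    (LinearEquiv.ofBijective (CohLin.overLin k (CohLin.hMap (tensOne' N).hom 0))
      (CohLin.hIso (tensOne' N) 0).bijective).finrank_eq] at h3
  push_cast at h3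
  change Module.finrank k (Coh.HH X (CohDev.tens N (ClSub.idealMod (IntMult.ptIdeal x))) 0) + 1 = _
  omega

end Groth.Agent.EulerChar

namespace Groth.Agent.CBC.TwistOne

/-- A smooth integral scheme over a separably closed field stays integral. -/
theorem geometricallyIntegral_of_smooth {k : Type u} [Field k] [IsSepClosed k] {X : Scheme.{u}}
    (s : X ⟶ Spec (CommRingCat.of k)) [Smooth s] [IsIntegral X] : GeometricallyIntegral s := by
  rw [GeometricallyIntegral.eq_geometricallyReduced_inf_geometricallyIrreducible]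
  exact ⟨AbSch51.geometricallyReduced_of_smooth s, FBase.BC.geometricallyIrreducible_of_isSepClosed s⟩

/-- The base change of a rational point. -/
theorem exists_point {k K : Type u} [Field k] [Field K] {X X' : Scheme.{u}}
    (s : X ⟶ Spec (CommRingCat.of k)) [IsSeparated s]
    (h : Spec (CommRingCat.of K) ⟶ Spec (CommRingCat.of k)) (g : X' ⟶ X)
    (q : X' ⟶ Spec (CommRingCat.of K)) (H : IsPullback g q s h)
    (σ : Spec (CommRingCat.of k) ⟶ X) (hσ : σ ≫ s = 𝟙 _) :
    ∃ x : X', g x = σ (IsLocalRing.closedPoint k) ∧ IsClosed ({x} : Set X') ∧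
      σ.ker.comap g = IntMult.ptIdeal x := by
  haveI : IsClosedImmersion (σ ≫ s) := by rw [hσ]; infer_instance
  haveI : IsClosedImmersion σ := IsClosedImmersion.of_comp σ s
  let σ' : Spec (CommRingCat.of K) ⟶ X' := H.lift (h ≫ σ) (𝟙 _) (by simp [hσ])
  have h1 : σ' ≫ g = h ≫ σ := H.lift_fst _ _ _
  have h2 : σ' ≫ q = 𝟙 _ := H.lift_snd _ _ _
  haveI : IsSeparated q := MorphismProperty.of_isPullback H ‹IsSeparated s›
  haveI : IsClosedImmersion (σ' ≫ q) := by rw [h2]; infer_instance
  haveI : IsClosedImmersion σ' := IsClosedImmersion.of_comp σ' q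
  have sq : IsPullback σ' h g σ := by
    refine IsPullback.of_right (h₁₂ := q) (h₂₂ := s) (v₁₃ := h) ?_ h1 H.flip
    rw [h2, hσ]
    exact IsPullback.of_horiz_isIso ⟨by simp⟩
  haveI : Subsingleton ↥(Spec (CommRingCat.of K)) := inferInstanceAs (Subsingleton (PrimeSpectrum K))
  haveI : Subsingleton ↥(Spec (CommRingCat.of k)) := inferInstanceAs (Subsingleton (PrimeSpectrum k))
  let x : X' := σ' (IsLocalRing.closedPoint K)
  have hr : Set.range σ' = ({x} : Set X') := Set.ext fun y =>
    ⟨fun ⟨w, hw⟩ => by rw [← hw, Subsingleton.elim w (IsLocalRing.closedPoint K)]; rfl,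
      fun hy => ⟨_, (Set.mem_singleton_iff.1 hy).symm⟩⟩
  have hxc : IsClosed ({x} : Set X') := hr ▸ σ'.isClosedEmbedding.isClosed_range
  refine ⟨x, ?_, hxc, ?_⟩
  · show (σ' ≫ g) _ = _
    rw [h1, Scheme.Hom.comp_apply]
    exact congrArg σ (Subsingleton.elim _ _)
  · rw [← Scheme.IdealSheafData.ker_fst_of_isClosedImmersion σ g,
      ← sq.isoPullback_inv_fst, Scheme.Hom.ker_comp_of_isIso]
    exact RedSub.ker_eq_vanishingIdeal σ' _ (hr.trans hxc.closure_eq.symm)

theorem exists_twist (k : Type u) [Field k] [IsSepClosed k] (X : Scheme.{u})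
    [X.Over (Spec (CommRingCat.of k))] [IsProper (X ↘ Spec (CommRingCat.of k))]
    [Smooth (X ↘ Spec (CommRingCat.of k))] [IsIntegral X] (hdim : topologicalKrullDim X = 1)
    (K : Type u) [Field K] [IsAlgClosed K] (XK : Scheme.{u}) [XK.Over (Spec (CommRingCat.of K))]
    [IsProper (XK ↘ Spec (CommRingCat.of K))]
    (h : Spec (CommRingCat.of K) ⟶ Spec (CommRingCat.of k)) (g : XK ⟶ X)
    (H : IsPullback g (XK ↘ Spec (CommRingCat.of K)) (X ↘ Spec (CommRingCat.of k)) h)
    (L : XK.Modules) (hL : PicF.IsInvertible L) :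
    ∃ L₀ : X.Modules, PicF.IsInvertible L₀ ∧
      Module.finrank K (Coh.HH XK (CohB1.tensorMod L ((Scheme.Modules.pullback g).obj L₀)) 0) = 1 ∧
      Subsingleton (Coh.HH XK (CohB1.tensorMod L ((Scheme.Modules.pullback g).obj L₀)) 1) := by
  haveI := geometricallyIntegral_of_smooth (X ↘ Spec (CommRingCat.of k))
  haveI : IsIntegral XK := GeometricallyIntegral.geometrically_isIntegral _ g _ H
  haveI : Smooth (XK ↘ Spec (CommRingCat.of K)) :=
    MorphismProperty.of_isPullback H ‹Smooth (X ↘ Spec (CommRingCat.of k))›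
  haveI : Subsingleton ↥(Spec (CommRingCat.of K)) := inferInstanceAs (Subsingleton (PrimeSpectrum K))
  haveI : Subsingleton ↥(Spec (CommRingCat.of k)) := inferInstanceAs (Subsingleton (PrimeSpectrum k))
  have hdimK : topologicalKrullDim XK = 1 :=
    (ConsPairLib.topDim_baseChange (X ↘ Spec (CommRingCat.of k)) H).trans hdim
  haveI := FFCurve.regCurve_of_smooth k (X := X) hdim
  haveI := EulerChar.isNoetherian k (X := X)
  haveI := EulerChar.isNoetherian K (X := XK)
  haveI : Flat g := MorphismProperty.of_isPullback H.flip (inferInstance : Flat h)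
  -- an ample module
  haveI : X.IsSeparated := ⟨by
    rw [show terminal.from X = (X ↘ Spec (CommRingCat.of k)) ≫ terminal.from _ from Subsingleton.elim _ _]
    infer_instance⟩
  obtain ⟨A, hA⟩ := DimOneAmple.exists_ample_of_dim_le_one X hdim.le
  have hd := EulerChar.deg_pos_of_isAmple k hdim hA
  let AK := (Scheme.Modules.pullback g).obj A
  have hAK : PicF.IsInvertible AK := PicCl.isInvertible_pullback g hA.1
  have hdK : 0 < Curv2.deg K XK AK 1 := by
    have e1 := DegFam.euler_bc (X ↘ Spec (CommRingCat.of k)) h g (XK ↘ Spec (CommRingCat.of K)) H A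
      (Cube.Seesaw.isCoh_of_invertible hA.1)
    have e2 := DegFam.euler_bc (X ↘ Spec (CommRingCat.of k)) h g (XK ↘ Spec (CommRingCat.of K)) H
      (Coh.structureModule X) (Cube.Seesaw.isCoh_of_invertible (PicLoc.isInvertible_structureModule X))
    rw [Curv2.deg] at hd ⊢
    rw [← EulerChar.euler_iso K (PicLoc.pullbackStructureIso g)]
    simp only [AK, Nat.cast_one, one_mul] at hd ⊢
    exact lt_of_lt_of_eq hd (congrArg₂ (fun a b : ℤ => a - b) e1.symm e2.symm)
  have hLc := Cube.Seesaw.isCoh_of_invertible hL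
  obtain ⟨n₀, hn₀⟩ := EulerChar.exists_h1_vanish K hdimK hAK hdK hLc
  let a := n₀ + (Curv2.euler K XK L).natAbs + 1
  obtain ⟨ea⟩ := EulerFam.pullback_tensorPow g A a
  let e : CohB1.tensorMod L ((Scheme.Modules.pullback g).obj (CohB1.tensorPow A a)) ≅
      CohB1.tensorMod (CohB1.tensorPow AK a) L :=
    ProjTwist.tensCongr (Iso.refl L) ea ≪≫ ProjTwist.tensComm _ _
  have hAa := AmpleLib.isInvertible_tensorPow hA.1 a
  have hP := AmpleLib.isInvertible_tensorPow hAK a
  haveI hs1 : Subsingleton (Coh.HH XK (CohB1.tensorMod (CohB1.tensorPow AK a) L) 1) := hn₀ a (by omega)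
  have hpos : 1 ≤ Module.finrank K (Coh.HH XK (CohB1.tensorMod (CohB1.tensorPow AK a) L) 0) := by
    have h1 : Curv2.deg K XK (CohB1.tensorMod (CohB1.tensorPow AK a) L) (1 * 1) =
        ((1 : ℕ) : ℤ) * Curv2.deg K XK L 1 + ((1 : ℕ) : ℤ) * Curv2.deg K XK (CohB1.tensorPow AK a) 1 :=
      EulerChar.deg_tens K (ProjTwist.isFinLocFreeOfRank_one hP) hdimK.le
        (ProjTwist.isFinLocFreeOfRank_one hL)
    have h2 := EulerChar.deg_tensorPow K hdimK hAK a
    have h3 : (a : ℤ) ≤ a * Curv2.deg K XK AK 1 := le_mul_of_one_le_right (by positivity) hdK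
    have hle := EulerChar.euler_le_h0 K hdimK
      (Cube.Seesaw.isCoh_of_invertible (AmpleLib.isInvertible_tensorMod hP hL))
    simp only [Curv2.deg, Nat.mul_one, Nat.cast_one, one_mul] at h1 h2 h3
    omega
  suffices key : ∀ n : ℕ, ∀ L₀ : X.Modules, PicF.IsInvertible L₀ →
      Subsingleton (Coh.HH XK (CohB1.tensorMod L ((Scheme.Modules.pullback g).obj L₀)) 1) →
      Module.finrank K (Coh.HH XK (CohB1.tensorMod L ((Scheme.Modules.pullback g).obj L₀)) 0) = n + 1 →
      ∃ L₁ : X.Modules, PicF.IsInvertible L₁ ∧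
        Module.finrank K (Coh.HH XK (CohB1.tensorMod L ((Scheme.Modules.pullback g).obj L₁)) 0) = 1 ∧
        Subsingleton (Coh.HH XK (CohB1.tensorMod L ((Scheme.Modules.pullback g).obj L₁)) 1) by
    refine key (Module.finrank K (Coh.HH XK (CohB1.tensorMod (CohB1.tensorPow AK a) L) 0) - 1) _ hAa
      (CohLin.hIso e 1).toEquiv.subsingleton ?_
    rw [(LinearEquiv.ofBijective (CohLin.overLin K (CohLin.hMap e.hom 0))
      (CohLin.hIso e 0).bijective).finrank_eq]
    omega
  intro n
  induction n with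
  | zero => exact fun L₀ h₀ h1 hn => ⟨L₀, h₀, hn, h1⟩
  | succ n ih =>
    intro L₀ h₀ h1 hn
    let N := CohB1.tensorMod L ((Scheme.Modules.pullback g).obj L₀)
    have hN : PicF.IsInvertible N :=
      AmpleLib.isInvertible_tensorMod hL (PicCl.isInvertible_pullback g h₀)
    have hn₂ : Module.finrank K (Coh.HH XK N 0) = n + 1 + 1 := hn
    obtain ⟨Z, hZ, hξ, hsub⟩ := EulerChar.exists_sub_points K hdimK hN (by omega)
    haveI : CompactSpace XK := EulerChar.compactSpace K
    have hfin : Z.Finite := VarDim.finite_of_isClosed K hdimK hZ hξ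
    have hfin' : {z : ZetaLib.ClosedPt X | z.1 ∈ g '' Z}.Finite :=
      ((hfin.image g).preimage Subtype.val_injective.injOn)
    obtain ⟨σ, hσ, hav⟩ := JacPts.exists_ratPt_avoid X k hdim hfin'.toFinset
    obtain ⟨x, hx, hxc, hker⟩ := exists_point (X ↘ Spec (CommRingCat.of k)) h g _ H σ hσ
    have hσc := JacPts.isClosedImmersion_ratPt k hσ
    have hxZ : x ∉ Z := fun hxZ => by
      refine hav (JacPts.cpt k hσ) ?_ rfl
      rw [Set.Finite.mem_toFinset]
      exact ⟨x, hxZ, hx⟩
    haveI := FFCurve.regCurve_of_smooth K (X := XK) hdimK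
    haveI := FFCurve.isDVR K hdimK hxc
    obtain ⟨h1', hn'⟩ := hsub x hxZ hxc inferInstance
    have hI := JacPts.isInvertible_ker k hdim hσ
    have hD : BlowUp.IsEffCartierIdeal σ.ker := by
      rw [JacPts.ker_eq_pointI k hdim hσ]
      intro y
      obtain ⟨U, f, -, hy, hf, he, -⟩ := FFCurve.exists_equation k hdim (JacPts.cpt k hσ) y
      exact ⟨U, hy, f, hf, he⟩
    obtain ⟨ei⟩ := PicAlg.nonempty_pullback_idealMod g σ.ker hD (IdealSh.EffCartier.comap_of_flat g hD)
    rw [← hker] at h1' hn'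
    let e' : CohB1.tensorMod L ((Scheme.Modules.pullback g).obj (CohB1.tensorMod L₀ (ClSub.idealMod σ.ker))) ≅
        CohDev.tens N (ClSub.idealMod (σ.ker.comap g)) :=
      ProjTwist.tensCongr (Iso.refl L) (KFlat.PullTensor.pullTensorIso g L₀ (ClSub.idealMod σ.ker)) ≪≫
        (ProjTwist.tensAssoc L ((Scheme.Modules.pullback g).obj L₀) _).symm ≪≫
        ProjTwist.tensCongr (Iso.refl N) ei
    refine ih (CohB1.tensorMod L₀ (ClSub.idealMod σ.ker)) (AmpleLib.isInvertible_tensorMod h₀ hI)
      (CohLin.hIso e' 1).toEquiv.subsingleton ?_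
    rw [(LinearEquiv.ofBijective (CohLin.overLin K (CohLin.hMap e'.hom 0))
      (CohLin.hIso e' 0).bijective).finrank_eq]
    omega

end Groth.Agent.CBC.TwistOne
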