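import Groth.Agent.BigVol.CohBound
import Groth.Agent.NumTriv.FlatFibre
import Groth.Agent.S4698
import Groth.Agent.CBC.DegFam
import Groth.Agent.CBC.Noeth
import Groth.Agent.CBC.Crit
import Groth.Agent.S0002
import Groth.Agent.EulerFam.Tau
import Groth.Agent.KFlat.PullTensor

/-!
# Uniform bounds for the cohomology of twists on the fibres
-/

set_option autoImplicit false
set_option linter.style.haveILetI false

universe u

open CategoryTheory CategoryTheory.Limits AlgebraicGeometry TopologicalSpace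
open Groth.Agent.ProjTwist Groth.Agent.Props.GenLocus Groth.Agent.AmpleLib
open scoped TensorProduct

noncomputable section

namespace Groth.Agent.CBC.UnifBound

open PullStalk.Exact PullStalk.Sky BigVol.CohBound

section stalk

open NumTriv.FlatFibre

variable {X Y X' Y' : Scheme.{u}} {p : X' ⟶ X} {q : X' ⟶ Y'} {f : X ⟶ Y} {g : Y' ⟶ Y}
  (sq : IsPullback p q f g)

include sq in
/-- pointwise version of `NumTriv.FlatFibre.injective_stalk` -/
theorem injective_stalk_at {S : ShortComplex X.Modules} (hS : S.ShortExact) (x' : X')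
    (hfl : FlatMod.IsFlatOverAt f S.X₃ (p x')) :
    Function.Injective (stalkLin ((Scheme.Modules.pullback p).map S.f) x') := by
  have he : g (q x') = f (p x') := by rw [← Scheme.Hom.comp_apply, ← Scheme.Hom.comp_apply, sq.w]
  let φ : Y.presheaf.stalk (f (p x')) ⟶ Y'.presheaf.stalk (q x') :=
    Y.presheaf.stalkSpecializes (specializes_of_eq he) ≫ g.stalkMap (q x')
  let : Algebra (Y.presheaf.stalk (f (p x'))) (X.presheaf.stalk (p x')) := (f.stalkMap (p x')).hom.toAlgebra
  let : Algebra (Y.presheaf.stalk (f (p x'))) (Y'.presheaf.stalk (q x')) := φ.hom.toAlgebra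
  let : Algebra (X.presheaf.stalk (p x')) (X'.presheaf.stalk x') := (p.stalkMap x').hom.toAlgebra
  let : Algebra (Y'.presheaf.stalk (q x')) (X'.presheaf.stalk x') := (q.stalkMap x').hom.toAlgebra
  let : Algebra (Y.presheaf.stalk (f (p x'))) (X'.presheaf.stalk x') :=
    (f.stalkMap (p x') ≫ p.stalkMap x').hom.toAlgebra
  have : IsScalarTower (Y.presheaf.stalk (f (p x'))) (X.presheaf.stalk (p x')) (X'.presheaf.stalk x') :=
    IsScalarTower.of_algebraMap_eq' rfl
  have : IsScalarTower (Y.presheaf.stalk (f (p x'))) (Y'.presheaf.stalk (q x')) (X'.presheaf.stalk x') := by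
    refine IsScalarTower.of_algebraMap_eq' (congrArg CommRingCat.Hom.hom
      (?_ : f.stalkMap (p x') ≫ p.stalkMap x' = φ ≫ q.stalkMap x'))
    rw [← Scheme.Hom.stalkMap_comp, Scheme.Hom.stalkMap_congr_hom _ _ sq.w x', Category.assoc,
      Scheme.Hom.stalkMap_comp]
    rfl
  let ψ : (Y'.presheaf.stalk (q x') ⊗[Y.presheaf.stalk (f (p x'))] X.presheaf.stalk (p x'))
      →ₐ[Y.presheaf.stalk (f (p x'))] X'.presheaf.stalk x' :=
    Algebra.TensorProduct.productMap (IsScalarTower.toAlgHom _ _ _) (IsScalarTower.toAlgHom _ _ _)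
  have hflat : ψ.toRingHom.Flat := FDesc.BaseChangeStalk.flat_stalk_of_isPullback sq x'
    (CommRingCat.ofHom ψ.toRingHom)
    (by ext a; exact Algebra.TensorProduct.productMap_left_apply _ _ a)
    (by ext a; exact Algebra.TensorProduct.productMap_right_apply _ _ a) rfl rfl
  let := ψ.toRingHom.toAlgebra
  have : Module.Flat _ (X'.presheaf.stalk x') := hflat
  obtain ⟨hi, hex, hsur⟩ := stalk_exact hS (p x')
  let := FlatMod.moduleStalkOver f S.X₁ (p x')
  let := FlatMod.moduleStalkOver f S.X₂ (p x')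
  let := FlatMod.moduleStalkOver f S.X₃ (p x')
  have : IsScalarTower (Y.presheaf.stalk (f (p x'))) (X.presheaf.stalk (p x')) (S.X₁.presheaf.stalk (p x')) :=
    IsScalarTower.of_algebraMap_smul fun _ _ => rfl
  have : IsScalarTower (Y.presheaf.stalk (f (p x'))) (X.presheaf.stalk (p x')) (S.X₂.presheaf.stalk (p x')) :=
    IsScalarTower.of_algebraMap_smul fun _ _ => rfl
  have : IsScalarTower (Y.presheaf.stalk (f (p x'))) (X.presheaf.stalk (p x')) (S.X₃.presheaf.stalk (p x')) :=
    IsScalarTower.of_algebraMap_smul fun _ _ => rfl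
  have : Module.Flat (Y.presheaf.stalk (f (p x'))) (S.X₃.presheaf.stalk (p x')) := hfl
  have hinj := injective_lTensor (A := Y.presheaf.stalk (f (p x'))) (A' := Y'.presheaf.stalk (q x'))
    (B := X.presheaf.stalk (p x')) (C := X'.presheaf.stalk x')
    (RingHom.ext fun b => Algebra.TensorProduct.productMap_right_apply _ _ b)
    (stalkLin S.f (p x')) (stalkLin S.g (p x')) hi hex hsur
  obtain ⟨e₁, he₁⟩ := FDesc.Stalk.exists_stalk_equiv p S.X₁ x'
  obtain ⟨e₂, he₂⟩ := FDesc.Stalk.exists_stalk_equiv p S.X₂ x'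
  have hsq : ∀ z, stalkLin ((Scheme.Modules.pullback p).map S.f) x' (e₁ z) =
      e₂ ((stalkLin S.f (p x')).lTensor _ z) := fun z => by
    induction z using TensorProduct.induction_on with
    | zero => simp
    | add a b ha hb => simp [map_add, ha, hb]
    | tmul r t =>
      rw [LinearMap.lTensor_tmul, he₁, he₂, map_smul]
      exact congrArg (r • ·) (FDesc.Stalk.unitStalkHom_natural p S.f x' t).symm
  intro a b hab
  obtain ⟨a, rfl⟩ := e₁.surjective a
  obtain ⟨b, rfl⟩ := e₁.surjective b
  rw [hsq, hsq] at hab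
  rw [hinj (e₂.injective hab)]

end stalk

variable {X S : Scheme.{u}} {f : X ⟶ S}

theorem shortExact_map_pullback {k : Type u} [Field k] {X' : Scheme.{u}} {p : X' ⟶ X}
    {q : X' ⟶ Spec (CommRingCat.of k)} {g : Spec (CommRingCat.of k) ⟶ S}
    (sq : IsPullback p q f g) {T : ShortComplex X.Modules} (hT : T.ShortExact) (U : S.Opens)
    (hfl : ∀ x : X, f x ∈ U → FlatMod.IsFlatOverAt f T.X₃ x) (hg : ∀ z, g z ∈ U)
    [(Scheme.Modules.pullback p).PreservesZeroMorphisms] :
    (T.map (Scheme.Modules.pullback p)).ShortExact := by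
  haveI : PreservesColimitsOfSize.{0, 0} (Scheme.Modules.pullback p) :=
    (Scheme.Modules.pullbackPushforwardAdjunction p).leftAdjoint_preservesColimits
  haveI := hT.epi_g
  haveI : Epi ((Scheme.Modules.pullback p).map T.g) :=
    (Functor.preservesEpimorphisms_of_adjunction (Scheme.Modules.pullbackPushforwardAdjunction p)).preserves T.g
  refine ShortComplex.ShortExact.mk' (ShortComplex.exact_of_g_is_cokernel _
    (isColimitCoforkMapOfIsColimit' (Scheme.Modules.pullback p) T.zero hT.gIsCokernel))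
    (Omega.Stalks.mono_of_stalk fun x' => injective_stalk_at sq hT x' (hfl _ ?_)) ‹_›
  have h : f (p x') = g (q x') := by rw [← Scheme.Hom.comp_apply, sq.w, Scheme.Hom.comp_apply]
  rw [h]
  exact hg _

theorem subsingleton_stalk_pullback {X' : Scheme.{u}} (p : X' ⟶ X) (F : X.Modules) (x : X')
    (h : p x ∉ CohB1.support F) :
    Subsingleton (((Scheme.Modules.pullback p).obj F).presheaf.stalk x) := by
  letI := (p.stalkMap x).hom.toAlgebra
  haveI : Subsingleton (F.presheaf.stalk (p x)) := not_not.1 h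
  obtain ⟨e, -⟩ := FDesc.Stalk.exists_stalk_equiv p F x
  haveI : Subsingleton (X'.presheaf.stalk x ⊗[X.presheaf.stalk (p x)] F.presheaf.stalk (p x)) :=
    subsingleton_of_forall_eq 0 fun z => by
      induction z using TensorProduct.induction_on with
      | zero => rfl
      | tmul a b => rw [Subsingleton.elim b 0, TensorProduct.tmul_zero]
      | add a b ha hb => rw [ha, hb, add_zero]
  exact e.symm.toEquiv.subsingleton

/-- The bound on all field valued fibres over `U`. -/
def Bd (f : X ⟶ S) (L F : X.Modules) (d i : ℕ) (U : S.Opens) (C : ℕ) : Prop :=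
  ∀ (k : Type u) [Field k] (X' : Scheme.{u}) [X'.Over (Spec (CommRingCat.of k))]
    (p : X' ⟶ X) (τ : Spec (CommRingCat.of k) ⟶ S),
    IsPullback p (X' ↘ Spec (CommRingCat.of k)) f τ → (∀ z, τ z ∈ U) → ∀ m : ℕ,
      hh k ((Scheme.Modules.pullback p).obj F) ((Scheme.Modules.pullback p).obj L) m i ≤ C * g d m

variable [IsProper f]

theorem h_eq_fiberRank {k : Type u} [Field k] {X' : Scheme.{u}} [X'.Over (Spec (CommRingCat.of k))]
    {p : X' ⟶ X} {τ : Spec (CommRingCat.of k) ⟶ S}
    (H : IsPullback p (X' ↘ Spec (CommRingCat.of k)) f τ) {F : X.Modules} (hF : Coh.IsCoh F) (i : ℕ)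
    (z : Spec (CommRingCat.of k)) :
    h k ((Scheme.Modules.pullback p).obj F) i = CohIII.fiberRank f F i (τ z) := by
  obtain ⟨g', p', H', hp⟩ := DegFam.exists_fibre_square f τ p _ H z
  obtain ⟨φ, rfl⟩ := Spec.map_surjective g'
  letI : Algebra (S.residueField (τ z)) k := φ.hom.toAlgebra
  have e : (Scheme.Modules.pullback p).obj F ≅
      (Scheme.Modules.pullback p').obj ((Scheme.Modules.pullback (f.fiberι (τ z))).obj F) :=
    (Scheme.Modules.pullbackCongr hp.symm).app F ≪≫ ((Scheme.Modules.pullbackComp p' _).app F).symm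
  refine ((LinearEquiv.ofBijective (CohLin.overLin k (CohLin.hMap e.hom i))
    (CohLin.hIso e i).bijective).finrank_eq).trans ?_
  exact @CMReg.finrank_baseChange _ X' (S.residueField (τ z)) _ (f.fiberToSpecResidueField (τ z)) k _ _
    (DegFam.isProper_fiber f (τ z)) p' _ H' _ (ZClosLib.CohDescent.isCoh_pullback _ F hF) i

theorem h_eq_fiberRank_hom {k : Type u} [Field k] {X' : Scheme.{u}} {p : X' ⟶ X}
    (q : X' ⟶ Spec (CommRingCat.of k)) {τ : Spec (CommRingCat.of k) ⟶ S} (H : IsPullback p q f τ)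
    {F : X.Modules} (hF : Coh.IsCoh F) (i : ℕ) (z : Spec (CommRingCat.of k)) :
    @h X' k _ ⟨q⟩ ((Scheme.Modules.pullback p).obj F) i = CohIII.fiberRank f F i (τ z) :=
  @h_eq_fiberRank X S f _ k _ X' ⟨q⟩ p τ H F hF i z

theorem fiberRank_bc {X' S' : Scheme.{u}} {f' : X' ⟶ S'} [IsProper f'] {G : X' ⟶ X} {g : S' ⟶ S}
    (H : IsPullback G f' f g) {F : X.Modules} (hF : Coh.IsCoh F) (i : ℕ) (s : S') :
    CohIII.fiberRank f' ((Scheme.Modules.pullback G).obj F) i s = CohIII.fiberRank f F i (g s) := by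
  obtain ⟨z⟩ : Nonempty (Spec (S'.residueField s)) :=
    inferInstanceAs (Nonempty (PrimeSpectrum (S'.residueField s)))
  have hz : (S'.fromSpecResidueField s ≫ g) z = g s := by
    rw [Scheme.Hom.comp_apply]
    exact congrArg g (S'.fromSpecResidueField_apply s z)
  refine Eq.trans ?_ ((h_eq_fiberRank_hom (f'.fiberToSpecResidueField s)
    ((IsPullback.of_hasPullback f' (S'.fromSpecResidueField s)).paste_horiz H) hF i z).trans
      (congrArg (CohIII.fiberRank f F i) hz))
  letI : (f'.fiber s).Over (Spec (CommRingCat.of (S'.residueField s))) := ⟨f'.fiberToSpecResidueField s⟩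
  exact (LinearEquiv.ofBijective
    (CohLin.overLin (S'.residueField s) (CohLin.hMap ((Scheme.Modules.pullbackComp (f'.fiberι s) G).app F).hom i))
    (CohLin.hIso ((Scheme.Modules.pullbackComp (f'.fiberι s) G).app F) i).bijective).finrank_eq

variable [IsNoetherian S] [IsIntegral S]

/-- Over a neighbourhood of the generic point the rank is at most the generic one. -/
theorem exists_rank_le {F : X.Modules} (hF : Coh.IsCoh F) (i : ℕ) :
    ∃ (U : S.Opens) (c : ℕ), genericPoint S ∈ U ∧ ∀ s ∈ U, CohIII.fiberRank f F i s ≤ c := by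
  haveI : IsLocallyNoetherian X := LocallyOfFiniteType.isLocallyNoetherian f
  obtain ⟨U₀, ⟨u₀, hu₀⟩, hflat⟩ := S4698.result f F hF
  have hη₀ : genericPoint S ∈ U₀ := (genericPoint_specializes u₀).mem_open U₀.2 hu₀
  let g₀ := f ∣_ U₀
  haveI : IsProper g₀ := MorphismProperty.of_isPullback (isPullback_morphismRestrict f U₀).flip ‹_›
  let ι₀ := (f ⁻¹ᵁ U₀).ι
  let F₀ := (Scheme.Modules.pullback ι₀).obj F
  have hF₀ : Coh.IsCoh F₀ := ZClosLib.CohDescent.isCoh_pullback _ F hF
  have hfl₀ : FlatMod.IsFlatOver g₀ F₀ := fun x =>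
    FDesc.BaseChangeStalk.flatOverAt_baseChange (isPullback_morphismRestrict f U₀).flip x F
      (hflat _ x.2)
  haveI : IsLocallyNoetherian (U₀ : Scheme.{u}) := LocallyOfFiniteType.isLocallyNoetherian U₀.ι
  obtain ⟨V, hV, hηV, -⟩ := exists_isAffineOpen_mem_and_subset (U := (⊤ : (U₀ : Scheme.{u}).Opens))
    (x := (⟨genericPoint S, hη₀⟩ : U₀)) trivial
  haveI : F₀.IsQuasicoherent := hF₀.1
  obtain ⟨D, hD⟩ := CBC.exists_model_win hF₀ hfl₀
    (fun A _ _ Z _ _ M hM n => Groth.Agent.S0002.result A Z M hM n) hV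
  obtain ⟨w⟩ := hD i
  haveI := w.fp
  let z₀ : (U₀ : Scheme.{u}) := ⟨genericPoint S, hη₀⟩
  have h1 := CBC.kerRank_le_eventually w.u (hV.primeIdealOf ⟨z₀, hηV⟩)
  obtain ⟨O, hO, hOo, hηO⟩ := mem_nhds_iff.1 h1
  have hcont : IsOpen (hV.fromSpec '' O) := hV.fromSpec.isOpenEmbedding.isOpenMap _ hOo
  refine ⟨⟨Subtype.val '' (hV.fromSpec '' O), U₀.2.isOpenMap_subtype_val _ hcont⟩,
    CBC.kerRank w.u (hV.primeIdealOf ⟨z₀, hηV⟩), ?_, ?_⟩
  · exact ⟨z₀, ⟨_, hηO, hV.fromSpec_primeIdealOf ⟨z₀, hηV⟩⟩, rfl⟩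
  rintro _ ⟨s', ⟨y, hy, rfl⟩, rfl⟩
  have h2 := hO hy
  simp only [Set.mem_setOf_eq] at h2
  have h3 : CBC.kerRank w.u y = CohIII.fiberRank g₀ F₀ i (hV.fromSpec y) := CBC.kerRank_pt hV D w y
  rw [h3] at h2
  exact le_of_eq_of_le (fiberRank_bc (isPullback_morphismRestrict f U₀).flip hF i _).symm h2

theorem mem_of_genericPoint {U : S.Opens} {η : S} (h : η ∈ U) : genericPoint S ∈ U :=
  (genericPoint_specializes η).mem_open U.2 h

variable {A L : X.Modules} (hA : CohB1.IsAmple A) (hL : PicF.IsInvertible L)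

include hA hL in
theorem exists_bd : ∀ (d : ℕ) (F : X.Modules), Coh.IsCoh F →
    topologicalKrullDim ↥((f.fiberι (genericPoint S)) ⁻¹' CohB1.support F) < (d : WithBot ℕ∞) →
    ∀ i : ℕ, ∃ (U : S.Opens) (C : ℕ), genericPoint S ∈ U ∧ Bd f L F d i U C
  | 0, F, hF, hd, i => by
    haveI := hF.1
    have hcl : IsClosed (f '' CohB1.support F) := f.isClosedMap _ (CohDev.isClosed_support hF)
    refine ⟨⟨_, hcl.isOpen_compl⟩, 0, ?_, ?_⟩
    · rintro ⟨x, hx, hxη⟩
      have hx' : x ∈ Set.range (f.fiberι (genericPoint S)) := by rw [f.range_fiberι]; exact hxη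
      obtain ⟨w, hw⟩ := hx'
      rw [← hw] at hx
      haveI : Nonempty ↥((f.fiberι (genericPoint S)) ⁻¹' CohB1.support F) := ⟨⟨w, hx⟩⟩
      haveI : Nonempty (IrreducibleCloseds ↥((f.fiberι (genericPoint S)) ⁻¹' CohB1.support F)) :=
        ⟨⟨closure {⟨w, hx⟩}, isIrreducible_singleton.closure, isClosed_closure⟩⟩
      revert hd
      refine not_lt.2 ?_
      exact Order.krullDim_nonneg
    · intro k _ X' _ p τ H hτ m
      haveI : IsProper (X' ↘ Spec (CommRingCat.of k)) := MorphismProperty.of_isPullback H ‹_›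
      haveI := EulerChar.isNoetherian k (X := X')
      refine (hh_eq_zero k ?_ _ m i).le.trans (Nat.zero_le _)
      have hemp : CohB1.support ((Scheme.Modules.pullback p).obj F) = ∅ :=
        Set.eq_empty_iff_forall_notMem.2 fun x hx => hx (subsingleton_stalk_pullback p F x fun hpx => by
          have h := hτ ((X' ↘ Spec (CommRingCat.of k)) x)
          rw [← Scheme.Hom.comp_apply, ← H.w, Scheme.Hom.comp_apply] at h
          exact h ⟨_, hpx, rfl⟩)
      rw [hemp]
      haveI : IsEmpty (IrreducibleCloseds (∅ : Set X')) := ⟨fun s => s.isIrreducible.1.some.2⟩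
      rw [topologicalKrullDim, Order.krullDim_eq_bot]
      exact WithBot.bot_lt_coe _
  | d + 1, F, hF, hd, i => by
    classical
    haveI : IsLocallyNoetherian X := LocallyOfFiniteType.isLocallyNoetherian f
    haveI : CompactSpace X := QuasiCompact.compactSpace_of_compactSpace f
    haveI : IsNoetherian X := ⟨⟩
    have hO := LFFrame.isInvertible_structureModule X
    obtain ⟨N₁, h₁⟩ := exists_section_twist hA hL (Cube.Seesaw.isCoh_of_invertible hL)
      (S19801.finite_ass hF).toFinset
    obtain ⟨N₂, h₂⟩ := exists_section_twist hA hO (Cube.Seesaw.isCoh_of_invertible hO)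
      (S19801.finite_ass hF).toFinset
    obtain ⟨σP, hσP⟩ := h₁ (max N₁ N₂) (le_max_left _ _)
    obtain ⟨σQ, hσQ⟩ := h₂ (max N₁ N₂) (le_max_right _ _)
    let AN := CohB1.tensorPow A (max N₁ N₂)
    let P := CohB1.tensorMod L AN
    let Q := CohB1.tensorMod (Coh.structureModule X) AN
    have hAN : PicF.IsInvertible AN := AmpleLib.isInvertible_tensorPow hA.1 _
    have hP : PicF.IsInvertible P := AmpleLib.isInvertible_tensorMod hL hAN
    have hQ : PicF.IsInvertible Q := AmpleLib.isInvertible_tensorMod hO hAN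
    let eQ : CohB1.tensorMod L Q ≅ P := tensCongr (Iso.refl L) (ProjTwist.oneTens AN)
    have main : ∀ {R : X.Modules}, PicF.IsInvertible R → ∀ (s : Coh.structureModule X ⟶ R),
        (_root_.AssSch.Ass F : Set X) ⊆ CohB1.genLocus R s →
        Mono (HilbPolyX.mulSec F s) ∧ Coh.IsCoh (cokernel (HilbPolyX.mulSec F s)) ∧
        topologicalKrullDim ↥((f.fiberι (genericPoint S)) ⁻¹'
          CohB1.support (cokernel (HilbPolyX.mulSec F s))) < (d : WithBot ℕ∞) := by
      intro R hR s hs
      obtain ⟨hm, hc, -⟩ := mulSec_drop hR hF s hs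
      refine ⟨hm, hc, ?_⟩
      have := hF.1
      have := hc.1
      have hnot : ∀ y ∈ CohB1.genLocus R s, y ∉ CohB1.support (cokernel (HilbPolyX.mulSec F s)) :=
        fun y hy => CohDev.not_mem_support_cokernel _ (HilbPolyX.mulSec_bijective F s hy).2
      have hsub : CohB1.support (cokernel (HilbPolyX.mulSec F s)) ⊆ CohB1.support F := fun y hy => by
        refine HilbPolyX.support_tensorMod_subset F R (fun hsub => hy ?_)
        have : Subsingleton ((CohDev.tens F R).presheaf.stalk y) := hsub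
        exact (stalk_surjective (cokernel.π (HilbPolyX.mulSec F s)) y).subsingleton
      refine Pn.dim_add_one_le_of_forall_specializes
        ((CohDev.isClosed_support hF).preimage (f.fiberι _).continuous)
        ((CohDev.isClosed_support hc).preimage (f.fiberι _).continuous) ?_ (Set.preimage_mono hsub) hd
      intro ξ hξ
      obtain ⟨z, hz, hzξ⟩ := AssSch.Basic.exists_mem_ass_specializes F
        (not_subsingleton_iff_nontrivial.mp (hsub hξ))
      have hzη : f z = genericPoint S := by
        have h1 : f z ⤳ f (f.fiberι _ ξ) := hzξ.map f.continuous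
        have h2 : f (f.fiberι (genericPoint S) ξ) = genericPoint S := by
          have := Set.mem_range_self (f := f.fiberι (genericPoint S)) ξ
          rwa [f.range_fiberι] at this
        rw [h2] at h1
        exact (h1.antisymm (genericPoint_specializes _)).eq
      obtain ⟨w, rfl⟩ : z ∈ Set.range (f.fiberι (genericPoint S)) := by rw [f.range_fiberι]; exact hzη
      exact ⟨w, not_subsingleton_iff_nontrivial.mpr (AssSch.Basic.nontrivial_of_mem_ass F hz),
        hnot _ (hs hz), (f.fiberι _).isEmbedding.isInducing.specializes_iff.1 hzξ⟩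
    obtain ⟨mP, cP, dP⟩ := main hP (homOfSec σP) (by
      rw [genLocus_homOfSec]
      exact fun x hx => hσP ((S19801.finite_ass hF).mem_toFinset.mpr hx))
    obtain ⟨mQ, cQ, dQ⟩ := main hQ (homOfSec σQ) (by
      rw [genLocus_homOfSec]
      exact fun x hx => hσQ ((S19801.finite_ass hF).mem_toFinset.mpr hx))
    let φP := HilbPolyX.mulSec F (homOfSec σP)
    let φQ := HilbPolyX.mulSec F (homOfSec σQ)
    let FP := cokernel φP
    let FQ := cokernel φQ
    have sP : (ShortComplex.mk φP (cokernel.π φP) (cokernel.condition φP)).ShortExact :=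
      ShortComplex.ShortExact.mk' (ShortComplex.exact_cokernel _) mP (inferInstanceAs (Epi (cokernel.π φP)))
    have sQ : (ShortComplex.mk φQ (cokernel.π φQ) (cokernel.condition φQ)).ShortExact :=
      ShortComplex.ShortExact.mk' (ShortComplex.exact_cokernel _) mQ (inferInstanceAs (Epi (cokernel.π φQ)))
    obtain ⟨UP, ⟨uP, huP⟩, flP⟩ := S4698.result f FP cP
    obtain ⟨UQ, ⟨uQ, huQ⟩, flQ⟩ := S4698.result f FQ cQ
    obtain ⟨U₁, C₁, hη₁, b₁⟩ := exists_bd d FP cP dP i
    obtain ⟨U₂, C₂, hη₂, b₂⟩ := exists_bd d FQ cQ dQ (i - 1)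
    obtain ⟨U₀, c₀, hη₀, b₀⟩ := exists_rank_le (f := f)
      (isCoh_tensor (AmpleLib.isInvertible_tensorPow hL 0) hF) i
    refine ⟨UP ⊓ UQ ⊓ U₁ ⊓ U₂ ⊓ U₀, c₀ + C₁ + C₂ * 2 ^ d,
      ⟨⟨⟨⟨mem_of_genericPoint huP, mem_of_genericPoint huQ⟩, hη₁⟩, hη₂⟩, hη₀⟩, ?_⟩
    intro k _ X' _ p τ H hτ m
    haveI : IsProper (X' ↘ Spec (CommRingCat.of k)) := MorphismProperty.of_isPullback H ‹_›
    haveI := EulerChar.isNoetherian k (X := X')
    haveI : PreservesColimitsOfSize.{0, 0} (Scheme.Modules.pullback p) :=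
      (Scheme.Modules.pullbackPushforwardAdjunction p).leftAdjoint_preservesColimits
    let F' := (Scheme.Modules.pullback p).obj F
    let L' := (Scheme.Modules.pullback p).obj L
    let P' := (Scheme.Modules.pullback p).obj P
    let Q' := (Scheme.Modules.pullback p).obj Q
    have hL' : PicF.IsInvertible L' := PicCl.isInvertible_pullback p hL
    have hP' : PicF.IsInvertible P' := PicCl.isInvertible_pullback p hP
    have hQ' : PicF.IsInvertible Q' := PicCl.isInvertible_pullback p hQ
    let eQ' : CohB1.tensorMod L' Q' ≅ P' :=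
      (KFlat.PullTensor.pullTensorIso p L Q).symm ≪≫ (Scheme.Modules.pullback p).mapIso eQ
    have sP' := shortExact_map_pullback H sP UP flP (fun z => (hτ z).1.1.1.1)
    have sQ' := shortExact_map_pullback H sQ UQ flQ (fun z => (hτ z).1.1.1.2)
    have cF' : Coh.IsCoh F' := ZClosLib.CohDescent.isCoh_pullback p F hF
    have cP' : Coh.IsCoh ((Scheme.Modules.pullback p).obj FP) := ZClosLib.CohDescent.isCoh_pullback p _ cP
    have cQ' : Coh.IsCoh ((Scheme.Modules.pullback p).obj FQ) := ZClosLib.CohDescent.isCoh_pullback p _ cQ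
    have step : ∀ n : ℕ, hh k F' L' (n + 1) i ≤ hh k F' L' n i +
        hh k ((Scheme.Modules.pullback p).obj FP) L' n i +
        hh k ((Scheme.Modules.pullback p).obj FQ) L' (n + 1) (i - 1) := by
      intro n
      have hT := AmpleLib.isInvertible_tensorPow hL' n
      have hTL := AmpleLib.isInvertible_tensorPow hL' (n + 1)
      have cM : ∀ {R : X.Modules}, PicF.IsInvertible R →
          Coh.IsCoh ((Scheme.Modules.pullback p).obj (CohDev.tens F R)) :=
        fun hR => ZClosLib.CohDescent.isCoh_pullback p _ (isCoh_tensor hR hF)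
      have tP := (h_triangle k (shortExact_tensor hT sP') (isCoh_tensor hT cF')
        (isCoh_tensor hT (cM hP)) (isCoh_tensor hT cP') i).1
      have tQ := (h_triangle k (shortExact_tensor hTL sQ') (isCoh_tensor hTL cF')
        (isCoh_tensor hTL (cM hQ)) (isCoh_tensor hTL cQ') i).2.1
      have hmid : h k (CohB1.tensorMod ((Scheme.Modules.pullback p).obj (CohDev.tens F Q))
            (CohB1.tensorPow L' (n + 1))) i =
          h k (CohB1.tensorMod ((Scheme.Modules.pullback p).obj (CohDev.tens F P))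
            (CohB1.tensorPow L' n)) i := by
        refine Pn.finrank_hh_iso (k := k) ?_ i
        exact tensCongr (KFlat.PullTensor.pullTensorIso p F Q) (Iso.refl _) ≪≫
          (midIso hL' hQ' hP' eQ' F' hT).some ≪≫
          tensCongr (KFlat.PullTensor.pullTensorIso p F P).symm (Iso.refl _)
      change h k (CohB1.tensorMod ((Scheme.Modules.pullback p).obj (CohDev.tens F P))
        (CohB1.tensorPow L' n)) i ≤ hh k F' L' n i + hh k ((Scheme.Modules.pullback p).obj FP) L' n i at tP
      change hh k F' L' (n + 1) i ≤ h k (CohB1.tensorMod ((Scheme.Modules.pullback p).obj (CohDev.tens F Q))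
        (CohB1.tensorPow L' (n + 1))) i + hh k ((Scheme.Modules.pullback p).obj FQ) L' (n + 1) (i - 1) at tQ
      omega
    show hh k F' L' m i ≤ _
    induction m with
    | zero =>
      simp only [g, one_pow, zero_add, mul_one]
      have hh0 : hh k F' L' 0 i ≤ c₀ := by
        obtain ⟨z⟩ : Nonempty (Spec (CommRingCat.of k)) := inferInstanceAs (Nonempty (PrimeSpectrum k))
        refine le_of_eq_of_le ?_ (b₀ (τ z) (hτ z).2)
        rw [← h_eq_fiberRank H (isCoh_tensor (AmpleLib.isInvertible_tensorPow hL 0) hF) i z]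
        exact Pn.finrank_hh_iso (k := k) (tensCongr (Iso.refl _) (EulerFam.pullback_tensorPow p L 0).some.symm ≪≫
          (KFlat.PullTensor.pullTensorIso p F _).symm) i
      omega
    | succ m ih =>
      have a := step m
      have b := Nat.mul_le_mul_left (c₀ + C₁ + C₂ * 2 ^ d) (g_step d m)
      have c := (b₂ k X' p τ H (fun z => (hτ z).1.2) (m + 1)).trans (Nat.mul_le_mul_left C₂ (g_shift d m))
      have e := b₁ k X' p τ H (fun z => (hτ z).1.1.2) m
      rw [Nat.mul_add] at b
      nlinarith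

end Groth.Agent.CBC.UnifBound
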