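import Groth.Agent.CBC.UnifBound
import Groth.Agent.S16188
import Groth.Agent.Wt.GenFibCons
import Groth.Agent.FibCodepth.GenTop
import Groth.Agent.AmpleLib.Locus
import Groth.Agent.ProjMorph.Ample
import Groth.Agent.TwistFlat.Flatten
import Groth.Agent.CohTop.Vanishing
import Groth.Agent.ConsPairLib.DimCons
import Groth.Agent.MonoVal.Immersion

/-!
# Uniform polynomial bounds over a Noetherian base
-/

set_option autoImplicit false
set_option linter.style.haveILetI false

universe u

open CategoryTheory CategoryTheory.Limits AlgebraicGeometry TopologicalSpace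

noncomputable section

namespace Groth.Agent.CBC.UnifBound

open BigVol.CohBound Groth.Agent.ProjTwist

/-- Reading the bound on the fibre over a point. -/
theorem fiberRank_le_of_bd {X S : Scheme.{u}} {f : X ⟶ S} [IsProper f] {L F : X.Modules}
    (hL : PicF.IsInvertible L) (hF : Coh.IsCoh F) {d i C : ℕ} {U : S.Opens}
    (h : Bd f L F d i U C) {s : S} (hs : s ∈ U) (m : ℕ) :
    CohIII.fiberRank f (CohB1.tensorMod F (CohB1.tensorPow L m)) i s ≤ C * g d m := by
  letI : (f.fiber s).Over (Spec (CommRingCat.of (S.residueField s))) := ⟨f.fiberToSpecResidueField s⟩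
  refine le_of_eq_of_le ?_ (h (S.residueField s) (f.fiber s) (f.fiberι s) (S.fromSpecResidueField s)
    (IsPullback.of_hasPullback f (S.fromSpecResidueField s))
    (fun z => by rw [S.fromSpecResidueField_apply s z]; exact hs) m)
  exact Pn.finrank_hh_iso (k := S.residueField s) (KFlat.PullTensor.pullTensorIso (f.fiberι s) F _ ≪≫
    ProjTwist.tensCongr (Iso.refl _) (EulerFam.pullback_tensorPow (f.fiberι s) L m).some) i

theorem fiberRank_eq_zero_of_dim {X S : Scheme.{u}} (f : X ⟶ S) [IsProper f] (M : X.Modules) {t : S}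
    {e i : ℕ} (he : topologicalKrullDim ↥(f.fiber t) ≤ e) (hi : e < i) :
    CohIII.fiberRank f M i t = 0 := by
  letI : (f.fiber t).Over (Spec (CommRingCat.of (S.residueField t))) := ⟨f.fiberToSpecResidueField t⟩
  haveI : IsProper (f.fiber t ↘ Spec (CommRingCat.of (S.residueField t))) := DegFam.isProper_fiber f t
  haveI := EulerChar.isNoetherian (S.residueField t) (X := f.fiber t)
  haveI : Subsingleton (CohIII.fiberH f M t i) :=
    CohTop.Vanishing.grothendieck_vanishing (X := (f.fiber t).toPresheafedSpace.carrier) e he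
      (Coh.toAb (CohIII.fiberMod f M t)) i hi
  exact Module.finrank_zero_of_subsingleton

/-- the fibres of a base change have the same dimension -/
theorem topDim_fiber_bc {X X' S S' : Scheme.{u}} {f : X ⟶ S} [IsProper f] {f' : X' ⟶ S'}
    {G : X' ⟶ X} {g : S' ⟶ S} (H : IsPullback G f' f g) (s : S') :
    topologicalKrullDim ↥(f'.fiber s) = topologicalKrullDim ↥(f.fiber (g s)) := by
  obtain ⟨z⟩ : Nonempty (Spec (S'.residueField s)) :=
    inferInstanceAs (Nonempty (PrimeSpectrum (S'.residueField s)))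
  obtain ⟨g', p', H', -⟩ := DegFam.exists_fibre_square f (S'.fromSpecResidueField s ≫ g)
    (f'.fiberι s ≫ G) (f'.fiberToSpecResidueField s)
    ((IsPullback.of_hasPullback f' (S'.fromSpecResidueField s)).paste_horiz H) z
  haveI := DegFam.isProper_fiber f ((S'.fromSpecResidueField s ≫ g) z)
  haveI : ∀ (K : Type u) [Field K], Subsingleton ↥(Spec (CommRingCat.of K)) := fun K _ =>
    inferInstanceAs (Subsingleton (PrimeSpectrum K))
  refine (ConsPairLib.topDim_baseChange (f.fiberToSpecResidueField _) H').trans ?_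
  have hz : (S'.fromSpecResidueField s ≫ g) z = g s := by
    rw [Scheme.Hom.comp_apply]
    exact congrArg g (S'.fromSpecResidueField_apply s z)
  exact congrArg (fun t => topologicalKrullDim ↥(f.fiber t)) hz

theorem exists_uniform_generic {X S : Scheme.{u}} (f : X ⟶ S) [IsProper f] [IsNoetherian S] [IsIntegral S]
    {A : X.Modules} (hA : CohB1.IsAmple A) {L F : X.Modules} (hL : PicF.IsInvertible L) (hF : Coh.IsCoh F) :
    ∃ (U : S.Opens) (C : ℕ), genericPoint S ∈ U ∧ ∀ s ∈ U, ∀ e : ℕ,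
      topologicalKrullDim ↥(f.fiber s) = e → ∀ m : ℕ, 1 ≤ m → ∀ i : ℕ,
        CohIII.fiberRank f (CohB1.tensorMod F (CohB1.tensorPow L m)) i s ≤ C * m ^ e := by
  classical
  haveI : LocallyOfFinitePresentation f := MonoVal.locallyOfFinitePresentation_of_lft f
  let D := topologicalKrullDim ↥(f.fiber (genericPoint S))
  have hcons := Wt.GenFib.isLocallyConstructible_topDim f D
  obtain ⟨U₀, hη₀, hU₀⟩ := FibCodepth.exists_opens_of_mem hcons rfl
  by_cases hD : ∃ e₀ : ℕ, D = e₀
  swap
  · exact ⟨U₀, 0, hη₀, fun s hs e he => absurd ⟨e, (hU₀ hs).symm.trans he⟩ hD⟩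
  obtain ⟨e₀, he₀⟩ := hD
  have hsupp : topologicalKrullDim ↥((f.fiberι (genericPoint S)) ⁻¹' CohB1.support F) <
      ((e₀ + 1 : ℕ) : WithBot ℕ∞) :=
    lt_of_le_of_lt ((topologicalKrullDim_subspace_le _ _).trans he₀.le) (by exact_mod_cast e₀.lt_succ_self)
  choose U C hη hb using fun i => exists_bd (f := f) hA hL (e₀ + 1) F hF hsupp i
  refine ⟨U₀ ⊓ (Finset.range (e₀ + 1)).inf U, (Finset.range (e₀ + 1)).sum C * 2 ^ e₀, ⟨hη₀, ?_⟩, ?_⟩
  · refine Finset.inf_induction (p := fun V : S.Opens => genericPoint S ∈ V) trivial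
      (fun V hV W hW => ⟨hV, hW⟩) fun i _ => hη i
  intro s hs e he m hm i
  have hee : e = e₀ := by exact_mod_cast he.symm.trans ((hU₀ hs.1).trans he₀)
  subst hee
  by_cases hi : e < i
  · rw [fiberRank_eq_zero_of_dim f _ he.le hi]
    exact Nat.zero_le _
  have hir : i ∈ Finset.range (e + 1) := Finset.mem_range.2 (by omega)
  refine (fiberRank_le_of_bd hL hF (hb i) (Finset.inf_le (f := U) hir hs.2) m).trans ?_
  show C i * (m + 1) ^ e ≤ _
  calc C i * (m + 1) ^ e ≤ (Finset.range (e + 1)).sum C * (2 * m) ^ e :=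
        Nat.mul_le_mul (Finset.single_le_sum (fun _ _ => Nat.zero_le _) hir) (Nat.pow_le_pow_left (by omega) e)
    _ = _ := by rw [mul_pow, mul_assoc]

theorem exists_uniform_closed {X T : Scheme.{u}} [IsNoetherian T] (f : X ⟶ T) [IsProper f] {r : ℕ}
    (ι : X ⟶ CohB1.ProjSpaceOver r T) [IsClosedImmersion ι]
    (hι : ι ≫ CohB1.ProjSpaceOver.toBase r T = f) {L F : X.Modules} (hL : PicF.IsInvertible L)
    (hF : Coh.IsCoh F) (Z : Closeds T) :
    ∃ C : ℕ, ∀ t ∈ Z, ∀ e : ℕ, topologicalKrullDim ↥(f.fiber t) = e → ∀ m : ℕ, 1 ≤ m → ∀ i : ℕ,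
      CohIII.fiberRank f (CohB1.tensorMod F (CohB1.tensorPow L m)) i t ≤ C * m ^ e := by
  haveI : IsLocallyNoetherian X := LocallyOfFiniteType.isLocallyNoetherian f
  haveI : CompactSpace X := QuasiCompact.compactSpace_of_compactSpace f
  haveI : IsNoetherian X := ⟨⟩
  induction Z using WellFoundedLT.induction with
  | ind Z ih =>
    by_cases hne : (Z : Set T).Nonempty
    swap
    · exact ⟨0, fun t ht => absurd ⟨t, ht⟩ hne⟩
    have combine : ∀ Z₁ Z₂ : Closeds T, Z₁ < Z → Z₂ < Z → (Z : Set T) ⊆ Z₁ ∪ Z₂ →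
        ∃ C : ℕ, ∀ t ∈ Z, ∀ e : ℕ, topologicalKrullDim ↥(f.fiber t) = e → ∀ m : ℕ, 1 ≤ m → ∀ i : ℕ,
          CohIII.fiberRank f (CohB1.tensorMod F (CohB1.tensorPow L m)) i t ≤ C * m ^ e := by
      intro Z₁ Z₂ h₁ h₂ hsub
      obtain ⟨C₁, hC₁⟩ := ih Z₁ h₁
      obtain ⟨C₂, hC₂⟩ := ih Z₂ h₂
      refine ⟨C₁ + C₂, fun t ht e he m hm i => ?_⟩
      rcases hsub ht with h | h
      · exact (hC₁ t h e he m hm i).trans (Nat.mul_le_mul_right _ (Nat.le_add_right _ _))
      · exact (hC₂ t h e he m hm i).trans (Nat.mul_le_mul_right _ (Nat.le_add_left _ _))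
    by_cases hirr : IsPreirreducible (Z : Set T)
    swap
    · rw [isPreirreducible_iff_isClosed_union_isClosed] at hirr
      push Not at hirr
      obtain ⟨z₁, z₂, hc₁, hc₂, hcov, hn₁, hn₂⟩ := hirr
      refine combine (Z ⊓ ⟨z₁, hc₁⟩) (Z ⊓ ⟨z₂, hc₂⟩) ?_ ?_
        fun t ht => (hcov ht).imp (fun h => ⟨ht, h⟩) fun h => ⟨ht, h⟩
      · exact lt_of_le_of_ne inf_le_left fun h => hn₁ fun t ht => ((h.ge : Z ≤ _) ht).2
      · exact lt_of_le_of_ne inf_le_left fun h => hn₂ fun t ht => ((h.ge : Z ≤ _) ht).2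
    let I := Scheme.IdealSheafData.vanishingIdeal Z
    haveI : IsIntegral I.subscheme := S16188.isIntegral_subscheme Z ⟨hne, hirr⟩
    let η := genericPoint I.subscheme
    obtain ⟨V, hV, hηV, -⟩ := exists_isAffineOpen_mem_and_subset (U := (⊤ : I.subscheme.Opens))
      (x := η) trivial
    haveI : IsAffine (V : Scheme.{u}) := hV
    haveI : Nonempty (V : Scheme.{u}) := ⟨⟨η, hηV⟩⟩
    haveI : IsIntegral (V : Scheme.{u}) := isIntegral_of_isOpenImmersion V.ι
    let j : (V : Scheme.{u}) ⟶ T := V.ι ≫ I.subschemeι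
    haveI : IsLocallyNoetherian (V : Scheme.{u}) := LocallyOfFiniteType.isLocallyNoetherian j
    haveI : IsNoetherian (V : Scheme.{u}) := ⟨⟩
    let X' := pullback f j
    let G : X' ⟶ X := pullback.fst f j
    let f' : X' ⟶ (V : Scheme.{u}) := pullback.snd f j
    have hsq : IsPullback G f' f j := IsPullback.of_hasPullback _ _
    haveI : IsProper f' := MorphismProperty.of_isPullback hsq ‹IsProper f›
    haveI : IsImmersion j := inferInstanceAs (IsImmersion (V.ι ≫ I.subschemeι))
    haveI : IsImmersion G := MorphismProperty.of_isPullback hsq.flip ‹IsImmersion j›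
    have hP := TwistFlat.isPullback_projMap r j
    let a : X' ⟶ CohB1.ProjSpaceOver r (V : Scheme.{u}) := hP.lift (G ≫ ι) f' (by
      rw [Category.assoc, hι]; exact hsq.w)
    have ha : Topology.IsInducing a := by
      refine Topology.IsInducing.of_comp a.continuous (FGA.projMap r j).continuous ?_
      have e : a ≫ FGA.projMap r j = G ≫ ι := hP.lift_fst _ _ _
      have hh : ⇑(FGA.projMap r j) ∘ ⇑a = ⇑(G ≫ ι) := by rw [← e]; rfl
      rw [hh]
      exact (G ≫ ι).isEmbedding.isInducing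
    haveI : CompactSpace X' := QuasiCompact.compactSpace_of_compactSpace f'
    have hA := AmpleLib.isAmple_pullback_of_isInducing a ha
      (ProjMorph.isAmple_twistOver (Y := (V : Scheme.{u})) r)
    obtain ⟨U, C₁, hηU, hU⟩ := exists_uniform_generic f' hA
      (PicCl.isInvertible_pullback G hL) (ZClosLib.CohDescent.isCoh_pullback G F hF)
    have hopen : IsOpen (V.ι '' (U : Set (V : Scheme.{u}))) := V.ι.isOpenEmbedding.isOpenMap _ U.2
    have hclosed : IsClosed (I.subschemeι '' (V.ι '' (U : Set (V : Scheme.{u})))ᶜ) :=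
      I.subschemeι.isClosedEmbedding.isClosedMap _ hopen.isClosed_compl
    have hrange : Set.range I.subschemeι = (Z : Set T) := by
      rw [Scheme.IdealSheafData.range_subschemeι, Scheme.IdealSheafData.coe_support_vanishingIdeal]
    let Z' : Closeds T := ⟨_, hclosed⟩
    have hlt : Z' < Z := by
      refine lt_of_le_of_ne (fun t ⟨w, _, hw⟩ => hrange.le ⟨w, hw⟩) fun h => ?_
      have hmem : I.subschemeι (V.ι (genericPoint (V : Scheme.{u}))) ∈ Z := hrange.le (Set.mem_range_self _)
      rw [← h] at hmem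
      obtain ⟨w, hw, hwe⟩ := hmem
      exact hw (I.subschemeι.isClosedEmbedding.injective hwe ▸ ⟨_, hηU, rfl⟩)
    obtain ⟨C₂, hC₂⟩ := ih Z' hlt
    refine ⟨C₁ + C₂, fun t ht e he m hm i => ?_⟩
    obtain ⟨w, rfl⟩ : t ∈ Set.range I.subschemeι := hrange.ge ht
    by_cases hw : w ∈ V.ι '' (U : Set (V : Scheme.{u}))
    swap
    · exact (hC₂ _ ⟨w, hw, rfl⟩ e he m hm i).trans (Nat.mul_le_mul_right _ (Nat.le_add_left _ _))
    obtain ⟨v, hv, rfl⟩ := hw
    have hcoh : Coh.IsCoh (CohB1.tensorMod F (CohB1.tensorPow L m)) :=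
      ProjTwist.isCoh_tensor (AmpleLib.isInvertible_tensorPow hL m) hF
    refine le_trans ?_ ((hU v hv e ((topDim_fiber_bc hsq v).trans he) m hm i).trans
      (Nat.mul_le_mul_right _ (Nat.le_add_right _ _)))
    refine le_of_eq ((fiberRank_bc hsq hcoh i v).symm.trans ?_)
    letI : (f'.fiber v).Over (Spec (CommRingCat.of ((V : Scheme.{u}).residueField v))) :=
      ⟨f'.fiberToSpecResidueField v⟩
    exact Pn.finrank_hh_iso (k := (V : Scheme.{u}).residueField v) ((Scheme.Modules.pullback (f'.fiberι v)).mapIso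
      (KFlat.PullTensor.pullTensorIso G F _ ≪≫
        ProjTwist.tensCongr (Iso.refl _) (EulerFam.pullback_tensorPow G L m).some)) i

end Groth.Agent.CBC.UnifBound
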