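import Groth.Agent.ProjBundleLib.PnAmple
import Groth.Agent.ProjMorph.Segre
import Groth.Agent.ProjProper.Basic

/-!
# Immersions into projective space and very ampleness
-/

set_option autoImplicit false
set_option linter.style.haveILetI false

universe u

open CategoryTheory CategoryTheory.Limits AlgebraicGeometry TopologicalSpace Opposite

noncomputable section

namespace Groth.Agent.CBC.VA

open Groth.Agent.QCoh Groth.Agent.Props.GenLocus Groth.Agent.Props.GenPull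
open Groth.Agent.ProjMorph (ratio gsec frame)

set_option backward.isDefEq.respectTransparency.types false

/-- projective space over the integers -/
abbrev PZ (n : ℕ) : Scheme.{u} := Proj (CohB1.polyGrading n (ULift.{u} ℤ))

/-- the projection to projective space over the integers -/
abbrev p₁ (n : ℕ) (Y : Scheme.{u}) : CohB1.ProjSpaceOver n Y ⟶ PZ.{u} n :=
  pullback.fst (CohB1.ProjSpace.toSpec n (ULift.{u} ℤ)) (specULiftZIsTerminal.from Y)

lemma X_mem {n : ℕ} (k : Fin (n + 1)) :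
    (MvPolynomial.X k : MvPolynomial (Fin (n + 1)) (ULift.{u} ℤ)) ∈ CohB1.polyGrading n (ULift.{u} ℤ) 1 :=
  MvPolynomial.isHomogeneous_X _ k

/-- the standard chart -/
abbrev DP {n : ℕ} (k : Fin (n + 1)) : (PZ.{u} n).Opens :=
  Proj.basicOpen (CohB1.polyGrading n (ULift.{u} ℤ)) (MvPolynomial.X k)

/-- the coordinate ratios -/
abbrev rat {n : ℕ} (k l : Fin (n + 1)) : Γ(PZ.{u} n, DP k) := ratio (X_mem.{u} k) (X_mem.{u} l)

lemma iSup_DP (n : ℕ) : ⨆ k, DP.{u} (n := n) k = ⊤ :=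
  ProjMorph.iSup_basicOpen_gen _ X_mem MvPolynomial.adjoin_range_X

variable {X Y : Scheme.{u}}

/-- a morphism to projective space with the given coordinates -/
structure Coord {n : ℕ} (r : X ⟶ PZ.{u} n) (L : X.Modules) (s : Fin (n + 1) → Γ(L, ⊤)) : Prop where
  pre : ∀ k, r ⁻¹ᵁ DP k = AmpleLib.locus (O := ⊤) (s k)
  coef : ∀ k l, res L (le_top : r ⁻¹ᵁ DP k ≤ ⊤) (s l) = r.app _ (rat k l) • res L le_top (s k)

lemma locus_pullSec {n : ℕ} (r : X ⟶ PZ.{u} n) (k : Fin (n + 1)) :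
    AmpleLib.locus (O := ⊤)
      (ProjUP.pullSec r (Twist.twist (CohB1.polyGrading n (ULift.{u} ℤ)) 1) (gsec (X_mem k))) =
      r ⁻¹ᵁ DP k :=
  (AmpleLib.locus_pb r (ProjMorph.isInvertible_twist_one _ X_mem MvPolynomial.adjoin_range_X)
    (gsec (X_mem k))).trans
    (congrArg (r ⁻¹ᵁ ·) (ProjMorph.locus_gsec _ X_mem MvPolynomial.adjoin_range_X (X_mem k)))

/-- an immersion pulling back `O(1)` has coordinates -/
theorem exists_coord_of_pn (q : X ⟶ Y) {L : X.Modules} (h : RelAmple.IsRelVeryAmplePn q L) :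
    ∃ (n : ℕ) (i : X ⟶ CohB1.ProjSpaceOver n Y), IsImmersion i ∧
      i ≫ CohB1.ProjSpaceOver.toBase n Y = q ∧ ∃ s, Coord (i ≫ p₁ n Y) L s := by
  obtain ⟨n, i, hi, hiq, ⟨φ⟩⟩ := h
  let r := i ≫ p₁ n Y
  let O1 := Twist.twist (CohB1.polyGrading n (ULift.{u} ℤ)) 1
  let ψ : (Scheme.Modules.pullback r).obj O1 ≅ L :=
    ((Scheme.Modules.pullbackComp i (p₁ n Y)).app O1).symm ≪≫ φ.symm
  refine ⟨n, i, hi, hiq, fun k => ψ.hom.app ⊤ (ProjUP.pullSec r O1 (gsec (X_mem k))), ⟨fun k => ?_, fun k l => ?_⟩⟩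
  · exact ((AmpleLib.locus_app_iso ψ (O := ⊤) (ProjUP.pullSec r O1 (gsec (X_mem k)))).trans
      (locus_pullSec r k)).symm
  · rw [← app_res, ← app_res, ProjMorph.res_pullSec r (X_mem k) (X_mem l),
      ProjMorph.res_pullSec_self r (X_mem k), Scheme.Modules.Hom.app_smul]

lemma isSeparated_of_immersion {n : ℕ} (i : X ⟶ CohB1.ProjSpaceOver n Y) [IsImmersion i] :
    IsSeparated (i ≫ CohB1.ProjSpaceOver.toBase n Y) := by
  haveI := ProjProper.Basic.isProper_toBase n Y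
  infer_instance

lemma isAffineOpen_piece {n : ℕ} (k : Fin (n + 1)) {U : Y.Opens} (hU : IsAffineOpen U) :
    IsAffineOpen (p₁ n Y ⁻¹ᵁ DP k ⊓ CohB1.ProjSpaceOver.toBase n Y ⁻¹ᵁ U) ∧
      Subring.closure
        (Set.range ((p₁ n Y).appLE (DP k)
            (p₁ n Y ⁻¹ᵁ DP k ⊓ CohB1.ProjSpaceOver.toBase n Y ⁻¹ᵁ U) inf_le_left) ∪
          Set.range ((CohB1.ProjSpaceOver.toBase n Y).appLE U
            (p₁ n Y ⁻¹ᵁ DP k ⊓ CohB1.ProjSpaceOver.toBase n Y ⁻¹ᵁ U) inf_le_right)) = ⊤ :=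
  ProjMorph.subring_closure_appLE_pullback _ _
    (Proj.isAffineOpen_basicOpen _ _ (X_mem k) one_pos) hU rfl

lemma comp_appLE_apply {P : Scheme.{u}} (f : X ⟶ P) (g : P ⟶ Y) {U : Y.Opens} {D : P.Opens}
    {G : X.Opens} (h₁ : D ≤ g ⁻¹ᵁ U) (h₂ : G ≤ f ⁻¹ᵁ D) (h₃ : G ≤ (f ≫ g) ⁻¹ᵁ U) (w : Γ(Y, U)) :
    f.appLE D G h₂ (g.appLE U D h₁ w) = (f ≫ g).appLE U G h₃ w :=
  congr($(Scheme.Hom.appLE_comp_appLE f g U D G h₁ h₂) w)

lemma coef_mem (q : X ⟶ Y) {L : X.Modules} (U : Y.Opens) (a b : Γ(L, ⊤)) {G : X.Opens}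
    (hG : G ≤ q ⁻¹ᵁ U) {c : Γ(X, G)}
    (h : res L (le_top : G ≤ ⊤) b = c • res L (le_top : G ≤ ⊤) a) :
    c ∈ ProjBundleLib.coefRing (𝟙 ((Scheme.Modules.pushforward q).obj L)) U
      (res L (le_top : q ⁻¹ᵁ U ≤ ⊤) a) G := by
  refine ProjBundleLib.coef_mem_coefRing (z := res L (le_top : q ⁻¹ᵁ U ≤ ⊤) b) hG ?_
  change res L hG (res L (le_top : q ⁻¹ᵁ U ≤ ⊤) b) = c • res L hG (res L (le_top : q ⁻¹ᵁ U ≤ ⊤) a)
  rwa [res_res, res_res]

lemma gLoc_res (q : X ⟶ Y) {L : X.Modules} (U : Y.Opens) (a : Γ(L, ⊤)) :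
    ProjBundleLib.gLoc (𝟙 ((Scheme.Modules.pushforward q).obj L)) U
      (res L (le_top : q ⁻¹ᵁ U ≤ ⊤) a) = AmpleLib.locus a ⊓ q ⁻¹ᵁ U := by
  rw [← ProjBundleLib.locus_eq_gLoc]
  exact AmpleLib.locus_res (le_top : q ⁻¹ᵁ U ≤ ⊤) a

lemma isImmersion_piece {P : Scheme.{u}} (f : X ⟶ P) [IsImmersion f] {D : P.Opens}
    (hD : IsAffineOpen D) {G : X.Opens} (h : G ≤ f ⁻¹ᵁ D) :
    ProjBundleLib.SubImm G (f.appLE D G h).hom.range := by
  rw [ProjBundleLib.subImm_range_iff, Scheme.Opens.toSpecΓ_SpecMap_appLE]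
  haveI : IsIso D.toSpecΓ := (inferInstance : IsIso hD.isoSpec.hom)
  haveI : IsImmersion (f.resLE D G h ≫ D.ι) := by
    rw [Scheme.Hom.resLE_comp_ι]; infer_instance
  haveI : IsImmersion (f.resLE D G h) := IsImmersion.of_comp _ D.ι
  infer_instance

/-- generators of the functions on a piece bound the range -/
lemma range_le_of_gens {P Q : Scheme.{u}} (f : X ⟶ P) (g₁ : P ⟶ Q) (g₂ : P ⟶ Y) {D : P.Opens}
    {V : Q.Opens} {U : Y.Opens} {G : X.Opens} (h : G ≤ f ⁻¹ᵁ D) (h₁ : D ≤ g₁ ⁻¹ᵁ V)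
    (h₂ : D ≤ g₂ ⁻¹ᵁ U) (h₁' : G ≤ (f ≫ g₁) ⁻¹ᵁ V) (h₂' : G ≤ (f ≫ g₂) ⁻¹ᵁ U)
    (hgen : Subring.closure (Set.range (g₁.appLE V D h₁) ∪ Set.range (g₂.appLE U D h₂)) = ⊤)
    {T : Subring Γ(X, G)} (hV : ∀ w, (f ≫ g₁).appLE V G h₁' w ∈ T)
    (hU : ∀ w, (f ≫ g₂).appLE U G h₂' w ∈ T) : (f.appLE D G h).hom.range ≤ T := by
  rintro _ ⟨z, rfl⟩
  suffices hz : z ∈ T.comap (f.appLE D G h).hom from hz
  refine (?_ : (⊤ : Subring _) ≤ _) (Subring.mem_top z)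
  rw [← hgen, Subring.closure_le]
  rintro _ (⟨w, rfl⟩ | ⟨w, rfl⟩)
  · exact Subring.mem_comap.mpr ((comp_appLE_apply f g₁ h₁ h h₁' w).symm ▸ hV w)
  · exact Subring.mem_comap.mpr ((comp_appLE_apply f g₂ h₂ h h₂' w).symm ▸ hU w)

/-- An immersion into projective space gives very ampleness relative to the base. -/
theorem isRelVeryAmple_of_pn (q : X ⟶ Y) [QuasiCompact q] {L : X.Modules} (hL : PicF.IsInvertible L)
    (h : RelAmple.IsRelVeryAmplePn q L) : RelProj.IsRelVeryAmple q L := by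
  obtain ⟨n, i, hi, hiq, s, hs⟩ := exists_coord_of_pn q h
  subst hiq
  let q := i ≫ CohB1.ProjSpaceOver.toBase n Y
  haveI : IsSeparated q := isSeparated_of_immersion i
  haveI := ProjBundleLib.isQuasicoherent_push (g := q) hL
  let v := 𝟙 ((Scheme.Modules.pushforward q).obj L)
  have key : ∀ x : X, ∃ (U : Y.Opens) (_ : IsAffineOpen U)
      (e : Γ((Scheme.Modules.pushforward q).obj L, U)),
      x ∈ ProjBundleLib.gLoc v U e ∧
      ProjBundleLib.SubImm (ProjBundleLib.gLoc v U e)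
        (ProjBundleLib.coefRing v U e (ProjBundleLib.gLoc v U e)) := by
    intro x
    obtain ⟨U, hU, hxU⟩ := ProjBundleLib.exists_affine_mem (g := q) x
    obtain ⟨k, hk⟩ := Opens.mem_iSup.mp ((iSup_DP n).ge (trivial : (i ≫ p₁ n Y) x ∈ ⊤))
    let D := p₁ n Y ⁻¹ᵁ DP k ⊓ CohB1.ProjSpaceOver.toBase n Y ⁻¹ᵁ U
    obtain ⟨hD, hgen⟩ := isAffineOpen_piece (Y := Y) k hU
    let e : Γ((Scheme.Modules.pushforward q).obj L, U) := res L (le_top : q ⁻¹ᵁ U ≤ ⊤) (s k)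
    have hG : i ⁻¹ᵁ D = ProjBundleLib.gLoc v U e := by
      refine Eq.trans ?_ (gLoc_res q U (s k)).symm
      rw [← hs.pre k]
      rfl
    have hle : ProjBundleLib.gLoc v U e ≤ (i ≫ p₁ n Y) ⁻¹ᵁ DP k :=
      hG.ge.trans (i.preimage_mono inf_le_left)
    refine ⟨U, hU, e, hG ▸ ⟨hk, hxU⟩, (isImmersion_piece i hD hG.ge).mono
      (range_le_of_gens i (p₁ n Y) (CohB1.ProjSpaceOver.toBase n Y) hG.ge inf_le_left inf_le_right
        hle ProjBundleLib.gLoc_le hgen (fun w => ?_) (ProjBundleLib.appLE_mem_coefRing _))⟩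
    refine Subring.closure_le.mpr ?_ (ProjMorph.appLE_mem_closure_ratios (i ≫ p₁ n Y) k hle w)
    rintro _ ⟨l, rfl⟩
    refine coef_mem q U (s k) (s l) ProjBundleLib.gLoc_le ?_
    have h1 := congrArg (res L hle) (hs.coef k l)
    rw [res_res, res_smul, res_res] at h1
    exact h1
  have hv : ProjBundleLib.Gens v := ProjBundleLib.gens_of_frames hL fun x => by
    obtain ⟨U, -, e, hx, -⟩ := key x
    exact ⟨U, e, _, hx, ProjBundleLib.frame_gLoc⟩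
  exact ProjBundleLib.isRelVeryAmple_of hv (ProjBundleLib.clsImm_of_subImm hv key)

/-- shrinking the base to where the coordinate morphism is an immersion -/
theorem pn_of_immersion_on {n : ℕ} (i : X ⟶ CohB1.ProjSpaceOver n Y) (q : X ⟶ Y)
    (hiq : i ≫ CohB1.ProjSpaceOver.toBase n Y = q) {L : X.Modules}
    (φ : L ≅ (Scheme.Modules.pullback i).obj (Twist.twistOver n Y 1)) (U : Y.Opens)
    (W : (CohB1.ProjSpaceOver n Y).Opens) (hW : CohB1.ProjSpaceOver.toBase n Y ⁻¹ᵁ U ≤ W)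
    [IsImmersion (i ∣_ W)] :
    RelAmple.IsRelVeryAmplePn (q ∣_ U) (L.restrict (q ⁻¹ᵁ U).ι) := by
  subst hiq
  let q := i ≫ CohB1.ProjSpaceOver.toBase n Y
  let κ := (q ⁻¹ᵁ U).ι
  let m : CohB1.ProjSpaceOver n U ⟶ CohB1.ProjSpaceOver n Y :=
    pullback.map _ _ _ _ (𝟙 _) U.ι (𝟙 _) (by simp) (specULiftZIsTerminal.hom_ext _ _)
  let i' : (q ⁻¹ᵁ U).toScheme ⟶ CohB1.ProjSpaceOver n U :=
    pullback.lift (κ ≫ i ≫ p₁ n Y) (q ∣_ U) (specULiftZIsTerminal.hom_ext _ _)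
  have h1 : i' ≫ p₁ n U = κ ≫ i ≫ p₁ n Y := pullback.lift_fst _ _ _
  have h2 : i' ≫ CohB1.ProjSpaceOver.toBase n U = q ∣_ U := pullback.lift_snd _ _ _
  have hm : i' ≫ m = κ ≫ i := by
    refine pullback.hom_ext ?_ ?_
    · exact (Category.assoc _ _ _).trans ((congrArg (i' ≫ ·)
        ((pullback.lift_fst _ _ _).trans (Category.comp_id _))).trans
          (h1.trans (Category.assoc _ _ _).symm))
    · exact (Category.assoc _ _ _).trans ((congrArg (i' ≫ ·) (pullback.lift_snd _ _ _)).trans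
        ((Category.assoc _ _ _).symm.trans ((congrArg (· ≫ U.ι) h2).trans
          ((morphismRestrict_ι q U).trans (Category.assoc _ _ _).symm))))
  have himm : IsImmersion (κ ≫ i) := by
    have hle : q ⁻¹ᵁ U ≤ i ⁻¹ᵁ W := i.preimage_mono hW
    have : κ ≫ i = X.homOfLE hle ≫ (i ∣_ W) ≫ W.ι := by
      rw [morphismRestrict_ι, ← Category.assoc, Scheme.homOfLE_ι]
    rw [this]
    infer_instance
  have : IsImmersion (i' ≫ m) := hm ▸ himm
  refine ⟨n, i', IsImmersion.of_comp i' m, h2, ⟨?_⟩⟩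
  exact (Scheme.Modules.restrictFunctorIsoPullback κ).app L ≪≫ (Scheme.Modules.pullback κ).mapIso
      (φ ≪≫ (Scheme.Modules.pullbackComp i (p₁ n Y)).app _) ≪≫
    (Scheme.Modules.pullbackComp κ (i ≫ p₁ n Y)).app _ ≪≫
    (Scheme.Modules.pullbackCongr h1.symm).app _ ≪≫
    ((Scheme.Modules.pullbackComp i' (p₁ n U)).app _).symm

end Groth.Agent.CBC.VA
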