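import Groth.Agent.CBC.FrameDet
import Groth.Agent.CBC.OConn
import Groth.Agent.CBC.LocusBC
import Groth.Agent.KFlat.LocFree
import Groth.Agent.FormalFun.HomMonoEpi

/-!
# Bundles with frames over the preimages of opens of the base
-/

set_option autoImplicit false

universe u

open CategoryTheory CategoryTheory.Limits AlgebraicGeometry TopologicalSpace Opposite Function
open Groth.Agent.PullStalk.Sky

noncomputable section

namespace Groth.Agent.CBC.VB

open LFFrame

section Fibre

variable {W Z : Scheme.{u}} (π : W ⟶ Z) {L : W.Modules}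

/-- a frame over the base gives an epimorphism on fibres -/
theorem epi_of_frame [IsProper π] [L.IsQuasicoherent] {V : Z.Opens} (z : Z) (hz : z ∈ V)
    (hh : Bijective (algebraMap (Z.residueField z) Γ(π.fiber z, ⊤)))
    {n : ℕ} {e : Fin n → Γ(L, π ⁻¹ᵁ V)} (he : IsFrame L (π ⁻¹ᵁ V) e) :
    Epi (CohBC.bc0 π (Z.fromSpecResidueField z) (π.fiberToSpecResidueField z) (π.fiberι z)
      (π.fiber_fac z) L) := by
  let g := Z.fromSpecResidueField z
  let f' := π.fiberToSpecResidueField z
  haveI : IsProper f' := show IsProper (pullback.snd π g) from inferInstance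
  have hle : ⊤ ≤ g ⁻¹ᵁ V := CBC.fromSpecResidueField_le z hz
  haveI := QCoh.isQuasicoherent_pushforward π L
  haveI := QCoh.isQuasicoherent_pullback g ((Scheme.Modules.pushforward π).obj L)
  haveI := QCoh.isQuasicoherent_pullback (π.fiberι z) L
  haveI := QCoh.isQuasicoherent_pushforward f' ((Scheme.Modules.pullback (π.fiberι z)).obj L)
  refine CohAff.epi_of_affine_surjective _ fun O _ => ?_
  by_cases hO : O = ⊤
  · subst hO
    intro t
    have h' : f' ⁻¹ᵁ ⊤ ≤ (π.fiberι z) ⁻¹ᵁ (π ⁻¹ᵁ V) :=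
      (f'.preimage_mono hle).trans (CohCmp.sqLE π g f' (π.fiberι z) (π.fiber_fac z) V)
    obtain ⟨a, ha⟩ := ((he.pullback (π.fiberι z)) _ h').2
      (show Γ(CohIII.fiberMod π L z, f' ⁻¹ᵁ ⊤) from t)
    choose c hc using fun i => hh.2 (show Γ(π.fiber z, ⊤) from a i)
    let b : Fin n → Γ(Spec (Z.residueField z), ⊤) := fun i =>
      (Scheme.ΓSpecIso (Z.residueField z)).inv (c i)
    have hb : ∀ i, f'.app ⊤ (b i) = a i := hc
    refine ⟨∑ i, b i • LimTop.unitSec g ((Scheme.Modules.pushforward π).obj L) hle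
      (show Γ((Scheme.Modules.pushforward π).obj L, V) from e i), ?_⟩
    rw [map_sum]
    refine Eq.trans (Finset.sum_congr rfl fun i _ => ?_) ha
    rw [Scheme.Modules.Hom.app_smul, CBC.bc0_app_unitSec L (π.fiber_fac z) hle h']
    change f'.app ⊤ (b i) • LimTop.unitSec (π.fiberι z) L h' (e i) = _
    rw [hb]
    rfl
  · intro t
    refine ⟨0, ?_⟩
    refine (map_zero _).trans (QCoh.eq_zero_of_locally_eq_zero _
      (U := fun i : PEmpty.{u + 1} => i.elim) (fun i => i.elim) ?_ t fun i => i.elim).symm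
    intro x hx
    haveI : Subsingleton (Spec (Z.residueField z)) :=
      inferInstanceAs (Subsingleton (PrimeSpectrum (Z.residueField z)))
    exact absurd (top_unique fun x' _ => Subsingleton.elim x x' ▸ hx) hO

/-- the fibre rank of a module with a frame over the base -/
theorem fiberRank_of_frame {V : Z.Opens} (z : Z) (hz : z ∈ V)
    (hh : Bijective (algebraMap (Z.residueField z) Γ(π.fiber z, ⊤)))
    {n : ℕ} {e : Fin n → Γ(L, π ⁻¹ᵁ V)} (he : IsFrame L (π ⁻¹ᵁ V) e) :
    CohIII.fiberRank π L 0 z = n := by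
  let M := CohIII.fiberMod π L z
  have htop : (⊤ : (π.fiber z).Opens) ≤ π.fiberι z ⁻¹ᵁ (π ⁻¹ᵁ V) := fun y _ => by
    show π (π.fiberι z y) ∈ V
    have h : π.fiberι z y ∈ π ⁻¹' {z} := π.range_fiberι z ▸ Set.mem_range_self y
    rw [show π (π.fiberι z y) = z from h]; exact hz
  let C := comb M (fun i => unitSec (π.fiberι z) L (π ⁻¹ᵁ V) (e i)) htop
  have hC : Bijective C := (he.pullback (π.fiberι z)) ⊤ htop
  let Φ : (Fin n → Z.residueField z) →ₗ[Z.residueField z] CohIII.fiberH π L z 0 :=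
    { toFun := fun c => (ProperFin.h0Sec M).symm (C fun i => algebraMap _ Γ(π.fiber z, ⊤) (c i))
      map_add' := fun a b => by
        rw [← map_add]
        refine congrArg _ ?_
        simp only [C, comb, Pi.add_apply, map_add, add_smul, Finset.sum_add_distrib]
      map_smul' := fun r a => by
        apply (ProperFin.h0Sec M).injective
        rw [AddEquiv.apply_symm_apply]
        refine Eq.trans ?_ (ProperFin.h0Sec_smul M
          (Coh.toGlobal (X := π.fiber z) (A := Z.residueField z) (π.fiberToSpecResidueField z) r) _).symm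
        rw [AddEquiv.apply_symm_apply]
        simp only [C, comb, Pi.smul_apply, smul_eq_mul, map_mul, mul_smul, Finset.smul_sum]
        rfl }
  have hΦ : Bijective Φ :=
    (ProperFin.h0Sec M).symm.bijective.comp (hC.comp (Bijective.piMap fun _ => hh))
  exact (LinearEquiv.ofBijective Φ hΦ).finrank_eq.symm.trans (by simp)

end Fibre

variable {X S : Scheme.{u}} {f : X ⟶ S} [IsProper f] {F : X.Modules} [F.IsQuasicoherent]
  (hfl : FlatMod.IsFlatOver f F) {XT T : Scheme.{u}} {gT : XT ⟶ X} {fT : XT ⟶ T} {u : T ⟶ S}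

include hfl in
/-- frames over the base give good windows -/
theorem goodOn_of_frame (N : Nhd f F) (H : IsPullback gT fT f u)
    (hh : ∀ z, Bijective (algebraMap (T.residueField z) Γ(fT.fiber z, ⊤)))
    {V : T.Opens} {n : ℕ} {e : Fin n → Γ((Scheme.Modules.pullback gT).obj F, fT ⁻¹ᵁ V)}
    (he : IsFrame ((Scheme.Modules.pullback gT).obj F) (fT ⁻¹ᵁ V) e)
    {W : T.Opens} (hW : IsAffineOpen W) (h : W ≤ u ⁻¹ᵁ N.V) (hWV : W ≤ V) :
    Locus.GoodOn n N u h := by
  haveI : IsProper fT := MorphismProperty.of_isPullback H ‹IsProper f›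
  haveI : ((Scheme.Modules.pullback gT).obj F).IsQuasicoherent :=
    QCoh.isQuasicoherent_pullback _ F
  let N' := N.pull H hW h
  refine (Locus.goodOn_iff n hfl N H hW h).2 ?_
  haveI := (N'.w 0).fp
  refine ⟨(N'.w 0).rExact_iff.2 (flat_cok_of_forall_surjective _ fun x => ?_), fun x => ?_⟩
  · have h1 : N'.SurjAt (pt N'.hV x) (pt_mem N'.hV x) 0 :=
      N'.surjAt_zero_of_epi (pt_mem N'.hV x)
        (epi_of_frame fT _ (hWV (pt_mem N'.hV x)) (hh _) he)
    have key : ∀ y : PrimeSpectrum Γ(T, N'.V), y = x →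
        Surjective (kerBC (N'.w 0).u y.asIdeal.ResidueField) →
          Surjective (kerBC (N'.w 0).u x.asIdeal.ResidueField) := by
      rintro y rfl hy
      exact hy
    exact key _ (primeIdealOf_pt N'.hV x) h1
  · have h1 := fiberRank_eq N'.hV (pt N'.hV x) (pt_mem N'.hV x) N'.D (N'.w 0)
    rw [primeIdealOf_pt] at h1
    rw [← h1]
    exact fiberRank_of_frame fT _ (hWV (pt_mem N'.hV x)) (hh _) he

/-- a good window determines the fibre rank -/
theorem fiberRank_eq_of_goodOn {r : ℕ} (N : Nhd f F) {W : T.Opens} (hW : IsAffineOpen W)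
    (h : W ≤ u ⁻¹ᵁ N.V) {t : T} (ht : t ∈ W) (hg : Locus.GoodOn r N u h) :
    CohIII.fiberRank f F 0 (u t) = r := by
  letI : Algebra Γ(S, N.V) Γ(T, W) := (u.appLE N.V W h).hom.toAlgebra
  have hg := hg.2 (hW.primeIdealOf ⟨t, ht⟩)
  have := (N.w 0).fp_P
  rw [Locus.fib_bc'] at hg
  have hcomap : PrimeSpectrum.comap (algebraMap Γ(S, N.V) Γ(T, W)) (hW.primeIdealOf ⟨t, ht⟩) =
      N.hV.primeIdealOf ⟨u t, h ht⟩ := IsAffineOpen.comap_primeIdealOf_appLE N.V N.hV W hW h ht
  rw [hcomap, SCx.Win.fib_P] at hg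
  rw [fiberRank_eq N.hV (u t) (h ht) N.D (N.w 0)]
  omega

end Groth.Agent.CBC.VB
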