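import Groth.Agent.CBC.VBLocus

/-!
# The seesaw subscheme of a vector bundle when `O = f_* O` universally

The arguments of `CBC.VBLocus` with the hypothesis of geometrically reduced fibres replaced by
`ConstFibres`: functions on all fibres of all base changes are constant.
-/

set_option autoImplicit false

universe u

open CategoryTheory CategoryTheory.Limits AlgebraicGeometry TopologicalSpace Opposite Function
open Groth.Agent.PullStalk.Sky

noncomputable section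

namespace Groth.Agent.CBC.VBO

open LFFrame
open VB (FreeAt rankSet rankOn FromBase goodSet rankOn_unique exists_rankOn isOpen_rankOn
  fibre_subset_locus exists_frame_nhd goodOn_of_frame fiberRank_eq_of_goodOn)

variable {X S : Scheme.{u}} (f : X ⟶ S) (E : X.Modules)

/-- only constant functions on the fibres of every base change -/
def ConstFibres : Prop :=
  ∀ (T : Scheme.{u}) (u : T ⟶ S) (z : T),
    Bijective (algebraMap (T.residueField z) Γ((pullback.snd f u).fiber z, ⊤))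

variable {f E} in
/-- the fibre rank at a point where the bundle is free -/
theorem fiberRank_eq [IsProper f] [LocallyOfFinitePresentation f] [E.IsQuasicoherent]
    (hh : ConstFibres f) (hfl : FlatMod.IsFlatOver f E) (hF : CohB1.IsFP E) {n : ℕ} {s : S}
    (h : FreeAt f E n s) : CohIII.fiberRank f E 0 s = n := by
  obtain ⟨T, u, t, V, e, rfl, ht, he⟩ := h
  obtain ⟨N, hN⟩ := exists_nhd hF hfl (u t)
  obtain ⟨_, ⟨W, hW, rfl⟩, htW, hWV⟩ := T.isBasis_affineOpens.exists_subset_of_mem_open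
    (show t ∈ V ⊓ u ⁻¹ᵁ N.V from ⟨ht, hN⟩) (V ⊓ u ⁻¹ᵁ N.V).2
  exact fiberRank_eq_of_goodOn N hW (fun y hy => (hWV hy).2) htW
    (goodOn_of_frame hfl N (IsPullback.of_hasPullback f u)
      (hh T u) he hW _ (fun y hy => (hWV hy).1))

variable {f E} [IsProper f] [Flat f] [LocallyOfFinitePresentation f] [GeometricallyConnected f]
  [E.IsQuasicoherent] (hE : FlatMod.IsFinLocFree E) (hh : ConstFibres f)

/-- frames locally on the base -/
theorem exists_frame_of_fromBase {T : Scheme.{u}} {u : T ⟶ S} (h : FromBase f E T u) (t : T) :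
    ∃ (V : T.Opens) (n : ℕ)
      (e : Fin n → Γ((Scheme.Modules.pullback (pullback.fst f u)).obj E, pullback.snd f u ⁻¹ᵁ V)),
      t ∈ V ∧
        IsFrame ((Scheme.Modules.pullback (pullback.fst f u)).obj E) (pullback.snd f u ⁻¹ᵁ V) e := by
  obtain ⟨M, hM, ⟨φ⟩⟩ := h
  obtain ⟨V, n, e, ht, he⟩ := exists_isFrame_of_isFinLocFree hM t
  exact ⟨V, n, _, ht, FrameDet.isFrame_map φ.symm (he.pullback (pullback.snd f u))⟩

omit [E.IsQuasicoherent] in
include hh in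
/-- frames locally on the base give a bundle from the base -/
theorem fromBase_of_frames {T : Scheme.{u}} {u : T ⟶ S}
    (h : ∀ t : T, ∃ (V : T.Opens) (n : ℕ)
      (e : Fin n → Γ((Scheme.Modules.pullback (pullback.fst f u)).obj E, pullback.snd f u ⁻¹ᵁ V)),
      t ∈ V ∧
        IsFrame ((Scheme.Modules.pullback (pullback.fst f u)).obj E) (pullback.snd f u ⁻¹ᵁ V) e) :
    FromBase f E T u := by
  let π := pullback.snd f u
  have happ := OConn.bijective_app π (hh T u)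
  let L := (Scheme.Modules.pullback (pullback.fst f u)).obj E
  refine ⟨(Scheme.Modules.pushforward π).obj L, fun t => ?_, ?_⟩
  · obtain ⟨V, n, e, ht, he⟩ := h t
    exact ⟨V, n, ht, FinCov71.IsFrame.nonempty_iso_freeMod (IsFrame.pushforward π happ he)⟩
  · have : IsIso ((Scheme.Modules.pullbackPushforwardAdjunction π).counit.app L) :=
      isIso_of_locally_bijective _ fun x => by
        obtain ⟨V, n, e, ht, he⟩ := h (π x)
        exact ⟨π ⁻¹ᵁ V, ht, fun W hW => IsFrame.counit_bijective π happ he W hW⟩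
    exact ⟨(asIso ((Scheme.Modules.pullbackPushforwardAdjunction π).counit.app L)).symm⟩

variable (hfl : FlatMod.IsFlatOver f E) (hF : CohB1.IsFP E)

omit [Flat f] [GeometricallyConnected f] in
include hfl in
/-- a good window gives spanning sections with base change -/
theorem exists_spanning {XT T : Scheme.{u}} {gT : XT ⟶ X} {fT : XT ⟶ T} {u : T ⟶ S}
    (H : IsPullback gT fT f u) {n : ℕ} (N : Nhd f E) {W : T.Opens} (hW : IsAffineOpen W)
    (h : W ≤ u ⁻¹ᵁ N.V) (hg : Locus.GoodOn n N u h) {t : T} (ht : t ∈ W) :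
    ∃ (V₀ : T.Opens) (e : Fin n → Γ((Scheme.Modules.pullback gT).obj E, fT ⁻¹ᵁ V₀)),
      IsAffineOpen V₀ ∧ t ∈ V₀ ∧ V₀ ≤ W ∧
      Submodule.span Γ(T, V₀) (Set.range (show Fin n →
        Γ((Scheme.Modules.pushforward fT).obj ((Scheme.Modules.pullback gT).obj E), V₀) from e)) = ⊤ ∧
      ∀ t' ∈ V₀, ∀ ⦃X'' T' : Scheme.{u}⦄ (v' : X'' ⟶ XT) (f'' : X'' ⟶ T') (p : T' ⟶ T)
        (hsq : IsPullback v' f'' fT p), (∀ z, p z = t') →
        IsIso (CohBC.bc0 fT p f'' v' hsq.w ((Scheme.Modules.pullback gT).obj E)) := by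
  haveI : IsProper fT := MorphismProperty.of_isPullback H ‹IsProper f›
  haveI : ((Scheme.Modules.pullback gT).obj E).IsQuasicoherent := QCoh.isQuasicoherent_pullback _ E
  let N' := N.pull H hW h
  haveI := (N'.w 0).fp
  obtain ⟨hR, hr⟩ := (Locus.goodOn_iff n hfl N H hW h).1 hg
  obtain ⟨U, m, htU, ⟨φ⟩⟩ := N'.exists_free_nhd₀ (Locus.flat_pullback hfl H) hR t ht
  obtain rfl : m = n := (N'.kerRank_eq_of_free hR ht htU φ).symm.trans (hr _)
  obtain ⟨b, hb⟩ := VBLib.exists_isFrame_of_iso φ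
  obtain ⟨_, ⟨V₀, hV₀, rfl⟩, htV₀, hle⟩ := T.isBasis_affineOpens.exists_subset_of_mem_open
    (show t ∈ U ⊓ W from ⟨htU, ht⟩) (U ⊓ W).2
  have hleU : V₀ ≤ U := fun y hy => (hle hy).1
  have hleW : V₀ ≤ W := fun y hy => (hle hy).2
  let b₀ := fun i => ((Coh.push fT).obj ((Scheme.Modules.pullback gT).obj E)).presheaf.map
    (homOfLE hleU).op (b i)
  refine ⟨V₀, b₀, hV₀, htV₀, hleW, ?_, fun t' ht' X'' T' v' f'' p hsq hp => ?_⟩
  · have hb₀ := (FrameDet.isFrame_res hb hleU) V₀ le_rfl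
    rw [eq_top_iff]
    intro s _
    obtain ⟨a, ha⟩ := hb₀.2 s
    rw [← ha]
    refine Submodule.sum_mem _ fun i _ => Submodule.smul_mem _ _ (Submodule.subset_span ⟨i, ?_⟩)
    exact (ConcreteCategory.congr_hom (((Coh.push fT).obj
      ((Scheme.Modules.pullback gT).obj E)).presheaf.map_id (op V₀)) _).symm
  · exact isIso_bc0_of_rExact hsq fun z => ⟨N', show p z ∈ W by rw [hp z]; exact hleW ht', hR⟩

include hE hfl in
/-- freeness at a point of a good window spreads -/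
theorem exists_frame_of_freeAt {T : Scheme.{u}} {u : T ⟶ S} {n : ℕ} (N : Nhd f E) {W : T.Opens}
    (hW : IsAffineOpen W) (h : W ≤ u ⁻¹ᵁ N.V) (hg : Locus.GoodOn n N u h) {t : T} (ht : t ∈ W)
    (hfree : FreeAt f E n (u t)) :
    ∃ (V : T.Opens)
      (e : Fin n → Γ((Scheme.Modules.pullback (pullback.fst f u)).obj E, pullback.snd f u ⁻¹ᵁ V)),
      t ∈ V ∧
        IsFrame ((Scheme.Modules.pullback (pullback.fst f u)).obj E) (pullback.snd f u ⁻¹ᵁ V) e := by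
  have H := IsPullback.of_hasPullback f u
  obtain ⟨V₀, e, hV₀, htV₀, -, hspan, hbc⟩ := exists_spanning hfl H N hW h hg ht
  exact exists_frame_nhd hE H htV₀ e fun x hx =>
    fibre_subset_locus hE H hV₀ htV₀ e hspan (hbc t htV₀) hfree hx

include hE hh hfl hF in
/-- the free points of a fibre rank stratum -/
theorem exists_stratum (n : ℕ) :
    ∃ (Z : Scheme.{u}) (ι : Z ⟶ S), Topology.IsInducing ι ∧
      Set.range ι = {s : S | CohIII.fiberRank f E 0 s = n} ∧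
      IsOpen (ι ⁻¹' {s | FreeAt f E n s}) ∧
      ∀ W : S.Opens, IsAffineOpen W → IsCompact ((W : Set S) ∩ {s | FreeAt f E n s}) := by
  obtain ⟨Z, ι, h1, -, h3, h4, h5⟩ := Locus.exists_immersion (r := n) hfl hF
  have hC : Locus.C f E n Z ι := (h4 Z ι).1 ⟨𝟙 Z, Category.id_comp ι⟩
  let Fr : Set Z := ι ⁻¹' {s | FreeAt f E n s}
  have hgood : ∀ (O : Z.Opens) (z : Z), z ∈ O → ∃ (N : Nhd f E) (W : Z.Opens) (h : W ≤ ι ⁻¹ᵁ N.V),
      IsAffineOpen W ∧ z ∈ W ∧ W ≤ O ∧ Locus.GoodOn n N ι h := fun O z hzO => by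
    obtain ⟨N, hN⟩ := exists_nhd hF hfl (ι z)
    obtain ⟨_, ⟨W, hW, rfl⟩, hzW, hWV⟩ := Z.isBasis_affineOpens.exists_subset_of_mem_open
      (show z ∈ ι ⁻¹ᵁ N.V ⊓ O from ⟨hN, hzO⟩) (ι ⁻¹ᵁ N.V ⊓ O).2
    exact ⟨N, W, fun y hy => (hWV hy).1, hW, hzW, fun y hy => (hWV hy).2,
      Locus.goodOn_of_C hfl hC N hW _⟩
  have hopen : IsOpen Fr := isOpen_iff_forall_mem_open.2 fun z hz => by
    obtain ⟨N, W, h, hW, hzW, -, hg⟩ := hgood ⊤ z trivial
    obtain ⟨V, e, hzV, he⟩ := exists_frame_of_freeAt hE hfl N hW h hg hzW hz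
    exact ⟨V, fun z' hz' => ⟨Z, ι, z', V, e, rfl, hz', he⟩, V.2, hzV⟩
  have hH := IsPullback.of_hasPullback f ι
  let fZ := pullback.snd f ι
  let F := (Scheme.Modules.pullback (pullback.fst f ι)).obj E
  have hFloc : FlatMod.IsFinLocFree F := KFlat.LocFree.isFinLocFree_pull _ hE
  have hloc : ∀ (O : Z.Opens) (z : O),
      ∃ W : Z.Opens, z.1 ∈ W ∧ W ≤ O ∧ IsCompact ((W : Set Z) ∩ Fr) := fun O z => by
    obtain ⟨N, W₁, h, hW₁, hzW, hle, hg⟩ := hgood O z.1 z.2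
    obtain ⟨V₀, e, hV₀, hzV₀, hle₀, hspan, hbc⟩ := exists_spanning hfl hH N hW₁ h hg hzW
    refine ⟨V₀, hzV₀, hle₀.trans hle, ?_⟩
    haveI : IsAffine (V₀ : Scheme.{u}) := hV₀
    haveI : CompactSpace (fZ ⁻¹ᵁ V₀).toScheme :=
      QuasiCompact.compactSpace_of_compactSpace (fZ ∣_ V₀)
    haveI : QuasiSeparatedSpace (fZ ⁻¹ᵁ V₀).toScheme :=
      quasiSeparatedSpace_of_quasiSeparated (fZ ∣_ V₀)
    let G : Set (fZ ⁻¹ᵁ V₀).toScheme := (fZ ⁻¹ᵁ V₀).ι ⁻¹' FrameDet.locus F e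
    have hGo : IsOpen G :=
      (FrameDet.isOpen_locus hFloc e).preimage (fZ ⁻¹ᵁ V₀).ι.continuous
    have hGc : IsCompact G := by
      refine (fZ ⁻¹ᵁ V₀).ι.isOpenEmbedding.isEmbedding.isCompact_iff.2 ?_
      rw [Set.image_preimage_eq_inter_range, Scheme.Opens.range_ι,
        Set.inter_eq_left.2 fun x hx => hx.1]
      exact FrameDet.isCompact_locus hFloc (fZ.isCompact_preimage hV₀.isCompact) e
    have hA := (fZ ∣_ V₀).isConstructible_image (hGc.isConstructible hGo).compl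
    have hc := LimTop.isCompact_of_isConstructible hA.compl
    have heq : (V₀ : Set Z) ∩ Fr = V₀.ι '' (((fZ ∣_ V₀) '' Gᶜ)ᶜ) := by
      ext z'
      constructor
      · rintro ⟨hz', hfree⟩
        refine ⟨⟨z', hz'⟩, ?_, rfl⟩
        rintro ⟨x, hx, hxz⟩
        refine hx (fibre_subset_locus hE hH hV₀ hz' e hspan (hbc z' hz') hfree ?_)
        have h' := morphismRestrict_base_coe fZ V₀ x
        rw [hxz] at h'
        exact h'.symm
      · rintro ⟨⟨z', hz'⟩, hz'', rfl⟩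
        refine ⟨hz', ?_⟩
        obtain ⟨V, e', hzV, he'⟩ := exists_frame_nhd hE hH (show z' ∈ V₀ from hz') e fun x hx => by
          have hxV : x ∈ fZ ⁻¹ᵁ V₀ := show fZ x ∈ V₀ by rw [show fZ x = z' from hx]; exact hz'
          by_contra hn
          refine hz'' ⟨⟨x, hxV⟩, hn, Subtype.ext ?_⟩
          exact (morphismRestrict_base_coe fZ V₀ ⟨x, hxV⟩).trans hx
        exact ⟨Z, ι, z', V, e', rfl, hzV, he'⟩
    rw [heq]
    exact hc.image V₀.ι.continuous
  refine ⟨Z, ι, ι.isEmbedding.isInducing, h5, hopen, fun W hW => ?_⟩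
  haveI := h3
  choose V hV hVW hVc using hloc (ι ⁻¹ᵁ W)
  obtain ⟨t, ht⟩ := (ι.isCompact_preimage hW.isCompact).elim_finite_subcover
    (fun z : ↥(ι ⁻¹ᵁ W) => (V z : Set Z)) (fun z => (V z).2)
    fun z hz => Set.mem_iUnion.2 ⟨⟨z, hz⟩, hV _⟩
  have hWc : IsCompact ((ι ⁻¹ᵁ W : Set Z) ∩ Fr) := by
    have heq : (ι ⁻¹ᵁ W : Set Z) ∩ Fr = ⋃ z ∈ t, (V z : Set Z) ∩ Fr := by
      refine Set.Subset.antisymm (fun y hy => ?_)
        (Set.iUnion₂_subset fun z _ => Set.inter_subset_inter_left _ (hVW z))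
      obtain ⟨z, hz, hyz⟩ := Set.mem_iUnion₂.1 (ht hy.1)
      exact Set.mem_iUnion₂.2 ⟨z, hz, hyz, hy.2⟩
    exact heq ▸ t.finite_toSet.isCompact_biUnion fun z _ => hVc z
  have : (W : Set S) ∩ {s | FreeAt f E n s} = ι '' ((ι ⁻¹ᵁ W : Set Z) ∩ Fr) := by
    ext s
    constructor
    · rintro ⟨hsW, hs⟩
      obtain ⟨z, rfl⟩ : s ∈ Set.range ι := h5 ▸ fiberRank_eq hh hfl hF hs
      exact ⟨z, ⟨hsW, hs⟩, rfl⟩
    · rintro ⟨z, ⟨hz, hz'⟩, rfl⟩
      exact ⟨hz, hz'⟩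
  rw [this]
  exact hWc.image ι.continuous

include hfl hF in
omit [Flat f] [GeometricallyConnected f] in
lemma lt_open_compact (n : ℕ) :
    IsOpen {s | CohIII.fiberRank f E 0 s < n} ∧ ∀ W : S.Opens, IsAffineOpen W →
      IsCompact ((W : Set S) ∩ {s | CohIII.fiberRank f E 0 s < n}) := by
  cases n with
  | zero => simp
  | succ n =>
    have h : {s | CohIII.fiberRank f E 0 s < n + 1} = Locus.upLocus f E n := by
      ext s; exact Nat.lt_succ_iff
    rw [h]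
    exact ⟨Locus.isOpen_upLocus hfl hF, fun W hW => Locus.isCompact_inter_upLocus hfl hF hW⟩

include hfl hF in
omit [Flat f] [GeometricallyConnected f] in
lemma le_open (n : ℕ) : IsOpen {s | CohIII.fiberRank f E 0 s ≤ n} :=
  Locus.isOpen_upLocus hfl hF

include hE hh hfl hF in
theorem isOpen_goodSet : IsOpen (goodSet f E) := isOpen_iff_forall_mem_open.2 fun s hs => by
  obtain ⟨n, hn, hs'⟩ := hs
  rcases hs' with hlt | hfree
  · exact ⟨rankOn f E n ∩ {s | CohIII.fiberRank f E 0 s < n}, fun s' ⟨h1, h2⟩ => ⟨n, h1, Or.inl h2⟩,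
      (isOpen_rankOn hE n).inter (lt_open_compact hfl hF n).1, hn, hlt⟩
  · obtain ⟨Z, ι, hι, hr, ho, -⟩ := exists_stratum hE hh hfl hF n
    obtain ⟨O, hO, hOeq⟩ := hι.isOpen_iff.1 ho
    have hrk := fiberRank_eq hh hfl hF hfree
    refine ⟨rankOn f E n ∩ {s | CohIII.fiberRank f E 0 s ≤ n} ∩ O, fun s' ⟨⟨h1, h2⟩, h3⟩ => ?_,
      ((isOpen_rankOn hE n).inter (le_open hfl hF n)).inter hO, ⟨hn, hrk.le⟩, ?_⟩
    · refine ⟨n, h1, (lt_or_eq_of_le h2).imp id fun h => ?_⟩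
      obtain ⟨z, rfl⟩ : s' ∈ Set.range ι := hr ▸ h
      exact (show z ∈ ι ⁻¹' O from h3) |> hOeq.le
    · obtain ⟨z, rfl⟩ : s ∈ Set.range ι := hr ▸ hrk
      exact hOeq.ge (show z ∈ ι ⁻¹' {s | FreeAt f E n s} from hfree)

include hE hh hfl hF in
theorem isCompact_inter_goodSet {V : S.Opens} (hV : IsAffineOpen V) :
    IsCompact ((V : Set S) ∩ goodSet f E) := by
  have hloc : ∀ s : V, ∃ W : S.Opens, s.1 ∈ W ∧ IsCompact ((W : Set S) ∩ goodSet f E) ∧ W ≤ V := by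
    rintro ⟨s, hs⟩
    obtain ⟨n, hn⟩ := exists_rankOn (f := f) hE s
    obtain ⟨_, ⟨W, hW, rfl⟩, hsW, hle⟩ := S.isBasis_affineOpens.exists_subset_of_mem_open
      (show s ∈ (⟨rankOn f E n, isOpen_rankOn hE n⟩ : S.Opens) ⊓ V from ⟨hn, hs⟩)
      ((⟨rankOn f E n, isOpen_rankOn hE n⟩ : S.Opens) ⊓ V).2
    refine ⟨W, hsW, ?_, fun y hy => (hle hy).2⟩
    obtain ⟨Z, ι, -, -, -, hc⟩ := exists_stratum hE hh hfl hF n
    have heq : (W : Set S) ∩ goodSet f E = ((W : Set S) ∩ {s | CohIII.fiberRank f E 0 s < n}) ∪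
        ((W : Set S) ∩ {s | FreeAt f E n s}) := by
      rw [← Set.inter_union_distrib_left]
      ext y
      constructor
      · rintro ⟨hy, m, hm, hm'⟩
        obtain rfl := rankOn_unique hm (hle hy).1
        exact ⟨hy, hm'⟩
      · rintro ⟨hy, hy'⟩
        exact ⟨hy, n, (hle hy).1, hy'⟩
    rw [heq]
    exact ((lt_open_compact hfl hF n).2 W hW).union (hc W hW)
  choose W hsW hWc hWV using hloc
  obtain ⟨t, ht⟩ := hV.isCompact.elim_finite_subcover (fun s : V => (W s : Set S))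
    (fun s => (W s).2) fun s hs => Set.mem_iUnion.2 ⟨⟨s, hs⟩, hsW _⟩
  have heq : (V : Set S) ∩ goodSet f E = ⋃ s ∈ t, (W s : Set S) ∩ goodSet f E := by
    refine Set.Subset.antisymm (fun y hy => ?_)
      (Set.iUnion₂_subset fun s _ => Set.inter_subset_inter_left _ (hWV s))
    obtain ⟨s, hs, hys⟩ := Set.mem_iUnion₂.1 (ht hy.1)
    exact Set.mem_iUnion₂.2 ⟨s, hs, hys, hy.2⟩
  rw [heq]
  exact t.finite_toSet.isCompact_biUnion fun s _ => hWc s

variable (f E) in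
/-- index of the charts -/
def ChartIdx : Type u :=
  {i : Σ _ : ℕ, Σ D : S.Opens, Ideal Γ(S, D) //
    Locus.ChartOK f E i.1 i.2.1 i.2.2 ∧ (i.2.1 : Set S) ⊆ goodSet f E ∩ rankOn f E i.1}

include hE hh hfl hF in
/-- the charts of the seesaw locus -/
def charts : Locus.Charts (X := S) (FromBase f E) (ChartIdx f E) where
  D i := i.1.2.1
  aff i := i.2.1.aff
  J i := i.1.2.2
  fg i := i.2.1.fg
  kills i T u hP a ha := by
    obtain ⟨N, hD, hiff⟩ := i.2.1.iff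
    rw [RingHom.mem_ker]
    refine TopCat.Presheaf.section_ext T.sheaf (u ⁻¹ᵁ i.1.2.1) _ 0 fun t ht => ?_
    obtain ⟨V, m, e, htV, he⟩ := exists_frame_of_fromBase hP t
    have hm : m = i.1.1 :=
      rankOn_unique (FreeAt.mem_rankOn hE ⟨T, u, t, V, e, rfl, htV, he⟩) (i.2.2 ht).2
    obtain ⟨_, ⟨W, hW, rfl⟩, htW, hle⟩ := T.isBasis_affineOpens.exists_subset_of_mem_open
      (show t ∈ u ⁻¹ᵁ i.1.2.1 ⊓ V from ⟨ht, htV⟩) (u ⁻¹ᵁ i.1.2.1 ⊓ V).2
    have hWD : W ≤ u ⁻¹ᵁ i.1.2.1 := fun y hy => (hle hy).1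
    have h0 : u.appLE i.1.2.1 W hWD a = 0 :=
      (hiff T u W hWD).2 (hm ▸ goodOn_of_frame hfl N (IsPullback.of_hasPullback f u)
        (hh T u) he hW (hWD.trans (u.preimage_mono hD))
        (fun y hy => (hle hy).2)) ha
    change T.presheaf.germ (u ⁻¹ᵁ i.1.2.1) t ht (u.app i.1.2.1 a) =
      T.presheaf.germ (u ⁻¹ᵁ i.1.2.1) t ht 0
    rw [map_zero, ← T.presheaf.germ_res_apply (homOfLE hWD) t htW]
    rw [Scheme.Hom.appLE, CommRingCat.comp_apply] at h0
    exact (congrArg (T.presheaf.germ W t htW) h0).trans (map_zero _)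
  of_local T u h := fromBase_of_frames hh fun t => by
    obtain ⟨i, hti, hk⟩ := h t
    obtain ⟨N, hD, hiff⟩ := i.2.1.iff
    obtain ⟨_, ⟨W, hW, rfl⟩, htW, hWD⟩ :=
      T.isBasis_affineOpens.exists_subset_of_mem_open (show t ∈ u ⁻¹ᵁ i.1.2.1 from hti)
        (u ⁻¹ᵁ i.1.2.1).2
    replace hWD : W ≤ u ⁻¹ᵁ i.1.2.1 := hWD
    have hg := (hiff T u W hWD).1 fun a ha => by
      rw [RingHom.mem_ker, Scheme.Hom.appLE, CommRingCat.comp_apply,
        RingHom.mem_ker.1 (hk ha), map_zero]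
    obtain ⟨m, hm, hm'⟩ := (i.2.2 hti).1
    obtain rfl := rankOn_unique hm (i.2.2 hti).2
    have hfree : FreeAt f E i.1.1 (u t) := hm'.resolve_left fun hlt =>
      hlt.ne (fiberRank_eq_of_goodOn N hW _ htW hg)
    obtain ⟨V, e, htV, he⟩ := exists_frame_of_freeAt hE hfl N hW _ hg htW hfree
    exact ⟨V, _, e, htV, he⟩

include hE hh hfl hF in
theorem exists_seesaw :
    ∃ (Z : Scheme.{u}) (ι : Z ⟶ S), IsImmersion ι ∧ LocallyOfFinitePresentation ι ∧ QuasiCompact ι ∧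
      ∀ (T : Scheme.{u}) (u : T ⟶ S), (∃ u' : T ⟶ Z, u' ≫ ι = u) ↔ FromBase f E T u := by
  refine Locus.exists_immersion_of_charts (charts hE hh hfl)
    ⟨goodSet f E, isOpen_goodSet hE hh hfl hF⟩ (fun T u hP t => ?_) (fun s hs O hsO => ?_)
    fun V hV => isCompact_inter_goodSet hE hh hfl hF hV
  · obtain ⟨V, m, e, htV, he⟩ := exists_frame_of_fromBase hP t
    have hfree : FreeAt f E m (u t) := ⟨T, u, t, V, e, rfl, htV, he⟩
    exact ⟨m, hfree.mem_rankOn hE, Or.inr hfree⟩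
  · obtain ⟨n, hn, hs'⟩ := hs
    have hup : s ∈ Locus.upLocus f E n :=
      hs'.elim (fun h => le_of_lt h) fun h => (fiberRank_eq hh hfl hF h).le
    let O' : S.Opens := O ⊓ ⟨goodSet f E ∩ rankOn f E n,
      (isOpen_goodSet hE hh hfl hF).inter (isOpen_rankOn hE n)⟩
    obtain ⟨D, I, hok, hsD, hDO, -⟩ :=
      Locus.exists_chart hfl hF hup (O := O') ⟨hsO, ⟨n, hn, hs'⟩, hn⟩
    exact ⟨⟨⟨n, D, I⟩, hok, fun y hy => (hDO hy).2⟩, hsD, fun y hy => (hDO hy).1⟩

end Groth.Agent.CBC.VBO
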