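import Groth.Agent.CBC.VBFibre

/-!
# Spreading out freeness on a fibre
-/

set_option autoImplicit false

universe u

open CategoryTheory CategoryTheory.Limits AlgebraicGeometry TopologicalSpace Opposite Function
open Groth.Agent.PullStalk.Sky

noncomputable section

namespace Groth.Agent.CBC.VB

open LFFrame FrameDet

variable {X S : Scheme.{u}} (f : X ⟶ S) (E : X.Modules)

/-- over some point lying over `s`, the bundle has a frame over a neighbourhood of the base -/
def FreeAt (n : ℕ) (s : S) : Prop :=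
  ∃ (T : Scheme.{u}) (u : T ⟶ S) (t : T) (V : T.Opens)
    (e : Fin n → Γ((Scheme.Modules.pullback (pullback.fst f u)).obj E, pullback.snd f u ⁻¹ᵁ V)),
    u t = s ∧ t ∈ V ∧
      IsFrame ((Scheme.Modules.pullback (pullback.fst f u)).obj E) (pullback.snd f u ⁻¹ᵁ V) e

/-- where the rank is `n` -/
def rankSet (n : ℕ) : Set X :=
  {x | ∃ (U : X.Opens) (e : Fin n → Γ(E, U)), x ∈ U ∧ IsFrame E U e}

variable {E} in
lemma isOpen_rankSet (n : ℕ) : IsOpen (rankSet E n) :=
  isOpen_iff_forall_mem_open.2 fun _ ⟨U, e, hx, he⟩ =>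
    ⟨U, fun y hy => ⟨U, e, hy, he⟩, U.2, hx⟩

/-- where the rank is `n` on the whole fibre -/
def rankOn (n : ℕ) : Set S := {s | ∀ x, f x = s → x ∈ rankSet E n}

variable {f E}

lemma rankSet_unique {n m : ℕ} {x : X} (h : x ∈ rankSet E n) (h' : x ∈ rankSet E m) : n = m := by
  obtain ⟨U, e, hx, he⟩ := h
  obtain ⟨V, g, hx', hg⟩ := h'
  exact eq_of_isFrame hg he hx hx'

lemma isClosed_rankSet (hE : FlatMod.IsFinLocFree E) (n : ℕ) : IsClosed (rankSet E n) :=
  isOpen_compl_iff.1 <| isOpen_iff_forall_mem_open.2 fun x hx => by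
    obtain ⟨U, r, e, hxU, he⟩ := exists_isFrame_of_isFinLocFree hE x
    have hr : r ≠ n := by
      rintro rfl
      exact hx ⟨U, e, hxU, he⟩
    exact ⟨U, fun y hy h => hr (rankSet_unique ⟨U, e, hy, he⟩ h), U.2, hxU⟩

lemma isOpen_rankOn [IsProper f] (hE : FlatMod.IsFinLocFree E) (n : ℕ) :
    IsOpen (rankOn f E n) := by
  have h : rankOn f E n = (f '' (rankSet E n)ᶜ)ᶜ := by
    ext s
    simp only [rankOn, Set.mem_setOf_eq, Set.mem_compl_iff, Set.mem_image, not_exists, not_and]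
    exact forall_congr' fun x => ⟨fun h hx hxs => hx (h hxs), fun h hxs => by_contra fun hx => h hx hxs⟩
  rw [h]
  exact (f.isClosedMap _ (isOpen_rankSet n).isClosed_compl).isOpen_compl

variable [GeometricallyConnected f]

lemma exists_point (s : S) : ∃ x, f x = s := by
  letI : ConnectedSpace (f.fiber s) := inferInstance
  obtain ⟨y⟩ := (inferInstance : Nonempty (f.fiber s))
  have h : f.fiberι s y ∈ f ⁻¹' {s} := by
    rw [← f.range_fiberι s]; exact Set.mem_range_self y
  exact ⟨f.fiberι s y, h⟩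

lemma rankOn_unique {n m : ℕ} {s : S} (h : s ∈ rankOn f E n) (h' : s ∈ rankOn f E m) : n = m := by
  obtain ⟨x, hx⟩ := exists_point (f := f) s
  exact rankSet_unique (h x hx) (h' x hx)

lemma exists_rankOn (hE : FlatMod.IsFinLocFree E) (s : S) : ∃ n, s ∈ rankOn f E n := by
  obtain ⟨x₀, hx₀⟩ := exists_point (f := f) s
  obtain ⟨U, n, e, hxU, he⟩ := exists_isFrame_of_isFinLocFree hE x₀
  refine ⟨n, fun x hx => ?_⟩
  have hconn : _root_.IsPreconnected (f ⁻¹' {s}) := by
    rw [← f.range_fiberι s]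
    exact isPreconnected_range (f.fiberι s).continuous
  exact hconn.subset_isClopen ⟨isClosed_rankSet hE n, isOpen_rankSet n⟩
    ⟨x₀, hx₀, U, e, hxU, he⟩ hx

omit [GeometricallyConnected f] in
/-- frames upstairs determine the rank -/
lemma FreeAt.mem_rankOn {n : ℕ} {s : S} (hE : FlatMod.IsFinLocFree E) (h : FreeAt f E n s) :
    s ∈ rankOn f E n := by
  obtain ⟨T, u, t, V, e, rfl, ht, he⟩ := h
  intro x hx
  obtain ⟨x', hx', hx't⟩ := Scheme.Pullback.exists_preimage_pullback (f := f) (g := u) x t hx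
  obtain ⟨U, m, b, hxU, hb⟩ := exists_isFrame_of_isFinLocFree hE x
  obtain rfl : n = m := eq_of_isFrame (hb.pullback (pullback.fst f u)) he
    (show x' ∈ pullback.snd f u ⁻¹ᵁ V by change pullback.snd f u x' ∈ V; rw [hx't]; exact ht)
    (show x' ∈ pullback.fst f u ⁻¹ᵁ U by change pullback.fst f u x' ∈ U; rw [hx']; exact hxU)
  exact ⟨U, b, hxU, hb⟩

omit [GeometricallyConnected f] in
/-- the fibre rank at a point where the bundle is free -/
lemma FreeAt.fiberRank_eq [IsProper f] [Flat f] [LocallyOfFinitePresentation f]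
    [GeometricallyConnected f] [GeometricallyReduced f] [E.IsQuasicoherent]
    (hfl : FlatMod.IsFlatOver f E) (hF : CohB1.IsFP E) {n : ℕ} {s : S} (h : FreeAt f E n s) :
    CohIII.fiberRank f E 0 s = n := by
  obtain ⟨T, u, t, V, e, rfl, ht, he⟩ := h
  obtain ⟨N, hN⟩ := exists_nhd hF hfl (u t)
  obtain ⟨_, ⟨W, hW, rfl⟩, htW, hWV⟩ := T.isBasis_affineOpens.exists_subset_of_mem_open
    (show t ∈ V ⊓ u ⁻¹ᵁ N.V from ⟨ht, hN⟩) (V ⊓ u ⁻¹ᵁ N.V).2
  exact fiberRank_eq_of_goodOn N hW (fun y hy => (hWV hy).2) htW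
    (goodOn_of_frame hfl N (IsPullback.of_hasPullback f u)
      (OConn.bijective_fiber (pullback.snd f u)) he hW _ (fun y hy => (hWV hy).1))

section Spread

variable {XT T : Scheme.{u}} {gT : XT ⟶ X} {fT : XT ⟶ T} {u : T ⟶ S}

omit [GeometricallyConnected f] in
/-- base sections spanning the direct image form a frame along a free fibre -/
theorem fibre_subset_locus [IsProper f] [E.IsQuasicoherent] (hE : FlatMod.IsFinLocFree E)
    (H : IsPullback gT fT f u) {t : T} {V₀ : T.Opens} (hV₀ : IsAffineOpen V₀) (ht : t ∈ V₀)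
    {n : ℕ} (e : Fin n → Γ((Scheme.Modules.pullback gT).obj E, fT ⁻¹ᵁ V₀))
    (hspan : Submodule.span Γ(T, V₀) (Set.range (show Fin n →
      Γ((Scheme.Modules.pushforward fT).obj ((Scheme.Modules.pullback gT).obj E), V₀) from e)) = ⊤)
    (hbc : ∀ ⦃X'' T' : Scheme.{u}⦄ (v' : X'' ⟶ XT) (f'' : X'' ⟶ T') (p : T' ⟶ T)
      (h : IsPullback v' f'' fT p), (∀ z, p z = t) →
      IsIso (CohBC.bc0 fT p f'' v' h.w ((Scheme.Modules.pullback gT).obj E)))
    (hfree : FreeAt f E n (u t)) {x : XT} (hx : fT x = t) :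
    x ∈ FrameDet.locus ((Scheme.Modules.pullback gT).obj E) e := by
  haveI : IsProper fT := MorphismProperty.of_isPullback H ‹IsProper f›
  let F := (Scheme.Modules.pullback gT).obj E
  haveI : F.IsQuasicoherent := QCoh.isQuasicoherent_pullback _ E
  have hFloc : FlatMod.IsFinLocFree F := KFlat.LocFree.isFinLocFree_pull gT hE
  obtain ⟨T₁, u₁, t₁, V₁, e₁, hu₁, ht₁, he₁⟩ := hfree
  obtain ⟨w, hw, hw₁⟩ := Scheme.Pullback.exists_preimage_pullback (f := u) (g := u₁) t t₁ hu₁.symm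
  let R := pullback u u₁
  let q := R.fromSpecResidueField w
  let p := q ≫ pullback.fst u u₁
  let p₁ := q ≫ pullback.snd u u₁
  have hq : ∀ z, q z = w := fun z => Scheme.fromSpecResidueField_apply w z
  have hp : ∀ z, p z = t := fun z => by rw [Scheme.Hom.comp_apply, hq, hw]
  have hp₁ : ∀ z, p₁ z = t₁ := fun z => by rw [Scheme.Hom.comp_apply, hq, hw₁]
  let a := pullback.fst fT p
  let fK := pullback.snd fT p
  have HK : IsPullback a fK fT p := IsPullback.of_hasPullback fT p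
  haveI : IsProper fK := MorphismProperty.of_isPullback HK ‹IsProper fT›
  have hsq : (a ≫ gT) ≫ f = (fK ≫ p₁) ≫ u₁ := by
    simp only [p₁, Category.assoc, ← pullback.condition (f := u) (g := u₁)]
    rw [H.w, ← Category.assoc, HK.w, Category.assoc, Category.assoc]
  let a₁ := pullback.lift (a ≫ gT) (fK ≫ p₁) hsq
  let φ : (Scheme.Modules.pullback a₁).obj ((Scheme.Modules.pullback (pullback.fst f u₁)).obj E) ≅
      (Scheme.Modules.pullback a).obj F :=
    (Scheme.Modules.pullbackComp a₁ (pullback.fst f u₁)).app E ≪≫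
      (Scheme.Modules.pullbackCongr (pullback.lift_fst _ _ _)).app E ≪≫
      ((Scheme.Modules.pullbackComp a gT).app E).symm
  have hσ := isFrame_map φ (he₁.pullback a₁)
  have htopσ : ∀ y, y ∈ a₁ ⁻¹ᵁ (pullback.snd f u₁ ⁻¹ᵁ V₁) := fun y => by
    change pullback.snd f u₁ (a₁ y) ∈ V₁
    rw [← Scheme.Hom.comp_apply, pullback.lift_snd, Scheme.Hom.comp_apply, hp₁]
    exact ht₁
  have hle : ⊤ ≤ p ⁻¹ᵁ V₀ := fun z _ => by
    change p z ∈ V₀
    rw [hp z]; exact ht
  have h' : fK ⁻¹ᵁ ⊤ ≤ a ⁻¹ᵁ (fT ⁻¹ᵁ V₀) :=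
    (fK.preimage_mono hle).trans (CohCmp.sqLE fT p fK a HK.w V₀)
  haveI := hbc a fK p HK hp
  haveI := QCoh.isQuasicoherent_pushforward fT F
  let B := CohBC.bc0 fT p fK a HK.w F
  obtain ⟨z⟩ : Nonempty (Spec (R.residueField w)) :=
    inferInstanceAs (Nonempty (PrimeSpectrum (R.residueField w)))
  obtain ⟨y, hy, -⟩ := Scheme.exists_preimage_of_isPullback HK x z (hx.trans (hp z).symm)
  have hya : a y ∈ fT ⁻¹ᵁ V₀ := h' (show y ∈ fK ⁻¹ᵁ ⊤ from trivial)
  subst hy
  refine ⟨hya, frameAt_of_pullback a hFloc e hya ?_⟩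
  let pe : Fin n → Γ((Scheme.Modules.pullback a).obj F, a ⁻¹ᵁ (fT ⁻¹ᵁ V₀)) :=
    fun i => unitSec a F (fT ⁻¹ᵁ V₀) (e i)
  let C := stalkComb ((Scheme.Modules.pullback a).obj F) pe y hya
  have hrange : ∀ s : Γ((Scheme.Modules.pullback a).obj F, fK ⁻¹ᵁ ⊤),
      germM ((Scheme.Modules.pullback a).obj F) (fK ⁻¹ᵁ ⊤) y trivial s ∈ LinearMap.range C := by
    intro s
    obtain ⟨v, hv⟩ := (ConcreteCategory.bijective_of_isIso (B.app ⊤)).2
      (show Γ((Scheme.Modules.pushforward fK).obj ((Scheme.Modules.pullback a).obj F), ⊤) from s)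
    have hs : v ∈ Submodule.span Γ(Spec (R.residueField w), ⊤)
        (Set.range fun i => LimTop.unitSec p ((Scheme.Modules.pushforward fT).obj F) hle
          (show Γ((Scheme.Modules.pushforward fT).obj F, V₀) from e i)) := by
      rw [RankLocus.span_unitSec p _ hV₀ (isAffineOpen_top _) hle _ hspan]
      exact Submodule.mem_top
    rw [show s = (show Γ((Scheme.Modules.pullback a).obj F, fK ⁻¹ᵁ ⊤) from B.app ⊤ v) from hv.symm]
    clear hv
    induction hs using Submodule.span_induction with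
    | mem v hv =>
      obtain ⟨i, rfl⟩ := hv
      refine ⟨Pi.single i 1, ?_⟩
      change C (Pi.single i 1) = germM ((Scheme.Modules.pullback a).obj F) (fK ⁻¹ᵁ ⊤) y trivial
        (B.app ⊤ (LimTop.unitSec p ((Scheme.Modules.pushforward fT).obj F) hle
          (show Γ((Scheme.Modules.pushforward fT).obj F, V₀) from e i)))
      rw [show B.app ⊤ (LimTop.unitSec p ((Scheme.Modules.pushforward fT).obj F) hle
          (show Γ((Scheme.Modules.pushforward fT).obj F, V₀) from e i)) = _ from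
        CBC.bc0_app_unitSec F HK.w hle h' (e i)]
      refine Eq.trans ?_ (((Scheme.Modules.pullback a).obj F).presheaf.germ_res_apply
        (homOfLE h') y trivial (pe i)).symm
      simp [C, stalkComb, Fintype.linearCombination_apply_single]
    | zero =>
      refine ⟨0, (map_zero C).trans ?_⟩
      refine ((congrArg _ (map_zero (B.app ⊤).hom)).trans ?_).symm
      exact map_zero (((Scheme.Modules.pullback a).obj F).presheaf.germ (fK ⁻¹ᵁ ⊤) y trivial).hom
    | add v v' _ _ hv hv' =>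
      obtain ⟨b, hb⟩ := hv
      obtain ⟨b', hb'⟩ := hv'
      refine ⟨b + b', (map_add C b b').trans ?_⟩
      rw [hb, hb']
      refine ((congrArg _ (map_add (B.app ⊤).hom v v')).trans ?_).symm
      exact map_add (((Scheme.Modules.pullback a).obj F).presheaf.germ (fK ⁻¹ᵁ ⊤) y trivial).hom _ _
    | smul c v _ hv =>
      rw [Scheme.Modules.Hom.app_smul]
      exact (germM_smul ((Scheme.Modules.pullback a).obj F) (fK ⁻¹ᵁ ⊤) y trivial (fK.app ⊤ c) _).symm ▸
        Submodule.smul_mem _ _ hv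
  have hσy := hσ.stalkComb_bijective y (htopσ y)
  have hCs : Surjective C := by
    rw [← LinearMap.range_eq_top, eq_top_iff, ← LinearMap.range_eq_top.2 hσy.2, stalkComb,
      Fintype.range_linearCombination, Submodule.span_le]
    rintro _ ⟨i, rfl⟩
    have h0 : (fK ⁻¹ᵁ ⊤ : (pullback fT p).Opens) ≤ a₁ ⁻¹ᵁ (pullback.snd f u₁ ⁻¹ᵁ V₁) :=
      fun y _ => htopσ y
    have hmem := hrange (((Scheme.Modules.pullback a).obj F).presheaf.map (homOfLE h0).op
      (φ.hom.app _ (unitSec a₁ _ _ (e₁ i))))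
    obtain ⟨b, hb⟩ := hmem
    exact ⟨b, hb.trans (((Scheme.Modules.pullback a).obj F).presheaf.germ_res_apply
      (homOfLE h0) y trivial (φ.hom.app _ (unitSec a₁ _ _ (e₁ i))))⟩
  let σe := LinearEquiv.ofBijective _ hσy
  have hψ : Surjective (σe.symm.toLinearMap ∘ₗ C) := σe.symm.surjective.comp hCs
  have hψi := OrzechProperty.injective_of_surjective_endomorphism _ hψ
  exact ⟨fun v v' hvv => hψi (congrArg σe.symm hvv), hCs⟩

omit [GeometricallyConnected f] in
/-- the frame extends over a neighbourhood -/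
theorem exists_frame_nhd [IsProper f] (hE : FlatMod.IsFinLocFree E) (H : IsPullback gT fT f u)
    {t : T} {V₀ : T.Opens} (ht : t ∈ V₀) {n : ℕ}
    (e : Fin n → Γ((Scheme.Modules.pullback gT).obj E, fT ⁻¹ᵁ V₀))
    (hcov : ∀ x, fT x = t → x ∈ FrameDet.locus ((Scheme.Modules.pullback gT).obj E) e) :
    ∃ (V : T.Opens) (e' : Fin n → Γ((Scheme.Modules.pullback gT).obj E, fT ⁻¹ᵁ V)),
      t ∈ V ∧ IsFrame ((Scheme.Modules.pullback gT).obj E) (fT ⁻¹ᵁ V) e' := by
  haveI : IsProper fT := MorphismProperty.of_isPullback H ‹IsProper f›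
  let F := (Scheme.Modules.pullback gT).obj E
  have hFloc : FlatMod.IsFinLocFree F := KFlat.LocFree.isFinLocFree_pull gT hE
  let bad := fT '' (FrameDet.locus F e)ᶜ
  have hbad : IsClosed bad := fT.isClosedMap _ (FrameDet.isOpen_locus hFloc e).isClosed_compl
  let V : T.Opens := V₀ ⊓ ⟨badᶜ, hbad.isOpen_compl⟩
  refine ⟨V, fun i => F.presheaf.map (homOfLE (fT.preimage_mono inf_le_left)).op (e i),
    ⟨ht, fun ⟨x, hx, hxt⟩ => hx (hcov x hxt)⟩, isFrame_of_stalkComb_bijective fun x hx => ?_⟩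
  rw [stalkComb_res]
  by_contra hn
  exact hx.2 ⟨x, fun ⟨_, h⟩ => hn h, rfl⟩

end Spread

end Groth.Agent.CBC.VB
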