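import Groth.Agent.FlatCx.Linear
import Mathlib.RingTheory.Finiteness.Ideal
import Mathlib.RingTheory.Noetherian.Basic
import Mathlib.Algebra.Module.FinitePresentation
import Mathlib.LinearAlgebra.TensorProduct.Prod

/-!
# Finite windows of complexes of flat modules (Mumford's lemma)

For a complex `K` of flat modules over a Noetherian ring with finite cohomology, whose tensor
products with all modules are exact from some degree on, each functor `M ↦ H^p(K ⊗ M)` is of the
form `M ↦ ker (u ⊗ M)` for a map `u : G → A^m` with `G` finite.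
-/

universe u

open TensorProduct Function LinearMap

namespace Groth.Agent.CBC

/-- a cochain complex of modules in degrees `≥ 0` -/
structure SCx (A : Type u) [CommRing A] where
  X : ℕ → Type u
  [addCommGroup : ∀ n, AddCommGroup (X n)]
  [module : ∀ n, Module A (X n)]
  d : ∀ n, X n →ₗ[A] X (n + 1)
  d_d : ∀ n x, d (n + 1) (d n x) = 0

attribute [instance] SCx.addCommGroup SCx.module

theorem flat_prod {A M N : Type u} [CommRing A] [AddCommGroup M] [Module A M] [AddCommGroup N]
    [Module A N] [Module.Flat A M] [Module.Flat A N] : Module.Flat A (M × N) := by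
  rw [Module.Flat.iff_lTensor_preserves_injective_linearMap]
  intro P Q _ _ _ _ g hg
  have key : ∀ z, TensorProduct.prodLeft A A M N Q (g.lTensor (M × N) z) =
      Prod.map (g.lTensor M) (g.lTensor N) (TensorProduct.prodLeft A A M N P z) := by
    intro z
    induction z using TensorProduct.induction_on with
    | zero => simp [Prod.map]; rfl
    | tmul a b => obtain ⟨a₁, a₂⟩ := a; simp [Prod.map]
    | add a b ha hb => simp [ha, hb, Prod.map, map_add]
  intro a b hab
  refine (TensorProduct.prodLeft A A M N P).injective ?_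
  have h1 := congrArg (TensorProduct.prodLeft A A M N Q) hab
  rw [key, key] at h1
  exact Function.Injective.prodMap (Module.Flat.lTensor_preserves_injective_linearMap g hg)
    (Module.Flat.lTensor_preserves_injective_linearMap g hg) h1

/-- the quotient by the kernel of a surjection, with a target without subtraction -/
noncomputable def quotEquiv {A X Y : Type u} [CommRing A] [AddCommGroup X] [Module A X]
    [AddCommMonoid Y] [IsCancelAdd Y] [Module A Y] (f : X →ₗ[A] Y) (S : Submodule A X)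
    (hS : LinearMap.ker f = S) (hf : Surjective f) : (X ⧸ S) ≃ₗ[A] Y :=
  have hwd : ∀ x y : X, S.quotientRel x y → f x = f y := fun x y h => by
    rw [S.quotientRel_def, ← hS, LinearMap.mem_ker] at h
    rw [← sub_add_cancel x y, map_add, h, zero_add]
  LinearEquiv.ofBijective
    ({ toFun := fun z => Quotient.lift f hwd z
       map_add' := fun a b => by
        obtain ⟨a, rfl⟩ := Submodule.Quotient.mk_surjective S a
        obtain ⟨b, rfl⟩ := Submodule.Quotient.mk_surjective S b
        exact map_add f a b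
       map_smul' := fun r a => by
        obtain ⟨a, rfl⟩ := Submodule.Quotient.mk_surjective S a
        exact map_smul f r a } : (X ⧸ S) →ₗ[A] Y)
    ⟨fun a b h => by
      obtain ⟨a, rfl⟩ := Submodule.Quotient.mk_surjective S a
      obtain ⟨b, rfl⟩ := Submodule.Quotient.mk_surjective S b
      rw [Submodule.Quotient.eq, ← hS, LinearMap.mem_ker]
      refine add_right_cancel (b := f b) ?_
      rw [← map_add, sub_add_cancel, zero_add]
      exact h,
    fun y => (hf y).elim fun x hx => ⟨Submodule.Quotient.mk x, hx⟩⟩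

lemma quotEquiv_mk {A X Y : Type u} [CommRing A] [AddCommGroup X] [Module A X]
    [AddCommMonoid Y] [IsCancelAdd Y] [Module A Y] (f : X →ₗ[A] Y) (S : Submodule A X)
    (hS : LinearMap.ker f = S) (hf : Surjective f) (x : X) :
    quotEquiv f S hS hf (Submodule.Quotient.mk x) = f x := rfl

namespace SCx

variable {A : Type u} [CommRing A] (K : SCx A)

/-- coboundaries -/
def B₀ : ∀ n, Submodule A (K.X n)
  | 0 => ⊥
  | n + 1 => LinearMap.range (K.d n)

/-- cocycles -/
abbrev Z₀ (n : ℕ) : Submodule A (K.X n) := LinearMap.ker (K.d n)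

lemma B₀_le : ∀ n, K.B₀ n ≤ K.Z₀ n
  | 0 => bot_le
  | n + 1 => by
    rintro _ ⟨y, rfl⟩
    exact K.d_d n y

/-- the differential onto the coboundaries -/
def dB (n : ℕ) : K.X n →ₗ[A] K.B₀ (n + 1) :=
  LinearMap.codRestrict (K.B₀ (n + 1)) (K.d n) fun x => ⟨x, rfl⟩

lemma subtype_dB (n : ℕ) : (K.B₀ (n + 1)).subtype ∘ₗ K.dB n = K.d n := rfl

lemma dB_surjective (n : ℕ) : Surjective (K.dB n) := by
  rintro ⟨_, x, rfl⟩
  exact ⟨x, rfl⟩

/-- cohomology -/
abbrev H₀ (n : ℕ) : Type u := K.Z₀ n ⧸ (K.B₀ n).comap (K.Z₀ n).subtype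

/-- the class of a cocycle -/
noncomputable def cls₀ {n : ℕ} (x : K.X n) (hx : K.d n x = 0) : K.H₀ n :=
  Submodule.Quotient.mk ⟨x, hx⟩

section Tensor

variable (M : Type u) [AddCommGroup M] [Module A M]

/-- cocycles with coefficients in `M` -/
noncomputable def Z (n : ℕ) : Submodule A (K.X n ⊗[A] M) := LinearMap.ker ((K.d n).rTensor M)

/-- coboundaries with coefficients in `M` -/
noncomputable def B : ∀ n, Submodule A (K.X n ⊗[A] M)
  | 0 => ⊥
  | n + 1 => LinearMap.range ((K.d n).rTensor M)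

lemma rTensor_d_d (n : ℕ) (x : K.X n ⊗[A] M) :
    (K.d (n + 1)).rTensor M ((K.d n).rTensor M x) = 0 := by
  rw [← LinearMap.comp_apply, ← rTensor_comp]
  have : K.d (n + 1) ∘ₗ K.d n = 0 := LinearMap.ext (K.d_d n)
  rw [this, rTensor_zero, LinearMap.zero_apply]

lemma B_le : ∀ n, K.B M n ≤ K.Z M n
  | 0 => bot_le
  | n + 1 => by
    rintro _ ⟨y, rfl⟩
    exact K.rTensor_d_d M n y

/-- cohomology with coefficients in `M` -/
abbrev H (n : ℕ) : Type u := K.Z M n ⧸ (K.B M n).comap (K.Z M n).subtype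

end Tensor

section Map

variable {M N : Type u} [AddCommGroup M] [Module A M] [AddCommGroup N] [Module A N] (f : M →ₗ[A] N)

lemma lTensor_mem_Z {n : ℕ} {x : K.X n ⊗[A] M} (hx : x ∈ K.Z M n) :
    f.lTensor (K.X n) x ∈ K.Z N n := by
  change (K.d n).rTensor N _ = 0
  rw [FlatCx.rTensor_lTensor_comm, show (K.d n).rTensor M x = 0 from hx, map_zero]

lemma lTensor_mem_B : ∀ {n : ℕ} {x : K.X n ⊗[A] M}, x ∈ K.B M n → f.lTensor (K.X n) x ∈ K.B N n
  | 0, x, hx => by
    rw [show x = 0 from hx, map_zero]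
    exact zero_mem _
  | n + 1, _, hx => by
    obtain ⟨y, rfl⟩ := hx
    exact ⟨f.lTensor _ y, FlatCx.rTensor_lTensor_comm f (K.d n) y⟩

/-- functoriality in the coefficients -/
noncomputable def Hmap (n : ℕ) : K.H M n →ₗ[A] K.H N n :=
  Submodule.mapQ _ _ ((f.lTensor (K.X n)).restrict fun _ hx => K.lTensor_mem_Z f hx)
    fun _ hx => K.lTensor_mem_B f hx

lemma Hmap_mk (n : ℕ) (z : K.Z M n) :
    K.Hmap f n (Submodule.Quotient.mk z) =
      Submodule.Quotient.mk ⟨f.lTensor (K.X n) z.1, K.lTensor_mem_Z f z.2⟩ := rfl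

end Map

/-- `H^p(K ⊗ -)` is given by the kernel of a map to a finite free module -/
structure Win (p : ℕ) where
  G : Type u
  [addCommGroup : AddCommGroup G]
  [module : Module A G]
  m : ℕ
  fp : Module.FinitePresentation A G
  u : G →ₗ[A] (Fin m → A)
  e : ∀ (M : Type u) [AddCommGroup M] [Module A M], K.H M p ≃ₗ[A] LinearMap.ker (u.rTensor M)
  nat : ∀ {M N : Type u} [AddCommGroup M] [Module A M] [AddCommGroup N] [Module A N]
    (f : M →ₗ[A] N) (x : K.H M p), (e N (K.Hmap f p x)).1 = f.lTensor G (e M x).1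

attribute [instance] Win.addCommGroup Win.module

/-- the data of the construction in one degree -/
structure Node (j : ℕ) where
  m : ℕ
  P : Submodule A (K.X j × (Fin m → A))
  flat : Module.Flat A P
  le : (K.B₀ j).prod ⊥ ≤ P
  fin : Module.Finite A (P ⧸ ((K.B₀ j).prod ⊥).comap P.subtype)
  inj : ∀ (M : Type u) [AddCommGroup M] [Module A M], Injective (P.subtype.rTensor M)
  cyc : ∀ (M : Type u) [AddCommGroup M] [Module A M] (z : K.X j ⊗[A] M),
    (LinearMap.inl A (K.X j) (Fin m → A)).rTensor M z ∈ LinearMap.range (P.subtype.rTensor M) ↔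
      (K.d j).rTensor M z = 0

namespace Node

variable {K} {j : ℕ} (N : K.Node j)

/-- the quotient of `P` by the coboundaries -/
abbrev G : Type u := N.P ⧸ ((K.B₀ j).prod ⊥).comap N.P.subtype

lemma bd_snd (w : N.P) (hw : w ∈ ((K.B₀ j).prod ⊥).comap N.P.subtype) : w.1.2 = 0 := hw.2

/-- the second projection on `G` -/
noncomputable def u : N.G →ₗ[A] (Fin N.m → A) :=
  Submodule.liftQ _ (LinearMap.snd A _ _ ∘ₗ N.P.subtype) fun w hw => N.bd_snd w hw

lemma u_mkQ : N.u ∘ₗ Submodule.mkQ _ = LinearMap.snd A _ _ ∘ₗ N.P.subtype :=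
  Submodule.liftQ_mkQ _ _ _

/-- coboundaries as elements of `P` -/
noncomputable def bdP : K.B₀ j →ₗ[A] N.P :=
  LinearMap.codRestrict N.P (LinearMap.inl A _ _ ∘ₗ (K.B₀ j).subtype) fun b => N.le ⟨b.2, rfl⟩

lemma exact_bdP_mkQ :
    Exact N.bdP (Submodule.mkQ (((K.B₀ j).prod ⊥).comap N.P.subtype)) := by
  rw [LinearMap.exact_iff, Submodule.ker_mkQ]
  ext w
  constructor
  · rintro ⟨hw1, hw2⟩
    exact ⟨⟨w.1.1, hw1⟩, Subtype.ext (Prod.ext rfl (Submodule.mem_bot A |>.1 hw2).symm)⟩
  · rintro ⟨b, rfl⟩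
    exact ⟨b.2, rfl⟩

variable (M : Type u) [AddCommGroup M] [Module A M]

lemma mem_range_inl {z : K.X j ⊗[A] M} (hz : z ∈ K.Z M j) :
    (LinearMap.inl A (K.X j) (Fin N.m → A)).rTensor M z ∈
      LinearMap.range (N.P.subtype.rTensor M) :=
  (N.cyc M z).2 hz

/-- a cocycle as an element of `P ⊗ M` -/
noncomputable def lift : K.Z M j →ₗ[A] N.P ⊗[A] M :=
  (LinearEquiv.ofInjective _ (N.inj M)).symm.toLinearMap ∘ₗ
    LinearMap.codRestrict _
      ((LinearMap.inl A (K.X j) (Fin N.m → A)).rTensor M ∘ₗ (K.Z M j).subtype)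
      fun z => N.mem_range_inl M z.2

lemma subtype_lift (z : K.Z M j) : N.P.subtype.rTensor M (N.lift M z) =
    (LinearMap.inl A (K.X j) (Fin N.m → A)).rTensor M z.1 :=
  congrArg Subtype.val ((LinearEquiv.ofInjective _ (N.inj M)).apply_symm_apply
    ⟨(LinearMap.inl A (K.X j) (Fin N.m → A)).rTensor M z.1, N.mem_range_inl M z.2⟩)

/-- the class of a cocycle in `ker (u ⊗ M)` -/
noncomputable def θ : K.Z M j →ₗ[A] LinearMap.ker (N.u.rTensor M) :=
  LinearMap.codRestrict _ ((Submodule.mkQ _).rTensor M ∘ₗ N.lift M) fun z => by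
    change N.u.rTensor M ((Submodule.mkQ _).rTensor M (N.lift M z)) = 0
    rw [← LinearMap.comp_apply, ← rTensor_comp, u_mkQ, rTensor_comp, LinearMap.comp_apply,
      subtype_lift, ← LinearMap.comp_apply, ← rTensor_comp, LinearMap.snd_comp_inl, rTensor_zero,
      LinearMap.zero_apply]

lemma θ_val (z : K.Z M j) : (N.θ M z).1 =
    (Submodule.mkQ (((K.B₀ j).prod ⊥).comap N.P.subtype)).rTensor M (N.lift M z) := rfl

lemma θ_surjective : Surjective (N.θ M) := by
  rintro ⟨g, hg⟩
  obtain ⟨w, rfl⟩ := LinearMap.rTensor_surjective M (Submodule.mkQ_surjective _) g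
  rw [LinearMap.mem_ker, ← LinearMap.comp_apply, ← rTensor_comp, u_mkQ, rTensor_comp,
    LinearMap.comp_apply] at hg
  obtain ⟨z, hz⟩ : ∃ z, (LinearMap.inl A (K.X j) (Fin N.m → A)).rTensor M z =
      N.P.subtype.rTensor M w := by
    have hex : Exact (LinearMap.inl A (K.X j) (Fin N.m → A))
        (LinearMap.snd A (K.X j) (Fin N.m → A)) := Function.Exact.inl_snd
    exact (rTensor_exact M hex LinearMap.snd_surjective _).1 hg
  have hz' : z ∈ K.Z M j := (N.cyc M z).1 ⟨w, hz.symm⟩
  refine ⟨⟨z, hz'⟩, Subtype.ext ?_⟩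
  rw [θ_val]
  exact congrArg _ (N.inj M ((N.subtype_lift M ⟨z, hz'⟩).trans hz))

lemma range_bd : LinearMap.range ((K.B₀ j).subtype.rTensor M) = K.B M j := by
  cases j with
  | zero =>
    change LinearMap.range ((⊥ : Submodule A (K.X 0)).subtype.rTensor M) = ⊥
    rw [show (⊥ : Submodule A (K.X 0)).subtype = 0 from LinearMap.ext fun x => (Submodule.mem_bot A).1 x.2,
      rTensor_zero, LinearMap.range_zero]
  | succ n =>
    change _ = LinearMap.range ((K.d n).rTensor M)
    conv_rhs => rw [← K.subtype_dB n, rTensor_comp, LinearMap.range_comp,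
      LinearMap.range_eq_top.2 (rTensor_surjective M (K.dB_surjective n)), Submodule.map_top]

lemma ker_θ : LinearMap.ker (N.θ M) = (K.B M j).comap (K.Z M j).subtype := by
  have hex := rTensor_exact M N.exact_bdP_mkQ (Submodule.mkQ_surjective _)
  have hsub : N.P.subtype.rTensor M ∘ₗ N.bdP.rTensor M =
      (LinearMap.inl A (K.X j) (Fin N.m → A)).rTensor M ∘ₗ (K.B₀ j).subtype.rTensor M := by
    rw [← rTensor_comp, ← rTensor_comp]
    rfl
  ext z
  rw [LinearMap.mem_ker, Subtype.ext_iff, θ_val]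
  constructor
  · intro h
    obtain ⟨b, hb⟩ := (hex _).1 h
    have h1 := congrArg (N.P.subtype.rTensor M) hb
    rw [← LinearMap.comp_apply, hsub, LinearMap.comp_apply, subtype_lift] at h1
    have hinj : Injective ((LinearMap.inl A (K.X j) (Fin N.m → A)).rTensor M) := by
      refine Function.LeftInverse.injective
        (g := (LinearMap.fst A (K.X j) (Fin N.m → A)).rTensor M) fun x => ?_
      rw [← LinearMap.comp_apply, ← rTensor_comp, LinearMap.fst_comp_inl, rTensor_id,
        LinearMap.id_apply]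
    change z.1 ∈ K.B M j
    rw [← range_bd]
    exact ⟨b, hinj h1⟩
  · intro h
    change z.1 ∈ K.B M j at h
    rw [← range_bd] at h
    obtain ⟨b, hb⟩ := h
    have h1 : N.lift M z = N.bdP.rTensor M b := by
      refine N.inj M ?_
      rw [subtype_lift, ← hb, ← LinearMap.comp_apply, ← hsub, LinearMap.comp_apply]
    rw [h1]
    exact hex.apply_apply_eq_zero b

/-- `H^j(K ⊗ M) ≅ ker (u ⊗ M)` -/
noncomputable def hEquiv : K.H M j ≃ₗ[A] LinearMap.ker (N.u.rTensor M) :=
  quotEquiv (N.θ M) _ (N.ker_θ M) (N.θ_surjective M)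

lemma hEquiv_mk (z : K.Z M j) : N.hEquiv M (Submodule.Quotient.mk z) = N.θ M z :=
  quotEquiv_mk _ _ _ _ z

lemma hEquiv_natural {M' : Type u} [AddCommGroup M'] [Module A M'] (f : M →ₗ[A] M')
    (x : K.H M j) :
    (N.hEquiv M' (K.Hmap f j x)).1 = f.lTensor N.G (N.hEquiv M x).1 := by
  obtain ⟨z, rfl⟩ := Submodule.Quotient.mk_surjective _ x
  rw [Hmap_mk, hEquiv_mk, hEquiv_mk, θ_val, θ_val, ← FlatCx.rTensor_lTensor_comm]
  refine congrArg _ (N.inj M' ?_)
  rw [subtype_lift, FlatCx.rTensor_lTensor_comm f N.P.subtype, subtype_lift,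
    ← FlatCx.rTensor_lTensor_comm]

/-- the window attached to a node -/
noncomputable def win [IsNoetherianRing A] : K.Win j where
  G := N.G
  m := N.m
  fp := have := N.fin; Module.finitePresentation_of_finite A N.G
  u := N.u
  e M _ _ := N.hEquiv M
  nat f x := N.hEquiv_natural _ f x

end Node

/-! ### Descending construction -/

section Next

variable {K} {j : ℕ} (N : K.Node (j + 1)) {m : ℕ} (ψ : (Fin m → A) →ₗ[A] N.P)

lemma inl_d_mem (x : K.X j) :
    LinearMap.inl A (K.X (j + 1)) (Fin N.m → A) (K.d j x) ∈ N.P :=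
  N.le ⟨⟨x, rfl⟩, rfl⟩

/-- the differential of the mapping cone -/
noncomputable def Node.D : K.X j × (Fin m → A) →ₗ[A] N.P :=
  LinearMap.coprod
    (LinearMap.codRestrict N.P (LinearMap.inl A _ _ ∘ₗ K.d j) (inl_d_mem N)) ψ

lemma Node.subtype_D_inl :
    N.P.subtype ∘ₗ N.D ψ ∘ₗ LinearMap.inl A (K.X j) (Fin m → A) =
      LinearMap.inl A (K.X (j + 1)) (Fin N.m → A) ∘ₗ K.d j := by
  rw [Node.D, LinearMap.coprod_inl]
  rfl

lemma Node.D_surjective
    (hψ : Surjective (Submodule.mkQ (((K.B₀ (j + 1)).prod ⊥).comap N.P.subtype) ∘ₗ ψ)) :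
    Surjective (N.D ψ) := by
  intro w
  obtain ⟨c, hc⟩ := hψ (Submodule.Quotient.mk w)
  have hc' : Submodule.Quotient.mk (ψ c) =
      (Submodule.Quotient.mk w : N.P ⧸ ((K.B₀ (j + 1)).prod ⊥).comap N.P.subtype) := hc
  rw [Submodule.Quotient.eq] at hc'
  obtain ⟨⟨x, hx⟩, h2⟩ := hc'
  refine ⟨(-x, c), Subtype.ext ?_⟩
  change LinearMap.inl A _ _ (K.d j (-x)) + (ψ c).1 = w.1
  refine Prod.ext ?_ ?_
  · change K.d j (-x) + (ψ c).1.1 = w.1.1
    rw [map_neg, hx]
    change -((ψ c).1.1 - w.1.1) + (ψ c).1.1 = w.1.1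
    abel
  · change (0 : Fin N.m → A) + (ψ c).1.2 = w.1.2
    rw [zero_add]
    exact sub_eq_zero.1 ((Submodule.mem_bot A).1 h2)

lemma Node.prod_le_ker_D : (K.B₀ j).prod ⊥ ≤ LinearMap.ker (N.D ψ) := by
  rintro ⟨b, c⟩ ⟨hb, hc⟩
  obtain rfl : c = 0 := hc
  have hdb : K.d j b = 0 := K.B₀_le j hb
  refine LinearMap.mem_ker.2 (Subtype.ext ?_)
  change LinearMap.inl A _ _ (K.d j b) + (ψ 0).1 = (0 : N.P).1
  rw [hdb, map_zero, map_zero, Submodule.coe_zero, add_zero]

/-- the map from cocycles to the next quotient -/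
noncomputable def Node.toGNext :
    K.Z₀ j →ₗ[A] LinearMap.ker (N.D ψ) ⧸
      ((K.B₀ j).prod ⊥).comap (LinearMap.ker (N.D ψ)).subtype :=
  Submodule.mkQ _ ∘ₗ LinearMap.codRestrict _ (LinearMap.inl A _ _ ∘ₗ (K.Z₀ j).subtype) fun z => by
    have hz : K.d j z.1 = 0 := z.2
    refine LinearMap.mem_ker.2 (Subtype.ext ?_)
    change LinearMap.inl A _ _ (K.d j z.1) + (ψ 0).1 = (0 : N.P).1
    rw [hz, map_zero, map_zero, Submodule.coe_zero, add_zero]

lemma Node.finite_next [IsNoetherianRing A] [Module.Finite A (K.H₀ j)] :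
    Module.Finite A (LinearMap.ker (N.D ψ) ⧸
      ((K.B₀ j).prod ⊥).comap (LinearMap.ker (N.D ψ)).subtype) := by
  let q := ((K.B₀ j).prod ⊥).comap (LinearMap.ker (N.D ψ)).subtype
  let pr : (LinearMap.ker (N.D ψ) ⧸ q) →ₗ[A] (Fin m → A) :=
    Submodule.liftQ q (LinearMap.snd A _ _ ∘ₗ (LinearMap.ker (N.D ψ)).subtype) fun w hw => hw.2
  let α : K.H₀ j →ₗ[A] (LinearMap.ker (N.D ψ) ⧸ q) :=
    Submodule.liftQ _ (N.toGNext ψ) fun z hz => by
      refine (Submodule.Quotient.mk_eq_zero q).2 ?_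
      exact ⟨hz, rfl⟩
  have := isNoetherian_of_range_eq_ker α pr (by
    apply le_antisymm
    · rintro _ ⟨h, rfl⟩
      obtain ⟨z, rfl⟩ := Submodule.Quotient.mk_surjective _ h
      rfl
    · intro g hg
      obtain ⟨⟨⟨x, c⟩, hw⟩, rfl⟩ := Submodule.Quotient.mk_surjective _ g
      obtain rfl : c = 0 := hg
      have hx : K.d j x = 0 := by
        have := congrArg (fun w : N.P => w.1.1) hw
        change K.d j x + (ψ 0).1.1 = (0 : N.P).1.1 at this
        rwa [map_zero, Submodule.coe_zero, Prod.fst_zero, add_zero] at this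
      exact ⟨Submodule.Quotient.mk ⟨x, hx⟩, rfl⟩)
  exact Module.IsNoetherian.finite A _

/-- the node in one degree lower -/
noncomputable def Node.next [IsNoetherianRing A] [Module.Flat A (K.X j)]
    [Module.Finite A (K.H₀ j)]
    (hψ : Surjective (Submodule.mkQ (((K.B₀ (j + 1)).prod ⊥).comap N.P.subtype) ∘ₗ ψ)) :
    K.Node j where
  m := m
  P := LinearMap.ker (N.D ψ)
  flat := by
    have := N.flat
    haveI : Module.Flat A (K.X j × (Fin m → A)) := flat_prod
    exact FlatCx.flat_ker (π := (0 : N.P →ₗ[A] PUnit.{u + 1}))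
      (fun w => ⟨fun _ => N.D_surjective ψ hψ w, fun _ => rfl⟩) (fun _ => ⟨0, rfl⟩)
  le := N.prod_le_ker_D ψ
  fin := N.finite_next ψ
  inj M _ _ := by
    have := N.flat
    rw [← lTensor_inj_iff_rTensor_inj]
    exact LinearMap.lTensor_injective_of_exact_of_flat (N.D ψ) (N.D_surjective ψ hψ) _
      (LinearMap.ker (N.D ψ)).injective_subtype (LinearMap.exact_subtype_ker_map _) M
  cyc M _ _ z := by
    have hex := rTensor_exact M (LinearMap.exact_subtype_ker_map (N.D ψ)) (N.D_surjective ψ hψ)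
    have hinl : Injective ((LinearMap.inl A (K.X (j + 1)) (Fin N.m → A)).rTensor M) := by
      refine Function.LeftInverse.injective
        (g := (LinearMap.fst A (K.X (j + 1)) (Fin N.m → A)).rTensor M) fun x => ?_
      rw [← LinearMap.comp_apply, ← rTensor_comp, LinearMap.fst_comp_inl, rTensor_id,
        LinearMap.id_apply]
    have key : N.P.subtype.rTensor M ((N.D ψ).rTensor M
          ((LinearMap.inl A (K.X j) (Fin m → A)).rTensor M z)) =
        (LinearMap.inl A (K.X (j + 1)) (Fin N.m → A)).rTensor M ((K.d j).rTensor M z) := by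
      simp only [← LinearMap.comp_apply, ← rTensor_comp]
      rw [Node.subtype_D_inl]
    constructor
    · intro h
      have h0 : (N.D ψ).rTensor M ((LinearMap.inl A (K.X j) (Fin m → A)).rTensor M z) = 0 :=
        (hex _).2 h
      refine hinl ?_
      rw [← key, h0, map_zero, map_zero]
    · intro h
      refine (hex _).1 (N.inj M ?_)
      rw [key, h, map_zero, map_zero]

end Next

/-! ### The top degree -/

section Top

variable {r : ℕ} (hr : ∀ (M : Type u) [AddCommGroup M] [Module A M] (n : ℕ), r ≤ n →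
    Subsingleton (K.H M n))

include hr

lemma mem_B_of_mem_Z (M : Type u) [AddCommGroup M] [Module A M] {n : ℕ} (hn : r ≤ n)
    {z : K.X n ⊗[A] M} (hz : z ∈ K.Z M n) : z ∈ K.B M n := by
  have := hr M n hn
  have h0 : (Submodule.Quotient.mk ⟨z, hz⟩ : K.H M n) = 0 := Subsingleton.elim _ _
  rw [Submodule.Quotient.mk_eq_zero] at h0
  exact h0

lemma Z₀_le_B₀ {n : ℕ} (hn : r ≤ n) : K.Z₀ n ≤ K.B₀ n := by
  intro x hx
  have hz : x ⊗ₜ[A] (1 : A) ∈ K.Z A n := by
    change (K.d n).rTensor A (x ⊗ₜ 1) = 0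
    rw [rTensor_tmul, show K.d n x = 0 from hx, zero_tmul]
  have h := K.mem_B_of_mem_Z hr A hn hz
  cases n with
  | zero =>
    have : x ⊗ₜ[A] (1 : A) = 0 := h
    change x = 0
    simpa using congrArg (TensorProduct.rid A _) this
  | succ n =>
    obtain ⟨y, hy⟩ := h
    refine ⟨TensorProduct.rid A _ y, ?_⟩
    have hcomm : ∀ t, K.d n (TensorProduct.rid A _ t) =
        TensorProduct.rid A _ ((K.d n).rTensor A t) := fun t => by
      induction t using TensorProduct.induction_on with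
      | zero => simp
      | tmul a b => simp
      | add a b ha hb => simp [ha, hb]
    rw [hcomm, hy]
    simp

lemma cokerB_injective (M : Type u) [AddCommGroup M] [Module A M] {n : ℕ} (hn : r ≤ n) :
    Injective ((Submodule.liftQ (K.B₀ n) (K.d n)
      (fun _ hx => K.B₀_le n hx : K.B₀ n ≤ LinearMap.ker (K.d n))).rTensor M) := by
  rw [injective_iff_map_eq_zero]
  intro w hw
  obtain ⟨z, rfl⟩ := rTensor_surjective M (Submodule.mkQ_surjective _) w
  rw [← LinearMap.comp_apply, ← rTensor_comp, Submodule.liftQ_mkQ] at hw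
  have hz := K.mem_B_of_mem_Z hr M hn hw
  rw [← Node.range_bd] at hz
  obtain ⟨b, rfl⟩ := hz
  exact (rTensor_exact M (LinearMap.exact_subtype_mkQ (K.B₀ n))
    (Submodule.mkQ_surjective _)).apply_apply_eq_zero b

lemma flat_B₀_succ [Module.Flat A (K.X (r + 1))] : Module.Flat A (K.B₀ (r + 1)) := by
  let c := Submodule.liftQ (K.B₀ r) (K.d r) (fun _ hx => K.B₀_le r hx : K.B₀ r ≤ LinearMap.ker (K.d r))
  have hflat : Module.Flat A (K.X r ⧸ K.B₀ r) :=
    FlatCx.flat_of_injOn (f := c) fun M N _ _ _ _ g _ x hx _ =>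
      K.cokerB_injective hr M le_rfl (hx.trans (map_zero _).symm)
  have hinj : Injective c := by
    rw [← LinearMap.ker_eq_bot]
    exact Submodule.ker_liftQ_eq_bot _ _ _ (K.Z₀_le_B₀ hr le_rfl)
  have he : LinearMap.range c = K.B₀ (r + 1) := Submodule.range_liftQ _ _ _
  exact Module.Flat.of_linearEquiv
    ((LinearEquiv.ofInjective c hinj) ≪≫ₗ LinearEquiv.ofEq _ _ he).symm

lemma inj_B₀_succ (M : Type u) [AddCommGroup M] [Module A M] :
    Injective ((K.B₀ (r + 1)).subtype.rTensor M) := by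
  rw [injective_iff_map_eq_zero]
  intro w hw
  obtain ⟨y, rfl⟩ := rTensor_surjective M (K.dB_surjective r) w
  have hy : (K.d r).rTensor M y = 0 := by
    rw [← K.subtype_dB r, rTensor_comp]
    exact hw
  have hz := K.mem_B_of_mem_Z hr M le_rfl hy
  rw [← Node.range_bd] at hz
  obtain ⟨b, rfl⟩ := hz
  rw [← LinearMap.comp_apply, ← rTensor_comp]
  have : K.dB r ∘ₗ (K.B₀ r).subtype = 0 :=
    LinearMap.ext fun b => Subtype.ext (K.B₀_le r b.2)
  rw [this, rTensor_zero]
  rfl

/-- the node in a degree above the range of cohomology -/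
noncomputable def topNode [Module.Flat A (K.X (r + 1))] : K.Node (r + 1) where
  m := 0
  P := (K.B₀ (r + 1)).prod ⊥
  flat := by
    have := K.flat_B₀_succ hr
    exact Module.Flat.of_linearEquiv
      { toFun := fun w => (⟨w.1.1, w.2.1⟩ : K.B₀ (r + 1))
        invFun := fun b => ⟨(b.1, 0), b.2, rfl⟩
        map_add' := fun _ _ => rfl
        map_smul' := fun _ _ => rfl
        left_inv := fun w => Subtype.ext (Prod.ext rfl (Subsingleton.elim _ _))
        right_inv := fun b => rfl }
  le := le_rfl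
  fin := by
    have key : ∀ P : Submodule A (K.X (r + 1) × (Fin 0 → A)),
        Module.Finite A (P ⧸ P.comap P.subtype) := fun P => by
      refine Module.Finite.of_surjective (0 : (Fin 0 → A) →ₗ[A] P ⧸ P.comap P.subtype)
        fun w => ⟨0, ?_⟩
      obtain ⟨w, rfl⟩ := Submodule.Quotient.mk_surjective _ w
      exact ((Submodule.Quotient.mk_eq_zero (P.comap P.subtype)).2 w.2).symm
    exact key _
  inj M _ _ := by
    let i : ((K.B₀ (r + 1)).prod ⊥ : Submodule A (K.X (r + 1) × (Fin 0 → A))) →ₗ[A]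
        K.B₀ (r + 1) :=
      LinearMap.codRestrict _ (LinearMap.fst A _ _ ∘ₗ Submodule.subtype _) fun w => w.2.1
    let s : K.B₀ (r + 1) →ₗ[A]
        ((K.B₀ (r + 1)).prod ⊥ : Submodule A (K.X (r + 1) × (Fin 0 → A))) :=
      LinearMap.codRestrict _ (LinearMap.inl A _ _ ∘ₗ Submodule.subtype _) fun b => ⟨b.2, rfl⟩
    have hi : s ∘ₗ i = LinearMap.id :=
      LinearMap.ext fun w => Subtype.ext (Prod.ext rfl (Subsingleton.elim _ _))
    intro a b hab
    have h1 := congrArg ((LinearMap.fst A (K.X (r + 1)) (Fin 0 → A)).rTensor M) hab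
    simp only [← LinearMap.comp_apply, ← rTensor_comp] at h1
    rw [show LinearMap.fst A (K.X (r + 1)) (Fin 0 → A) ∘ₗ Submodule.subtype _ =
      (K.B₀ (r + 1)).subtype ∘ₗ i from rfl, rTensor_comp] at h1
    have h2 := congrArg (s.rTensor M) (K.inj_B₀_succ hr M h1)
    simpa only [← LinearMap.comp_apply, ← rTensor_comp, hi, rTensor_id, LinearMap.id_apply] using h2
  cyc M _ _ z := by
    have hinl : Injective ((LinearMap.inl A (K.X (r + 1)) (Fin 0 → A)).rTensor M) := by
      refine Function.LeftInverse.injective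
        (g := (LinearMap.fst A (K.X (r + 1)) (Fin 0 → A)).rTensor M) fun x => ?_
      rw [← LinearMap.comp_apply, ← rTensor_comp, LinearMap.fst_comp_inl, rTensor_id,
        LinearMap.id_apply]
    let s : K.B₀ (r + 1) →ₗ[A]
        ((K.B₀ (r + 1)).prod ⊥ : Submodule A (K.X (r + 1) × (Fin 0 → A))) :=
      LinearMap.codRestrict _ (LinearMap.inl A _ _ ∘ₗ Submodule.subtype _) fun b => ⟨b.2, rfl⟩
    have hs : Surjective s := fun w =>
      ⟨⟨w.1.1, w.2.1⟩, Subtype.ext (Prod.ext rfl (Subsingleton.elim _ _))⟩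
    have hcomp : Submodule.subtype _ ∘ₗ s =
        LinearMap.inl A (K.X (r + 1)) (Fin 0 → A) ∘ₗ (K.B₀ (r + 1)).subtype := rfl
    constructor
    · rintro ⟨w, hw⟩
      obtain ⟨b, rfl⟩ := rTensor_surjective M hs w
      rw [← LinearMap.comp_apply, ← rTensor_comp, hcomp, rTensor_comp, LinearMap.comp_apply] at hw
      have hz : z ∈ K.B M (r + 1) := by
        rw [← Node.range_bd]
        exact ⟨b, hinl hw⟩
      exact K.B_le M (r + 1) hz
    · intro hz
      have := K.mem_B_of_mem_Z hr M (Nat.le_succ r) hz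
      rw [← Node.range_bd] at this
      obtain ⟨b, rfl⟩ := this
      refine ⟨s.rTensor M b, ?_⟩
      rw [← LinearMap.comp_apply, ← rTensor_comp, hcomp, rTensor_comp, LinearMap.comp_apply]

end Top

section Exists

variable [IsNoetherianRing A] (hX : ∀ n, Module.Flat A (K.X n))
  (hH : ∀ n, Module.Finite A (K.H₀ n)) {r : ℕ}
  (hr : ∀ (M : Type u) [AddCommGroup M] [Module A M] (n : ℕ), r ≤ n → Subsingleton (K.H M n))

include hX hH

lemma exists_next {j : ℕ} (N : K.Node (j + 1)) :
    ∃ (N' : K.Node j) (ψ : (Fin N'.m → A) →ₗ[A] N.P),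
      Surjective (Submodule.mkQ (((K.B₀ (j + 1)).prod ⊥).comap N.P.subtype) ∘ₗ ψ) ∧
        N'.P = LinearMap.ker (N.D ψ) := by
  have := N.fin
  have := hX j
  have := hH j
  obtain ⟨m, π, hπ⟩ := Module.Finite.exists_fin' A N.G
  obtain ⟨ψ, hψ⟩ := Module.projective_lifting_property
    (Submodule.mkQ (((K.B₀ (j + 1)).prod ⊥).comap N.P.subtype)) π (Submodule.mkQ_surjective _)
  have hs : Surjective (Submodule.mkQ (((K.B₀ (j + 1)).prod ⊥).comap N.P.subtype) ∘ₗ ψ) :=
    hψ.symm ▸ hπ
  exact ⟨N.next ψ hs, ψ, hs, rfl⟩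

include hr

theorem nonempty_node_of_le {j : ℕ} (hj : j ≤ r + 1) : Nonempty (K.Node j) := by
  induction hj using Nat.decreasingInduction with
  | self => exact have := hX (r + 1); ⟨K.topNode hr⟩
  | of_succ k _ ih =>
    obtain ⟨N, -, -, -⟩ := K.exists_next hX hH ih.some
    exact ⟨N⟩

/-- Mumford's lemma, degree by degree -/
theorem nonempty_win (p : ℕ) : Nonempty (K.Win p) := by
  by_cases hp : p ≤ r + 1
  · exact ⟨(K.nonempty_node_of_le hX hH hr hp).some.win⟩
  · exact ⟨{
      G := PUnit.{u + 1}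
      m := 0
      fp := inferInstance
      u := 0
      e := fun M _ _ =>
        haveI := hr M p (by omega)
        haveI : Subsingleton (PUnit.{u + 1} ⊗[A] M) := inferInstance
        LinearEquiv.ofSubsingleton _ _
      nat := fun f x => Subsingleton.elim (α := PUnit.{u + 1} ⊗[A] _) _ _ }⟩

end Exists

end SCx

end Groth.Agent.CBC
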